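import Cfsg.Agent.Lib.GWKlein.Statement
import Cfsg.Agent.Lib.SmallGroups.BlockDegrees
import Cfsg.Agent.Lib.DegreeTools.TISum
import Cfsg.Agent.S0948
import Cfsg.Agent.S4479

/-!
# The order of a simple group with a Klein four Sylow 2-subgroup

The order formula of the principal 2-block: `|G| |D|² = 32 α |O|³` with `5/8 ≤ α ≤ 15/8`, where
`O = oddPart t` and `D = O ⊓ C(a)`.
-/

set_option autoImplicit false
set_option linter.unusedSectionVars false
set_option linter.style.haveILetI false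

namespace CfsgLib.GWKlein

open Subgroup Cfsg

/-- The fraction in the order formula of the principal block. -/
noncomputable def alpha (x y z : ℕ) (ε : ℤ) : ℚ :=
  (x * y * z : ℚ) / (((x : ℚ) + 1) * ((y : ℚ) + ε) * ((z : ℚ) - 1))

theorem alpha_bounds {x y z : ℕ} {ε : ℤ} (hε : ε = 1 ∨ ε = -1) (hx : 5 ≤ x) (hy : 3 ≤ y)
    (hz : 3 ≤ z) (cy : (4 : ℤ) ∣ (y : ℤ) - ε) (cz : (4 : ℤ) ∣ (z : ℤ) + 1)
    (hsum : 1 + (x : ℤ) + ε * y - z = 0) :
    5 / 8 ≤ alpha x y z ε ∧ alpha x y z ε ≤ 15 / 8 := by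
  have hxq : (5 : ℚ) ≤ x := by exact_mod_cast hx
  have hzq : (3 : ℚ) ≤ z := by exact_mod_cast hz
  have hsplit : alpha x y z ε = (x / ((x : ℚ) + 1)) * (y / ((y : ℚ) + ε)) * (z / ((z : ℚ) - 1)) := by
    rw [alpha, div_mul_div_comm, div_mul_div_comm]
  have hx1 : (5 / 6 : ℚ) ≤ x / ((x : ℚ) + 1) ∧ x / ((x : ℚ) + 1) ≤ 1 := by
    constructor
    · rw [le_div_iff₀ (by linarith)]; linarith
    · rw [div_le_one (by linarith)]; linarith
  have hz1 : 1 ≤ z / ((z : ℚ) - 1) ∧ z / ((z : ℚ) - 1) ≤ 3 / 2 := by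
    constructor
    · rw [one_le_div (by linarith)]; linarith
    · rw [div_le_iff₀ (by linarith)]; linarith
  rcases hε with rfl | rfl
  · have hy5 : (5 : ℚ) ≤ y := by
      have : 5 ≤ y := by omega
      exact_mod_cast this
    have hy1 : (5 / 6 : ℚ) ≤ y / ((y : ℚ) + ((1 : ℤ) : ℚ)) ∧ y / ((y : ℚ) + ((1 : ℤ) : ℚ)) ≤ 1 := by
      push_cast
      constructor
      · rw [le_div_iff₀ (by linarith)]; linarith
      · rw [div_le_one (by linarith)]; linarith
    rw [hsplit]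
    constructor
    · calc (5 / 8 : ℚ) ≤ 5 / 6 * (5 / 6) * 1 := by norm_num
        _ ≤ _ := mul_le_mul (mul_le_mul hx1.1 hy1.1 (by norm_num) (by linarith [hx1.1])) hz1.1
            zero_le_one (mul_nonneg (by linarith [hx1.1]) (by linarith [hy1.1]))
    · calc _ ≤ 1 * 1 * (3 / 2 : ℚ) := mul_le_mul (mul_le_mul hx1.2 hy1.2 (by linarith [hy1.1])
            zero_le_one) hz1.2 (by linarith [hz1.1]) (by norm_num)
        _ ≤ 15 / 8 := by norm_num
  · have hyq : (3 : ℚ) ≤ y := by exact_mod_cast hy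
    have hy1 : 1 ≤ y / ((y : ℚ) + ((-1 : ℤ) : ℚ)) ∧ y / ((y : ℚ) + ((-1 : ℤ) : ℚ)) ≤ 3 / 2 := by
      push_cast
      constructor
      · rw [one_le_div (by linarith)]; linarith
      · rw [div_le_iff₀ (by linarith)]; linarith
    rw [hsplit]
    refine ⟨?_, ?_⟩
    · calc (5 / 8 : ℚ) ≤ 5 / 6 * 1 * 1 := by norm_num
        _ ≤ _ := mul_le_mul (mul_le_mul hx1.1 hy1.1 (by norm_num) (by linarith [hx1.1])) hz1.1
            zero_le_one (mul_nonneg (by linarith [hx1.1]) (by linarith [hy1.1]))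
    by_cases h33 : y = 3 ∧ z = 3
    · obtain ⟨rfl, rfl⟩ := h33
      obtain rfl : x = 5 := by omega
      norm_num
    · have h7 : 7 ≤ y ∨ 7 ≤ z := by omega
      have hx0 : (0 : ℚ) ≤ y / ((y : ℚ) + ((-1 : ℤ) : ℚ)) := le_trans zero_le_one hy1.1
      rcases h7 with h7 | h7
      · have h7q : (7 : ℚ) ≤ y := by exact_mod_cast h7
        have hy7 : y / ((y : ℚ) + ((-1 : ℤ) : ℚ)) ≤ 7 / 6 := by
          push_cast
          rw [div_le_iff₀ (by linarith)]; linarith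
        calc _ ≤ 1 * (7 / 6) * (3 / 2 : ℚ) := mul_le_mul (mul_le_mul hx1.2 hy7 hx0 zero_le_one) hz1.2
              (by linarith [hz1.1]) (by norm_num)
          _ ≤ 15 / 8 := by norm_num
      · have h7q : (7 : ℚ) ≤ z := by exact_mod_cast h7
        have hz7 : z / ((z : ℚ) - 1) ≤ 7 / 6 := by rw [div_le_iff₀ (by linarith)]; linarith
        calc _ ≤ 1 * (3 / 2) * (7 / 6 : ℚ) := mul_le_mul (mul_le_mul hx1.2 hy1.2 hx0 zero_le_one) hz7
              (by linarith [hz1.1]) (by norm_num)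
          _ ≤ 15 / 8 := by norm_num

variable {G : Type*} [Group G]

/-- The principal 2-block: three non-principal characters with sign `ε`, and the order formula. -/
structure PrincipalData [Finite G] (t a : G) (M : Ideal AlgInt) (ζ₂ ζ₃ ζ₄ : IrrCharacter G) (ε : ℤ) :
    Prop where
  sign : ε = 1 ∨ ε = -1
  ne_two : (ζ₂ : G → ℂ) ≠ fun _ => 1
  ne_three : (ζ₃ : G → ℂ) ≠ fun _ => 1
  ne_four : (ζ₄ : G → ℂ) ≠ fun _ => 1
  two_ne_three : ζ₂ ≠ ζ₃
  two_ne_four : ζ₂ ≠ ζ₄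
  three_ne_four : ζ₃ ≠ ζ₄
  block : principalBlock M G =
    {χ : IrrCharacter G | (χ : G → ℂ) = (fun _ => 1) ∨ χ = ζ₂ ∨ χ = ζ₃ ∨ χ = ζ₄}
  val : ∀ z : G, orderOf z = 2 →
    (ζ₂ : G → ℂ) z = 1 ∧ (ζ₃ : G → ℂ) z = (ε : ℂ) ∧ (ζ₄ : G → ℂ) z = -1
  rel : ∀ y : G, Odd (orderOf y) →
    1 + (ζ₂ : G → ℂ) y + (ε : ℂ) * (ζ₃ : G → ℂ) y - (ζ₄ : G → ℂ) y = 0
  cong_two : (4 : ℤ) ∣ (charDegree (ζ₂ : G → ℂ) : ℤ) - 1
  cong_three : (4 : ℤ) ∣ (charDegree (ζ₃ : G → ℂ) : ℤ) - ε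
  cong_four : (4 : ℤ) ∣ (charDegree (ζ₄ : G → ℂ) : ℤ) + 1
  sum : 1 + (charDegree (ζ₂ : G → ℂ) : ℤ) + ε * charDegree (ζ₃ : G → ℂ)
    - charDegree (ζ₄ : G → ℂ) = 0
  five_le : 5 ≤ charDegree (ζ₂ : G → ℂ)
  three_le : 3 ≤ charDegree (ζ₃ : G → ℂ)
  three_le_four : 3 ≤ charDegree (ζ₄ : G → ℂ)
  order : (Nat.card G : ℚ) * (Nat.card ↥(oddPart t ⊓ centralizer ({a} : Set G)) : ℚ) ^ 2 =
    32 * alpha (charDegree (ζ₂ : G → ℂ)) (charDegree (ζ₃ : G → ℂ)) (charDegree (ζ₄ : G → ℂ)) ε *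
      (Nat.card ↥(oddPart t) : ℚ) ^ 3

namespace Setting

variable [Finite G] {t a : G} (S : Setting G t a)
include S

theorem exists_eq_mul {h : G} (hh : Commute t h) :
    ∃ k ∈ oddPart t, ∃ v ∈ four t a, h = k * v := by
  rcases S.type_or_rot (S.four_le_centralizer S.t_mem) with h1 | ⟨g, hg, hgt, -⟩
  · exact h1.1 h (mem_centralizer_singleton_iff.2 hh.symm.eq)
  · rw [show g * t * g⁻¹ = t by
      rw [mem_centralizer_singleton_iff.1 hg, mul_inv_cancel_right]] at hgt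
    exact absurd hgt S.ne

theorem disjoint_oddPart_four {K : Subgroup G} (hK : K ≤ oddPart t) : Disjoint K (four t a) :=
  disjoint_of_coprime_natCard (S.coprime_four ((odd_card_core _).of_dvd_nat (card_dvd_of_le hK))).symm

theorem card_centralizer_t :
    Nat.card ↥(centralizer ({t} : Set G)) = 4 * Nat.card ↥(oddPart t) := by
  rw [mul_comm, ← S.card_four, ← Nat.card_prod]
  symm
  refine Nat.card_congr (Equiv.ofBijective (fun x : ↥(oddPart t) × ↥(four t a) =>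
    (⟨x.1 * x.2, mul_mem (oddPart_le t x.1.2) (S.four_le_centralizer S.t_mem x.2.2)⟩ :
      ↥(centralizer ({t} : Set G)))) ⟨fun x y e => ?_, fun h => ?_⟩)
  · exact mul_injective_of_disjoint (S.disjoint_oddPart_four le_rfl) (congrArg Subtype.val e)
  · obtain ⟨k, hk, v, hv, e⟩ := S.exists_eq_mul (mem_centralizer_singleton_iff.1 h.2).symm
    exact ⟨(⟨k, hk⟩, ⟨v, hv⟩), Subtype.ext e.symm⟩

theorem card_centralizer_four :
    Nat.card ↥(centralizer (four t a : Set G)) =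
      4 * Nat.card ↥(oddPart t ⊓ centralizer ({a} : Set G)) := by
  rw [mul_comm, ← S.card_four, ← Nat.card_prod]
  symm
  refine Nat.card_congr (Equiv.ofBijective
    (fun x : ↥(oddPart t ⊓ centralizer ({a} : Set G)) × ↥(four t a) =>
      (⟨x.1 * x.2, mul_mem (S.commute_four (commute_of_mem_oddPart x.1.2.1)
        (mem_centralizer_singleton_iff.1 x.1.2.2).symm)
        (mem_centralizer_iff.2 fun w hw => (S.four_comm hw x.2.2).eq)⟩ :
      ↥(centralizer (four t a : Set G)))) ⟨fun x y e => ?_, fun h => ?_⟩)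
  · exact mul_injective_of_disjoint (S.disjoint_oddPart_four inf_le_left) (congrArg Subtype.val e)
  · have hh := mem_centralizer_iff.1 h.2
    obtain ⟨k, hk, v, hv, e⟩ := S.exists_eq_mul (h := (h : G)) (hh t S.t_mem)
    have hka : Commute a k := by
      rw [eq_mul_inv_of_mul_eq e.symm]
      exact (show Commute a (h : G) from hh a S.a_mem).mul_right (S.four_comm S.a_mem hv).inv_right
    exact ⟨(⟨k, hk, mem_centralizer_singleton_iff.2 hka.symm.eq⟩, ⟨v, hv⟩), Subtype.ext e.symm⟩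

theorem index_mul : (centralizer ({t} : Set G)).index * (4 * Nat.card ↥(oddPart t)) = Nat.card G := by
  rw [← S.card_centralizer_t, index_mul_card]

section Simple

variable [IsSimpleGroup G] (hG : ¬ IsMulCommutative G)
include hG

theorem exists_rot : ∃ g : G, Rot t a g := by
  rcases S.type_or_rot (le_top : four t a ≤ ⊤) with ⟨h1, -⟩ | ⟨g, -, hg⟩
  · exfalso
    haveI : (core (⊤ : Subgroup G)).Normal :=
      normalizer_eq_top_iff.1 (top_unique ((le_normalizer (H := (⊤ : Subgroup G))).trans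
        (le_normalizer_core ⊤)))
    rcases (inferInstance : (core (⊤ : Subgroup G)).Normal).eq_bot_or_eq_top with e | e
    · refine hG ⟨⟨fun x y => ?_⟩⟩
      obtain ⟨k, hk, v, hv, rfl⟩ := h1 x (mem_top _)
      obtain ⟨l, hl, w, hw, rfl⟩ := h1 y (mem_top _)
      rw [e, mem_bot] at hk hl
      subst hk hl
      simpa using (S.four_comm hv hw).eq
    · have hodd := odd_orderOf (odd_card_core (⊤ : Subgroup G)) (e.symm ▸ mem_top t)
      rw [S.t2] at hodd
      exact absurd hodd (by decide)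
  · exact ⟨g, hg⟩

theorem isConj_involution {x : G} (hx : orderOf x = 2) : IsConj x t := by
  haveI : Fact (Nat.Prime 2) := ⟨Nat.prime_two⟩
  obtain ⟨g, hgt, hga⟩ := S.exists_rot hG
  have hat : IsConj a t := (isConj_iff.2 ⟨g, hgt⟩ : IsConj t a).symm
  have hta : IsConj (t * a) t := ((isConj_iff.2 ⟨g, hga⟩ : IsConj a (t * a)).symm).trans hat
  obtain ⟨Q, hQ⟩ := (IsPGroup.of_card (p := 2) (n := 1)
    (by rw [Nat.card_zpowers, hx]; rfl) : IsPGroup 2 ↥(zpowers x)).exists_le_sylow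
  obtain ⟨P, hP⟩ := S.exists_sylow
  obtain ⟨c, hc⟩ := MulAction.exists_smul_eq G Q P
  have hxc : c * x * c⁻¹ ∈ four t a := by
    rw [← hP, ← hc, Sylow.coe_subgroup_smul]
    exact Subgroup.smul_mem_pointwise_smul x (MulAut.conj c) _ (hQ (mem_zpowers x))
  have hconj : IsConj x (c * x * c⁻¹) := isConj_iff.2 ⟨c, rfl⟩
  rcases S.mem_four_iff.1 hxc with e | e | e | e
  · rw [conj_eq_one_iff] at e
    simp [e] at hx
  all_goals rw [e] at hconj
  exacts [hconj, hconj.trans hat, hconj.trans hta]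

/-- The principal 2-block of `G`. -/
theorem exists_principalData (M : Ideal AlgInt) (hM : IsPModular 2 M) :
    ∃ (ζ₂ ζ₃ ζ₄ : IrrCharacter G) (ε : ℤ), PrincipalData t a M ζ₂ ζ₃ ζ₄ ε := by
  haveI := Fintype.ofFinite G
  obtain ⟨P, hP⟩ := S.exists_sylow
  have hklein : IsKleinFour ↥(P : Subgroup G) := hP ▸ S.isKleinFour
  have hone : ∀ x y : G, orderOf x = 2 → orderOf y = 2 → IsConj x y := fun x y hx hy =>
    (S.isConj_involution hG hx).trans (S.isConj_involution hG hy).symm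
  obtain ⟨g₀, hg₀⟩ : 4 ∣ Nat.card G := S.card_four ▸ card_subgroup_dvd_card _
  have hg₀o : Odd g₀ := by
    rw [Nat.odd_iff]
    by_contra h
    exact S.not_eight ⟨g₀ / 2, by omega⟩
  have hnc : ¬ ∃ N : Subgroup G, N.Normal ∧ Nat.card N = g₀ := by
    rintro ⟨N, hN, hNc⟩
    rcases hN.eq_bot_or_eq_top with e | e
    · rw [e, Subgroup.card_bot] at hNc
      haveI : Fact (Nat.Prime 2) := ⟨Nat.prime_two⟩
      exact hG (IsPGroup.isMulCommutative_of_card_eq_prime_sq (p := 2)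
        (by rw [hg₀, ← hNc]; norm_num))
    · rw [e, Subgroup.card_top, hg₀] at hNc
      have := hg₀o.pos
      omega
  obtain ⟨ζ₂, ζ₃, ζ₄, ε, hε, n2, n3, h23, h24, h34, hB, hval, c2, c3, c4, hrel⟩ :=
    Cfsg.Agent.S0948.result M hM P hklein hone
  have n4 : (ζ₄ : G → ℂ) ≠ fun _ => 1 := fun e => by
    have h := (hval _ S.t2).2.2
    rw [e] at h
    norm_num at h
  have hform := Cfsg.Agent.S4479.result M hM g₀ hg₀o hg₀ hnc P t (hP ▸ S.t_mem) S.t2 ζ₂ ζ₃ ζ₄ 1 ε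
    (-1) hB ⟨n2, n3, n4, h23, h24, h34⟩ ⟨Or.inl rfl, hε, Or.inr rfl⟩
    ⟨by simpa using (hval _ S.t2).1, (hval _ S.t2).2.1, by simpa using (hval _ S.t2).2.2⟩
  rw [hP, S.card_centralizer_t, S.card_centralizer_four] at hform
  have hr := hrel 1 (by simp)
  rw [Blocks.irr_one_eq, Blocks.irr_one_eq, Blocks.irr_one_eq] at hr
  have hsum : 1 + (charDegree (ζ₂ : G → ℂ) : ℤ) + ε * charDegree (ζ₃ : G → ℂ)
      - charDegree (ζ₄ : G → ℂ) = 0 := by exact_mod_cast hr
  have hd : ∀ {χ : IrrCharacter G}, (χ : G → ℂ) ≠ (fun _ => 1) →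
      1 < charDegree (χ : G → ℂ) := fun {χ} hχ => by
    refine lt_of_le_of_ne (Blocks.charDegree_pos χ) fun e => hχ ?_
    rw [SmallGroups.BlockDegrees.eq_trivChar hG χ e.symm]
    rfl
  have := hd n2
  have := hd n3
  have := hd n4
  have h3 : 3 ≤ charDegree (ζ₃ : G → ℂ) := by rcases hε with rfl | rfl <;> omega
  refine ⟨ζ₂, ζ₃, ζ₄, ε, hε, n2, n3, n4, h23, h24, h34, hB, hval, hrel, c2, c3, c4, hsum,
    by omega, h3, by omega, ?_⟩
  have hD0 : (Nat.card ↥(oddPart t ⊓ centralizer ({a} : Set G)) : ℚ) ≠ 0 :=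
    Nat.cast_ne_zero.2 Nat.card_pos.ne'
  rw [hform, alpha]
  push_cast
  field_simp
  ring

/-- Bound on the order. -/
theorem card_le : Nat.card G * Nat.card ↥(oddPart t ⊓ centralizer ({a} : Set G)) ^ 2 ≤
    60 * Nat.card ↥(oddPart t) ^ 3 := by
  obtain ⟨M, hM⟩ := DegreeTools.TISum.exists_pmodular (p := 2) Nat.prime_two
  obtain ⟨ζ₂, ζ₃, ζ₄, ε, P⟩ := S.exists_principalData hG M hM
  have hb := (alpha_bounds P.sign P.five_le P.three_le P.three_le_four P.cong_three P.cong_four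
    P.sum).2
  have h : (Nat.card G : ℚ) * (Nat.card ↥(oddPart t ⊓ centralizer ({a} : Set G)) : ℚ) ^ 2 ≤
      60 * (Nat.card ↥(oddPart t) : ℚ) ^ 3 := by
    rw [P.order]
    exact mul_le_mul_of_nonneg_right (by linarith) (by positivity)
  exact_mod_cast h

/-- Bound on the index of the centraliser of an involution from below. -/
theorem five_mul_sq_le : 5 * Nat.card ↥(oddPart t) ^ 2 ≤
    (centralizer ({t} : Set G)).index * Nat.card ↥(oddPart t ⊓ centralizer ({a} : Set G)) ^ 2 := by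
  obtain ⟨M, hM⟩ := DegreeTools.TISum.exists_pmodular (p := 2) Nat.prime_two
  obtain ⟨ζ₂, ζ₃, ζ₄, ε, P⟩ := S.exists_principalData hG M hM
  have hb := (alpha_bounds P.sign P.five_le P.three_le P.three_le_four P.cong_three P.cong_four
    P.sum).1
  have h : (20 : ℚ) * (Nat.card ↥(oddPart t) : ℚ) ^ 3 ≤
      (Nat.card G : ℚ) * (Nat.card ↥(oddPart t ⊓ centralizer ({a} : Set G)) : ℚ) ^ 2 := by
    rw [P.order]
    exact mul_le_mul_of_nonneg_right (by linarith) (by positivity)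
  have h' : 20 * Nat.card ↥(oddPart t) ^ 3 ≤
      Nat.card G * Nat.card ↥(oddPart t ⊓ centralizer ({a} : Set G)) ^ 2 := by exact_mod_cast h
  rw [← S.index_mul] at h'
  have hpos : 0 < 4 * Nat.card ↥(oddPart t) := by
    have := Nat.card_pos (α := ↥(oddPart t))
    omega
  refine Nat.le_of_mul_le_mul_left ?_ hpos
  calc _ = 20 * Nat.card ↥(oddPart t) ^ 3 := by ring
    _ ≤ _ := h'
    _ = _ := by ring

end Simple

end Setting

end CfsgLib.GWKlein
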