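import Cfsg.Agent.Lib.GWKlein.RotatingSocle
import Cfsg.Agent.Lib.GWKlein.Order

/-!
# Proper subgroups rotating the four-group

`Minimal.single`: in a proper subgroup every invariant `p`-subgroup is centralised, modulo the core,
by an involution of the four-group.  `Minimal.exists_rotData`: a proper subgroup with a rotation
whose core is centralised by the four-group has the structure `RotData`.
-/

set_option autoImplicit false
set_option linter.unusedSectionVars false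
set_option linter.style.haveILetI false

universe u

namespace CfsgLib.GWKlein

open Subgroup

variable {G : Type u} [Group G] [Finite G] {t a : G}

/-- The image of an element of `H` modulo the core of `H`. -/
def mkCore (H : Subgroup G) : ↥H →* ↥H ⧸ Cfsg.pPrimeCore 2 ↥H :=
  QuotientGroup.mk' _

theorem mem_core_iff (H : Subgroup G) (y : H) : mkCore H y = 1 ↔ (y : G) ∈ core H := by
  rw [mkCore, QuotientGroup.mk'_apply, QuotientGroup.eq_one_iff]
  exact (mem_map_iff_mem H.subtype_injective).symm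

theorem Minimal.reduced (M : Minimal G t a) {H : Subgroup G} (hH : H ≠ ⊤) (ht : t ∈ H) (ha : a ∈ H)
    {g : G} (hgH : g ∈ H) (hg : Rot t a g) :
    Reduced (↥H ⧸ Cfsg.pPrimeCore 2 ↥H) (mkCore H ⟨t, ht⟩) (mkCore H ⟨a, ha⟩) := by
  have hodd : Odd (Nat.card (Cfsg.pPrimeCore 2 ↥H)) :=
    Nat.coprime_two_right.1 (CfsgLib.Solvable.Cores.coprime_card_pPrimeCore 2)
  refine ⟨(M.setting.restrict ht ha).quotient hodd, pPrimeCore_quotient, ⟨mkCore H ⟨g, hgH⟩, ?_, ?_⟩, ?_⟩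
  · rw [← map_inv, ← map_mul, ← map_mul]
    exact congrArg (mkCore H) (Subtype.ext hg.1)
  · rw [← map_inv, ← map_mul, ← map_mul, ← map_mul]
    exact congrArg (mkCore H) (Subtype.ext hg.2)
  · intro Y hY hYc s c hs
    haveI := hY
    have h1 : Nat.card (↥H ⧸ Cfsg.pPrimeCore 2 ↥H) ∣ Nat.card G :=
      (card_quotient_dvd_card _).trans (card_subgroup_dvd_card H)
    have hlt : Nat.card Y < Nat.card G := by
      refine lt_of_le_of_lt ((card_le_card_group Y).trans ?_) (lt_of_le_of_ne (card_le_card_group H)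
        fun e => hH (eq_top_of_card_eq _ e))
      exact Nat.le_of_dvd Nat.card_pos (card_quotient_dvd_card _)
    exact ((M.small ↥Y hlt hYc
      fun h => M.setting.not_eight ((h.trans (card_subgroup_dvd_card Y)).trans h1)).2 s c hs)

/-- Modulo the core, each invariant `p`-subgroup of a proper subgroup is centralised by an
involution of the four-group. -/
theorem Minimal.single (M : Minimal G t a) :
    ∀ H : Subgroup G, H ≠ ⊤ → four t a ≤ H → Single t a H := by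
  intro H hH hVH
  rcases M.setting.type_or_rot hVH with ⟨-, hodd⟩ | ⟨g, hgH, hg⟩
  · exact fun p P _ hP hPH => Or.inl fun x hx =>
      mem_sup_left (hodd x (hPH hx) (odd_orderOf hP.odd hx))
  · exact Single.of_restrict M.setting (hVH M.setting.t_mem) (hVH M.setting.a_mem)
      (Single.of_quotient (M.setting.restrict _ _)
        (M.reduced hH (hVH M.setting.t_mem) (hVH M.setting.a_mem) hgH hg).single_top)

theorem closureIn_le {H : Subgroup G} (hVH : four t a ≤ H) : closureIn t a H ≤ H := by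
  refine (closure_le _).2 ?_
  rintro _ ⟨h, hh, v, hv, rfl⟩
  exact mul_mem (mul_mem hh (hVH hv)) (inv_mem hh)

/-- An element of odd order inverted by an involution of the four-group is in `closureIn`. -/
theorem mem_closureIn_of_inverted {H : Subgroup G} {v y : G} (hv : v ∈ four t a) (hyH : y ∈ H)
    (hy : Odd (orderOf y)) (hi : v * y * v⁻¹ = y⁻¹) : y ∈ closureIn t a H := by
  obtain ⟨j, hj⟩ := hy
  set w := y ^ (j + 1) with hw
  have hwi : v * w⁻¹ * v⁻¹ = w := by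
    rw [show v * w⁻¹ * v⁻¹ = (v * w * v⁻¹)⁻¹ by group, hw, ← conj_pow, hi, inv_pow, inv_inv]
  have hy' : y = w * v * w⁻¹ * v⁻¹ := by
    calc y = w * w := by
          rw [hw, ← pow_add, show j + 1 + (j + 1) = 2 * j + 1 + 1 by omega, pow_succ, ← hj,
            pow_orderOf_eq_one, one_mul]
      _ = w * (v * w⁻¹ * v⁻¹) := by rw [hwi]
      _ = w * v * w⁻¹ * v⁻¹ := by group
  rw [hy']
  exact mul_mem (subset_closure ⟨w, pow_mem hyH _, v, hv, rfl⟩)
    (inv_mem (subset_closure ⟨1, one_mem _, v, hv, by group⟩))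

theorem core_le_centralizer_closureIn {H : Subgroup G} (hR : core H ≤ centralizer (four t a : Set G)) :
    core H ≤ centralizer (closureIn t a H : Set G) := by
  intro r hr
  rw [mem_centralizer_iff]
  intro c hc
  suffices closureIn t a H ≤ centralizer ({r} : Set G) from mem_centralizer_singleton_iff.1 (this hc)
  refine (closure_le _).2 ?_
  rintro _ ⟨h, hh, v, hv, rfl⟩
  have h1 := core_conj_mem H (le_normalizer (inv_mem hh)) hr
  rw [inv_inv] at h1
  have h2 := mem_centralizer_iff.1 (hR h1) v hv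
  refine mem_centralizer_singleton_iff.2 ?_
  calc h * v * h⁻¹ * r = h * (v * (h⁻¹ * r * h)) * h⁻¹ := by group
    _ = h * ((h⁻¹ * r * h) * v) * h⁻¹ := by rw [h2]
    _ = r * (h * v * h⁻¹) := by group

theorem eq_one_of_inverted_of_commute {v y : G} (hy : Odd (orderOf y)) (hi : v * y * v⁻¹ = y⁻¹)
    (hc : Commute v y) : y = 1 := by
  rw [hc.eq, mul_inv_cancel_right] at hi
  have h : orderOf y ∣ 2 := orderOf_dvd_of_pow_eq_one (by
    rw [pow_two]; nth_rewrite 2 [hi]; exact mul_inv_cancel y)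
  exact orderOf_eq_one_iff.1 (Nat.eq_one_of_dvd_coprimes (Nat.coprime_two_left.2 hy) h dvd_rfl)

/-- The structure of a proper subgroup with a rotation whose core the four-group centralises. -/
theorem Minimal.exists_rotData (M : Minimal G t a) {H : Subgroup G} (hH : H ≠ ⊤) (hV : four t a ≤ H)
    (hrot : ∃ g ∈ H, Rot t a g) (hR : core H ≤ centralizer (four t a : Set G)) :
    ∃ T, RotData t a H T := by
  classical
  obtain ⟨g, hgH, hg⟩ := hrot
  have S := M.setting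
  have ht := hV S.t_mem
  have ha := hV S.a_mem
  have SH := S.restrict ht ha
  have R := M.reduced hH ht ha hgH hg
  set π := mkCore H with hπ
  set τ := π ⟨t, ht⟩ with hτ
  set α := π ⟨a, ha⟩ with hα
  have SX : Setting _ τ α := R.setting
  have hcodd : Odd (Nat.card (Cfsg.pPrimeCore 2 ↥H)) :=
    Nat.coprime_two_right.1 (CfsgLib.Solvable.Cores.coprime_card_pPrimeCore 2)
  haveI hKn : (socle τ α).Normal := SX.socle_normal
  have hCR := core_le_centralizer_closureIn hR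
  have hCle : closureIn t a H ≤ H := closureIn_le hV
  -- the socle is covered by `closureIn`
  have hlift : ∀ k ∈ socle τ α, ∃ c, ∃ hc : c ∈ closureIn t a H, π ⟨c, hCle hc⟩ = k := by
    have hle : socle τ α ≤ ((closureIn t a H).subgroupOf H).map π := by
      rw [socle, closureIn, closure_le]
      rintro _ ⟨x, -, w, hw, rfl⟩
      obtain ⟨x, rfl⟩ := QuotientGroup.mk'_surjective (Cfsg.pPrimeCore 2 ↥H) x
      obtain ⟨v, hv, rfl⟩ : ∃ v : H, (v : G) ∈ four t a ∧ π v = w := by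
        rcases SX.mem_four_iff.1 hw with e | e | e | e
        · exact ⟨1, one_mem _, by rw [map_one, e]⟩
        · exact ⟨⟨t, ht⟩, S.t_mem, e.symm⟩
        · exact ⟨⟨a, ha⟩, S.a_mem, e.symm⟩
        · exact ⟨⟨t, ht⟩ * ⟨a, ha⟩, S.ta_mem, by rw [map_mul, e]⟩
      exact ⟨x * v * x⁻¹, mem_subgroupOf.2 (subset_closure ⟨x, x.2, v, hv, rfl⟩), by
        rw [map_mul, map_mul, map_inv]; rfl⟩
    intro k hk
    obtain ⟨c, hc, rfl⟩ := hle hk
    exact ⟨c, mem_subgroupOf.1 hc, rfl⟩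
  have hord : ∀ y : H, Odd (orderOf (y : G)) → Odd (orderOf (π y)) := fun y hy =>
    Odd.of_dvd_nat hy (by rw [Subgroup.orderOf_coe]; exact orderOf_map_dvd π y)
  -- the inverted elements
  have hpi : ∀ y : G, (hy : y ∈ oddPart t ⊓ H) → a * y * a⁻¹ = y⁻¹ →
      π ⟨y, hy.2⟩ ∈ oddPart τ ⊓ socle τ α := by
    intro y hy hi
    obtain ⟨ho, hc⟩ := S.mem_oddPart.1 hy.1
    have ho' := hord ⟨y, hy.2⟩ ho
    refine ⟨SX.mem_oddPart.2 ⟨ho', Commute.map (show Commute (⟨t, ht⟩ : H) ⟨y, hy.2⟩ from Subtype.ext hc.eq) π⟩,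
      mem_of_inverted hKn (SX.four_le_socle SX.a_mem) ho' ?_⟩
    rw [hα, ← map_inv, ← map_mul, ← map_mul, ← map_inv]
    exact congrArg π (Subtype.ext hi)
  have hker : ∀ y : G, (hy : y ∈ oddPart t ⊓ H) → a * y * a⁻¹ = y⁻¹ → π ⟨y, hy.2⟩ = 1 → y = 1 :=
    fun y hy hi h1 => eq_one_of_inverted_of_commute (S.mem_oddPart.1 hy.1).1 hi
      (show Commute a y from mem_centralizer_iff.1 (hR ((mem_core_iff H _).1 h1)) a S.a_mem)
  have hYc := R.isCyclic_part
  obtain ⟨⟨y₀, hy₀⟩, hgen⟩ := hYc.exists_generator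
  obtain ⟨c₀, hc₀, hc₀e⟩ := hlift y₀ hy₀.2
  have hinC : ∀ y : G, y ∈ oddPart t ⊓ H → a * y * a⁻¹ = y⁻¹ → y ∈ closureIn t a H := fun y hy hi =>
    mem_closureIn_of_inverted S.a_mem hy.2 (S.mem_oddPart.1 hy.1).1 hi
  have hdecomp : ∀ y : G, y ∈ oddPart t ⊓ H → a * y * a⁻¹ = y⁻¹ →
      ∃ (i : ℤ) (r : G), r ∈ core H ∧ r ∈ closureIn t a H ∧ y = c₀ ^ i * r := by
    intro y hy hi
    obtain ⟨i, hi'⟩ := mem_zpowers_iff.1 (hgen ⟨_, hpi y hy hi⟩)
    refine ⟨i, (c₀ ^ i)⁻¹ * y, ?_, mul_mem (inv_mem (zpow_mem hc₀ i)) (hinC y hy hi), by group⟩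
    have h1 : π (((⟨c₀, hCle hc₀⟩ : H) ^ i)⁻¹ * ⟨y, hy.2⟩) = 1 := by
      rw [map_mul, map_inv, map_zpow, hc₀e, inv_mul_eq_one]
      simpa using congrArg Subtype.val hi'
    simpa using (mem_core_iff H _).1 h1
  have hcomm : ∀ y z : G, y ∈ oddPart t ⊓ H → a * y * a⁻¹ = y⁻¹ → z ∈ oddPart t ⊓ H →
      a * z * a⁻¹ = z⁻¹ → Commute y z := by
    intro y z hy hi hz hj
    obtain ⟨i, r, hr, hrC, rfl⟩ := hdecomp y hy hi
    obtain ⟨j, s, hs, hsC, rfl⟩ := hdecomp z hz hj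
    have hh : ∀ {u w : G}, u ∈ core H → w ∈ closureIn t a H → Commute w u :=
      fun hu hw => mem_centralizer_iff.1 (hCR hu) _ hw
    have h1 : Commute (c₀ ^ i) (c₀ ^ j * s) :=
      ((Commute.refl c₀).zpow_zpow i j).mul_right (hh hs (zpow_mem hc₀ i))
    exact h1.mul_left (((hh hr (zpow_mem hc₀ j)).symm).mul_right (hh hs hrC))
  let T : Subgroup G :=
    { carrier := {y | y ∈ oddPart t ⊓ H ∧ a * y * a⁻¹ = y⁻¹}
      one_mem' := ⟨one_mem _, by group⟩
      mul_mem' := fun {y z} hy hz => ⟨mul_mem hy.1 hz.1, by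
        rw [show a * (y * z) * a⁻¹ = a * y * a⁻¹ * (a * z * a⁻¹) by group, hy.2, hz.2,
          (hcomm y z hy.1 hy.2 hz.1 hz.2).inv_inv.eq, mul_inv_rev]⟩
      inv_mem' := fun {y} hy => ⟨inv_mem hy.1, by
        rw [show a * y⁻¹ * a⁻¹ = (a * y * a⁻¹)⁻¹ by group, hy.2]⟩ }
  have hT : ∀ {y : G}, y ∈ T ↔ y ∈ oddPart t ⊓ H ∧ a * y * a⁻¹ = y⁻¹ := Iff.rfl
  let f : ↥T →* ↥(oddPart τ ⊓ socle τ α) :=
    { toFun := fun y => ⟨π ⟨y, (hT.1 y.2).1.2⟩, hpi y (hT.1 y.2).1 (hT.1 y.2).2⟩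
      map_one' := Subtype.ext (map_one π)
      map_mul' := fun y z => Subtype.ext (map_mul π ⟨(y : G), (hT.1 y.2).1.2⟩ ⟨(z : G), (hT.1 z.2).1.2⟩) }
  have hf : Function.Injective f := by
    rw [injective_iff_map_eq_one]
    intro y hy
    exact Subtype.ext (hker y (hT.1 y.2).1 (hT.1 y.2).2 (congrArg Subtype.val hy))
  haveI := hYc
  haveI hTc : IsCyclic ↥T := isCyclic_of_injective f hf
  have hTne : T ≠ ⊥ → oddPart τ ⊓ socle τ α ≠ ⊥ := fun h e => by
    refine h ((eq_bot_iff_forall _).2 fun y hy => hker y (hT.1 hy).1 (hT.1 hy).2 ?_)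
    have := hpi y (hT.1 hy).1 (hT.1 hy).2
    rwa [e, mem_bot] at this
  have hrotK : T ≠ ⊥ → ∃ k ∈ socle τ α, Rot τ α k := fun h => by
    refine R.socle_cases.resolve_left fun e => hTne h ((eq_bot_iff_forall _).2 fun y hy =>
      R.eq_one_of_four (e ▸ hy.2) (SX.mem_oddPart.1 hy.1).1)
  -- every element of the cyclic part is a square of an image
  have hsurj : ∀ w ∈ oddPart τ ⊓ socle τ α, ∃ y, ∃ hy : y ∈ T, π ⟨y, (hT.1 hy).1.2⟩ = w * w := by
    intro w hw
    obtain ⟨hwo, hwc⟩ := SX.mem_oddPart.1 hw.1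
    set w' := α * w * α⁻¹ with hw'
    have hτα : Commute τ α := SX.comm
    have hw'm : w' ∈ oddPart τ ⊓ socle τ α := by
      refine ⟨SX.mem_oddPart.2 ⟨?_, ((hτα.mul_right hwc).mul_right hτα.inv_right)⟩,
        Subgroup.Normal.conj_mem hKn w hw.2 α⟩
      rw [show w' = (MulAut.conj α).toMonoidHom w from rfl,
        orderOf_injective _ (MulAut.conj α).injective]
      exact hwo
    have hcw : Commute w w' := congrArg Subtype.val (mul_comm' (⟨w, hw⟩ : ↥(oddPart τ ⊓ socle τ α)) ⟨w', hw'm⟩)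
    have hinv : w' = w⁻¹ := by
      have hm := mul_mem hw hw'm
      have h1 : w * w' = 1 := by
        obtain ⟨ho, hc⟩ := SX.mem_oddPart.1 hm.1
        refine R.selfCent_socle hm.2 ho hc ?_
        have e2 : α * w' * α⁻¹ = w := by
          rw [hw', show α * (α * w * α⁻¹) * α⁻¹ = (α * α) * w * (α * α)⁻¹ by group, SX.a_mul_self]; group
        refine mul_inv_eq_iff_eq_mul.1 ?_
        rw [show α * (w * w') * α⁻¹ = w' * (α * w' * α⁻¹) by rw [hw']; group, e2, hcw.eq]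
      exact (inv_eq_of_mul_eq_one_right h1).symm
    obtain ⟨z, hz, hzw⟩ := SH.oddPart_map hcodd hw.1
    obtain ⟨hzo, hzc⟩ := SH.mem_oddPart.1 hz
    have hzc' : Commute t (z : G) := congrArg Subtype.val hzc
    have hzH : (z : G) ∈ oddPart t ⊓ H := ⟨S.mem_oddPart.2 ⟨by simpa using hzo, hzc'⟩, z.2⟩
    have hazH : a * (z : G) * a⁻¹ ∈ oddPart t ⊓ H :=
      mem_inf.2 ⟨S.mem_oddPart.2 ⟨by
        rw [show a * (z : G) * a⁻¹ = (MulAut.conj a).toMonoidHom z from rfl,
          orderOf_injective _ (MulAut.conj a).injective]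
        simpa using hzo, (S.comm.mul_right hzc').mul_right S.comm.inv_right⟩,
       mul_mem (mul_mem ha z.2) (inv_mem ha)⟩
    refine ⟨(z : G) * (a * z * a⁻¹)⁻¹, hT.2 ⟨mul_mem hzH (inv_mem hazH), ?_⟩, ?_⟩
    · rw [show a * ((z : G) * (a * z * a⁻¹)⁻¹) * a⁻¹ =
        (a * z * a⁻¹) * ((a * a) * (z : G)⁻¹ * (a * a)⁻¹) by group, S.a_mul_self]
      group
    · show π (z * (⟨a, ha⟩ * z * ⟨a, ha⟩⁻¹)⁻¹) = w * w
      rw [map_mul, map_inv, map_mul, map_mul, map_inv, ← hα,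
        show π z = w from hzw ▸ rfl, ← hw', hinv, inv_inv]
  refine ⟨T,
    { exists_rot := fun h => ?_
      core_comm := hCR
      le := fun y hy => (hT.1 hy).1
      cyclic := hTc
      inverted := fun y hy => (hT.1 hy).2
      mem := fun y hy hi => hT.2 ⟨hy, hi⟩
      split := fun y hy => ?_
      conj_mem := ?_
      mem_core := fun h d hd had hds => ?_
      mem_closure := fun h hh ho hi => mem_closureIn_of_inverted S.t_mem hh ho hi
      fpf := fun h hh ho hi z hz hz1 hhz => ?_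
      count := fun h => ?_ }⟩
  · obtain ⟨k, hk, hkr⟩ := hrotK h
    obtain ⟨c, hc, hce⟩ := hlift k hk
    refine ⟨c, hc, ?_⟩
    have key : ∀ v w : G, (hv : v ∈ four t a) → (hw : w ∈ four t a) →
        k * π ⟨v, hV hv⟩ * k⁻¹ = π ⟨w, hV hw⟩ → c * v * c⁻¹ = w := by
      intro v w hv hw e
      rw [← hce, ← map_inv, ← map_mul, ← map_mul] at e
      have hr : w⁻¹ * (c * v * c⁻¹) ∈ core H := by
        have := (mem_core_iff H ((⟨w, hV hw⟩ : H)⁻¹ * (⟨c, hCle hc⟩ * ⟨v, hV hv⟩ * ⟨c, hCle hc⟩⁻¹))).1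
          (by rw [map_mul, map_inv, e, inv_mul_cancel])
        simpa using this
      set r := w⁻¹ * (c * v * c⁻¹) with hrdef
      have hcw : Commute w r := mem_centralizer_iff.1 (hR hr) w hw
      have he : c * v * c⁻¹ = w * r := by rw [hrdef]; group
      have hr2 : r ^ 2 = 1 := by
        have h2 : (w * r) ^ 2 = 1 := by rw [← he, conj_pow, pow_two, S.four_sq hv]; group
        rwa [hcw.mul_pow, pow_two w, S.four_sq hw, one_mul] at h2
      have hr1 : r = 1 := orderOf_eq_one_iff.1 (Nat.eq_one_of_dvd_coprimes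
        (Nat.coprime_two_left.2 (odd_orderOf (odd_card_core H) hr)) (orderOf_dvd_of_pow_eq_one hr2) dvd_rfl)
      rw [he, hr1, mul_one]
    refine ⟨key t a S.t_mem S.a_mem hkr.1, key a (t * a) S.a_mem S.ta_mem ?_⟩
    refine hkr.2.trans ?_
    rw [hτ, hα, ← map_mul]; rfl
  · have hy' := S.mem_oddPart.1 hy.1
    have hazH : a * y * a⁻¹ ∈ oddPart t ⊓ H :=
      mem_inf.2 ⟨S.mem_oddPart.2 ⟨by
        rw [show a * y * a⁻¹ = (MulAut.conj a).toMonoidHom y from rfl,
          orderOf_injective _ (MulAut.conj a).injective]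
        exact hy'.1, (S.comm.mul_right hy'.2).mul_right S.comm.inv_right⟩,
       mul_mem (mul_mem ha hy.2) (inv_mem ha)⟩
    have hu : y * a * y⁻¹ * a = y * (a * y * a⁻¹)⁻¹ := by
      rw [mul_inv_rev, mul_inv_rev, inv_inv, S.a_inv]; group
    have huT : y * a * y⁻¹ * a ∈ T := hT.2 ⟨hu ▸ mul_mem hy (inv_mem hazH), by
      rw [show (y * a * y⁻¹ * a)⁻¹ = a⁻¹ * y * a⁻¹ * y⁻¹ by group, S.a_inv,
        show a * (y * a * y⁻¹ * a) * a = a * y * a * y⁻¹ * (a * a) by group, S.a_mul_self, mul_one]⟩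
    obtain ⟨m, hm⟩ := exists_correct (odd_card_core (centralizer ({t} : Set G)))
      S.a_mul_self (hT.1 huT).1.1
    refine ⟨_, pow_mem huT m, _, ?_, hm, (mul_inv_cancel_left _ _).symm⟩
    exact mul_mem (inv_mem (pow_mem (hT.1 huT).1 m)) hy
  · -- `oddPart t ⊓ H` normalises `T`
    have hd : ∀ d ∈ oddPart t ⊓ H, Commute a d → ∀ s ∈ T, d * s * d⁻¹ ∈ T := fun d hd had s hs =>
      hT.2 ⟨mul_mem (mul_mem hd (hT.1 hs).1) (inv_mem hd), by
        rw [show a * (d * s * d⁻¹) * a⁻¹ = (a * d * a⁻¹) * (a * s * a⁻¹) * (a * d * a⁻¹)⁻¹ by group,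
          (hT.1 hs).2, had.eq, mul_inv_cancel_right]
        group⟩
    intro y hy s hs
    have hy' := S.mem_oddPart.1 hy.1
    have hazH : a * y * a⁻¹ ∈ oddPart t ⊓ H :=
      mem_inf.2 ⟨S.mem_oddPart.2 ⟨by
        rw [show a * y * a⁻¹ = (MulAut.conj a).toMonoidHom y from rfl,
          orderOf_injective _ (MulAut.conj a).injective]
        exact hy'.1, (S.comm.mul_right hy'.2).mul_right S.comm.inv_right⟩,
       mul_mem (mul_mem ha hy.2) (inv_mem ha)⟩
    have huT : y * a * y⁻¹ * a ∈ T := by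
      have hu : y * a * y⁻¹ * a = y * (a * y * a⁻¹)⁻¹ := by
        rw [mul_inv_rev, mul_inv_rev, inv_inv, S.a_inv]; group
      exact hT.2 ⟨hu ▸ mul_mem hy (inv_mem hazH), by
        rw [show (y * a * y⁻¹ * a)⁻¹ = a⁻¹ * y * a⁻¹ * y⁻¹ by group, S.a_inv,
          show a * (y * a * y⁻¹ * a) * a = a * y * a * y⁻¹ * (a * a) by group, S.a_mul_self, mul_one]⟩
    obtain ⟨m, hm⟩ := exists_correct (odd_card_core (centralizer ({t} : Set G)))
      S.a_mul_self (hT.1 huT).1.1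
    set p := (y * a * y⁻¹ * a) ^ m with hp
    have hpT : p ∈ T := pow_mem huT m
    have := mul_mem (mul_mem hpT (hd _ (mul_mem (inv_mem (hT.1 hpT).1) hy) hm s hs)) (inv_mem hpT)
    rwa [show p * (p⁻¹ * y * s * (p⁻¹ * y)⁻¹) * p⁻¹ = y * s * y⁻¹ by group] at this
  · obtain ⟨ho, hc⟩ := S.mem_oddPart.1 hd.1
    refine (mem_core_iff H ⟨d, hd.2⟩).1 (R.eq_one_of_centralizes (hTne h) (hord ⟨d, hd.2⟩ ho)
      (Commute.map (show Commute (⟨t, ht⟩ : H) ⟨d, hd.2⟩ from Subtype.ext hc.eq) π)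
      (Commute.map (show Commute (⟨a, ha⟩ : H) ⟨d, hd.2⟩ from Subtype.ext had.eq) π) fun w hw => ?_)
    obtain ⟨y, hy, hyw⟩ := hsurj w hw
    have h2 : Commute (π ⟨d, hd.2⟩) (w * w) := hyw ▸
      Commute.map (show Commute (⟨d, hd.2⟩ : H) ⟨y, (hT.1 hy).1.2⟩ from Subtype.ext (hds y hy).eq) π
    obtain ⟨j, hj⟩ := (SX.mem_oddPart.1 hw.1).1
    rw [show w = (w * w) ^ (j + 1) by
      rw [← pow_two, ← pow_mul, show 2 * (j + 1) = 2 * j + 1 + 1 by omega, pow_succ, ← hj,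
        pow_orderOf_eq_one, one_mul]]
    exact h2.pow_right _
  · have hzm := hpi z (hT.1 hz).1 (hT.1 hz).2
    have ho' := hord ⟨h, hh⟩ ho
    have hi' : τ * π ⟨h, hh⟩ * τ⁻¹ = (π ⟨h, hh⟩)⁻¹ := by
      rw [hτ, ← map_inv, ← map_mul, ← map_mul, ← map_inv]
      exact congrArg π (Subtype.ext hi)
    have hcc := R.commute_of_normalizing hzm.2 (SX.mem_oddPart.1 hzm.1).1 (SX.mem_oddPart.1 hzm.1).2
      (fun e => hz1 (hker z (hT.1 hz).1 (hT.1 hz).2 e))
      (mem_of_inverted hKn (SX.four_le_socle SX.t_mem) ho' hi')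
      (Commute.map (show Commute (⟨h, hh⟩ : H) ⟨z, (hT.1 hz).1.2⟩ from Subtype.ext hhz.eq) π)
    exact eq_one_of_inverted_of_commute ho hi (mem_centralizer_iff.1
      (hR ((mem_core_iff H ⟨h, hh⟩).1 (eq_one_of_inverted_of_commute ho' hi' hcc))) t S.t_mem)
  · obtain ⟨k, hk, hkr⟩ := hrotK h
    obtain ⟨hKs, hKc⟩ := R.isSimpleGroup_socle hk hkr
    haveI := hKs
    let K := socle τ α
    have SK := SX.restrict (H := K) (SX.four_le_socle SX.t_mem) (SX.four_le_socle SX.a_mem)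
    have h5 := SK.five_mul_sq_le hKc
    have hD : oddPart (⟨τ, SX.four_le_socle SX.t_mem⟩ : K) ⊓
        centralizer ({⟨α, SX.four_le_socle SX.a_mem⟩} : Set K) = ⊥ := (eq_bot_iff_forall _).2 fun y hy =>
      Subtype.ext (R.selfCent_socle y.2 (by simpa using (SK.mem_oddPart.1 hy.1).1)
        (congrArg Subtype.val (SK.mem_oddPart.1 hy.1).2)
        (congrArg Subtype.val (mem_centralizer_singleton_iff.1 hy.2)).symm)
    rw [hD, card_bot, one_pow, mul_one] at h5
    have hTle : Nat.card T ≤ Nat.card (oddPart (⟨τ, SX.four_le_socle SX.t_mem⟩ : K)) := by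
      refine Nat.card_le_card_of_injective (fun y => ⟨⟨(f y).1, (f y).2.2⟩,
        R.mem_oddPart_socle (f y).2.2 (SX.mem_oddPart.1 (f y).2.1).1 (SX.mem_oddPart.1 (f y).2.1).2⟩)
        fun y z e => hf (Subtype.ext ?_)
      exact congrArg (fun w : ↥(oddPart (⟨τ, SX.four_le_socle SX.t_mem⟩ : K)) =>
        ((w : K) : ↥H ⧸ Cfsg.pPrimeCore 2 ↥H)) e
    refine le_trans (le_trans (Nat.mul_le_mul_left 5 (Nat.pow_le_pow_left hTle 2)) h5) ?_
    set C := centralizer ({(⟨τ, SX.four_le_socle SX.t_mem⟩ : K)} : Set K)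
    have hex : ∀ q : K ⧸ C, ∃ c : H, π c = ((Quotient.out q : K) : ↥H ⧸ Cfsg.pPrimeCore 2 ↥H) := fun q =>
      QuotientGroup.mk'_surjective _ _
    choose c hc using hex
    rw [index_eq_card]
    refine Nat.card_le_card_of_injective (fun q => (⟨(c q : G) * t * (c q : G)⁻¹,
      mul_mem (mul_mem (c q).2 ht) (inv_mem (c q).2), by
        rw [show (c q : G) * t * (c q : G)⁻¹ = (MulAut.conj (c q : G)).toMonoidHom t from rfl,
          orderOf_injective _ (MulAut.conj (c q : G)).injective, S.t2]⟩ :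
      {u : G // u ∈ H ∧ orderOf u = 2})) fun q q' e => ?_
    have e1 : π (c q * ⟨t, ht⟩ * (c q)⁻¹) = π (c q' * ⟨t, ht⟩ * (c q')⁻¹) :=
      congrArg π (Subtype.ext (congrArg (fun u : {u : G // u ∈ H ∧ orderOf u = 2} => (u : G)) e))
    rw [map_mul, map_mul, map_inv, map_mul, map_mul, map_inv, hc, hc, ← hτ] at e1
    rw [← QuotientGroup.out_eq' q, ← QuotientGroup.out_eq' q', QuotientGroup.eq]
    refine mem_centralizer_singleton_iff.2 (Subtype.ext ?_)
    set x := ((Quotient.out q : K) : ↥H ⧸ Cfsg.pPrimeCore 2 ↥H)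
    set x' := ((Quotient.out q' : K) : ↥H ⧸ Cfsg.pPrimeCore 2 ↥H)
    show x⁻¹ * x' * τ = τ * (x⁻¹ * x')
    calc x⁻¹ * x' * τ = x⁻¹ * (x' * τ * x'⁻¹) * x' := by group
      _ = τ * (x⁻¹ * x') := by rw [← e1]; group

end CfsgLib.GWKlein
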