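import Cfsg.Agent.Lib.GWKlein.Basic
import Cfsg.Prelude.Def_Classification2
import Mathlib.GroupTheory.SpecificGroups.Cyclic
import Mathlib.LinearAlgebra.Matrix.ProjectiveSpecialLinearGroup

/-!
# Simple groups with a Klein four Sylow 2-subgroup: the statement and the inductive interfaces

`SimpleKlein` is the theorem: a non-abelian finite simple group of order not divisible by 8 is
`PSL(2,q)`, `q ≡ 3, 5 (mod 8)`.  `Good` is what the proof gives on the way and hands to larger
groups, `Minimal` is the inductive situation, `RotData` collects what is used about a proper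
subgroup that rotates the four-group and whose core the four-group centralises.
-/

set_option autoImplicit false
set_option linter.unusedSectionVars false

universe u

namespace CfsgLib.GWKlein

open Subgroup

/-- `PSL(2,q)` with `3 < q`, `q ≡ 3, 5 (mod 8)`. -/
def IsPSLThreeFive (G : Type u) [Group G] : Prop :=
  ∃ (F : Type) (_ : Field F) (_ : Fintype F), Odd (Fintype.card F) ∧ 3 < Fintype.card F ∧
    (Fintype.card F % 8 = 3 ∨ Fintype.card F % 8 = 5) ∧
    Nonempty (G ≃* Matrix.ProjectiveSpecialLinearGroup (Fin 2) F)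

/-- Gorenstein–Walter for groups of order not divisible by 8. -/
def SimpleKlein : Prop :=
  ∀ (G : Type u) [Group G] [Finite G] [IsSimpleGroup G], ¬ IsMulCommutative G →
    ¬ 8 ∣ Nat.card G → IsPSLThreeFive G

/-- What is known about a simple group with four-group Sylow 2-subgroup once it is classified. -/
structure Good (G : Type u) [Group G] (t a : G) : Prop where
  selfCent : SelfCent t a
  cyclic : IsCyclic ↥(oddPart t)
  coatom : oddPart t ≠ ⊥ → IsCoatom (centralizer ({t} : Set G))
  norm_le : ∀ Y : Subgroup G, Y ≤ oddPart t → Y ≠ ⊥ →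
    normalizer (Y : Set G) ≤ centralizer ({t} : Set G)

/-- A simple group in which every smaller simple group of order not divisible by 8 is classified. -/
structure Minimal (G : Type u) [Group G] (t a : G) : Prop where
  setting : Setting G t a
  simple : IsSimpleGroup G
  noncomm : ¬ IsMulCommutative G
  small : ∀ (X : Type u) [Group X] [Finite X] [IsSimpleGroup X], Nat.card X < Nat.card G →
    ¬ IsMulCommutative X → ¬ 8 ∣ Nat.card X →
      IsPSLThreeFive X ∧ ∀ s c : X, Setting X s c → Good X s c

variable {G : Type u} [Group G]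

/-- The subgroup generated by the `H`-conjugates of the four-group. -/
def closureIn (t a : G) (H : Subgroup G) : Subgroup G :=
  closure {x | ∃ h ∈ H, ∃ v ∈ four t a, x = h * v * h⁻¹}

/-- A proper subgroup `H` with a rotation whose core is centralised by the four-group; `T` is the
set of elements of `H ∩ oddPart t` inverted by `a`. -/
structure RotData (t a : G) (H T : Subgroup G) : Prop where
  exists_rot : T ≠ ⊥ → ∃ g ∈ closureIn t a H, Rot t a g
  core_comm : core H ≤ centralizer (closureIn t a H : Set G)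
  le : T ≤ oddPart t ⊓ H
  cyclic : IsCyclic ↥T
  inverted : ∀ y ∈ T, a * y * a⁻¹ = y⁻¹
  mem : ∀ y ∈ oddPart t ⊓ H, a * y * a⁻¹ = y⁻¹ → y ∈ T
  split : ∀ y ∈ oddPart t ⊓ H, ∃ s ∈ T, ∃ d ∈ oddPart t ⊓ H, Commute a d ∧ y = s * d
  conj_mem : ∀ y ∈ oddPart t ⊓ H, ∀ s ∈ T, y * s * y⁻¹ ∈ T
  mem_core : T ≠ ⊥ → ∀ d ∈ oddPart t ⊓ H, Commute a d → (∀ s ∈ T, Commute d s) → d ∈ core H
  mem_closure : ∀ h ∈ H, Odd (orderOf h) → t * h * t⁻¹ = h⁻¹ → h ∈ closureIn t a H
  fpf : ∀ h ∈ H, Odd (orderOf h) → t * h * t⁻¹ = h⁻¹ → ∀ z ∈ T, z ≠ 1 → Commute h z → h = 1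
  count : T ≠ ⊥ → 5 * Nat.card ↥T ^ 2 ≤ Nat.card {u : G // u ∈ H ∧ orderOf u = 2}

end CfsgLib.GWKlein
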