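import Cfsg.Agent.Lib.GWKlein.Ineq

/-!
# Klein four Sylow subgroup: an inverted line in a normal elementary subgroup of the odd part

`Line` collects the situation of the module step: an elementary abelian `Y ≤ oddPart t` invariant
under the odd part and under `a`, an element `x ≠ 1` of it fixed by `a` and an element `y ≠ 1`
inverted by `a` spanning all the inverted elements, both inside the rotating overgroup of `x`.
-/

set_option autoImplicit false
set_option linter.unusedSectionVars false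
set_option linter.style.haveILetI false

universe u

namespace CfsgLib.GWKlein

open Subgroup

/-- An element of odd order commutes with what its square commutes with. -/
theorem commute_of_mul_self {G : Type*} [Group G] {c y : G} (hodd : Odd (orderOf c))
    (h : Commute (c * c) y) : Commute c y := by
  obtain ⟨k, hk⟩ := hodd
  have e : c = (c * c) ^ (k + 1) := by
    rw [← pow_two, ← pow_mul, show 2 * (k + 1) = (2 * k + 1) + 1 by ring, pow_succ, ← hk,
      pow_orderOf_eq_one, one_mul]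
  rw [e]
  exact h.pow_left _

/-- An element of odd order both fixed and inverted is trivial. -/
theorem eq_one_of_fix_inv {G : Type*} [Group G] {a w : G} (hodd : Odd (orderOf w))
    (h1 : a * w * a⁻¹ = w) (h2 : a * w * a⁻¹ = w⁻¹) : w = 1 := by
  rw [h1] at h2
  have h3 : w * w = 1 := by nth_rw 2 [h2]; exact mul_inv_cancel w
  have hd : orderOf w ∣ 2 := orderOf_dvd_of_pow_eq_one (by rw [pow_two, h3])
  rcases (Nat.dvd_prime Nat.prime_two).1 hd with h | h
  · exact orderOf_eq_one_iff.1 h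
  · rw [h] at hodd; exact absurd hodd (by decide)

variable {G : Type u} [Group G] [Finite G] {t a : G}

/-- `oddPart t` is closed under conjugation by `a`. -/
theorem Setting.conj_oddPart (S : Setting G t a) {c : G} (hc : c ∈ oddPart t) :
    a * c * a⁻¹ ∈ oddPart t :=
  core_conj_mem _ (Subgroup.le_normalizer (S.four_le_centralizer S.t_mem S.a_mem)) hc

/-- Conjugation by `a` on `oddPart t`. -/
def Setting.conjHom (S : Setting G t a) : ↥(oddPart t) →* ↥(oddPart t) :=
  MonoidHom.mk' (fun c => ⟨a * c * a⁻¹, S.conj_oddPart c.2⟩) fun c d => Subtype.ext (by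
    show a * ((c : G) * d) * a⁻¹ = a * c * a⁻¹ * (a * d * a⁻¹); group)

/-- What is fixed by the inverted elements is fixed by all of `oddPart t`. -/
theorem commute_of_gen (hgen : oddPart t ≤ closure {y | y ∈ oddPart t ∧ a * y * a⁻¹ = y⁻¹}) {y : G}
    (h : ∀ c ∈ oddPart t, a * c * a⁻¹ = c⁻¹ → Commute c y) {c : G} (hc : c ∈ oddPart t) :
    Commute c y := by
  have hle : closure {z | z ∈ oddPart t ∧ a * z * a⁻¹ = z⁻¹} ≤ centralizer ({y} : Set G) :=
    (closure_le _).2 fun z hz => mem_centralizer_singleton_iff.2 (h z hz.1 hz.2).eq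
  exact mem_centralizer_singleton_iff.1 (hle (hgen hc))

/-- A subgroup over a centralised element with rotation data does not contain `oddPart t`. -/
theorem not_oddPart_le
    (hgen : oddPart t ≤ closure {y | y ∈ oddPart t ∧ a * y * a⁻¹ = y⁻¹}) {H T : Subgroup G}
    (hR : RotData t a H T) {x : G} (hx : x ∈ oddPart t) (hax : a * x * a⁻¹ = x) (hx1 : x ≠ 1) :
    ¬ oddPart t ≤ H := by
  intro hle
  have hOT : oddPart t ≤ T :=
    hgen.trans ((closure_le _).2 fun z hz => hR.mem z ⟨hz.1, hle hz.1⟩ hz.2)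
  exact hx1 (eq_one_of_fix_inv (odd_orderOf (odd_card_core _) hx) hax (hR.inverted x (hOT hx)))

/-- The situation of the module step. -/
structure Line (t a : G) (r : ℕ) (Y H T : Subgroup G) (x y : G) : Prop where
  prime : r.Prime
  le_oddPart : Y ≤ oddPart t
  pow_eq_one : ∀ z ∈ Y, z ^ r = 1
  commute : ∀ z ∈ Y, ∀ w ∈ Y, Commute z w
  conj_mem : ∀ c ∈ oddPart t, ∀ z ∈ Y, c * z * c⁻¹ ∈ Y
  conj_a_mem : ∀ z ∈ Y, a * z * a⁻¹ ∈ Y
  x_mem : x ∈ Y
  x_fix : a * x * a⁻¹ = x
  x_ne : x ≠ 1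
  y_mem : y ∈ Y
  y_inv : a * y * a⁻¹ = y⁻¹
  y_ne : y ≠ 1
  y_mem_T : y ∈ T
  cent_le : ∀ c, Commute c x → c ∈ H
  rot : RotData t a H T
  line : ∀ q ∈ Y, a * q * a⁻¹ = q⁻¹ → q ∈ zpowers y
  dec : ∀ w ∈ Y, ∃ p ∈ Y, ∃ q ∈ Y, a * p * a⁻¹ = p ∧ a * q * a⁻¹ = q⁻¹ ∧ w = p * q

namespace Line

variable {r : ℕ} {Y H T : Subgroup G} {x y : G} (L : Line t a r Y H T x y)
include L

theorem odd_order {c : G} (hc : c ∈ oddPart t) : Odd (orderOf c) :=
  odd_orderOf (odd_card_core _) hc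

theorem order_x : orderOf x = r :=
  haveI := Fact.mk L.prime
  orderOf_eq_prime (L.pow_eq_one _ L.x_mem) L.x_ne

theorem order_y : orderOf y = r :=
  haveI := Fact.mk L.prime
  orderOf_eq_prime (L.pow_eq_one _ L.y_mem) L.y_ne

theorem odd_r : Odd r := L.order_x ▸ L.odd_order (L.le_oddPart L.x_mem)

theorem of_mem_zpowers {z : G} (hz : z ∈ zpowers y) : z ∈ Y ∧ z ∈ T ∧ a * z * a⁻¹ = z⁻¹ := by
  refine ⟨zpowers_le.2 L.y_mem hz, zpowers_le.2 L.y_mem_T hz, ?_⟩
  obtain ⟨i, rfl⟩ := mem_zpowers_iff.1 hz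
  rw [← conj_zpow, L.y_inv, inv_zpow]

theorem false_of_index (M : Minimal G t a)
    (hord : Nat.card G * Nat.card ↥(oddPart t ⊓ centralizer {a}) ^ 2 ≤
      60 * Nat.card ↥(oddPart t) ^ 3)
    (hgen : oddPart t ≤ closure {z | z ∈ oddPart t ∧ a * z * a⁻¹ = z⁻¹})
    (hH : H ≠ ⊤) (hV : four t a ≤ H)
    (hker : ∀ c ∈ oddPart t, c ∈ H → Commute c x)
    (hDx : ∀ d ∈ oddPart t, Commute a d → Commute d x)
    (hstab : ∀ c ∈ oddPart t, c ∉ H → ∃ z ∈ T, z ≠ 1 ∧ z ∈ closure {x, c * x * c⁻¹})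
    (hidx : (oddPart t ⊓ H).relIndex (oddPart t) ≤ r) : False := by
  have hxO : x ∈ oddPart t := L.le_oddPart L.x_mem
  have hne := not_oddPart_le hgen L.rot hxO L.x_fix L.x_ne
  have hT : T ≠ ⊥ := fun h => L.y_ne (mem_bot.1 (h ▸ L.y_mem_T))
  have hax : Commute a x := mul_inv_eq_iff_eq_mul.1 L.x_fix
  have hxH : x ∈ oddPart t ⊓ H := ⟨hxO, L.cent_le x (Commute.refl x)⟩
  have hxc : x ∈ core H :=
    L.rot.mem_core hT x hxH hax fun s hs => (hker s (L.rot.le hs).1 (L.rot.le hs).2).symm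
  have hlt := M.card_lt_relIndex hord hH hV L.rot hT
    (fun d hd => L.cent_le d (hDx d hd.1 (mem_centralizer_singleton_iff.1 hd.2).symm))
    hxc hstab hne
  have h1 : r ≤ Nat.card ↥T := L.order_y ▸
    Nat.le_of_dvd Nat.card_pos (Subgroup.orderOf_dvd_natCard T L.y_mem_T)
  omega

end Line

/-- The elements of an `a`-invariant elementary abelian subgroup of odd exponent split into a fixed
and an inverted part. -/
theorem Setting.exists_fix_inv (S : Setting G t a) {r : ℕ} (hr : Odd r) {Y : Subgroup G}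
    (helem : ∀ y ∈ Y, y ^ r = 1) (hab : ∀ y ∈ Y, ∀ z ∈ Y, Commute y z)
    (haY : ∀ y ∈ Y, a * y * a⁻¹ ∈ Y) {w : G} (hw : w ∈ Y) :
    ∃ p ∈ Y, ∃ q ∈ Y, a * p * a⁻¹ = p ∧ a * q * a⁻¹ = q⁻¹ ∧ w = p * q := by
  have haconj : ∀ z, a * (a * z * a⁻¹) * a⁻¹ = z := fun z => by
    rw [S.a_inv, show a * (a * z * a) * a = (a * a) * z * (a * a) by group, S.a_mul_self, one_mul,
      mul_one]
  obtain ⟨k, hk⟩ := hr
  set w' := a * w * a⁻¹ with hw'
  have hw'Y : w' ∈ Y := haY w hw
  have hww : Commute w w' := hab w hw w' hw'Y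
  refine ⟨(w * w') ^ (k + 1), pow_mem (mul_mem hw hw'Y) _, (w * w'⁻¹) ^ (k + 1),
    pow_mem (mul_mem hw (inv_mem hw'Y)) _, ?_, ?_, ?_⟩
  · rw [← conj_pow]
    congr 1
    calc a * (w * w') * a⁻¹ = (a * w * a⁻¹) * (a * w' * a⁻¹) := by group
      _ = w * w' := by rw [← hw', hw', haconj, ← hw', hww.eq]
  · rw [← conj_pow, ← inv_pow]
    congr 1
    calc a * (w * w'⁻¹) * a⁻¹ = (a * w * a⁻¹) * (a * w' * a⁻¹)⁻¹ := by group
      _ = w' * w⁻¹ := by rw [← hw', hw', haconj]
      _ = (w * w'⁻¹)⁻¹ := by group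
  · have hc : Commute (w * w') (w * w'⁻¹) :=
      hab _ (mul_mem hw hw'Y) _ (mul_mem hw (inv_mem hw'Y))
    rw [← hc.mul_pow, show w * w' * (w * w'⁻¹) = w * w by
      rw [← mul_assoc, mul_assoc w w' w, ← hww.eq, ← mul_assoc, mul_inv_cancel_right],
      ← pow_two, ← pow_mul, show 2 * (k + 1) = (2 * k + 1) + 1 by ring, pow_succ, ← hk,
      helem w hw, one_mul]

/-- The inverted elements of an elementary abelian subgroup inside a cyclic group lie on a line. -/
theorem mem_zpowers_of_pow_eq_one {r : ℕ} (hr : r.Prime) {T : Subgroup G} (hT : IsCyclic ↥T)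
    {y q : G} (hy : orderOf y = r) (hyT : y ∈ T) (hqT : q ∈ T) (hq : q ^ r = 1) :
    q ∈ zpowers y := by
  classical
  haveI := hT
  haveI := Fintype.ofFinite ↥T
  have hle := IsCyclic.card_pow_eq_one_le (α := T) (n := r) hr.pos
  have hsub : (Finset.univ.filter fun z : T => (z : G) ∈ zpowers y) ⊆
      Finset.univ.filter fun z : T => z ^ r = 1 := fun z hz => by
    obtain ⟨i, hi⟩ := mem_zpowers_iff.1 (Finset.mem_filter.1 hz).2
    refine Finset.mem_filter.2 ⟨Finset.mem_univ _, Subtype.ext ?_⟩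
    rw [Subgroup.coe_pow, ← hi, ← zpow_natCast, ← zpow_mul, mul_comm, zpow_mul, zpow_natCast,
      ← hy, pow_orderOf_eq_one, one_zpow]
    rfl
  have hcard : r ≤ (Finset.univ.filter fun z : T => (z : G) ∈ zpowers y).card := by
    rw [← Fintype.card_subtype, ← Nat.card_eq_fintype_card, ← hy, ← Nat.card_zpowers]
    refine Nat.card_le_card_of_injective (fun z => ⟨⟨z, zpowers_le.2 hyT z.2⟩, z.2⟩) ?_
    intro z z' e
    exact Subtype.ext (congrArg (fun w : { z : T // (z : G) ∈ zpowers y } => ((w : T) : G)) e)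
  have heq := Finset.eq_of_subset_of_card_le hsub (hle.trans hcard)
  have hmem : (⟨q, hqT⟩ : T) ∈ Finset.univ.filter fun z : T => z ^ r = 1 :=
    Finset.mem_filter.2 ⟨Finset.mem_univ _, Subtype.ext hq⟩
  rw [← heq] at hmem
  exact (Finset.mem_filter.1 hmem).2

end CfsgLib.GWKlein
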