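import Cfsg.Agent.Lib.GWKlein.Basic

/-!
# Reduction of the Klein four theorem to simple groups

A self-centralising four-group passes to the subgroups containing it and to the quotient by the
largest normal subgroup of odd order, so `Single t a ⊤` has only to be proved for non-abelian simple
groups all whose proper subgroups containing the four-group satisfy it.
-/

set_option autoImplicit false
set_option linter.unusedSectionVars false
set_option linter.style.haveILetI false

namespace CfsgLib.GWKlein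

open Subgroup

variable {G : Type*} [Group G]

theorem core_top [Finite G] : core (⊤ : Subgroup G) = Cfsg.pPrimeCore 2 G := by
  haveI : (core (⊤ : Subgroup G)).Normal := normalizer_eq_top_iff.1 (top_le_iff.1
    (le_trans le_normalizer (le_normalizer_core (⊤ : Subgroup G))))
  exact le_antisymm
    (CfsgLib.Solvable.Cores.le_pPrimeCore (Nat.coprime_two_right.2 (odd_card_core _)))
    (le_core le_top (Nat.coprime_two_right.1 (CfsgLib.Solvable.Cores.coprime_card_pPrimeCore 2))
      (fun _ _ => by rw [normalizer_eq_top_iff.2 inferInstance]; exact mem_top _))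

/-- If `c` centralises the involution `t` modulo a normal subgroup of odd order, a power of
`c * t * c⁻¹ * t` corrects it. -/
theorem exists_correct [Finite G] {K : Subgroup G} (hK : Odd (Nat.card K)) {t c : G} (ht : t * t = 1)
    (hc : c * t * c⁻¹ * t ∈ K) : ∃ m : ℕ, Commute t (((c * t * c⁻¹ * t) ^ m)⁻¹ * c) := by
  obtain ⟨j, hj⟩ := odd_orderOf hK hc
  set k := c * t * c⁻¹ * t with hk
  refine ⟨j + 1, ?_⟩
  have htinv : t⁻¹ = t := inv_eq_of_mul_eq_one_right ht
  have hkt : t * k * t⁻¹ = k⁻¹ := by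
    rw [hk, mul_inv_rev, mul_inv_rev, mul_inv_rev, inv_inv, htinv]
    simp only [mul_assoc]
    rw [show t * t = 1 from ht, mul_one]
  set s := k ^ (j + 1) with hs
  have hss : s * s = k := by
    rw [hs, ← pow_add, show j + 1 + (j + 1) = 2 * j + 1 + 1 by omega, pow_succ, ← hj, pow_orderOf_eq_one,
      one_mul]
  have hst : t * s * t⁻¹ = s⁻¹ := by rw [hs, ← inv_pow, ← hkt, conj_pow]
  have e : c * t * c⁻¹ = s * t * s⁻¹ := by
    have h1 : c * t * c⁻¹ = k * t := by rw [hk, mul_assoc _ t t, ht, mul_one]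
    rw [h1, ← hss]
    rw [← hst, htinv, show s * t * (t * s * t) = s * (t * t) * s * t by group, ht, mul_one]
  refine (show (s⁻¹ * c) * t * (s⁻¹ * c)⁻¹ = t from ?_) |> fun h => (mul_inv_eq_iff_eq_mul.1 h).symm
  calc s⁻¹ * c * t * (s⁻¹ * c)⁻¹ = s⁻¹ * (c * t * c⁻¹) * s := by group
    _ = t := by rw [e]; group

namespace Setting

variable {t a : G} (S : Setting G t a)
include S

/-- The four-group is its own centraliser. -/
theorem centralizer_four_le [Finite G] (hD : SelfCent t a) {c : G} (ht : Commute t c) (ha : Commute a c) :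
    c ∈ four t a := by
  haveI : Fact (Nat.Prime 2) := ⟨Nat.prime_two⟩
  obtain ⟨P, hP⟩ := S.exists_sylow
  obtain ⟨k, m, hm, hn⟩ := Nat.exists_eq_two_pow_mul_odd (orderOf_pos c).ne'
  have hodd : Odd (orderOf (c ^ 2 ^ k)) := by
    rw [orderOf_pow_of_dvd (pow_ne_zero _ two_ne_zero) (hn ▸ dvd_mul_right _ m), hn,
      Nat.mul_div_cancel_left _ (pow_pos two_pos _)]
    exact hm
  have h2 : c ^ 2 ^ k = 1 := hD _ hodd (ht.pow_right _) (ha.pow_right _)
  have h2' : IsPGroup 2 (zpowers c) := by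
    obtain ⟨i, -, hi⟩ := (Nat.dvd_prime_pow Nat.prime_two).1 (orderOf_dvd_of_pow_eq_one h2)
    exact IsPGroup.of_card (n := i) (by rw [Nat.card_zpowers, hi])
  have hcN : c ∈ normalizer (four t a : Set G) := centralizer_le_normalizer _ (S.commute_four ht ha)
  have hV2 : IsPGroup 2 ↥(four t a) := hP ▸ P.2
  have hsup : IsPGroup 2 (four t a ⊔ zpowers c : Subgroup G) :=
    hV2.to_sup_of_normal_left' h2' (zpowers_le.2 hcN)
  rw [← hP, ← P.3 hsup (hP.le.trans le_sup_left)]
  exact mem_sup_right (mem_zpowers _)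

/-- The setting in a subgroup containing the four-group. -/
theorem restrict {H : Subgroup G} (ht : t ∈ H) (ha : a ∈ H) :
    Setting ↥H ⟨t, ht⟩ ⟨a, ha⟩ :=
  ⟨by rw [Subgroup.orderOf_mk]; exact S.t2, by rw [Subgroup.orderOf_mk]; exact S.a2,
    fun e => S.ne (congrArg Subtype.val e), Subtype.ext S.comm.eq,
    fun h => S.not_eight (h.trans (card_subgroup_dvd_card H))⟩

/-- The setting modulo a normal subgroup of odd order. -/
theorem quotient [Finite G] {K : Subgroup G} [K.Normal] (hK : Odd (Nat.card K)) :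
    Setting (G ⧸ K) (t : G ⧸ K) (a : G ⧸ K) := by
  have h2 : ∀ v : G, orderOf v = 2 → v ∉ K := fun v hv h => by
    have := odd_orderOf hK h
    rw [hv] at this
    exact absurd this (by decide)
  have hord : ∀ v : G, orderOf v = 2 → orderOf (v : G ⧸ K) = 2 := fun v hv =>
    orderOf_eq_prime (by rw [← QuotientGroup.mk_pow, ← hv, pow_orderOf_eq_one, QuotientGroup.mk_one])
      (fun e => h2 v hv ((QuotientGroup.eq_one_iff v).1 e))
  refine ⟨hord t S.t2, hord a S.a2, fun e => h2 (t * a) S.ta_two ?_, ?_, fun h => S.not_eight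
    (h.trans (K.card_quotient_dvd_card))⟩
  · rw [← QuotientGroup.eq_one_iff, QuotientGroup.mk_mul, ← e, ← QuotientGroup.mk_mul, S.t_mul_self,
      QuotientGroup.mk_one]
  · show (t : G ⧸ K) * a = a * t
    rw [← QuotientGroup.mk_mul, ← QuotientGroup.mk_mul, S.comm.eq]

/-- Lifting an element centralising the image of `t`. -/
theorem exists_lift [Finite G] {K : Subgroup G} [hKn : K.Normal] (hK : Odd (Nat.card K)) {x : G}
    (hx : Commute (t : G ⧸ K) x) : ∃ c : G, Commute t c ∧ (c : G ⧸ K) = x := by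
  have hmem : x * t * x⁻¹ * t ∈ K := by
    rw [← QuotientGroup.eq_one_iff, QuotientGroup.mk_mul, QuotientGroup.mk_mul, QuotientGroup.mk_mul,
      ← hx.eq, QuotientGroup.mk_inv, mul_inv_cancel_right, ← QuotientGroup.mk_mul, S.t_mul_self,
      QuotientGroup.mk_one]
  obtain ⟨m, hm⟩ := exists_correct hK S.t_mul_self hmem
  refine ⟨_, hm, ?_⟩
  rw [QuotientGroup.mk_mul, (QuotientGroup.eq_one_iff _).2 (inv_mem (pow_mem hmem m)), one_mul]

theorem selfCent_quotient [Finite G] (hD : SelfCent t a) {K : Subgroup G} [K.Normal]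
    (hK : Odd (Nat.card K)) : SelfCent (t : G ⧸ K) (a : G ⧸ K) := by
  intro y hy hty hay
  induction y using QuotientGroup.induction_on with
  | H x =>
    obtain ⟨c, htc, hc⟩ := S.exists_lift hK hty
    rw [← hc] at hy hay ⊢
    have hmem : c * a * c⁻¹ * a ∈ K := by
      rw [← QuotientGroup.eq_one_iff, QuotientGroup.mk_mul, QuotientGroup.mk_mul, QuotientGroup.mk_mul,
        ← hay.eq, QuotientGroup.mk_inv, mul_inv_cancel_right, ← QuotientGroup.mk_mul, S.a_mul_self,
        QuotientGroup.mk_one]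
    obtain ⟨m, hm⟩ := exists_correct hK S.a_mul_self hmem
    have hkt : Commute t (c * a * c⁻¹ * a) :=
      ((htc.mul_right S.comm).mul_right htc.inv_right).mul_right S.comm
    have hc' := S.centralizer_four_le hD ((hkt.pow_right m).inv_right.mul_right htc) hm
    have e : (c : G ⧸ K) = ((((c * a * c⁻¹ * a) ^ m)⁻¹ * c : G) : G ⧸ K) := by
      rw [QuotientGroup.mk_mul, (QuotientGroup.eq_one_iff _).2 (inv_mem (pow_mem hmem m)), one_mul]
    have h2 : (c : G ⧸ K) ^ 2 = 1 := by
      rw [e, ← QuotientGroup.mk_pow, pow_two, S.four_sq hc', QuotientGroup.mk_one]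
    exact orderOf_eq_one_iff.1 ((Nat.dvd_prime Nat.prime_two).1 (orderOf_dvd_of_pow_eq_one h2) |>.resolve_right
      fun h => absurd (h ▸ hy) (by decide))

theorem oddPart_map [Finite G] {K : Subgroup G} [K.Normal] (hK : Odd (Nat.card K)) :
    oddPart (t : G ⧸ K) ≤ (oddPart t).map (QuotientGroup.mk' K) := by
  intro y hy
  obtain ⟨hodd, hcomm⟩ := (S.quotient hK).mem_oddPart.1 hy
  induction y using QuotientGroup.induction_on with
  | H x =>
    obtain ⟨c, htc, hc⟩ := S.exists_lift hK hcomm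
    obtain ⟨k, m, hm, hn⟩ := Nat.exists_eq_two_pow_mul_odd (orderOf_pos c).ne'
    have hodd' : Odd (orderOf (c ^ 2 ^ k)) := by
      rw [orderOf_pow_of_dvd (pow_ne_zero _ two_ne_zero) (hn ▸ dvd_mul_right _ m), hn,
        Nat.mul_div_cancel_left _ (pow_pos two_pos _)]
      exact hm
    obtain ⟨i, hi⟩ := exists_pow_eq_self_of_coprime (x := (x : G ⧸ K)) (n := 2 ^ k)
      (Nat.Coprime.pow_left k (Nat.coprime_two_left.2 hodd))
    exact ⟨(c ^ 2 ^ k) ^ i, pow_mem (S.mem_oddPart.2 ⟨hodd', htc.pow_right _⟩) i, by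
      rw [QuotientGroup.mk'_apply, QuotientGroup.mk_pow, QuotientGroup.mk_pow, hc]; exact hi⟩

end Setting

theorem pPrimeCore_quotient [Finite G] :
    Cfsg.pPrimeCore 2 (G ⧸ Cfsg.pPrimeCore 2 G) = ⊥ := by
  set K := Cfsg.pPrimeCore 2 G
  set L := Cfsg.pPrimeCore 2 (G ⧸ K)
  have hle : L.comap (QuotientGroup.mk' K) ≤ K := by
    refine CfsgLib.Solvable.Cores.le_pPrimeCore ?_
    have h := (L.comap (QuotientGroup.mk' K)).card_mul_index
    have hG : Nat.card K * (Nat.card L * L.index) = Nat.card G := by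
      rw [L.card_mul_index, ← K.card_mul_index, index_eq_card K]
    rw [index_comap_of_surjective _ (QuotientGroup.mk'_surjective K), ← hG, ← mul_assoc] at h
    rw [Nat.eq_of_mul_eq_mul_right (Nat.pos_of_ne_zero index_ne_zero_of_finite) h]
    exact Nat.Coprime.mul_left (CfsgLib.Solvable.Cores.coprime_card_pPrimeCore 2)
      (CfsgLib.Solvable.Cores.coprime_card_pPrimeCore 2)
  refine (eq_bot_iff_forall L).2 fun y hy => ?_
  induction y using QuotientGroup.induction_on with
  | H x => exact (QuotientGroup.eq_one_iff x).2 (hle (show x ∈ L.comap (QuotientGroup.mk' K) from hy))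

/-- The conclusion for a subgroup, from the one for the group it is. -/
theorem Single.of_restrict [Finite G] {t a : G} (S : Setting G t a) {H : Subgroup G} (ht : t ∈ H)
    (ha : a ∈ H) (h : Single (⟨t, ht⟩ : H) ⟨a, ha⟩ ⊤) : Single t a H := by
  intro p P hp hP hPH
  have hcard : Nat.card (P.subgroupOf H) = Nat.card P := Nat.card_congr (subgroupOfEquivOfLe hPH).toEquiv
  have hinv : VInv p (⟨t, ht⟩ : H) ⟨a, ha⟩ (P.subgroupOf H) := by
    refine ⟨hP.pgroup.of_equiv (subgroupOfEquivOfLe hPH).symm, hcard ▸ hP.odd,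
      (S.restrict ht ha).le_normalizer_of ?_ ?_⟩
    · exact mem_normalizer_iff.2 fun z => mem_normalizer_iff.1 (hP.le_norm S.t_mem) z
    · exact mem_normalizer_iff.2 fun z => mem_normalizer_iff.1 (hP.le_norm S.a_mem) z
  have hcore : (core (⊤ : Subgroup H)).map H.subtype ≤ core H := by
    refine le_core (map_subtype_le _) ?_ fun g hg => mem_normalizer_iff_map_conj_eq.2
      (eq_of_le_of_card_ge ?_ (card_map_of_injective (MulAut.conj g).injective).ge)
    · rw [card_map_of_injective H.subtype_injective]; exact odd_card_core _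
    · rintro _ ⟨_, ⟨y, hy, rfl⟩, rfl⟩
      exact ⟨_, core_conj_mem (⊤ : Subgroup H) (h := ⟨g, hg⟩) (le_normalizer (mem_top _)) hy, by simp⟩
  have hodd : ∀ (w : G) (hw : w ∈ H), Setting ↥H ⟨w, hw⟩ ⟨t, ht⟩ ∨ Setting ↥H ⟨w, hw⟩ ⟨a, ha⟩ →
      ∀ u : G, Setting G w u → (oddPart (⟨w, hw⟩ : H) ⊓ ⊤).map H.subtype ≤ oddPart w ⊓ H := by
    intro w hw hS' u hu
    rintro _ ⟨y, hy, rfl⟩
    have hy' : Odd (orderOf y) ∧ Commute (⟨w, hw⟩ : H) y := by
      rcases hS' with h' | h' <;> exact h'.mem_oddPart.1 hy.1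
    exact ⟨hu.mem_oddPart.2 ⟨by simpa using hy'.1, congrArg Subtype.val hy'.2⟩, y.2⟩
  have hPeq : (P.subgroupOf H).map H.subtype = P := by
    rw [subgroupOf_map_subtype, inf_eq_left.2 hPH]
  have SH := S.restrict ht ha
  rcases h p _ hp hinv le_top with h1 | h1 | h1
  · refine Or.inl (hPeq ▸ (map_mono h1).trans ?_)
    rw [Subgroup.map_sup]
    exact sup_le_sup hcore (hodd t ht (Or.inr SH) a S)
  · refine Or.inr (Or.inl (hPeq ▸ (map_mono h1).trans ?_))
    rw [Subgroup.map_sup]
    exact sup_le_sup hcore (hodd a ha (Or.inl SH.symm) t S.symm)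
  · refine Or.inr (Or.inr (hPeq ▸ (map_mono h1).trans ?_))
    rw [Subgroup.map_sup]
    exact sup_le_sup hcore (hodd (t * a) (mul_mem ht ha) (Or.inr SH.shift.symm) a S.shift.symm)

/-- The conclusion for a group, from the one for its quotient by its core. -/
theorem Single.of_quotient [Finite G] {t a : G} (S : Setting G t a)
    (h : Single (t : G ⧸ Cfsg.pPrimeCore 2 G) (a : G ⧸ Cfsg.pPrimeCore 2 G) ⊤) : Single t a ⊤ := by
  intro p P hp hP _
  set K := Cfsg.pPrimeCore 2 G with hKdef
  have hK : Odd (Nat.card K) := Nat.coprime_two_right.1 (CfsgLib.Solvable.Cores.coprime_card_pPrimeCore 2)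
  have hinv : VInv p (t : G ⧸ K) (a : G ⧸ K) (P.map (QuotientGroup.mk' K)) :=
    ⟨hP.pgroup.map _, hP.odd.of_dvd_nat (card_map_dvd _ _), (S.quotient hK).le_normalizer_of
      (le_normalizer_map _ ⟨t, hP.le_norm S.t_mem, rfl⟩) (le_normalizer_map _ ⟨a, hP.le_norm S.a_mem, rfl⟩)⟩
  have hbot : core (⊤ : Subgroup (G ⧸ K)) = ⊥ := by rw [core_top, pPrimeCore_quotient]
  have key : ∀ (w u : G), Setting G w u → P.map (QuotientGroup.mk' K) ≤ core ⊤ ⊔ oddPart (w : G ⧸ K) ⊓ ⊤ →
      P ≤ core (⊤ : Subgroup G) ⊔ oddPart w ⊓ ⊤ := by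
    intro w u hu hle
    rw [hbot, bot_sup_eq, inf_top_eq] at hle
    rw [core_top, inf_top_eq]
    intro x hx
    obtain ⟨y, hy, hyx⟩ := hu.oddPart_map hK (hle ⟨x, hx, rfl⟩)
    rw [QuotientGroup.mk'_apply, QuotientGroup.mk'_apply, QuotientGroup.eq] at hyx
    rw [sup_comm, show x = y * (y⁻¹ * x) by group]
    exact mul_mem (mem_sup_left hy) (mem_sup_right hyx)
  rcases h p _ hp hinv le_top with h1 | h1 | h1
  · exact Or.inl (key t a S h1)
  · exact Or.inr (Or.inl (key a t S.symm h1))
  · exact Or.inr (Or.inr (key (t * a) a S.shift.symm (by rwa [QuotientGroup.mk_mul])))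

/-- A group with trivial core which is not simple, or has no rotation of the four-group. -/
theorem Setting.single_of_bot [Finite G] {t a : G} (S : Setting G t a) (hD : SelfCent t a)
    (hO : Cfsg.pPrimeCore 2 G = ⊥) (h : IsSimpleGroup G → (∃ g, Rot t a g) → Single t a ⊤) :
    Single t a ⊤ := by
  have htriv : (∀ (p : ℕ) (P : Subgroup G), VInv p t a P → P = ⊥) → Single t a ⊤ := fun hall p P _ hP _ =>
    Or.inl ((hall p P hP).le.trans bot_le)
  rcases S.type_or_rot (H := ⊤) le_top with ⟨-, hodd⟩ | ⟨g, -, hg⟩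
  · exact htriv fun p P hP => (eq_bot_iff_forall P).2 fun x hx => by
      have := hodd x (mem_top x) (odd_orderOf hP.odd hx)
      rwa [core_top, hO, mem_bot] at this
  by_cases hs : IsSimpleGroup G
  · exact h hs ⟨g, hg⟩
  haveI : Nontrivial G := ⟨⟨t, 1, S.t_ne_one⟩⟩
  obtain ⟨N, hN, hN1, hN2⟩ : ∃ N : Subgroup G, N.Normal ∧ N ≠ ⊥ ∧ N ≠ ⊤ := by
    by_contra hcon
    push Not at hcon
    exact hs ⟨fun N hN => or_iff_not_imp_left.2 (hcon N hN)⟩
  haveI : Fact (Nat.Prime 2) := ⟨Nat.prime_two⟩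
  -- the four-group lies in every proper normal subgroup
  have hVN : four t a ≤ N := by
    have h2 : 2 ∣ Nat.card N := by
      by_contra h2
      exact hN1 (le_bot_iff.1 (hO ▸ CfsgLib.Solvable.Cores.le_pPrimeCore
        (Nat.coprime_two_right.2 (Nat.not_even_iff_odd.1 fun e => h2 e.two_dvd))))
    obtain ⟨u, hu⟩ := exists_prime_orderOf_dvd_card' 2 h2
    obtain ⟨P, hP⟩ := S.exists_sylow
    have hu2 : IsPGroup 2 (zpowers (u : G)) :=
      IsPGroup.of_card (n := 1) (by rw [Nat.card_zpowers, Subgroup.orderOf_coe, hu, pow_one])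
    obtain ⟨Q, hQ⟩ := hu2.exists_le_sylow
    obtain ⟨x, hx⟩ := MulAction.exists_smul_eq G Q P
    have hv : x * (u : G) * x⁻¹ ∈ four t a := by
      rw [← hP, ← hx, Sylow.coe_subgroup_smul]
      exact ⟨u, hQ (mem_zpowers _), rfl⟩
    have hvN : x * (u : G) * x⁻¹ ∈ N := hN.conj_mem _ u.2 x
    have hv1 : x * (u : G) * x⁻¹ ≠ 1 := fun e => by
      rw [conj_eq_one_iff] at e
      rw [← Subgroup.orderOf_coe, e, orderOf_one] at hu
      exact absurd hu (by decide)
    have e3 : g * (t * a) * g⁻¹ = t := by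
      rw [show g * (t * a) * g⁻¹ = g * t * g⁻¹ * (g * a * g⁻¹) by group, hg.1, hg.2, S.comm.eq,
        ← mul_assoc, S.a_mul_self, one_mul]
    have htN : t ∈ N := by
      rcases S.mem_four_iff.1 hv with e | e | e | e
      · exact absurd e hv1
      · rwa [e] at hvN
      · rw [e] at hvN
        have := hN.conj_mem _ (hN.conj_mem _ hvN g) g
        rwa [hg.2, e3] at this
      · rw [e] at hvN
        have := hN.conj_mem _ hvN g
        rwa [e3] at this
    refine (closure_le _).2 ?_
    rintro y (rfl | rfl)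
    exacts [htN, hg.1 ▸ hN.conj_mem _ htN g]
  have hcoreN : core N = ⊥ := by
    haveI : (core N).Normal := normalizer_eq_top_iff.1 (top_le_iff.1
      ((normalizer_eq_top_iff.2 hN).ge.trans (le_normalizer_core N)))
    exact le_bot_iff.1 (hO ▸ CfsgLib.Solvable.Cores.le_pPrimeCore (Nat.coprime_two_right.2 (odd_card_core _)))
  rcases S.type_or_rot hVN with ⟨hall, -⟩ | ⟨k, hkN, hk⟩
  · -- the four-group is normal
    have hNV : N = four t a := le_antisymm (fun x hx => by
      obtain ⟨y, hy, v, hv, rfl⟩ := hall x hx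
      rw [hcoreN, mem_bot] at hy
      rwa [hy, one_mul]) hVN
    refine htriv fun p P hP => (eq_bot_iff_forall P).2 fun x hx => ?_
    have hcom : ∀ v ∈ four t a, Commute v x := fun v hv => by
      have h1 : x * v * x⁻¹ * v⁻¹ ∈ four t a := mul_mem (hNV ▸ hN.conj_mem v (hNV ▸ hv) x) (inv_mem hv)
      have h2 : x * v * x⁻¹ * v⁻¹ ∈ P := by
        have h3 := (mem_normalizer_iff.1 (hP.le_norm hv) x⁻¹).1 (inv_mem hx)
        rw [show x * v * x⁻¹ * v⁻¹ = x * (v * x⁻¹ * v⁻¹) by group]
        exact mul_mem hx h3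
      have h3 : x * v * x⁻¹ * v⁻¹ = 1 := by
        have h4 : (x * v * x⁻¹ * v⁻¹) ^ 2 = 1 := by rw [pow_two]; exact S.four_sq h1
        rcases (Nat.dvd_prime Nat.prime_two).1 (orderOf_dvd_of_pow_eq_one h4) with e | e
        · exact orderOf_eq_one_iff.1 e
        · exact absurd (e ▸ odd_orderOf hP.odd h2) (by decide)
      exact (mul_inv_eq_iff_eq_mul.1 (mul_inv_eq_one.1 h3)).symm
    exact hD x (odd_orderOf hP.odd hx) (hcom t S.t_mem) (hcom a S.a_mem)
  · -- a rotation in a proper normal subgroup is impossible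
    exfalso
    apply hN2
    obtain ⟨P, hP⟩ := S.exists_sylow
    have hPN : (P : Subgroup G) ≤ N := hP ▸ hVN
    have htop := Sylow.normalizer_sup_eq_top (P.subtype hPN)
    rw [show ((P.subtype hPN : Subgroup N).map N.subtype) = four t a by
      rw [Sylow.coe_subtype, subgroupOf_map_subtype, inf_eq_left.2 hPN, hP]] at htop
    refine top_le_iff.1 (htop ▸ sup_le (fun n hn => ?_) le_rfl)
    -- fix `t` by a power of the rotation
    have key : ∀ m : G, (∀ v ∈ four t a, m * v * m⁻¹ ∈ four t a) → m * t * m⁻¹ = t → m ∈ N := fun m hm hmt =>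
      hVN (S.centralizer_four_le hD (mul_inv_eq_iff_eq_mul.1 hmt).symm
        (S.commute_of_fixed hm S.t_mem S.t_ne_one (mul_inv_eq_iff_eq_mul.1 hmt) S.a_mem).symm)
    have hkV : ∀ v ∈ four t a, k * v * k⁻¹ ∈ four t a := fun v hv => by
      rcases S.mem_four_iff.1 hv with rfl | rfl | rfl | rfl
      · simp
      · rw [hk.1]; exact S.a_mem
      · rw [hk.2]; exact S.ta_mem
      · rw [show k * (t * a) * k⁻¹ = k * t * k⁻¹ * (k * a * k⁻¹) by group, hk.1, hk.2]
        exact mul_mem S.a_mem S.ta_mem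
    have hnV : ∀ v ∈ four t a, n * v * n⁻¹ ∈ four t a := fun v hv => (mem_normalizer_iff.1 hn v).1 hv
    rcases S.mem_four_iff.1 (hnV t S.t_mem) with e | e | e | e
    · exact absurd (conj_eq_one_iff.1 e) S.t_ne_one
    · exact key n hnV e
    · -- `a ↦ t` by two more steps
      have hm : k * k * n ∈ N := by
        refine key _ (fun v hv => ?_) ?_
        · rw [show k * k * n * v * (k * k * n)⁻¹ = k * (k * (n * v * n⁻¹) * k⁻¹) * k⁻¹ by group]
          exact hkV _ (hkV _ (hnV v hv))
        · rw [show k * k * n * t * (k * k * n)⁻¹ = k * (k * (n * t * n⁻¹) * k⁻¹) * k⁻¹ by group, e, hk.2,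
            show k * (t * a) * k⁻¹ = k * t * k⁻¹ * (k * a * k⁻¹) by group, hk.1, hk.2, S.comm.eq, ← mul_assoc,
            S.a_mul_self, one_mul]
      have := mul_mem (inv_mem (mul_mem hkN hkN)) hm
      rwa [inv_mul_cancel_left] at this
    · have hm : k * n ∈ N := by
        refine key _ (fun v hv => ?_) ?_
        · rw [show k * n * v * (k * n)⁻¹ = k * (n * v * n⁻¹) * k⁻¹ by group]
          exact hkV _ (hnV v hv)
        · rw [show k * n * t * (k * n)⁻¹ = k * (n * t * n⁻¹) * k⁻¹ by group, e,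
            show k * (t * a) * k⁻¹ = k * t * k⁻¹ * (k * a * k⁻¹) by group, hk.1, hk.2, S.comm.eq, ← mul_assoc,
            S.a_mul_self, one_mul]
      have := mul_mem (inv_mem hkN) hm
      rwa [inv_mul_cancel_left] at this

/-- It is enough to treat simple groups all whose proper subgroups satisfy the conclusion. -/
theorem single_of_step.{u}
    (step : ∀ (G : Type u) [Group G] [Finite G] (t a : G), Setting G t a → SelfCent t a → IsSimpleGroup G →
      ¬ IsMulCommutative G → (∃ g, Rot t a g) →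
      (∀ H : Subgroup G, H ≠ ⊤ → four t a ≤ H → Single t a H) → Single t a ⊤) :
    ∀ (G : Type u) [Group G] [Finite G] (t a : G), Setting G t a → SelfCent t a → Single t a ⊤ := by
  suffices h : ∀ (n : ℕ) (G : Type u) [Group G] [Finite G], Nat.card G = n →
      ∀ t a : G, Setting G t a → SelfCent t a → Single t a ⊤ from
    fun G _ _ t a S hD => h _ G rfl t a S hD
  intro n
  induction n using Nat.strong_induction_on with
  | _ n ih =>
    intro G _ _ hn t a S hD
    have hsub : ∀ H : Subgroup G, H ≠ ⊤ → four t a ≤ H → Single t a H := by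
      intro H hH hVH
      refine Single.of_restrict S (hVH S.t_mem) (hVH S.a_mem) (ih _ ?_ ↥H rfl _ _
        (S.restrict _ _) fun y hy hty hay => Subtype.ext (hD y (by simpa using hy)
          (congrArg Subtype.val hty) (congrArg Subtype.val hay)))
      exact hn ▸ lt_of_le_of_ne (card_le_card_group H) fun e => hH (eq_top_of_card_eq _ e)
    by_cases hO : Cfsg.pPrimeCore 2 G = ⊥
    · refine S.single_of_bot hD hO fun hs hrot => step G t a S hD hs ?_ hrot hsub
      rintro ⟨⟨hc⟩⟩
      obtain ⟨g, hg, -⟩ := hrot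
      exact S.ne ((show g * t * g⁻¹ = t by rw [hc g t, mul_inv_cancel_right]).symm.trans hg)
    · have hodd : Odd (Nat.card (Cfsg.pPrimeCore 2 G)) :=
        Nat.coprime_two_right.1 (CfsgLib.Solvable.Cores.coprime_card_pPrimeCore 2)
      refine Single.of_quotient S (ih _ ?_ _ rfl _ _ (S.quotient hodd) (S.selfCent_quotient hD hodd))
      rw [← hn, (Cfsg.pPrimeCore 2 G).card_eq_card_quotient_mul_card_subgroup]
      exact lt_mul_of_one_lt_right Nat.card_pos (one_lt_card_iff_ne_bot _ |>.2 hO)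

end CfsgLib.GWKlein
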