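import Mathlib

/-!
# Klein four Sylow subgroup: odd groups of `2 × 2` matrices of determinant one

A group of odd order that is solvable, acts by matrices of determinant one and is generated by
elements that the diagonal reflection inverts has a commutative image.
-/

set_option autoImplicit false
set_option linter.unusedSectionVars false

namespace CfsgLib.GWKlein.ModuleMatrix

open Matrix

variable {F : Type*} [Field F]

/-- The reflection. -/
def refl2 : Matrix (Fin 2) (Fin 2) F := !![1, 0; 0, -1]

theorem refl2_conj (X : Matrix (Fin 2) (Fin 2) F) :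
    refl2 * X * refl2 = !![X 0 0, -X 0 1; -X 1 0, X 1 1] := by
  ext i j
  fin_cases i <;> fin_cases j <;> simp [refl2, Matrix.mul_apply, Fin.sum_univ_two, Matrix.vecMul, dotProduct]

/-- The inverse of a matrix of determinant one is its adjugate. -/
theorem eq_adj_of_mul_eq_one {X Y : Matrix (Fin 2) (Fin 2) F} (hX : X.det = 1) (h : X * Y = 1) :
    Y = !![X 1 1, -X 0 1; -X 1 0, X 0 0] := by
  calc Y = X.adjugate * X * Y := by rw [adjugate_mul, hX, one_smul, one_mul]
    _ = X.adjugate := by rw [mul_assoc, h, mul_one]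
    _ = _ := adjugate_fin_two X

/-- No element of odd order has trace `-2`. -/
theorem trace_ne_neg_two (h4 : (4 : F) ≠ 0) {X : Matrix (Fin 2) (Fin 2) F} {n : ℕ} (hn : Odd n)
    (hX : X ^ n = 1) (hd : X.det = 1) : X.trace ≠ -2 := by
  intro ht
  rw [det_fin_two] at hd
  rw [trace_fin_two] at ht
  set N : Matrix (Fin 2) (Fin 2) F := -X - 1 with hN
  have hNt : N 0 0 + N 1 1 = 0 := by
    simp only [hN, Matrix.sub_apply, Matrix.neg_apply, Matrix.one_apply_eq]
    linear_combination -ht
  have hN2 : N * N = 0 := by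
    ext i j
    fin_cases i <;> fin_cases j <;>
      simp [hN, Matrix.mul_apply, Fin.sum_univ_two]
    · linear_combination (X 0 0) * ht - hd + ht - ht
    · linear_combination (X 0 1) * ht
    · linear_combination (X 1 0) * ht
    · linear_combination (X 1 1) * ht - hd
  have hpow : ∀ k : ℕ, (1 + N) ^ k = 1 + (k : F) • N := by
    intro k
    induction k with
    | zero => simp
    | succ k ih =>
      rw [pow_succ, ih, mul_add, mul_one, add_mul, one_mul, smul_mul_assoc, hN2, smul_zero,
        add_zero, Nat.cast_succ, add_smul, one_smul, add_assoc]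
  have hX' : X = -(1 + N) := by rw [hN]; abel
  rw [hX', hn.neg_pow, hpow] at hX
  have h00 := congrFun (congrFun hX 0) 0
  have h11 := congrFun (congrFun hX 1) 1
  simp only [Matrix.neg_apply, Matrix.add_apply, Matrix.smul_apply, Matrix.one_apply_eq,
    smul_eq_mul] at h00 h11
  refine h4 ?_
  linear_combination -h00 - h11 - (n : F) * hNt

/-- The commutant of a nonscalar matrix. -/
theorem exists_coeff {m X : Matrix (Fin 2) (Fin 2) F}
    (hm : m 0 1 ≠ 0 ∨ m 1 0 ≠ 0 ∨ m 0 0 ≠ m 1 1) (h : X * m = m * X) :
    ∃ u v : F, X 0 0 = u + v * m 0 0 ∧ X 0 1 = v * m 0 1 ∧ X 1 0 = v * m 1 0 ∧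
      X 1 1 = u + v * m 1 1 := by
  have e00 := congrFun (congrFun h 0) 0
  have e01 := congrFun (congrFun h 0) 1
  have e10 := congrFun (congrFun h 1) 0
  simp only [Matrix.mul_apply, Fin.sum_univ_two] at e00 e01 e10
  by_cases h01 : m 0 1 = 0
  · by_cases h10 : m 1 0 = 0
    · have hd : m 0 0 - m 1 1 ≠ 0 := sub_ne_zero.2 (by tauto)
      have x01 : X 0 1 = 0 := by
        have : X 0 1 * (m 0 0 - m 1 1) = 0 := by
          rw [h01] at e01
          linear_combination -e01
        exact (mul_eq_zero.1 this).resolve_right hd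
      have x10 : X 1 0 = 0 := by
        have : X 1 0 * (m 0 0 - m 1 1) = 0 := by
          rw [h10] at e10
          linear_combination e10
        exact (mul_eq_zero.1 this).resolve_right hd
      refine ⟨X 0 0 - (X 0 0 - X 1 1) / (m 0 0 - m 1 1) * m 0 0,
        (X 0 0 - X 1 1) / (m 0 0 - m 1 1), by ring, by rw [x01, h01, mul_zero],
        by rw [x10, h10, mul_zero], ?_⟩
      field_simp
      ring
    · refine ⟨X 0 0 - X 1 0 / m 1 0 * m 0 0, X 1 0 / m 1 0, by ring, ?_, by field_simp, ?_⟩
      · field_simp
        linear_combination e00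
      · field_simp
        linear_combination e10
  · refine ⟨X 0 0 - X 0 1 / m 0 1 * m 0 0, X 0 1 / m 0 1, by ring, by field_simp, ?_, ?_⟩
    · field_simp
      linear_combination -e00
    · field_simp
      linear_combination -e01

/-- Two matrices in the commutant of a nonscalar matrix commute. -/
theorem comm_of_coeff {m X Y : Matrix (Fin 2) (Fin 2) F}
    (hm : m 0 1 ≠ 0 ∨ m 1 0 ≠ 0 ∨ m 0 0 ≠ m 1 1) (hX : X * m = m * X) (hY : Y * m = m * Y) :
    X * Y = Y * X := by
  obtain ⟨u, v, a1, a2, a3, a4⟩ := exists_coeff hm hX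
  obtain ⟨u', v', b1, b2, b3, b4⟩ := exists_coeff hm hY
  ext i j
  fin_cases i <;> fin_cases j <;>
    simp [Matrix.mul_apply, Fin.sum_univ_two, a1, a2, a3, a4, b1, b2, b3, b4] <;> ring

variable {O : Type*} [Group O] (M : O →* Matrix (Fin 2) (Fin 2) F)

theorem map_inv_eq_adj (hdet : ∀ c, (M c).det = 1) (c : O) :
    M c⁻¹ = !![M c 1 1, -M c 0 1; -M c 1 0, M c 0 0] :=
  eq_adj_of_mul_eq_one (hdet c) (by rw [← map_mul, mul_inv_cancel, map_one])

/-- The elements whose image commutes with a given one. -/
def commutantSub (m : O) : Subgroup O :=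
  (Subgroup.centralizer {M.toHomUnits m}).comap M.toHomUnits

theorem mem_commutantSub {m c : O} : c ∈ commutantSub M m ↔ M c * M m = M m * M c := by
  rw [commutantSub, Subgroup.mem_comap, Subgroup.mem_centralizer_singleton_iff, Units.ext_iff]
  simp [MonoidHom.coe_toHomUnits]

theorem comm_of_generators {s : Set O} (hs : Subgroup.closure s = ⊤)
    (h : ∀ c ∈ s, ∀ d ∈ s, M c * M d = M d * M c) (c d : O) : M c * M d = M d * M c := by
  have h1 : ∀ e ∈ s, commutantSub M e = ⊤ := fun e he => top_le_iff.1 <| hs ▸
    (Subgroup.closure_le _).2 fun q hq => (mem_commutantSub M).2 (h q hq e he)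
  have h2 : commutantSub M d = ⊤ := top_le_iff.1 <| hs ▸
    (Subgroup.closure_le _).2 fun e he => (mem_commutantSub M).2
      (((mem_commutantSub M).1 (h1 e he ▸ Subgroup.mem_top d)).symm)
  exact (mem_commutantSub M).1 (h2 ▸ Subgroup.mem_top c)

variable [Finite O]

/-- A unipotent element forces a triangular image. -/
theorem triangular_generators_comm (h4 : (4 : F) ≠ 0) (hodd : Odd (Nat.card O))
    (hdet : ∀ c, (M c).det = 1) (σ : O →* O) (hσ : ∀ c, M (σ c) = refl2 * M c * refl2)
    (htri : (∀ c, M c 1 0 = 0) ∨ (∀ c, M c 0 1 = 0)) {c d : O} (hc : σ c = c⁻¹) (hd : σ d = d⁻¹) :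
    M c * M d = M d * M c := by
  have key : ∀ e : O, σ e = e⁻¹ → M e 0 0 = 1 ∧ M e 1 1 = 1 := by
    intro e he
    have h1 := hσ e
    rw [he, refl2_conj, map_inv_eq_adj M hdet] at h1
    have h00 : M e 1 1 = M e 0 0 := by simpa using congrFun (congrFun h1 0) 0
    have hdd := hdet e
    rw [det_fin_two, h00] at hdd
    have h01 : M e 0 1 * M e 1 0 = 0 := by
      rcases htri with h | h <;> simp [h e]
    have hsq : (M e 0 0 - 1) * (M e 0 0 + 1) = 0 := by linear_combination hdd + h01
    rcases mul_eq_zero.1 hsq with h | h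
    · exact ⟨sub_eq_zero.1 h, h00.trans (sub_eq_zero.1 h)⟩
    · refine absurd ?_ (trace_ne_neg_two h4 hodd
        (show M e ^ Nat.card O = 1 by rw [← map_pow, pow_card_eq_one', map_one]) (hdet e))
      rw [trace_fin_two, h00]
      linear_combination 2 * h
  obtain ⟨c0, c1⟩ := key c hc
  obtain ⟨d0, d1⟩ := key d hd
  ext i j
  fin_cases i <;> fin_cases j <;> rcases htri with h | h <;>
    simp [Matrix.mul_apply, Fin.sum_univ_two, c0, c1, d0, d1, h c, h d, add_comm]

/-- Either the image is commutative or some non-trivial image commutes with all its conjugates. -/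
theorem comm_or_exists_normal_abelian [Group.IsSolvable O] :
    (∀ c d, M c * M d = M d * M c) ∨
      ∃ m, M m ≠ 1 ∧ ∀ g, M (g * m * g⁻¹) * M m = M m * M (g * m * g⁻¹) := by
  classical
  have hex : ∃ k, ∀ m ∈ derivedSeries O k, M m = 1 := by
    obtain ⟨k, hk⟩ := Group.IsSolvable.solvable (G := O)
    exact ⟨k, fun m hm => by rw [hk, Subgroup.mem_bot] at hm; rw [hm, map_one]⟩
  obtain hk := Nat.find_spec hex
  rcases hk0 : Nat.find hex with _ | k
  · rw [hk0] at hk
    exact Or.inl fun c d => by simp [hk c (by simp), hk d (by simp)]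
  rw [hk0] at hk
  have hmin := Nat.find_min hex (show k < Nat.find hex by omega)
  push Not at hmin
  obtain ⟨m, hm, hm1⟩ := hmin
  have hconj : ∀ g, M (g * m * g⁻¹) * M m = M m * M (g * m * g⁻¹) := by
    intro g
    have hgm : g * m * g⁻¹ ∈ derivedSeries O k := (derivedSeries_normal O k).conj_mem m hm g
    have hc := hk ((g * m * g⁻¹) * m * (g * m * g⁻¹)⁻¹ * m⁻¹) (by rw [derivedSeries_succ, ← commutatorElement_def]; exact Subgroup.commutator_mem_commutator hgm hm)
    rw [map_mul, map_mul, map_mul] at hc
    calc M (g * m * g⁻¹) * M m = M (g * m * g⁻¹) * M m * M (g * m * g⁻¹)⁻¹ *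
          (M m⁻¹ * M m) * M (g * m * g⁻¹) := by
            rw [← map_mul M m⁻¹, inv_mul_cancel, map_one, mul_one, mul_assoc _ _ (M (g * m * g⁻¹)),
              ← map_mul M _ (g * m * g⁻¹), inv_mul_cancel, map_one, mul_one]
      _ = (M (g * m * g⁻¹) * M m * M (g * m * g⁻¹)⁻¹ * M m⁻¹) * (M m * M (g * m * g⁻¹)) := by
            simp only [mul_assoc]
      _ = _ := by rw [hc, one_mul]
  exact Or.inr ⟨m, hm1, hconj⟩

/-- An image other than `1` of an element of odd order is not scalar. -/
theorem nonscalar (h4 : (4 : F) ≠ 0) (hodd : Odd (Nat.card O)) (hdet : ∀ c, (M c).det = 1) {m : O}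
    (hm1 : M m ≠ 1) : M m 0 1 ≠ 0 ∨ M m 1 0 ≠ 0 ∨ M m 0 0 ≠ M m 1 1 := by
  have hpow : M m ^ Nat.card O = 1 := by rw [← map_pow, pow_card_eq_one', map_one]
  have hdm := hdet m
  rw [det_fin_two] at hdm
  have hτ2 := trace_ne_neg_two h4 hodd hpow (hdet m)
  rw [trace_fin_two] at hτ2
  have h2 : (2 : F) ≠ 0 := fun h => h4 (by linear_combination 2 * h)
  by_contra! hall
  obtain ⟨e1, e2, e3⟩ := hall
  rw [e1, zero_mul, sub_zero, ← e3] at hdm
  have : (M m 0 0 - 1) * (M m 0 0 + 1) = 0 := by linear_combination hdm
  rcases mul_eq_zero.1 this with h | h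
  · refine hm1 ?_
    ext i j
    fin_cases i <;> fin_cases j <;> simp [e1, e2, ← e3, sub_eq_zero.1 h]
  · exact hτ2 (by rw [← e3]; linear_combination 2 * h)

/-- A non-scalar image of trace other than `2` commuting with its conjugates makes the image
commutative. -/
theorem comm_of_semisimple (h4 : (4 : F) ≠ 0) (hodd : Odd (Nat.card O))
    (hdet : ∀ c, (M c).det = 1) {m : O} (hτ : M m 0 0 + M m 1 1 ≠ 2)
    (hns : M m 0 1 ≠ 0 ∨ M m 1 0 ≠ 0 ∨ M m 0 0 ≠ M m 1 1)
    (hconj : ∀ g, M (g * m * g⁻¹) * M m = M m * M (g * m * g⁻¹)) (c d : O) :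
    M c * M d = M d * M c := by
  have htr : ∀ g, (M (g * m * g⁻¹)).trace = (M m).trace := fun g => by
    rw [map_mul, map_mul, trace_mul_cycle, ← map_mul, inv_mul_cancel, map_one, one_mul]
  have hdm := hdet m
  rw [det_fin_two] at hdm
  have hτ2 := trace_ne_neg_two h4 hodd
    (show M m ^ Nat.card O = 1 by rw [← map_pow, pow_card_eq_one', map_one]) (hdet m)
  rw [trace_fin_two] at hτ2
  have h2 : (2 : F) ≠ 0 := fun h => h4 (by linear_combination 2 * h)
  have hall : ∀ g, g ∈ commutantSub M m := by
    intro g
    have hsq : ∀ g, g * g ∈ commutantSub M m := by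
      intro g
      have hchoice : ∀ g, M (g * m * g⁻¹) = M m ∨ M (g * m * g⁻¹) = M m⁻¹ := by
        intro g
        obtain ⟨u, v, a1, a2, a3, a4⟩ := exists_coeff (m := M m) hns (hconj g)
        have ht := htr g
        rw [trace_fin_two, trace_fin_two, a1, a4] at ht
        have hdg := hdet (g * m * g⁻¹)
        rw [det_fin_two, a1, a2, a3, a4] at hdg
        set τ := M m 0 0 + M m 1 1 with hτdef
        have hu : 2 * u = (1 - v) * τ := by rw [hτdef]; linear_combination ht
        have hq : (1 - v) * (1 + v) * ((τ - 2) * (τ + 2)) = 0 := by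
          rw [hτdef] at hu ⊢
          linear_combination 4 * hdg - 4 * v * v * hdm -
            (2 * u + (1 - v) * (M m 0 0 + M m 1 1) + 2 * v * (M m 0 0 + M m 1 1)) * hu
        have hne : (τ - 2) * (τ + 2) ≠ 0 :=
          mul_ne_zero (sub_ne_zero.2 hτ) fun h => hτ2 (by linear_combination h)
        rcases mul_eq_zero.1 ((mul_eq_zero.1 hq).resolve_right hne) with h | h
        · left
          have hv : v = 1 := by linear_combination -h
          have hu0 : u = 0 := by
            rw [hv, sub_self, zero_mul] at hu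
            exact (mul_eq_zero.1 hu).resolve_left h2
          ext i j
          fin_cases i <;> fin_cases j <;> simp [a1, a2, a3, a4, hv, hu0]
        · right
          have hv : v = -1 := by linear_combination h
          have hu0 : u = τ := by
            refine mul_left_cancel₀ h2 ?_
            rw [hu, hv]; ring
          rw [map_inv_eq_adj M hdet]
          ext i j
          fin_cases i <;> fin_cases j <;> simp [a1, a2, a3, a4, hv, hu0, hτdef]
      rw [mem_commutantSub]
      have e : M (g * g) * M m = M (g * g * m * (g * g)⁻¹) * M (g * g) := by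
        rw [← map_mul, ← map_mul]; congr 1; group
      rw [e]
      congr 1
      rcases hchoice g with h | h
      · rw [show g * g * m * (g * g)⁻¹ = g * (g * m * g⁻¹) * g⁻¹ by group, map_mul, map_mul, h,
          ← map_mul, ← map_mul, h]
      · rw [show g * g * m * (g * g)⁻¹ = g * (g * m * g⁻¹) * g⁻¹ by group, map_mul, map_mul, h,
          ← map_mul, ← map_mul]
        have h8 : M (g * m⁻¹ * g⁻¹) * M (g * m * g⁻¹) = 1 := by
          rw [← map_mul, show g * m⁻¹ * g⁻¹ * (g * m * g⁻¹) = 1 by group, map_one]
        calc M (g * m⁻¹ * g⁻¹) = M (g * m⁻¹ * g⁻¹) * (M m⁻¹ * M m) := by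
              rw [← map_mul M m⁻¹, inv_mul_cancel, map_one, mul_one]
          _ = M (g * m⁻¹ * g⁻¹) * M (g * m * g⁻¹) * M m := by rw [← mul_assoc, h]
          _ = M m := by rw [h8, one_mul]
    obtain ⟨k, hk'⟩ := hodd
    have h9 : g = (g * g) ^ (k + 1) := by
      rw [← pow_two, ← pow_mul, show 2 * (k + 1) = (2 * k + 1) + 1 by ring, pow_succ, ← hk',
        pow_card_eq_one', one_mul]
    rw [h9]
    exact pow_mem (hsq g) _
  exact comm_of_coeff hns ((mem_commutantSub M).1 (hall c)) ((mem_commutantSub M).1 (hall d))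

/-- An odd solvable group of such matrices generated by inverted elements is commutative. -/
theorem image_comm (h4 : (4 : F) ≠ 0) (hodd : Odd (Nat.card O)) [Group.IsSolvable O]
    (hdet : ∀ c, (M c).det = 1) (σ : O →* O) (hσ : ∀ c, M (σ c) = refl2 * M c * refl2)
    (hgen : Subgroup.closure {c | σ c = c⁻¹} = ⊤) (c d : O) : M c * M d = M d * M c := by
  obtain h | ⟨m, hm1, hconj⟩ := comm_or_exists_normal_abelian M
  · exact h c d
  have htr : ∀ g, (M (g * m * g⁻¹)).trace = (M m).trace := fun g => by
    rw [map_mul, map_mul, trace_mul_cycle, ← map_mul, inv_mul_cancel, map_one, one_mul]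
  have hpow : M m ^ Nat.card O = 1 := by rw [← map_pow, pow_card_eq_one', map_one]
  have hdm := hdet m
  rw [det_fin_two] at hdm
  have hτ2 := trace_ne_neg_two h4 hodd hpow (hdet m)
  rw [trace_fin_two] at hτ2
  have h2 : (2 : F) ≠ 0 := fun h => h4 (by linear_combination 2 * h)
  have hns := nonscalar M h4 hodd hdet hm1
  by_cases hτ : M m 0 0 + M m 1 1 = 2
  · -- unipotent
    set α := M m 0 0 - 1 with hα
    set β := M m 0 1
    set γ := M m 1 0
    have h11 : M m 1 1 = 1 - α := by rw [hα]; linear_combination hτ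
    have h00 : M m 0 0 = 1 + α := by rw [hα]; ring
    have hnil : α * α + β * γ = 0 := by
      rw [h00, h11] at hdm; linear_combination -hdm
    -- each element multiplies the nilpotent part by a scalar
    have hscal : ∀ g, ∃ v : F, v ≠ 0 ∧
        M g * !![α, β; γ, -α] = v • (!![α, β; γ, -α] * M g) := by
      intro g
      obtain ⟨u, v, a1, a2, a3, a4⟩ := exists_coeff (m := M m) hns (hconj g)
      have ht := htr g
      rw [trace_fin_two, trace_fin_two, a1, a4, h00, h11] at ht
      have huv : u = 1 - v := by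
        have : 2 * (u + v - 1) = 0 := by linear_combination ht
        linear_combination (mul_eq_zero.1 this).resolve_left h2
      have hN : M (g * m * g⁻¹) = 1 + v • !![α, β; γ, -α] := by
        ext i j
        fin_cases i <;> fin_cases j <;> simp [a1, a2, a3, a4, h00, h11, huv, β, γ] <;> ring
      have hmN : M m = 1 + !![α, β; γ, -α] := by
        ext i j
        fin_cases i <;> fin_cases j <;> simp [h00, h11, β, γ] <;> ring
      refine ⟨v, fun hv => hm1 ?_, ?_⟩
      · rw [hv, zero_smul, add_zero] at hN
        have h5 := congrArg (fun X => M g⁻¹ * X * M g) hN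
        rw [← map_mul, ← map_mul, mul_one, ← map_mul,
          show g⁻¹ * (g * m * g⁻¹) * g = m by group, inv_mul_cancel, map_one] at h5
        exact h5
      · have h6 : M g * M m = M (g * m * g⁻¹) * M g := by
          rw [← map_mul, ← map_mul]; congr 1; group
        rw [hmN, hN, mul_add, add_mul, mul_one, one_mul, add_right_inj, smul_mul_assoc] at h6
        exact h6
    -- the nilpotent part is fixed up to scalar by the reflection
    have hα0 : α = 0 := by
      obtain ⟨v, hv0, hv⟩ := hscal (σ m)
      rw [hσ, refl2_conj] at hv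
      have e00 := congrFun (congrFun hv 0) 0
      have e01 := congrFun (congrFun hv 0) 1
      have e11 := congrFun (congrFun hv 1) 1
      simp [Matrix.mul_apply, Fin.sum_univ_two, h00, h11, β, γ] at e00 e01 e11
      have hsum : 4 * (α * α) * (1 - v) = 0 := by
        linear_combination e00 + e11 + 2 * (1 - v) * hnil
      rcases mul_eq_zero.1 hsum with h | h
      · exact mul_self_eq_zero.1 ((mul_eq_zero.1 h).resolve_left h4)
      · have hv1 : v = 1 := by linear_combination -h
        rw [hv1] at e01
        have h7 : 4 * (α * β) = 0 := by linear_combination e01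
        rcases mul_eq_zero.1 ((mul_eq_zero.1 h7).resolve_left h4) with h' | h'
        · exact h'
        · rw [h', zero_mul, add_zero] at hnil
          exact mul_self_eq_zero.1 hnil
    have hβγ : β * γ = 0 := by rw [hα0, zero_mul, zero_add] at hnil; exact hnil
    have htri : (∀ c, M c 1 0 = 0) ∨ (∀ c, M c 0 1 = 0) := by
      by_cases hγ : γ = 0
      · have hβ : β ≠ 0 := by
          rcases hns with h | h | h
          · exact h
          · exact absurd hγ h
          · exact absurd (by rw [h00, h11, hα0]; ring) h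
        refine Or.inl fun e => ?_
        obtain ⟨v, hv0, hv⟩ := hscal e
        have := congrFun (congrFun hv 0) 0
        simp [Matrix.mul_apply, Fin.sum_univ_two, Matrix.vecMul, dotProduct, hα0, hγ, hv0, hβ] at this
        exact this
      · have hβ : β = 0 := (mul_eq_zero.1 hβγ).resolve_right hγ
        refine Or.inr fun e => ?_
        obtain ⟨v, hv0, hv⟩ := hscal e
        have := congrFun (congrFun hv 1) 1
        simp [Matrix.mul_apply, Fin.sum_univ_two, Matrix.vecMul, dotProduct, hα0, hβ, hv0, hγ] at this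
        exact this
    exact comm_of_generators M hgen
      (fun e he f hf => triangular_generators_comm M h4 hodd hdet σ hσ htri he hf) c d
  · exact comm_of_semisimple M h4 hodd hdet hτ hns hconj c d

/-- An odd solvable group of such matrices without unipotent elements commuting with their
conjugates is commutative. -/
theorem image_comm_of_no_unipotent (h4 : (4 : F) ≠ 0) (hodd : Odd (Nat.card O)) [Group.IsSolvable O]
    (hdet : ∀ c, (M c).det = 1)
    (huni : ∀ m, (∀ g, M (g * m * g⁻¹) * M m = M m * M (g * m * g⁻¹)) →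
      M m 0 0 + M m 1 1 = 2 → M m = 1) (c d : O) : M c * M d = M d * M c := by
  obtain h | ⟨m, hm1, hconj⟩ := comm_or_exists_normal_abelian M
  · exact h c d
  exact comm_of_semisimple M h4 hodd hdet (fun hτ => hm1 (huni m hconj hτ))
    (nonscalar M h4 hodd hdet hm1) hconj c d

end CfsgLib.GWKlein.ModuleMatrix
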