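import Cfsg.Agent.Lib.GWKlein.ModuleBasic
import Cfsg.Agent.Lib.GWKlein.ModuleMatrix

/-!
# Klein four Sylow subgroup: a moved inverted line spans a plane

If the odd part moves the line of `y`, the fixed elements of `Y` are the multiples of `x`, so `Y` is
the plane of `x` and `y` and the odd part acts on it by matrices on which `a` acts as the reflection.
-/

set_option autoImplicit false
set_option linter.unusedSectionVars false
set_option linter.style.haveILetI false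

universe u

namespace CfsgLib.GWKlein

open Subgroup

variable {G : Type u} [Group G] [Finite G] {t a : G} {r : ℕ} {Y H T : Subgroup G} {x y : G}

/-- The point with coordinates `v` in the plane of `x` and `y`. -/
def coord (r : ℕ) (x y : G) (v : ZMod r × ZMod r) : G := x ^ v.1.val * y ^ v.2.val

theorem pow_val_add [NeZero r] {z : G} (hz : z ^ r = 1) (i j : ZMod r) :
    z ^ (i + j).val = z ^ i.val * z ^ j.val := by
  rw [← pow_add, ZMod.val_add]
  exact (pow_eq_pow_mod _ hz).symm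

namespace Line

variable (L : Line t a r Y H T x y)
include L

/-- The fixed elements are the multiples of `x`. -/
theorem fixed_mem_zpowers (S : Setting G t a)
    (hgen : oddPart t ≤ closure {z | z ∈ oddPart t ∧ a * z * a⁻¹ = z⁻¹})
    (hover : ∀ v ∈ Y, Commute a v → v ≠ 1 → ∃ H T : Subgroup G, H ≠ ⊤ ∧ four t a ≤ H ∧
      centralizer {v} ≤ H ∧ RotData t a H T)
    (hmoved : ¬ ∀ c ∈ oddPart t, c * y * c⁻¹ ∈ zpowers y) :
    ∀ w ∈ Y, a * w * a⁻¹ = w → w ∈ zpowers x := by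
  by_contra! hw
  obtain ⟨w, hw, haw, hwx⟩ := hw
  refine hmoved fun c hc => ?_
  rw [(commute_of_gen hgen (fun c hc hac => ?_) hc).eq, mul_inv_cancel_right]
  · exact mem_zpowers y
  -- an inverted element centralises a fixed element of `⟨x, w⟩`
  have haconj : ∀ z, a * (a * z * a⁻¹) * a⁻¹ = z := fun z => by
    rw [S.a_inv, show a * (a * z * a) * a = (a * a) * z * (a * a) by group, S.a_mul_self, one_mul,
      mul_one]
  let P : Subgroup G :=
    { carrier := {p | p ∈ Y ∧ a * p * a⁻¹ = p}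
      one_mem' := ⟨Y.one_mem, by group⟩
      mul_mem' := fun {p q} hp hq => ⟨Y.mul_mem hp.1 hq.1, by
        rw [show a * (p * q) * a⁻¹ = (a * p * a⁻¹) * (a * q * a⁻¹) by group, hp.2, hq.2]⟩
      inv_mem' := fun {p} hp => ⟨Y.inv_mem hp.1, by
        rw [show a * p⁻¹ * a⁻¹ = (a * p * a⁻¹)⁻¹ by group, hp.2]⟩ }
  -- the inverted part of the conjugate
  let g : P → zpowers y := fun p => ⟨(c * p * c⁻¹) * (a * (c * p * c⁻¹) * a⁻¹)⁻¹,
    L.line _ (Y.mul_mem (L.conj_mem c hc _ p.2.1)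
      (Y.inv_mem (L.conj_a_mem _ (L.conj_mem c hc _ p.2.1)))) (by
      calc a * (c * p * c⁻¹ * (a * (c * p * c⁻¹) * a⁻¹)⁻¹) * a⁻¹
          = (a * (c * p * c⁻¹) * a⁻¹) * (a * (a * (c * p * c⁻¹) * a⁻¹) * a⁻¹)⁻¹ := by group
        _ = (a * (c * p * c⁻¹) * a⁻¹) * (c * p * c⁻¹)⁻¹ := by rw [haconj]
        _ = _ := by group)⟩
  have hg : ¬ Function.Injective g := by
    intro hinj
    have hlt : zpowers x < P := lt_of_le_of_ne (zpowers_le.2 ⟨L.x_mem, L.x_fix⟩)
      fun e => hwx (e ▸ (⟨hw, haw⟩ : w ∈ P))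
    have h1 := Set.ncard_lt_ncard (SetLike.coe_ssubset_coe.2 hlt) (Set.toFinite _)
    rw [← Nat.card_coe_set_eq, ← Nat.card_coe_set_eq] at h1
    have h2 := Nat.card_le_card_of_injective g hinj
    simp only [SetLike.coe_sort_coe] at h1
    rw [Nat.card_zpowers, L.order_x] at h1
    rw [Nat.card_zpowers, L.order_y] at h2
    omega
  rw [Function.Injective] at hg
  push Not at hg
  obtain ⟨⟨p, hp⟩, ⟨p', hp'⟩, he, hne'⟩ := hg
  set v := p'⁻¹ * p with hvdef
  have hvP : v ∈ P := P.mul_mem (P.inv_mem hp') hp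
  have hv1 : v ≠ 1 := fun h => hne' (Subtype.ext (inv_mul_eq_one.1 h).symm)
  have he' : (c * p * c⁻¹) * (a * (c * p * c⁻¹) * a⁻¹)⁻¹ =
      (c * p' * c⁻¹) * (a * (c * p' * c⁻¹) * a⁻¹)⁻¹ := congrArg Subtype.val he
  have hfixv : a * (c * v * c⁻¹) * a⁻¹ = c * v * c⁻¹ := by
    have e1 : (c * p' * c⁻¹)⁻¹ * (c * p * c⁻¹) =
        (a * (c * p' * c⁻¹) * a⁻¹)⁻¹ * (a * (c * p * c⁻¹) * a⁻¹) := by
      rw [inv_mul_eq_iff_eq_mul, ← mul_assoc, ← he', inv_mul_cancel_right]
    calc a * (c * v * c⁻¹) * a⁻¹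
        = (a * (c * p' * c⁻¹) * a⁻¹)⁻¹ * (a * (c * p * c⁻¹) * a⁻¹) := by rw [hvdef]; group
      _ = (c * p' * c⁻¹)⁻¹ * (c * p * c⁻¹) := e1.symm
      _ = c * v * c⁻¹ := by rw [hvdef]; group
  have hcv : Commute c v := by
    refine commute_of_mul_self (L.odd_order hc) ?_
    have h2 : c⁻¹ * v * c = c * v * c⁻¹ := by
      rw [← hfixv]
      calc c⁻¹ * v * c = (a * c * a⁻¹) * (a * v * a⁻¹) * (a * c * a⁻¹)⁻¹ := by
            rw [hac, hvP.2, inv_inv]
        _ = _ := by group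
    refine mul_inv_eq_iff_eq_mul.1 ?_
    calc c * c * v * (c * c)⁻¹ = c * (c * v * c⁻¹) * c⁻¹ := by group
      _ = v := by rw [← h2]; group
  obtain ⟨H', T', -, -, hvH, hR'⟩ := hover v hvP.1 (mul_inv_eq_iff_eq_mul.1 hvP.2) hv1
  have hcT : c ∈ T' := hR'.mem c ⟨hc, hvH (mem_centralizer_singleton_iff.2 hcv.eq)⟩ hac
  have hyT' : y ∈ T' := hR'.mem y
    ⟨L.le_oddPart L.y_mem, hvH (mem_centralizer_singleton_iff.2 (L.commute y L.y_mem v hvP.1).eq)⟩
    L.y_inv
  haveI := hR'.cyclic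
  exact congrArg Subtype.val
    ((IsCyclic.commGroup (α := T')).mul_comm ⟨c, hcT⟩ ⟨y, hyT'⟩)

theorem coord_mem (v : ZMod r × ZMod r) : coord r x y v ∈ Y :=
  Y.mul_mem (Y.pow_mem L.x_mem _) (Y.pow_mem L.y_mem _)

theorem coord_add [NeZero r] (v w : ZMod r × ZMod r) :
    coord r x y (v + w) = coord r x y v * coord r x y w := by
  have hc : Commute (y ^ v.2.val) (x ^ w.1.val) := (L.commute y L.y_mem x L.x_mem).pow_pow _ _
  show x ^ (v.1 + w.1).val * y ^ (v.2 + w.2).val = _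
  rw [pow_val_add (L.pow_eq_one x L.x_mem), pow_val_add (L.pow_eq_one y L.y_mem)]
  simp only [coord]
  rw [mul_assoc, mul_assoc, ← mul_assoc (y ^ v.2.val), hc.eq, mul_assoc]

theorem coord_inj [NeZero r] {v w : ZMod r × ZMod r} (e : coord r x y v = coord r x y w) :
    v = w := by
  have h1 : coord r x y (v - w) = 1 := by
    have h := L.coord_add (v - w) w
    rw [sub_add_cancel, e] at h
    exact mul_eq_right.1 h.symm
  set u := v - w
  have hyu : a * y ^ u.2.val * a⁻¹ = (y ^ u.2.val)⁻¹ := by rw [← conj_pow, L.y_inv, inv_pow]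
  have hxu : a * x ^ u.1.val * a⁻¹ = x ^ u.1.val := by rw [← conj_pow, L.x_fix]
  have hx0 : x ^ u.1.val = 1 := by
    refine eq_one_of_fix_inv (L.odd_order (L.le_oddPart (Y.pow_mem L.x_mem _))) hxu ?_
    have hh : x ^ u.1.val = (y ^ u.2.val)⁻¹ := eq_inv_of_mul_eq_one_left h1
    rw [hh, show a * (y ^ u.2.val)⁻¹ * a⁻¹ = (a * y ^ u.2.val * a⁻¹)⁻¹ by group, hyu]
  have hy0 : y ^ u.2.val = 1 := by
    have h := h1
    rw [coord, hx0, one_mul] at h
    exact h
  rw [← orderOf_dvd_iff_pow_eq_one, L.order_x] at hx0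
  rw [← orderOf_dvd_iff_pow_eq_one, L.order_y] at hy0
  refine sub_eq_zero.1 (Prod.ext ?_ ?_)
  · exact (ZMod.val_eq_zero _).1 (Nat.eq_zero_of_dvd_of_lt hx0 (ZMod.val_lt _))
  · exact (ZMod.val_eq_zero _).1 (Nat.eq_zero_of_dvd_of_lt hy0 (ZMod.val_lt _))

theorem coord_surj [NeZero r] (hplane : ∀ w ∈ Y, a * w * a⁻¹ = w → w ∈ zpowers x) {w : G}
    (hw : w ∈ Y) : ∃ v, coord r x y v = w := by
  have hcast : ∀ {z : G}, z ^ r = 1 → ∀ i : ℤ, z ^ (i : ZMod r).val = z ^ i := fun {z} hz i => by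
    rw [← zpow_natCast, ZMod.val_intCast]
    exact (zpow_eq_zpow_emod' i hz).symm
  obtain ⟨p, hp, q, hq, hap, haq, rfl⟩ := L.dec w hw
  obtain ⟨i, hi⟩ := mem_zpowers_iff.1 (hplane p hp hap)
  obtain ⟨j, hj⟩ := mem_zpowers_iff.1 (L.line q hq haq)
  exact ⟨((i : ZMod r), (j : ZMod r)), by
    simp only [coord, hcast (L.pow_eq_one x L.x_mem), hcast (L.pow_eq_one y L.y_mem), hi, hj]⟩

theorem coord_pow [NeZero r] (v : ZMod r × ZMod r) (k : ℕ) :
    coord r x y v ^ k = coord r x y ((k : ZMod r) * v.1, (k : ZMod r) * v.2) := by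
  induction k with
  | zero => simp [coord]
  | succ k ih =>
    rw [pow_succ, ih, ← L.coord_add]
    congr 1
    ext <;> simp [add_mul]

theorem coord_one_zero [Fact (1 < r)] : coord r x y (1, 0) = x := by simp [coord, ZMod.val_one]

theorem coord_zero_one [Fact (1 < r)] : coord r x y (0, 1) = y := by simp [coord, ZMod.val_one]

theorem coord_conj_a [NeZero r] (v : ZMod r × ZMod r) :
    a * coord r x y v * a⁻¹ = coord r x y (v.1, -v.2) := by
  have h : y ^ (-v.2).val = (y ^ v.2.val)⁻¹ := by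
    refine eq_inv_of_mul_eq_one_left ?_
    rw [← pow_val_add (L.pow_eq_one y L.y_mem), neg_add_cancel, ZMod.val_zero, pow_zero]
  show a * (x ^ v.1.val * y ^ v.2.val) * a⁻¹ = x ^ v.1.val * y ^ (-v.2).val
  rw [show a * (x ^ v.1.val * y ^ v.2.val) * a⁻¹ =
    (a * x ^ v.1.val * a⁻¹) * (a * y ^ v.2.val * a⁻¹) by group, ← conj_pow, ← conj_pow, L.x_fix,
    L.y_inv, inv_pow, h]

/-- The odd part as matrices on the plane; `a` acts on them as the reflection. -/
theorem exists_matrixHom [Fact r.Prime] (S : Setting G t a)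
    (hplane : ∀ w ∈ Y, a * w * a⁻¹ = w → w ∈ zpowers x) :
    ∃ Mh : oddPart t →* Matrix (Fin 2) (Fin 2) (ZMod r),
      (∀ c : oddPart t, (c : G) * x * (c : G)⁻¹ = coord r x y (Mh c 0 0, Mh c 1 0)) ∧
      (∀ c : oddPart t, (c : G) * y * (c : G)⁻¹ = coord r x y (Mh c 0 1, Mh c 1 1)) ∧
      ∀ c, Mh (S.conjHom c) = ModuleMatrix.refl2 * Mh c * ModuleMatrix.refl2 := by
  haveI : NeZero r := ⟨L.prime.ne_zero⟩
  haveI : Fact (1 < r) := ⟨L.prime.one_lt⟩
  choose X hX using fun c : oddPart t =>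
    L.coord_surj hplane (L.conj_mem c c.2 x L.x_mem)
  choose Z hZ using fun c : oddPart t =>
    L.coord_surj hplane (L.conj_mem c c.2 y L.y_mem)
  have hlin : ∀ (c : oddPart t) (v : ZMod r × ZMod r), (c : G) * coord r x y v * (c : G)⁻¹ =
      coord r x y (v.1 * (X c).1 + v.2 * (Z c).1, v.1 * (X c).2 + v.2 * (Z c).2) := by
    intro c v
    show (c : G) * (x ^ v.1.val * y ^ v.2.val) * (c : G)⁻¹ = _
    rw [show (c : G) * (x ^ v.1.val * y ^ v.2.val) * (c : G)⁻¹ =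
      ((c : G) * x ^ v.1.val * (c : G)⁻¹) * ((c : G) * y ^ v.2.val * (c : G)⁻¹) by group,
      ← conj_pow, ← conj_pow, ← hX, ← hZ, L.coord_pow, L.coord_pow, ← L.coord_add]
    simp only [ZMod.natCast_zmod_val, Prod.mk_add_mk]
  let Mf : oddPart t → Matrix (Fin 2) (Fin 2) (ZMod r) := fun c =>
    !![(X c).1, (Z c).1; (X c).2, (Z c).2]
  have hXone : X 1 = (1, 0) := L.coord_inj (by rw [hX, L.coord_one_zero]; simp)
  have hZone : Z 1 = (0, 1) := L.coord_inj (by rw [hZ, L.coord_zero_one]; simp)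
  have hXmul : ∀ c d, X (c * d) = ((X d).1 * (X c).1 + (X d).2 * (Z c).1,
      (X d).1 * (X c).2 + (X d).2 * (Z c).2) := fun c d => L.coord_inj (by
    rw [← hlin c (X d), hX d, hX (c * d), Subgroup.coe_mul]; group)
  have hZmul : ∀ c d, Z (c * d) = ((Z d).1 * (X c).1 + (Z d).2 * (Z c).1,
      (Z d).1 * (X c).2 + (Z d).2 * (Z c).2) := fun c d => L.coord_inj (by
    rw [← hlin c (Z d), hZ d, hZ (c * d), Subgroup.coe_mul]; group)
  have hXa : ∀ c, X (S.conjHom c) = ((X c).1, -(X c).2) := fun c => L.coord_inj (by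
    rw [hX, ← L.coord_conj_a, hX]
    show a * (c : G) * a⁻¹ * x * (a * (c : G) * a⁻¹)⁻¹ = _
    conv_lhs => rw [← L.x_fix]
    group)
  have hZa : ∀ c, Z (S.conjHom c) = (-(Z c).1, (Z c).2) := fun c => L.coord_inj (by
    have h : coord r x y (-(Z c).1, (Z c).2) = (coord r x y ((Z c).1, -(Z c).2))⁻¹ := by
      refine eq_inv_of_mul_eq_one_left ?_
      rw [← L.coord_add, Prod.mk_add_mk, neg_add_cancel, add_neg_cancel]
      simp [coord]
    rw [hZ, h, ← L.coord_conj_a, hZ]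
    show a * (c : G) * a⁻¹ * y * (a * (c : G) * a⁻¹)⁻¹ = _
    have hy : y = a * y⁻¹ * a⁻¹ := by
      rw [show a * y⁻¹ * a⁻¹ = (a * y * a⁻¹)⁻¹ by group, L.y_inv, inv_inv]
    conv_lhs => rw [hy]
    group)
  let Mh : oddPart t →* Matrix (Fin 2) (Fin 2) (ZMod r) :=
    { toFun := Mf
      map_one' := by
        simp only [Mf, hXone, hZone]
        exact Matrix.one_fin_two.symm
      map_mul' := fun c d => by
        simp only [Mf, hXmul, hZmul, Matrix.mul_fin_two]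
        congr 1
        ext i j
        fin_cases i <;> fin_cases j <;> simp <;> ring }
  refine ⟨Mh, fun c => by simp [Mh, Mf, hX], fun c => by simp [Mh, Mf, hZ], fun c => ?_⟩
  rw [ModuleMatrix.refl2_conj]
  show Mf (S.conjHom c) = _
  simp [Mh, Mf, hXa, hZa]

end Line

end CfsgLib.GWKlein
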