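import Cfsg.Agent.Lib.GWKlein.ModuleFixedLine
import Cfsg.Agent.Lib.GWKlein.ModulePlane
import Cfsg.Agent.S0205

/-!
# Klein four Sylow subgroup: no elementary normal subgroup of the odd part meets `C(a)`

An elementary abelian `r`-subgroup `Y` normal in `O = oddPart t` with an element `x ≠ 1` centralised
by `a` has a line of inverted elements.  If `O` fixes the line, `x` has at most `r` conjugates.  If
not, the inverted elements make `Y` a plane, the image of `O` in its `SL₂` is commutative and the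
stabiliser of the line of `x` centralises `x`.  Either way the index inequality fails.
-/

set_option autoImplicit false
set_option linter.unusedSectionVars false
set_option linter.style.haveILetI false

universe u

namespace CfsgLib.GWKlein

open Subgroup

variable {G : Type u} [Group G] [Finite G] {t a : G} {r : ℕ} {Y H T : Subgroup G} {x y : G}

/-- A homomorphism of an odd group into matrices, generated by elements that the reflection inverts,
has determinant one. -/
theorem det_eq_one_of_refl {Q F : Type*} [Group Q] [Field F] [Finite Q]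
    (hQ : Odd (Nat.card Q)) (Mh : Q →* Matrix (Fin 2) (Fin 2) F) (σ : Q →* Q)
    (hσ : ∀ c, Mh (σ c) = ModuleMatrix.refl2 * Mh c * ModuleMatrix.refl2)
    (hgen : closure {c : Q | σ c = c⁻¹} = ⊤) (c : Q) : (Mh c).det = 1 := by
  let δ : Q →* F := Matrix.detMonoidHom.comp Mh
  let K : Subgroup Q :=
    { carrier := {c | δ c = 1}
      one_mem' := map_one δ
      mul_mem' := fun {c d} hc hd => by
        show δ (c * d) = 1
        rw [map_mul, hc, hd, one_mul]
      inv_mem' := fun {c} hc => by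
        show δ c⁻¹ = 1
        have h := map_mul δ c c⁻¹
        rw [mul_inv_cancel, map_one, hc, one_mul] at h
        exact h.symm }
  have hle : closure {c : Q | σ c = c⁻¹} ≤ K := by
    refine (closure_le _).2 fun c (hc : σ c = c⁻¹) => ?_
    have h1 : δ c * δ c = 1 := by
      have h2 : δ c⁻¹ = δ c := by
        rw [← hc]
        show (Mh (σ c)).det = (Mh c).det
        rw [hσ, Matrix.det_mul, Matrix.det_mul]
        simp [ModuleMatrix.refl2, Matrix.det_fin_two]
      nth_rw 1 [← h2]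
      rw [← map_mul, inv_mul_cancel, map_one]
    obtain ⟨k, hk⟩ := hQ
    have h3 : δ c ^ (2 * k + 1) = 1 := by rw [← hk, ← map_pow, pow_card_eq_one', map_one]
    rw [pow_succ, pow_mul, pow_two, h1, one_pow, one_mul] at h3
    exact h3
  exact hle (hgen ▸ mem_top c)

/-- With a commutative image every element is inverted by the reflection. -/
theorem map_refl_eq_map_inv {Q F : Type*} [Group Q] [Field F]
    (Mh : Q →* Matrix (Fin 2) (Fin 2) F) (σ : Q →* Q)
    (hcomm : ∀ c d, Mh c * Mh d = Mh d * Mh c)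
    (hgen : closure {c : Q | σ c = c⁻¹} = ⊤) (c : Q) : Mh (σ c) = Mh c⁻¹ := by
  let W : Subgroup Q :=
    { carrier := {c | Mh (σ c) = Mh c⁻¹}
      one_mem' := by simp
      mul_mem' := fun {c d} hc hd => by
        show Mh (σ (c * d)) = Mh (c * d)⁻¹
        rw [map_mul, map_mul, hc, hd, mul_inv_rev, map_mul, hcomm]
      inv_mem' := fun {c} hc => by
        show Mh (σ c⁻¹) = Mh c⁻¹⁻¹
        rw [inv_inv]
        have h1 : Mh (σ c) * Mh (σ c⁻¹) = 1 := by
          rw [← map_mul, ← map_mul, mul_inv_cancel, map_one, map_one]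
        rw [hc] at h1
        calc Mh (σ c⁻¹) = Mh c * Mh c⁻¹ * Mh (σ c⁻¹) := by
              rw [← map_mul, mul_inv_cancel, map_one, one_mul]
          _ = Mh c := by rw [mul_assoc, h1, mul_one] }
  exact (show closure {c : Q | σ c = c⁻¹} ≤ W from
    (closure_le _).2 fun c hc => show Mh (σ c) = Mh c⁻¹ by rw [show σ c = c⁻¹ from hc])
    (hgen ▸ mem_top c)

/-- A matrix of odd order that the reflection inverts and that fixes the first axis is unipotent. -/
theorem entry_eq_one {Q F : Type*} [Group Q] [Field F] (h4 : (4 : F) ≠ 0) {n : ℕ} (hn : Odd n)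
    (Mh : Q →* Matrix (Fin 2) (Fin 2) F) (hdet : ∀ c, (Mh c).det = 1) {c : Q}
    (hpow : Mh c ^ n = 1)
    (hinv : ModuleMatrix.refl2 * Mh c * ModuleMatrix.refl2 = Mh c⁻¹) (h10 : Mh c 1 0 = 0) :
    Mh c 0 0 = 1 := by
  rw [ModuleMatrix.refl2_conj, ModuleMatrix.map_inv_eq_adj Mh hdet] at hinv
  have h00 : Mh c 1 1 = Mh c 0 0 := by simpa using (congrFun (congrFun hinv 0) 0).symm
  have hd := hdet c
  rw [Matrix.det_fin_two, h10, mul_zero, sub_zero, h00] at hd
  rcases mul_eq_zero.1 (show (Mh c 0 0 - 1) * (Mh c 0 0 + 1) = 0 by linear_combination hd)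
    with h | h
  · exact sub_eq_zero.1 h
  · refine absurd ?_ (ModuleMatrix.trace_ne_neg_two h4 hn hpow (hdet c))
    rw [Matrix.trace_fin_two, h00]
    linear_combination 2 * h

/-- The odd part does not move the inverted line. -/
theorem Line.false_of_moved_line (L : Line t a r Y H T x y) (M : Minimal G t a)
    (hord : Nat.card G * Nat.card ↥(oddPart t ⊓ centralizer {a}) ^ 2 ≤
      60 * Nat.card ↥(oddPart t) ^ 3)
    (hgen : oddPart t ≤ closure {z | z ∈ oddPart t ∧ a * z * a⁻¹ = z⁻¹})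
    (hover : ∀ v ∈ Y, Commute a v → v ≠ 1 → ∃ H T : Subgroup G, H ≠ ⊤ ∧ four t a ≤ H ∧
      centralizer {v} ≤ H ∧ RotData t a H T)
    (hH : H ≠ ⊤) (hV : four t a ≤ H)
    (hmoved : ¬ ∀ c ∈ oddPart t, c * y * c⁻¹ ∈ zpowers y) : False := by
  haveI := Fact.mk L.prime
  haveI : Fact (1 < r) := ⟨L.prime.one_lt⟩
  haveI : NeZero r := ⟨L.prime.ne_zero⟩
  have S := M.setting
  obtain ⟨Mh, hMx, hMy, hσ⟩ := L.exists_matrixHom S (L.fixed_mem_zpowers S hgen hover hmoved)
  have hO : Odd (Nat.card ↥(oddPart t)) := odd_card_core _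
  have hgen' : closure {c : oddPart t | S.conjHom c = c⁻¹} = ⊤ := by
    refine top_le_iff.1 fun c _ => ?_
    have hle : oddPart t ≤
        (closure {c : oddPart t | S.conjHom c = c⁻¹}).map (oddPart t).subtype :=
      hgen.trans ((closure_le _).2 fun z hz =>
        ⟨⟨z, hz.1⟩, subset_closure (Subtype.ext hz.2), rfl⟩)
    obtain ⟨d, hd, he⟩ := hle c.2
    rwa [← Subtype.ext (a1 := d) (a2 := c) he]
  have h4 : (4 : ZMod r) ≠ 0 := by
    intro h
    have h2 : r ∣ 2 ^ 2 := (ZMod.natCast_eq_zero_iff 4 r).1 (by exact_mod_cast h)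
    have h3 := (Nat.prime_dvd_prime_iff_eq L.prime Nat.prime_two).1 (L.prime.dvd_of_dvd_pow h2)
    exact absurd (h3 ▸ L.odd_r) (by decide)
  have hdet := det_eq_one_of_refl hO Mh S.conjHom hσ hgen'
  haveI : Group.IsSolvable ↥(oddPart t) := Cfsg.Agent.S0205.result hO
  have hcomm := ModuleMatrix.image_comm Mh h4 hO hdet S.conjHom hσ hgen'
  have hinvall := map_refl_eq_map_inv Mh S.conjHom hcomm hgen'
  have hcol : ∀ c : oddPart t, Mh c 0 0 = 1 → Mh c 1 0 = 0 → Commute (c : G) x := by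
    intro c h0 h1
    refine mul_inv_eq_iff_eq_mul.1 ?_
    rw [hMx, h0, h1, L.coord_one_zero]
  -- an element fixing the line of `x` centralises `x`
  have hstabx : ∀ c : oddPart t, Mh c 1 0 = 0 → Commute (c : G) x := fun c h10 =>
    hcol c (entry_eq_one h4 hO Mh hdet (by rw [← map_pow, pow_card_eq_one', map_one])
      (by rw [← hσ]; exact hinvall c) h10) h10
  have hDx : ∀ d ∈ oddPart t, Commute a d → Commute d x := by
    intro d hd had
    refine commute_of_mul_self (L.odd_order hd) ?_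
    have h1 : S.conjHom ⟨d, hd⟩ = ⟨d, hd⟩ := Subtype.ext (by
      show a * d * a⁻¹ = d
      rw [had.eq, mul_inv_cancel_right])
    have h2 := hinvall ⟨d, hd⟩
    rw [h1] at h2
    have h3 : Mh (⟨d, hd⟩ * ⟨d, hd⟩) = 1 := by
      rw [map_mul]
      nth_rw 2 [h2]
      rw [← map_mul, mul_inv_cancel, map_one]
    exact hcol (⟨d, hd⟩ * ⟨d, hd⟩) (by rw [h3]; rfl) (by rw [h3]; rfl)
  have hTx : ∀ s ∈ T, Commute s x := by
    intro s hs
    set s' : oddPart t := ⟨s, (L.rot.le hs).1⟩
    haveI := L.rot.cyclic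
    have hsy : s * y * s⁻¹ = y := mul_inv_eq_iff_eq_mul.2 (congrArg Subtype.val
      ((IsCyclic.commGroup (α := T)).mul_comm ⟨s, hs⟩ ⟨y, L.y_mem_T⟩))
    have h1 : (Mh s' 0 1, Mh s' 1 1) = ((0, 1) : ZMod r × ZMod r) :=
      L.coord_inj (by rw [← hMy s', L.coord_zero_one]; exact hsy)
    obtain ⟨h01, h11⟩ := Prod.mk.injEq .. ▸ h1
    have h00 : Mh s' 0 0 = 1 := by
      have h := hdet s'
      rw [Matrix.det_fin_two, h01, h11] at h
      simpa using h
    refine hcol s' h00 ?_
    by_contra hj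
    refine hmoved fun c hc => ?_
    have h2 := congrFun (congrFun (hcomm ⟨c, hc⟩ s') 0) 0
    simp only [Matrix.mul_apply, Fin.sum_univ_two, h00, h01, zero_mul, mul_one, one_mul,
      add_zero] at h2
    have h3 : Mh ⟨c, hc⟩ 0 1 = 0 := (mul_eq_zero.1
      (show Mh ⟨c, hc⟩ 0 1 * Mh s' 1 0 = 0 by linear_combination h2)).resolve_right hj
    have h5 := hMy ⟨c, hc⟩
    rw [h3] at h5
    show c * y * c⁻¹ ∈ zpowers y
    rw [h5, coord, ZMod.val_zero, pow_zero, one_mul]
    exact Subgroup.pow_mem _ (mem_zpowers y) _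
  have hker : ∀ c ∈ oddPart t, c ∈ H → Commute c x := by
    intro c hc hcH
    obtain ⟨s, hs, d, hd, had, rfl⟩ := L.rot.split c ⟨hc, hcH⟩
    exact (hTx s hs).mul_left (hDx d hd.1 had)
  refine L.false_of_index M hord hgen hH hV hker hDx ?_ ?_
  · intro c hc hcH
    set i := Mh ⟨c, hc⟩ 0 0
    set j := Mh ⟨c, hc⟩ 1 0 with hj
    have hv2 : j ≠ 0 := fun h => hcH (L.cent_le c (hstabx ⟨c, hc⟩ h))
    refine ⟨y ^ j.val, T.pow_mem L.y_mem_T _, fun h => hv2 ?_, ?_⟩
    · rw [← orderOf_dvd_iff_pow_eq_one, L.order_y] at h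
      exact (ZMod.val_eq_zero _).1 (Nat.eq_zero_of_dvd_of_lt h (ZMod.val_lt _))
    · have e : y ^ j.val = (x ^ i.val)⁻¹ * (c * x * c⁻¹) := by
        rw [show c * x * c⁻¹ = coord r x y (i, j) from hMx ⟨c, hc⟩, coord, inv_mul_cancel_left]
      rw [e]
      exact Subgroup.mul_mem _ (Subgroup.inv_mem _ (Subgroup.pow_mem _
        (subset_closure (Or.inl rfl) : x ∈ closure {x, c * x * c⁻¹}) _))
        (subset_closure (Or.inr rfl))
  · rw [relIndex, Subgroup.index]
    let line : (oddPart t) ⧸ (oddPart t ⊓ H).subgroupOf (oddPart t) → Option (ZMod r) := fun q =>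
      if Mh q.out 0 0 = 0 then none else some (Mh q.out 1 0 / Mh q.out 0 0)
    have hinj : Function.Injective line := by
      intro p q e
      have hcross : Mh p.out 1 0 * Mh q.out 0 0 = Mh p.out 0 0 * Mh q.out 1 0 := by
        simp only [line] at e
        by_cases hp : Mh p.out 0 0 = 0 <;> by_cases hq : Mh q.out 0 0 = 0 <;>
          simp [hp, hq] at e ⊢
        rw [div_eq_div_iff hp hq] at e
        linear_combination e
      have h10 : Mh ((p.out)⁻¹ * q.out) 1 0 = 0 := by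
        rw [map_mul, ModuleMatrix.map_inv_eq_adj Mh hdet]
        simp [Matrix.mul_apply, Fin.sum_univ_two]
        linear_combination -hcross
      rw [← QuotientGroup.out_eq' p, ← QuotientGroup.out_eq' q, QuotientGroup.eq]
      exact mem_subgroupOf.2 ⟨((p.out)⁻¹ * q.out).2, L.cent_le _ (hstabx _ h10)⟩
    have h1 := Nat.card_le_card_of_injective line hinj
    rw [Finite.card_option, Nat.card_zmod] at h1
    have h2 : Odd (Nat.card (↥(oddPart t) ⧸ (oddPart t ⊓ H).subgroupOf (oddPart t))) :=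
      hO.of_dvd_nat (Subgroup.index_dvd_card _)
    obtain ⟨k, hk⟩ := h2
    obtain ⟨l, hl⟩ := L.odd_r
    omega

/-- An elementary abelian subgroup of `oddPart t` normalised by it and by `a` has no element
centralised by `a`. -/
theorem Minimal.module_step (M : Minimal G t a)
    (hord : Nat.card G * Nat.card ↥(oddPart t ⊓ centralizer {a}) ^ 2 ≤
      60 * Nat.card ↥(oddPart t) ^ 3)
    (hgen : oddPart t ≤ closure {z | z ∈ oddPart t ∧ a * z * a⁻¹ = z⁻¹})
    (hr : r.Prime)
    (hover : ∀ v ∈ Y, Commute a v → v ≠ 1 → ∃ H T : Subgroup G, H ≠ ⊤ ∧ four t a ≤ H ∧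
      centralizer {v} ≤ H ∧ RotData t a H T)
    (hY : Y ≤ oddPart t) (helem : ∀ z ∈ Y, z ^ r = 1) (hab : ∀ z ∈ Y, ∀ w ∈ Y, Commute z w)
    (hn : ∀ c ∈ oddPart t, ∀ z ∈ Y, c * z * c⁻¹ ∈ Y) (haY : ∀ z ∈ Y, a * z * a⁻¹ ∈ Y)
    (hx : x ∈ Y) (hax : Commute a x) (hx1 : x ≠ 1) : False := by
  haveI := Fact.mk hr
  have S := M.setting
  have hodd : ∀ {w : G}, w ∈ oddPart t → Odd (orderOf w) := fun hw =>
    odd_orderOf (odd_card_core _) hw
  have hrodd : Odd r := orderOf_eq_prime (helem _ hx) hx1 ▸ hodd (hY hx)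
  have hxfix : a * x * a⁻¹ = x := by rw [hax.eq, mul_inv_cancel_right]
  obtain ⟨H, T, hH, hV, hxH, hR⟩ := hover x hx hax hx1
  have hcx : ∀ c, Commute c x → c ∈ H := fun c h => hxH (mem_centralizer_singleton_iff.2 h.eq)
  -- some element is inverted
  obtain ⟨y, hy, hay, hy1⟩ : ∃ y ∈ Y, a * y * a⁻¹ = y⁻¹ ∧ y ≠ 1 := by
    by_contra! hall
    have hallfix : ∀ w ∈ Y, a * w * a⁻¹ = w := fun w hw => by
      obtain ⟨p, -, q, hq, hp, hq', rfl⟩ := S.exists_fix_inv hrodd helem hab haY hw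
      rw [hall q hq hq', mul_one, hp]
    refine not_oddPart_le hgen hR (hY hx) hxfix hx1 fun c hc =>
      hcx c (commute_of_gen hgen (fun c hc hac => ?_) hc)
    refine commute_of_mul_self (hodd hc) ?_
    have h1 := hallfix _ (hn c hc x hx)
    have h2 : a * (c * x * c⁻¹) * a⁻¹ = c⁻¹ * x * c := by
      calc a * (c * x * c⁻¹) * a⁻¹ = (a * c * a⁻¹) * (a * x * a⁻¹) * (a * c * a⁻¹)⁻¹ := by group
        _ = _ := by rw [hac, hxfix, inv_inv]
    have h3 : c * x * c⁻¹ = c⁻¹ * x * c := h1.symm.trans h2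
    refine mul_inv_eq_iff_eq_mul.1 ?_
    calc c * c * x * (c * c)⁻¹ = c * (c * x * c⁻¹) * c⁻¹ := by group
      _ = x := by rw [h3]; group
  have hyT : y ∈ T := hR.mem y ⟨hY hy, hcx y (hab y hy x hx)⟩ hay
  have L : Line t a r Y H T x y :=
    { prime := hr, le_oddPart := hY, pow_eq_one := helem, commute := hab, conj_mem := hn
      conj_a_mem := haY, x_mem := hx, x_fix := hxfix, x_ne := hx1, y_mem := hy, y_inv := hay
      y_ne := hy1, y_mem_T := hyT, cent_le := hcx, rot := hR
      line := fun q hq haq => mem_zpowers_of_pow_eq_one hr hR.cyclic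
        (orderOf_eq_prime (helem _ hy) hy1) hyT
        (hR.mem q ⟨hY hq, hcx q (hab q hq x hx)⟩ haq) (helem q hq)
      dec := fun w hw => S.exists_fix_inv hrodd helem hab haY hw }
  by_cases hinvariant : ∀ c ∈ oddPart t, c * y * c⁻¹ ∈ zpowers y
  · exact L.false_of_fixed_line M hord hgen hH hV hinvariant
  · exact L.false_of_moved_line M hord hgen hover hH hV hinvariant

/-- No elementary abelian normal `r`-subgroup of `oddPart t` has elements centralised by `a`. -/
theorem Minimal.elementary_inf_eq_bot (M : Minimal G t a)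
    (hord : Nat.card G * Nat.card ↥(oddPart t ⊓ centralizer {a}) ^ 2 ≤
      60 * Nat.card ↥(oddPart t) ^ 3)
    (hgen : oddPart t ≤ closure {y | y ∈ oddPart t ∧ a * y * a⁻¹ = y⁻¹})
    {r : ℕ} (hr : r.Prime) {Y : Subgroup G}
    (hover : ∀ x ∈ Y, Commute a x → x ≠ 1 → ∃ H T : Subgroup G, H ≠ ⊤ ∧ four t a ≤ H ∧
      centralizer {x} ≤ H ∧ RotData t a H T)
    (hY : Y ≤ oddPart t) (helem : ∀ y ∈ Y, y ^ r = 1) (hab : ∀ y ∈ Y, ∀ z ∈ Y, Commute y z)
    (hn : oddPart t ≤ normalizer Y) : ∀ y ∈ Y, Commute a y → y = 1 := by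
  intro x hx hax
  by_contra hx1
  have S := M.setting
  set gens : Set G := {z | ∃ c ∈ oddPart t, z = c * x * c⁻¹} with hgens
  have hY₀Y : closure gens ≤ Y := (closure_le _).2 fun z ⟨c, hc, hz⟩ =>
    hz ▸ (mem_normalizer_iff.1 (hn hc) x).1 hx
  have hmap : ∀ k : G, (∀ z ∈ gens, k * z * k⁻¹ ∈ gens) →
      ∀ w ∈ closure gens, k * w * k⁻¹ ∈ closure gens := by
    intro k hk w hw
    have hle : closure gens ≤ (closure gens).comap (MulAut.conj k).toMonoidHom :=
      (closure_le _).2 fun z hz => subset_closure (hk z hz)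
    exact hle hw
  refine M.module_step hord hgen hr (Y := closure gens) (fun z hz => hover z (hY₀Y hz))
    (hY₀Y.trans hY) (fun z hz => helem z (hY₀Y hz))
    (fun z hz w hw => hab z (hY₀Y hz) w (hY₀Y hw)) (fun c hc => hmap c ?_) (hmap a ?_)
    (subset_closure ⟨1, one_mem _, by group⟩) hax hx1
  · rintro _ ⟨d, hd, rfl⟩
    exact ⟨c * d, (oddPart t).mul_mem hc hd, by group⟩
  · rintro _ ⟨d, hd, rfl⟩
    refine ⟨a * d * a⁻¹, S.conj_oddPart hd, ?_⟩
    calc a * (d * x * d⁻¹) * a⁻¹ = (a * d * a⁻¹) * (a * x * a⁻¹) * (a * d * a⁻¹)⁻¹ := by group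
      _ = _ := by rw [hax.eq, mul_inv_cancel_right]

end CfsgLib.GWKlein
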