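import Cfsg.Agent.Lib.GWKlein.CaseOneValues
import Cfsg.Agent.Lib.GWKlein.Module
import Cfsg.Agent.Lib.GWKlein.Rotating

/-!
# Gorenstein–Walter, Klein case: the local analysis behind the last configuration

`C(t)` is maximal, the four-group is not self-centralising and `oddPart t` is generated by the
elements inverted by `a`.  Some `O_r(oddPart t)` has elements fixed and elements moved by `a`; so
`a` fixes no central element of `oddPart t`, every fixed element of an `O_r(oddPart t)` lies under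
a rotating subgroup with `RotData`, and no elementary abelian normal subgroup contains one.  In
the configuration `CaseOne` some rotation centralises `ρ`.
-/

set_option autoImplicit false
set_option linter.unusedSectionVars false
set_option linter.style.haveILetI false

universe u

namespace CfsgLib.GWKlein

open Subgroup CfsgLib.Components.Bender
open CfsgLib.Components (map_subtype_normal_of_characteristic)

/-- An element inverted by `a` centralises the elements fixed by `a` of a subgroup it normalises,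
if all are fixed. -/
theorem commute_of_all_fixed {G : Type*} [Group G] {a c : G} {P : Subgroup G}
    (hc : Odd (orderOf c)) (hac : a * c * a⁻¹ = c⁻¹) (hn : ∀ f ∈ P, c * f * c⁻¹ ∈ P)
    (hP : ∀ f ∈ P, Commute a f) {f : G} (hf : f ∈ P) : Commute c f := by
  refine commute_of_mul_self hc ?_
  have h1 : a * (c * f * c⁻¹) * a⁻¹ = c * f * c⁻¹ := by
    rw [(hP _ (hn f hf)).eq, mul_inv_cancel_right]
  have h2 : a * (c * f * c⁻¹) * a⁻¹ = c⁻¹ * f * c := by
    calc a * (c * f * c⁻¹) * a⁻¹ = a * c * a⁻¹ * (a * f * a⁻¹) * (a * c * a⁻¹)⁻¹ := by group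
      _ = c⁻¹ * f * c := by rw [hac, (hP f hf).eq, mul_inv_cancel_right, inv_inv]
  have h3 : c * f * c⁻¹ = c⁻¹ * f * c := h1.symm.trans h2
  refine mul_inv_eq_iff_eq_mul.1 ?_
  calc c * c * f * (c * c)⁻¹ = c * (c * f * c⁻¹) * c⁻¹ := by group
    _ = f := by rw [h3]; group

/-- An element inverted by `a` centralises a subgroup it normalises and `a` inverts. -/
theorem commute_of_all_inverted {G : Type*} [Group G] {a c : G} {P : Subgroup G}
    (hc : Odd (orderOf c)) (hac : a * c * a⁻¹ = c⁻¹) (hn : ∀ f ∈ P, c * f * c⁻¹ ∈ P)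
    (hP : ∀ f ∈ P, a * f * a⁻¹ = f⁻¹) {f : G} (hf : f ∈ P) : Commute c f := by
  refine commute_of_mul_self hc ?_
  have h1 : a * (c * f * c⁻¹) * a⁻¹ = c * f⁻¹ * c⁻¹ := by
    rw [hP _ (hn f hf)]; group
  have h2 : a * (c * f * c⁻¹) * a⁻¹ = c⁻¹ * f⁻¹ * c := by
    calc a * (c * f * c⁻¹) * a⁻¹ = a * c * a⁻¹ * (a * f * a⁻¹) * (a * c * a⁻¹)⁻¹ := by group
      _ = c⁻¹ * f⁻¹ * c := by rw [hac, hP f hf, inv_inv]
  have h3 : c * f⁻¹ * c⁻¹ = c⁻¹ * f⁻¹ * c := h1.symm.trans h2
  have h4 : Commute (c * c) f⁻¹ := by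
    refine mul_inv_eq_iff_eq_mul.1 ?_
    calc c * c * f⁻¹ * (c * c)⁻¹ = c * (c * f⁻¹ * c⁻¹) * c⁻¹ := by group
      _ = f⁻¹ := by rw [h3]; group
  simpa using h4.inv_right

/-- A power of a product whose factors have a central commutator. -/
theorem mul_pow_choose {G : Type*} [Group G] {w v c : G} (h : v * w * v⁻¹ = c * w)
    (hw : Commute c w) (hv : Commute c v) (n : ℕ) :
    (w * v) ^ n = c ^ n.choose 2 * (w ^ n * v ^ n) := by
  have hstep : ∀ k : ℕ, v ^ k * w = c ^ k * (w * v ^ k) := by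
    intro k
    induction k with
    | zero => simp
    | succ k ih =>
      calc v ^ (k + 1) * w = v * (v ^ k * w) := by rw [pow_succ', mul_assoc]
        _ = c ^ k * (v * w * v⁻¹) * (v * v ^ k) := by
          rw [ih, ← mul_assoc, ← (hv.pow_left k).eq]; group
        _ = c ^ (k + 1) * (w * v ^ (k + 1)) := by
          rw [h, pow_succ, pow_succ' v]; simp only [mul_assoc]
  induction n with
  | zero => simp
  | succ n ih =>
    calc (w * v) ^ (n + 1) = c ^ n.choose 2 * (w ^ n * (v ^ n * w) * v) := by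
          rw [pow_succ, ih]; simp only [mul_assoc]
      _ = c ^ n.choose 2 * (c ^ n * (w ^ n * w * (v ^ n * v))) := by
          rw [hstep, ← mul_assoc (w ^ n), ← (hw.pow_pow n n).eq]; simp only [mul_assoc]
      _ = c ^ (n + 1).choose 2 * (w ^ (n + 1) * v ^ (n + 1)) := by
          rw [Nat.choose_succ_succ, Nat.choose_one_right, ← pow_succ, ← pow_succ, ← mul_assoc,
            ← pow_add, Nat.add_comm]

variable {G : Type u} [Group G] [Finite G] {t a : G}

/-- The four-group normalises `O_r(oddPart t)`. -/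
theorem Setting.four_le_normalizer_coreIn (S : Setting G t a) (r : ℕ) :
    four t a ≤ normalizer (coreIn r (oddPart t) : Set G) := fun _ hv =>
  map_subtype_normal_of_characteristic
    (le_normalizer_core _ (Subgroup.le_normalizer (S.four_le_centralizer S.t_mem hv)))

/-- Some `O_r(oddPart t)` has elements fixed and elements moved by `a`. -/
theorem Setting.exists_mixed (S : Setting G t a)
    (hgen : oddPart t ≤ closure {y | y ∈ oddPart t ∧ a * y * a⁻¹ = y⁻¹}) (hD : ¬ SelfCent t a) :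
    ∃ r : ℕ, r.Prime ∧ (¬ ∀ y ∈ coreIn r (oddPart t), Commute a y) ∧
      ∃ x ∈ coreIn r (oddPart t), Commute a x ∧ x ≠ 1 := by
  by_contra hcon
  set O := oddPart t with hO
  have hOodd : Odd (Nat.card ↥O) := odd_card_core _
  -- inverted elements centralise every `O_q`
  have key : ∀ c ∈ O, a * c * a⁻¹ = c⁻¹ → ∀ q : ℕ, q.Prime → ∀ f ∈ coreIn q O, Commute c f := by
    intro c hc hac q hq f hf
    have hn : ∀ f ∈ coreIn q O, c * f * c⁻¹ ∈ coreIn q O := fun f hf =>
      (mem_normalizer_iff.1 (le_normalizer_coreIn q O hc) f).1 hf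
    have hco := odd_orderOf hOodd hc
    by_cases hall : ∀ y ∈ coreIn q O, Commute a y
    · exact commute_of_all_fixed hco hac hn hall hf
    · refine commute_of_all_inverted hco hac hn (fun y hy => inverts_of_fixed_free S.a_mul_self
        (hOodd.of_dvd_nat (card_dvd_of_le (coreIn_le q O)))
        (S.four_le_normalizer_coreIn q S.a_mem) (fun x hx hax => ?_) hy) hf
      by_contra hx1
      exact hcon ⟨q, hq, hall, x, hx, hax, hx1⟩
  -- so `oddPart t` is nilpotent and abelian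
  have hfit : O ≤ fitIn O := hgen.trans ((closure_le _).2 fun c hc =>
    mem_fitIn_of_odd hOodd hc.1 (key c hc.1 hc.2))
  have hcent : ∀ c ∈ O, a * c * a⁻¹ = c⁻¹ → O ≤ centralizer ({c} : Set G) := fun c hc hac =>
    hfit.trans (le_of_parts le_rfl fun q hq _ z hz =>
      mem_centralizer_singleton_iff.2 (key c hc hac q hq z hz.1).symm.eq)
  have hcomm : ∀ x ∈ O, ∀ y ∈ O, Commute x y := fun x hx y hy => by
    refine (commute_of_gen hgen (fun c hc hac => ?_) hy).symm
    exact (mem_centralizer_singleton_iff.1 (hcent c hc hac hx)).symm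
  have hinv : ∀ y ∈ O, a * y * a⁻¹ = y⁻¹ := by
    intro y hy
    let K : Subgroup G :=
      { carrier := {z | z ∈ O ∧ a * z * a⁻¹ = z⁻¹}
        one_mem' := ⟨one_mem _, by group⟩
        mul_mem' := fun {x z} hx hz => ⟨mul_mem hx.1 hz.1, by
          rw [show a * (x * z) * a⁻¹ = a * x * a⁻¹ * (a * z * a⁻¹) by group, hx.2, hz.2,
            ← mul_inv_rev, (hcomm x hx.1 z hz.1).eq]⟩
        inv_mem' := fun {x} hx => ⟨inv_mem hx.1, by
          rw [show a * x⁻¹ * a⁻¹ = (a * x * a⁻¹)⁻¹ by group, hx.2]⟩ }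
    exact ((closure_le K).2 (fun z hz => hz) (hgen hy)).2
  refine hD fun y hy hty hay => ?_
  exact eq_one_of_inverted hy (hinv y (S.mem_oddPart.2 ⟨hy, hty⟩)) hay

/-- A fixed element of an `O_r(oddPart t)` that `a` does not centralise lies under a rotating
subgroup with rotation data. -/
theorem Minimal.exists_over_of_moved (M : Minimal G t a)
    (hC : IsCoatom (centralizer ({t} : Set G))) {r : ℕ} (hr : r.Prime) {x : G}
    (hPa : ¬ ∀ y ∈ coreIn r (oddPart t), Commute a y) (hx : x ∈ coreIn r (oddPart t))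
    (hxa : Commute a x) (hx1 : x ≠ 1) :
    ∃ H T : Subgroup G, H ≠ ⊤ ∧ four t a ≤ H ∧ centralizer ({x} : Set G) ≤ H ∧
      RotData t a H T := by
  haveI := M.simple
  obtain ⟨g, hg⟩ := M.setting.exists_rot M.noncomm
  obtain ⟨H, hH, hV, hxH, hrot, hR⟩ := M.exists_rotating_overgroup hC hg hr (coreIn_le r _)
    (isPGroup_coreIn r _) (le_normalizer_coreIn r _) (M.setting.four_le_normalizer_coreIn r) hPa hx
    hxa hx1
  obtain ⟨T, hT⟩ := M.exists_rotData hH hV hrot hR
  exact ⟨H, T, hH, hV, hxH, hT⟩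

/-- The inverted elements of `C_P(x)` make `T` nontrivial. -/
theorem RotData.ne_bot {H T : Subgroup G} (hR : RotData t a H T) (S : Setting G t a) {r : ℕ}
    (hr : r.Prime) {P : Subgroup G} (hPO : P ≤ oddPart t) (hP : IsPGroup r ↥P)
    (haP : a ∈ normalizer (P : Set G)) (hPa : ¬ ∀ y ∈ P, Commute a y) {x : G} (hx : x ∈ P)
    (hxa : Commute a x) (hx1 : x ≠ 1) (hxH : centralizer ({x} : Set G) ≤ H) : T ≠ ⊥ := by
  haveI := Fact.mk hr
  intro hT
  have hr2 : r ≠ 2 := by
    rintro rfl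
    obtain ⟨k, hk⟩ := IsPGroup.exists_orderOf_eq_pow hP ⟨x, hx⟩
    rw [Subgroup.orderOf_mk] at hk
    rcases k with _ | k
    · exact hx1 (orderOf_eq_one_iff.1 (hk.trans (pow_zero 2)))
    · have h2 : Odd (2 ^ (k + 1)) := hk ▸ odd_orderOf (odd_card_core _) (hPO hx)
      exact Nat.not_even_iff_odd.2 h2 (Nat.even_pow.2 ⟨even_two, by omega⟩)
  refine hPa fun y hy => CfsgLib.KGroups.CharP.commute_of_commute_fixed hP
    (hP.to_le (zpowers_le.2 hx)) ((zpowers_le.2 hx).trans Subgroup.le_normalizer) (y := a)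
    (by rw [S.a2]; exact (Nat.coprime_primes Nat.prime_two hr).2 (Ne.symm hr2))
    (fun z hz => by obtain ⟨i, rfl⟩ := mem_zpowers_iff.1 hz; exact (hxa.zpow_right i).eq)
    haP (fun z hz hzx => ?_) y hy
  have hzc : Commute z x := (hzx x (mem_zpowers x)).symm
  have hwP : a * z * a⁻¹ * z⁻¹ ∈ P := mul_mem ((mem_normalizer_iff.1 haP z).1 hz) (inv_mem hz)
  have hwx : Commute (a * z * a⁻¹ * z⁻¹) x :=
    ((hxa.mul_left hzc).mul_left hxa.inv_left).mul_left hzc.inv_left
  have hwT : a * z * a⁻¹ * z⁻¹ ∈ T := hR.mem _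
    ⟨hPO hwP, hxH (mem_centralizer_singleton_iff.2 hwx.eq)⟩ (by
      calc a * (a * z * a⁻¹ * z⁻¹) * a⁻¹ = (a * a) * z * a⁻¹ * z⁻¹ * a⁻¹ := by group
        _ = (a * z * a⁻¹ * z⁻¹)⁻¹ := by
          rw [S.a_mul_self, S.a_inv]; simp [mul_assoc, S.a_inv])
  rw [hT, mem_bot] at hwT
  exact mul_inv_eq_iff_eq_mul.1 (mul_inv_eq_one.1 hwT)

/-- `a` fixes no nontrivial central element of `oddPart t`. -/
theorem Minimal.central_fixed_eq_one (M : Minimal G t a)
    (hC : IsCoatom (centralizer ({t} : Set G)))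
    (hgen : oddPart t ≤ closure {y | y ∈ oddPart t ∧ a * y * a⁻¹ = y⁻¹}) (hD : ¬ SelfCent t a)
    {x : G} (hx : x ∈ oddPart t) (hxa : Commute a x)
    (hxc : oddPart t ≤ centralizer ({x} : Set G)) : x = 1 := by
  by_contra hx1
  have S := M.setting
  obtain ⟨r, hr, hPa, w, hw, hwa, hw1⟩ := S.exists_mixed hgen hD
  obtain ⟨H, T, -, -, hwH, hR⟩ := M.exists_over_of_moved hC hr hPa hw hwa hw1
  have hT : T ≠ ⊥ := hR.ne_bot S hr (coreIn_le r _) (isPGroup_coreIn r _)
    (S.four_le_normalizer_coreIn r S.a_mem) hPa hw hwa hw1 hwH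
  have hcx : ∀ y ∈ oddPart t, Commute y x := fun y hy => mem_centralizer_singleton_iff.1 (hxc hy)
  have hxH : x ∈ H :=
    hwH (mem_centralizer_singleton_iff.2 (hcx w (coreIn_le r _ hw)).symm.eq)
  have hxcore : x ∈ core H :=
    hR.mem_core hT x ⟨hx, hxH⟩ hxa fun s hs => (hcx s (hR.le hs).1).symm
  obtain ⟨g, hgL, hg⟩ := hR.exists_rot hT
  have hgx : g ∈ centralizer ({x} : Set G) :=
    mem_centralizer_singleton_iff.2 (mem_centralizer_iff.1 (hR.core_comm hxcore) g hgL)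
  have hCx : centralizer ({x} : Set G) = centralizer ({t} : Set G) := by
    have hle : centralizer ({t} : Set G) ≤ centralizer ({x} : Set G) := fun z hz => by
      obtain ⟨k, hk, v, hv, rfl⟩ := S.centralizer_eq hz
      exact mul_mem (hxc hk) (mem_centralizer_singleton_iff.2
        (mem_centralizer_iff.1 (S.commute_four (commute_of_mem_oddPart hx) hxa) v hv))
    exact (hC.le_iff.1 hle).resolve_left (M.centralizer_ne_top hx1)
  rw [hCx, mem_centralizer_singleton_iff] at hgx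
  exact S.ne (by rw [← hg.1, hgx, mul_inv_cancel_right])

/-- Every fixed element of every `O_r(oddPart t)` lies under a rotating subgroup with rotation
data. -/
theorem Minimal.exists_over (M : Minimal G t a) (hC : IsCoatom (centralizer ({t} : Set G)))
    (hgen : oddPart t ≤ closure {y | y ∈ oddPart t ∧ a * y * a⁻¹ = y⁻¹}) (hD : ¬ SelfCent t a)
    {r : ℕ} (hr : r.Prime) {x : G} (hx : x ∈ coreIn r (oddPart t)) (hxa : Commute a x)
    (hx1 : x ≠ 1) :
    ∃ H T : Subgroup G, H ≠ ⊤ ∧ four t a ≤ H ∧ centralizer ({x} : Set G) ≤ H ∧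
      RotData t a H T := by
  refine M.exists_over_of_moved hC hr (fun hall => hx1 ?_) hx hxa hx1
  refine M.central_fixed_eq_one hC hgen hD (coreIn_le r _ hx) hxa fun y hy =>
    mem_centralizer_singleton_iff.2 (commute_of_gen hgen (fun c hc hac => ?_) hy).eq
  exact commute_of_all_fixed (odd_orderOf (odd_card_core _) hc) hac
    (fun f hf => (mem_normalizer_iff.1 (le_normalizer_coreIn r _ hc) f).1 hf) hall hx

/-- No elementary abelian normal subgroup of `oddPart t` has elements fixed by `a`. -/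
theorem Minimal.elementary_fixed_eq_one (M : Minimal G t a)
    (hC : IsCoatom (centralizer ({t} : Set G)))
    (hgen : oddPart t ≤ closure {y | y ∈ oddPart t ∧ a * y * a⁻¹ = y⁻¹}) (hD : ¬ SelfCent t a)
    {r : ℕ} (hr : r.Prime) {Y : Subgroup G} (hY : Y ≤ oddPart t) (helem : ∀ y ∈ Y, y ^ r = 1)
    (hab : ∀ y ∈ Y, ∀ z ∈ Y, Commute y z) (hn : oddPart t ≤ normalizer (Y : Set G)) :
    ∀ y ∈ Y, Commute a y → y = 1 := by
  haveI := M.simple
  have hYr : IsPGroup r ↥Y := fun y => ⟨1, Subtype.ext (by simpa using helem y y.2)⟩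
  exact M.elementary_inf_eq_bot (M.setting.card_le M.noncomm) hgen hr
    (fun x hx hxa hx1 => M.exists_over hC hgen hD hr (le_coreIn hY hYr hn hx) hxa hx1)
    hY helem hab hn

/-- In the last configuration some rotation centralises `ρ`. -/
theorem CaseOne.exists_rot_commute {r : ℕ} {P Z A E : Subgroup G} {ρ : G}
    (h : CaseOne t a r P Z A E ρ) (M : Minimal G t a)
    (hC : IsCoatom (centralizer ({t} : Set G))) : ∃ g, Rot t a g ∧ Commute g ρ := by
  haveI := M.simple
  haveI := Fact.mk h.prime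
  have S := M.setting
  have hr1 : 1 < r := h.prime.one_lt
  have hodd : ∀ {y : G}, y ∈ oddPart t → Odd (orderOf y) := fun hy =>
    odd_orderOf (odd_card_core _) hy
  have hρO : ρ ∈ oddPart t := h.P_le h.rho_mem
  have hρa : Commute a ρ :=
    (mem_centralizer_singleton_iff.1 (h.fixed.ge (mem_zpowers ρ)).2).symm
  have hρfix : a * ρ * a⁻¹ = ρ := by rw [hρa.eq, mul_inv_cancel_right]
  have hρ1 : ρ ≠ 1 := fun e => by
    have := h.rho_order; rw [e, orderOf_one] at this; omega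
  have hρr : ρ ^ r = 1 := h.rho_order ▸ pow_orderOf_eq_one ρ
  have hρZ : ρ ∉ Z := fun hρ =>
    hρ1 (eq_one_of_inverted (hodd hρO) (h.ZA_inverted ρ (mem_sup_left hρ)) hρa)
  obtain ⟨z₀, hz₀Z, hz₀⟩ : ∃ z ∈ Z, orderOf z = r := by
    obtain ⟨p, -, q, -, hz, hz1, hzr⟩ := h.exists_commutator
    exact ⟨_, hz, orderOf_eq_prime hzr hz1⟩
  have hPa : ¬ ∀ y ∈ P, Commute a y := fun hall => by
    have hz1 : z₀ ≠ 1 := fun e => by rw [e, orderOf_one] at hz₀; omega
    exact hz1 (eq_one_of_inverted (hodd (h.P_le (h.Z_le hz₀Z)))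
      (h.ZA_inverted z₀ (mem_sup_left hz₀Z)) (hall z₀ (h.Z_le hz₀Z)))
  obtain ⟨g₀, hg₀⟩ := S.exists_rot M.noncomm
  have hVP : four t a ≤ normalizer (P : Set G) := S.le_normalizer_of
    (centralizer_le_normalizer _ (mem_centralizer_iff.2 fun y hy =>
      (commute_of_mem_oddPart (h.P_le hy)).symm.eq)) h.a_norm
  obtain ⟨H, hH, hV, hρH, hrot, hcore⟩ := M.exists_rotating_overgroup hC hg₀ h.prime h.P_le
    h.pgroup h.P_normal hVP hPa h.rho_mem hρa hρ1
  obtain ⟨T, hR⟩ := M.exists_rotData hH hV hrot hcore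
  have hT : T ≠ ⊥ := hR.ne_bot S h.prime h.P_le h.pgroup h.a_norm hPa h.rho_mem hρa hρ1 hρH
  have hcH : ∀ {y : G}, Commute y ρ → y ∈ H := fun hy =>
    hρH (mem_centralizer_singleton_iff.2 hy.eq)
  have hρH' : ρ ∈ oddPart t ⊓ H := ⟨hρO, hcH (Commute.refl ρ)⟩
  have hZρ : ∀ z ∈ Z, Commute z ρ := fun z hz => h.commute_ZA hρO (mem_sup_left hz)
  have hZT : ∀ z ∈ Z, z ∈ T := fun z hz => hR.mem z
    ⟨h.P_le (h.Z_le hz), hcH (hZρ z hz)⟩ (h.ZA_inverted z (mem_sup_left hz))
  -- an element of `E` fixing `ρ` modulo `Z` centralises it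
  have hfix : ∀ e ∈ E, ∀ z ∈ Z, e * ρ * e⁻¹ = z * ρ → e ∈ A := by
    intro e he z hz hez
    by_contra heA
    have hze : Commute z e := h.commute_ZA (h.E_le he) (mem_sup_left hz)
    have hpow : ∀ n : ℕ, e ^ n * ρ * (e ^ n)⁻¹ = z ^ n * ρ := by
      intro n
      induction n with
      | zero => simp
      | succ n ih =>
        calc e ^ (n + 1) * ρ * (e ^ (n + 1))⁻¹ = e * (e ^ n * ρ * (e ^ n)⁻¹) * e⁻¹ := by
              rw [pow_succ']; group
          _ = z ^ n * (e * ρ * e⁻¹) := by rw [ih, ← mul_assoc e, ← (hze.pow_left n).eq]; group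
          _ = z ^ (n + 1) * ρ := by rw [hez, ← mul_assoc, pow_succ]
    have hzm : z ^ A.relIndex E = 1 := by
      have h1 := hpow (A.relIndex E)
      rw [(h.commute_ZA hρO (mem_sup_right (h.pow_relIndex_mem he))).eq,
        mul_inv_cancel_right] at h1
      exact mul_eq_right.1 h1.symm
    have hz1 : z = 1 := by
      obtain ⟨k, hk⟩ := h.pgroup ⟨z, h.Z_le hz⟩
      have hk' : z ^ r ^ k = 1 := congrArg Subtype.val hk
      exact orderOf_eq_one_iff.1 (Nat.eq_one_of_dvd_coprimes (h.coprime_r.pow_left k)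
        (orderOf_dvd_of_pow_eq_one hk') (orderOf_dvd_of_pow_eq_one hzm))
    rw [hz1, one_mul] at hez
    exact hρZ (h.E_fpf e he heA ρ h.rho_mem (mul_inv_eq_iff_eq_mul.1 hez))
  -- `T` meets `P` in `Z`
  have hTP : ∀ q ∈ T, q ∈ P → q ∈ Z := by
    intro q hqT hqP
    by_contra hqZ
    set W := T ⊓ P with hW
    have hWr : IsPGroup r ↥W := h.pgroup.to_le inf_le_right
    have hρW : zpowers ρ ≤ normalizer (W : Set G) := zpowers_le.2 (mem_normalizer_iff_map_conj_eq.2
      (eq_of_le_of_card_ge (by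
        rintro _ ⟨s, hs, rfl⟩
        exact ⟨hR.conj_mem ρ hρH' s hs.1,
          (mem_normalizer_iff.1 (h.P_normal hρO) s).1 hs.2⟩)
        (card_map_of_injective (MulAut.conj ρ).injective).ge))
    have hdis : Disjoint W (zpowers ρ) := by
      rw [disjoint_iff_inf_le]
      rintro y ⟨hyW, hyρ⟩
      obtain ⟨i, rfl⟩ := mem_zpowers_iff.1 hyρ
      exact mem_bot.2 (eq_one_of_inverted (hodd (h.P_le hyW.2))
        (hR.inverted _ hyW.1) (hρa.zpow_right i))
    have hgenP : P ≤ W ⊔ zpowers ρ := by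
      refine (eq_of_le_of_card_ge (sup_le inf_le_right (zpowers_le.2 h.rho_mem)) ?_).ge
      rw [card_sup_of_disjoint hρW hdis, Nat.card_zpowers, h.rho_order, h.card_P]
      obtain ⟨i, hi⟩ := IsPGroup.iff_card.1 hWr
      obtain ⟨j, hj⟩ := IsPGroup.iff_card.1 (h.pgroup.to_le h.Z_le)
      have hlt : j < i := by
        by_contra hle
        have hZW : Z ≤ W := fun z hz => ⟨hZT z hz, h.Z_le hz⟩
        have := eq_of_le_of_card_ge hZW
          (by rw [hi, hj]; exact Nat.pow_le_pow_right h.prime.pos (Nat.le_of_not_lt hle))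
        exact hqZ (this.ge ⟨hqT, hqP⟩)
      have h2 : r ^ (j + 1) ≤ r ^ i := Nat.pow_le_pow_right h.prime.pos hlt
      rw [hi, hj]
      calc r ^ 2 * r ^ j = r ^ (j + 1) * r := by ring
        _ ≤ r ^ i * r := Nat.mul_le_mul_right r h2
    obtain ⟨u, huE, huA⟩ : ∃ u ∈ E, u ∉ A := by
      by_contra hcon
      have h1 := relIndex_eq_one.2 (show E ≤ A from fun u hu => by
        by_contra hu'; exact hcon ⟨u, hu, hu'⟩)
      have h2 := h.one_lt
      omega
    have hx : u * ρ * u⁻¹ ∈ P := (mem_normalizer_iff.1 (h.P_normal (h.E_le huE)) ρ).1 h.rho_mem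
    have hx' : u * ρ * u⁻¹ ∈ (↑(W ⊔ zpowers ρ) : Set G) := hgenP hx
    rw [coe_mul_of_right_le_normalizer_left W (zpowers ρ) hρW] at hx'
    obtain ⟨w, hw, v, hv, hwv⟩ := hx'
    obtain ⟨j, rfl⟩ := mem_zpowers_iff.1 hv
    have hwv : w * ρ ^ j = u * ρ * u⁻¹ := hwv
    -- `w` has order dividing `r`, so lies in `Z`
    have hwZ : w ∈ Z := by
      have hvP : ρ ^ j ∈ P := zpow_mem h.rho_mem j
      set c := ρ ^ j * w * (ρ ^ j)⁻¹ * w⁻¹ with hc
      obtain ⟨hcZ, hcr⟩ := h.comm_mem _ hvP w hw.2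
      have hwr : w ^ r = 1 := by
        have h1 := mul_pow_choose (w := w) (v := ρ ^ j) (c := c) (by rw [hc]; group)
          (h.commute_ZA (h.P_le hw.2) (mem_sup_left hcZ))
          (h.commute_ZA (h.P_le hvP) (mem_sup_left hcZ)) r
        have h2 : (u * ρ * u⁻¹) ^ r = 1 := by rw [conj_pow, hρr]; group
        have h3 : (ρ ^ j) ^ r = 1 := by
          rw [← zpow_natCast, ← zpow_mul, mul_comm, zpow_mul, zpow_natCast, hρr, one_zpow]
        obtain ⟨d, hd⟩ : r ∣ r.choose 2 :=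
          h.prime.dvd_choose_self (by norm_num) (by have := h.five_le; omega)
        rwa [hwv, h2, h3, mul_one, hd, pow_mul, hcr, one_pow, one_mul, eq_comm] at h1
      exact zpowers_le.2 hz₀Z
        (mem_zpowers_of_pow_eq_one h.prime hR.cyclic hz₀ (hZT z₀ hz₀Z) hw.1 hwr)
    have hwa : a * w * a⁻¹ = w⁻¹ := h.ZA_inverted w (mem_sup_left hwZ)
    have hwu : Commute w u := h.commute_ZA (h.E_le huE) (mem_sup_left hwZ)
    have hρw : Commute w ρ := hZρ w hwZ
    -- the second power of `u` fixes `ρ` modulo `Z`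
    have hinv : u⁻¹ * ρ * u = w⁻¹ * ρ ^ j := by
      calc u⁻¹ * ρ * u = a * u * a⁻¹ * (a * ρ * a⁻¹) * (a * u * a⁻¹)⁻¹ := by
            rw [h.E_inverted u huE, hρfix, inv_inv]
        _ = a * (u * ρ * u⁻¹) * a⁻¹ := by group
        _ = a * w * a⁻¹ * (a * ρ ^ j * a⁻¹) := by rw [← hwv]; group
        _ = w⁻¹ * ρ ^ j := by rw [hwa, (hρa.zpow_right j).eq, mul_inv_cancel_right]
    have hjj : ρ = (w⁻¹ * w ^ j) * ρ ^ (j * j) := by
      calc ρ = u * (u⁻¹ * ρ * u) * u⁻¹ := by group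
        _ = u * w⁻¹ * u⁻¹ * (u * ρ * u⁻¹) ^ j := by rw [hinv, conj_zpow]; group
        _ = w⁻¹ * (w * ρ ^ j) ^ j := by
          rw [hwv, ← hwu.inv_left.eq, mul_inv_cancel_right]
        _ = (w⁻¹ * w ^ j) * ρ ^ (j * j) := by
          rw [(hρw.zpow_right j).mul_zpow, ← zpow_mul, mul_assoc]
    have hd : ((r : ℕ) : ℤ) ∣ j * j - 1 := by
      have h1 : ρ ^ (j * j - 1) = (w⁻¹ * w ^ j)⁻¹ := by
        rw [zpow_sub_one]; nth_rw 2 [hjj]; group
      have h2 : ρ ^ (j * j - 1) = 1 := by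
        refine eq_one_of_inverted (hodd (zpow_mem hρO _)) ?_ (hρa.zpow_right _)
        have hmem : (w⁻¹ * w ^ j)⁻¹ ∈ Z ⊔ A :=
          inv_mem (mul_mem (inv_mem (mem_sup_left hwZ)) (zpow_mem (mem_sup_left hwZ) j))
        rw [h1]; exact h.ZA_inverted _ hmem
      rw [← h.rho_order]; exact orderOf_dvd_iff_zpow_eq_one.2 h2
    have hj : ρ ^ j = ρ ∨ ρ ^ j = ρ⁻¹ := by
      rw [show j * j - 1 = (j - 1) * (j + 1) by ring] at hd
      rcases (Nat.prime_iff_prime_int.1 h.prime).dvd_or_dvd hd with h1 | h1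
      · left
        have := orderOf_dvd_iff_zpow_eq_one.1 (by rwa [h.rho_order] : (orderOf ρ : ℤ) ∣ j - 1)
        rwa [zpow_sub_one, mul_inv_eq_one] at this
      · right
        have := orderOf_dvd_iff_zpow_eq_one.1 (by rwa [h.rho_order] : (orderOf ρ : ℤ) ∣ j + 1)
        rw [zpow_add_one, mul_eq_one_iff_eq_inv] at this
        exact this
    have huu : u * u ∉ A := fun h2 => huA (mem_of_sq_mem (hodd (h.E_le huE)) (by rwa [pow_two]))
    have hsq : u * u * ρ * (u * u)⁻¹ = w * (u * ρ ^ j * u⁻¹) := by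
      rw [show u * u * ρ * (u * u)⁻¹ = u * (u * ρ * u⁻¹) * u⁻¹ by group, ← hwv,
        ← mul_assoc u w, ← hwu.eq]
      group
    rcases hj with hj | hj
    · rw [hj] at hsq hwv
      rw [← hwv, ← mul_assoc] at hsq
      exact huu (hfix _ (mul_mem huE huE) (w * w) (mul_mem hwZ hwZ) hsq)
    · rw [hj, show u * ρ⁻¹ * u⁻¹ = (u * ρ * u⁻¹)⁻¹ by group, ← hwv, hj] at hsq
      refine huu (hfix _ (mul_mem huE huE) 1 (one_mem _) ?_)
      rw [hsq, one_mul]
      calc w * (w * ρ⁻¹)⁻¹ = w * ρ * w⁻¹ := by group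
        _ = ρ := by rw [hρw.eq, mul_inv_cancel_right]
  -- `ρ` centralises `T`
  have hρT : ∀ s ∈ T, Commute ρ s := by
    intro s hs
    obtain ⟨hsO, hsH⟩ : s ∈ oddPart t ∧ s ∈ H := hR.le hs
    obtain ⟨n, hn, e, he, hse⟩ := h.mem_O hsO
    obtain ⟨p, hp, b, hb, rfl⟩ := h.mem_PA hn
    set c := ρ * s * ρ⁻¹ * s⁻¹ with hc
    have hcP : c ∈ P := by
      rw [hc, show ρ * s * ρ⁻¹ * s⁻¹ = ρ * (s * ρ⁻¹ * s⁻¹) by group]
      exact mul_mem h.rho_mem ((mem_normalizer_iff.1 (h.P_normal hsO) _).1 (inv_mem h.rho_mem))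
    have hcZ : c ∈ Z := hTP c (mul_mem (hR.conj_mem ρ hρH' s hs) (inv_mem hs)) hcP
    have hbρ : Commute b ρ := h.commute_ZA hρO (mem_sup_right hb)
    have hz : p⁻¹ * ρ * p * ρ⁻¹ ∈ Z := by
      simpa using (h.comm_mem p⁻¹ (inv_mem hp) ρ h.rho_mem).1
    have hsρ : s * ρ * s⁻¹ = c⁻¹ * ρ := by rw [hc]; group
    have hpbc : Commute (p * b) c⁻¹ :=
      (h.commute_ZA (mul_mem (h.P_le hp) (h.A_le hb)) (mem_sup_left (inv_mem hcZ))).symm
    have heρ : e * ρ * e⁻¹ = c⁻¹ * (p⁻¹ * ρ * p * ρ⁻¹) * ρ := by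
      calc e * ρ * e⁻¹ = (p * b)⁻¹ * (s * ρ * s⁻¹) * (p * b) := by rw [hse]; group
        _ = c⁻¹ * ((p * b)⁻¹ * ρ * (p * b)) := by
          rw [hsρ, ← mul_assoc _ c⁻¹, ← (hpbc.inv_left).eq.symm]; group
        _ = c⁻¹ * (b⁻¹ * (p⁻¹ * ρ * p * ρ⁻¹) * b * (b⁻¹ * ρ * b)) := by group
        _ = c⁻¹ * (p⁻¹ * ρ * p * ρ⁻¹) * ρ := by
          rw [← (h.commute_ZA (h.A_le (inv_mem hb)) (mem_sup_left hz)).eq, inv_mul_cancel_right,
            ← hbρ.inv_left.eq.symm]
          group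
    have heA : e ∈ A := hfix e he _ (mul_mem (inv_mem hcZ) hz) heρ
    have hbe : b * e ∈ A := mul_mem hb heA
    have hbeρ : Commute (b * e) ρ := h.commute_ZA hρO (mem_sup_right hbe)
    have hse' : s = p * (b * e) := by rw [hse, mul_assoc]
    have hpT : p ∈ T := by
      refine hR.mem p ⟨h.P_le hp, ?_⟩ ?_
      · rw [show p = s * (b * e)⁻¹ by rw [hse', mul_inv_cancel_right]]
        exact H.mul_mem hsH (H.inv_mem (hcH hbeρ))
      · have hcomm : Commute (b * e) p := h.commute_ZA (h.P_le hp) (mem_sup_right hbe)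
        have h1 := hR.inverted s hs
        rw [hse', show a * (p * (b * e)) * a⁻¹ = a * p * a⁻¹ * (a * (b * e) * a⁻¹) by group,
          h.ZA_inverted _ (mem_sup_right hbe), mul_inv_rev p (b * e), hcomm.inv_inv.eq] at h1
        exact mul_right_cancel h1
    rw [hse']
    exact ((hZρ p (hTP p hpT hp)).mul_left hbeρ).symm
  obtain ⟨g, hgL, hg⟩ := hR.exists_rot hT
  exact ⟨g, hg, mem_centralizer_iff.1 (hR.core_comm (hR.mem_core hT ρ hρH' hρa hρT)) g hgL⟩

end CfsgLib.GWKlein
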