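import Cfsg.Agent.Lib.GWKlein.LinDegrees

/-!
# Klein four Sylow subgroup: the constituents of an invariant linear character

Multiplicities on the four-group, the congruences of degrees and signs, and the common value of the
weighted sums of all invariant linear characters.
-/

set_option autoImplicit false
set_option linter.unusedSectionVars false
set_option linter.style.haveILetI false

universe u

namespace CfsgLib.GWKlein

open Subgroup Cfsg BrauerSuzuki
open scoped Classical ComplexConjugate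

variable {G : Type u} [Group G] [Fintype G] {t a : G}

/-- The degree of an irreducible character. -/
noncomputable def irrDeg (χ : IrrCharacter G) : ℕ :=
  (Char.IsIrrCharacter.apply_one_dvd_card χ.2).choose

theorem cast_irrDeg (χ : IrrCharacter G) : (irrDeg χ : ℂ) = (χ : G → ℂ) 1 :=
  (Char.IsIrrCharacter.apply_one_dvd_card χ.2).choose_spec.1.symm

theorem irrDeg_pos (χ : IrrCharacter G) : 0 < irrDeg χ :=
  Nat.pos_of_ne_zero fun h => Char.IsIrrCharacter.apply_one_ne_zero χ.2 (by
    rw [← cast_irrDeg, h, Nat.cast_zero])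

/-- The principal character is the only linear one of a non-abelian simple group. -/
theorem eq_trivChar_of_irrDeg_one [IsSimpleGroup G] (hnc : ¬ IsMulCommutative G)
    {χ : IrrCharacter G} (h : irrDeg χ = 1) : χ = Blocks.trivChar G := by
  obtain ⟨φ, hφ⟩ := Char.exists_hom_of_apply_one_eq_one (Char.isCharacter_irr χ)
    (by rw [← cast_irrDeg, h, Nat.cast_one])
  rcases IsSimpleGroup.eq_bot_or_eq_top_of_normal φ.ker inferInstance with hk | hk
  · refine absurd ⟨⟨fun x y => ?_⟩⟩ hnc
    exact (MonoidHom.ker_eq_bot_iff φ).1 hk (by rw [map_mul, map_mul, mul_comm])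
  · refine Subtype.ext (funext fun x => ?_)
    have hx : φ x = 1 := MonoidHom.mem_ker.1 (hk ▸ mem_top x)
    simp [hφ, hx]

/-- An element on which a non-principal irreducible character takes its degree is trivial. -/
theorem eq_one_of_apply_eq_deg [IsSimpleGroup G] {χ : IrrCharacter G}
    (hχ : χ ≠ Blocks.trivChar G) {x : G} (hx : (χ : G → ℂ) x = (χ : G → ℂ) 1) : x = 1 := by
  obtain ⟨n, ρ, hirr, he⟩ := χ.2
  rw [← he] at hx
  rw [Representation.char_one] at hx
  have h1 := (Char.char_eq_finrank_iff ρ x).1 hx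
  have hker : x ∈ ρ.ker := by
    rw [MonoidHom.mem_ker, h1]; rfl
  rcases IsSimpleGroup.eq_bot_or_eq_top_of_normal ρ.ker inferInstance with hk | hk
  · rwa [hk, mem_bot] at hker
  · exfalso
    have hconst : ∀ y : G, (χ : G → ℂ) y = (χ : G → ℂ) 1 := fun y => by
      rw [← he]
      simp only [Representation.character]
      rw [show ρ y = ρ 1 by rw [MonoidHom.mem_ker.1 (hk ▸ mem_top y : y ∈ ρ.ker), map_one]]
    have h2 := Char.classInner_irr_ne χ.2 (Blocks.trivChar G).2 fun e => hχ (Subtype.ext e)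
    rw [Cfsg.classInner] at h2
    simp only [Blocks.trivChar_apply, map_one, mul_one, hconst, Finset.sum_const, Finset.card_univ,
      ← Nat.card_eq_fintype_card, nsmul_eq_mul] at h2
    rw [← mul_assoc, inv_mul_cancel₀ Char.card_ne_zero, one_mul] at h2
    exact Char.IsIrrCharacter.apply_one_ne_zero χ.2 h2

namespace Setting

variable (S : Setting G t a)
include S

/-- The multiplicity of the trivial character of the four-group. -/
theorem four_mult (χ : IrrCharacter G) :
    ∃ m : ℕ, (χ : G → ℂ) 1 + (χ : G → ℂ) t + (χ : G → ℂ) a + (χ : G → ℂ) (t * a) = 4 * m ∧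
      (m = 0 → ∀ d : G, (χ : G → ℂ) d + (χ : G → ℂ) (t * d) + (χ : G → ℂ) (a * d) +
        (χ : G → ℂ) (t * a * d) = 0) := by
  obtain ⟨n, ρ, -, he⟩ := χ.2
  rw [← he]
  set E : Module.End ℂ (Fin n → ℂ) := ρ 1 + ρ t + ρ a + ρ (t * a) with hE
  have hvE : ρ t * E = E ∧ ρ a * E = E ∧ ρ (t * a) * E = E := by
    have e1 : t * (t * a) = a := by rw [← mul_assoc, S.t_mul_self, one_mul]
    have e2 : a * t = t * a := S.comm.symm.eq
    have e3 : a * (t * a) = t := by rw [← mul_assoc, e2, mul_assoc, S.a_mul_self, mul_one]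
    have e4 : t * a * t = a := by rw [mul_assoc, e2, e1]
    have e5 : t * a * a = t := by rw [mul_assoc, S.a_mul_self, mul_one]
    refine ⟨?_, ?_, ?_⟩ <;>
      simp only [hE, mul_add, ← map_mul, mul_one, S.t_mul_self, S.a_mul_self, S.ta_mul_self, e1,
        e2, e3, e4, e5] <;> abel
  have hEE : E * E = (4 : ℂ) • E := by
    calc E * E = ρ 1 * E + ρ t * E + ρ a * E + ρ (t * a) * E := by
          rw [hE]; simp only [add_mul]
      _ = (4 : ℂ) • E := by
          rw [hvE.1, hvE.2.1, hvE.2.2, map_one, one_mul]; module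
  set P : Module.End ℂ (Fin n → ℂ) := (4 : ℂ)⁻¹ • E with hP
  have hPP : P * P = P := by
    rw [hP, smul_mul_smul_comm, hEE, smul_smul]; norm_num
  have hproj : LinearMap.IsProj (LinearMap.range P) P :=
    ⟨fun x => LinearMap.mem_range_self P x, by
      rintro _ ⟨y, rfl⟩
      exact LinearMap.congr_fun hPP y⟩
  refine ⟨Module.finrank ℂ (LinearMap.range P), ?_, fun h0 d => ?_⟩
  · have h := hproj.trace
    rw [hP, map_smul, smul_eq_mul] at h
    simp only [Representation.character]
    have h' : LinearMap.trace ℂ _ E = 4 * (Module.finrank ℂ (LinearMap.range P) : ℂ) := by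
      rw [hP]; linear_combination 4 * h
    rw [← h', hE]
    simp only [map_add]
  · have hP0 : P = 0 := LinearMap.range_eq_bot.1 (Submodule.finrank_eq_zero.1 h0)
    have hE0 : E = 0 := by
      rw [hP, smul_eq_zero] at hP0
      exact hP0.resolve_left (by norm_num)
    have h : LinearMap.trace ℂ _ (E * ρ d) = 0 := by rw [hE0, zero_mul, map_zero]
    rw [hE] at h
    simp only [add_mul, map_add, ← map_mul, one_mul] at h
    simpa [Representation.character] using h

theorem apply_a_eq {g : G} (hg : Rot t a g) (χ : IrrCharacter G) :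
    (χ : G → ℂ) a = (χ : G → ℂ) t ∧ (χ : G → ℂ) (t * a) = (χ : G → ℂ) t := by
  refine ⟨?_, ?_⟩
  · rw [← hg.1, Blocks.irr_conj_apply]
  · rw [← hg.2, Blocks.irr_conj_apply, ← hg.1, Blocks.irr_conj_apply]

/-- The degree and the value at `t` modulo 4. -/
theorem deg_mod_four {g : G} (hg : Rot t a g) (χ : IrrCharacter G) {w : ℤ}
    (hw : (χ : G → ℂ) t = w) :
    ∃ m : ℕ, (irrDeg χ : ℤ) + 3 * w = 4 * m ∧
      (m = 0 → ∀ d : G, (χ : G → ℂ) d + (χ : G → ℂ) (t * d) + (χ : G → ℂ) (a * d) +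
        (χ : G → ℂ) (t * a * d) = 0) := by
  obtain ⟨m, hm, hm0⟩ := S.four_mult χ
  refine ⟨m, ?_, hm0⟩
  obtain ⟨ha, hta⟩ := S.apply_a_eq hg χ
  rw [ha, hta, hw, ← cast_irrDeg] at hm
  have : ((irrDeg χ : ℂ) + 3 * (w : ℂ)) = 4 * (m : ℂ) := by rw [← hm]; ring
  exact_mod_cast this

/-- The weighted sum of an invariant linear character. -/
noncomputable def ratioSum (φ : oddPart t →* ℂˣ) : ℂ :=
  ∑ χ : IrrCharacter G,
    (coeff (S.lift fun y => (φ y : ℂ)) χ : ℂ) * (χ : G → ℂ) t ^ 2 / (χ : G → ℂ) 1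

/-- All invariant linear characters have the same weighted sum. -/
theorem ratioSum_eq {g : G} (hg : Rot t a g) {φ : oddPart t →* ℂˣ}
    (hφ : ∀ y, φ (S.aConj y) = φ y) : S.ratioSum φ = S.ratioSum 1 := by
  have hK : (Nat.card G : ℂ) *
      (Nat.card ↥(oddPart t ⊓ centralizer ({a} : Set G)) : ℂ) ^ 2 ≠ 0 :=
    mul_ne_zero Char.card_ne_zero (pow_ne_zero 2 (Nat.cast_ne_zero.2 Nat.card_pos.ne'))
  refine mul_left_cancel₀ hK ?_
  rw [ratioSum, ratioSum, S.weighted_eq hg (Char.isCharacter_hom φ),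
    S.weighted_eq hg (Char.isCharacter_hom (1 : oddPart t →* ℂˣ)), S.twist_of_linear hφ,
    S.twist_of_linear fun y => rfl]

/-- The four constituents. -/
theorem exists_four {μ : oddPart t → ℂ} (hμ : IsIrrCharacter (oddPart t) μ)
    (ha : ∀ y, μ (S.aConj y) = μ y) :
    ∃ θ : Fin 4 → IrrCharacter G, Function.Injective θ ∧
      ∀ χ, coeff (S.lift μ) χ ≠ 0 ↔ ∃ i, θ i = χ := by
  set s := Finset.univ.filter fun χ : IrrCharacter G => coeff (S.lift μ) χ ≠ 0
  let e := s.equivFinOfCardEq (S.card_constituents hμ ha)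
  refine ⟨fun i => (e.symm i : IrrCharacter G), Subtype.val_injective.comp e.symm.injective,
    fun χ => ⟨fun h => ⟨e ⟨χ, Finset.mem_filter.2 ⟨Finset.mem_univ _, h⟩⟩, by simp⟩, ?_⟩⟩
  rintro ⟨i, rfl⟩
  exact (Finset.mem_filter.1 (e.symm i).2).2

/-- A sum over the constituents. -/
theorem sum_coeff_four {μ : oddPart t → ℂ} {θ : Fin 4 → IrrCharacter G}
    (hinj : Function.Injective θ) (hθ : ∀ χ, coeff (S.lift μ) χ ≠ 0 → ∃ i, θ i = χ)
    {R : Type*} [CommRing R] (f : IrrCharacter G → R) :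
    ∑ χ : IrrCharacter G, (coeff (S.lift μ) χ : R) * f χ =
      ∑ i, (coeff (S.lift μ) (θ i) : R) * f (θ i) := by
  rw [← Finset.sum_subset (Finset.subset_univ (Finset.univ.image θ)) (fun χ _ hχ => by
    rw [show coeff (S.lift μ) χ = 0 from by
      by_contra h
      obtain ⟨i, rfl⟩ := hθ χ h
      exact hχ (Finset.mem_image.2 ⟨i, Finset.mem_univ _, rfl⟩), Int.cast_zero, zero_mul]),
    Finset.sum_image fun i _ j _ e => hinj e]

/-- The principal character is a constituent of the principal character of `oddPart t` only. -/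
theorem coeff_triv {φ : oddPart t →* ℂˣ} :
    coeff (S.lift fun y => (φ y : ℂ)) (Blocks.trivChar G) = if φ = 1 then 1 else 0 := by
  have h := S.cast_coeff_lift (Char.isCharacter_hom φ) (Blocks.trivChar G)
  rw [sect] at h
  simp only [Blocks.trivChar_apply] at h
  have h1 := classInner_hom (K := oddPart t) 1 φ
  simp only [MonoidHom.one_apply, Units.val_one] at h1
  rw [h1] at h
  by_cases hφ : φ = 1
  · rw [if_pos hφ.symm] at h; rw [if_pos hφ]; exact_mod_cast h
  · rw [if_neg fun e => hφ e.symm] at h; rw [if_neg hφ]; exact_mod_cast h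

variable {M : Ideal AlgInt} (hM : IsPModular 2 M)
include hM

/-- A non-linear constituent of a rotation-fixed invariant linear character. -/
theorem signDeg_of_ne_one {g : G} (hg : Rot t a g)
    {φ : oddPart t →* ℂˣ} (hφ : ∀ y, φ (S.aConj y) = φ y)
    (hfix : ∀ d : fixPart t a, φ (S.rotAut hg d : oddPart t) = φ (d : oddPart t))
    {χ : IrrCharacter G} (hc : coeff (S.lift fun y => (φ y : ℂ)) χ ≠ 0)
    (hne : irrDeg χ ≠ 1) :
    SignDeg (coeff (S.lift fun y => (φ y : ℂ)) χ) (irrDeg χ) ∧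
      (χ : G → ℂ) t = (coeff (S.lift fun y => (φ y : ℂ)) χ : ℂ) ∧
      ∀ y : oddPart t, (χ : G → ℂ) (t * y) =
        (coeff (S.lift fun y => (φ y : ℂ)) χ : ℂ) * (φ y : ℂ) := by
  have hval := S.sect_values hM hg χ (Char.isIrrCharacter_hom φ) (fun y => by rw [hφ])
    (fun d => by rw [hfix]) hc
  have ht : (χ : G → ℂ) t = (coeff (S.lift fun y => (φ y : ℂ)) χ : ℂ) := by
    have := hval 1
    simpa using this
  refine ⟨?_, ht, hval⟩
  obtain ⟨m, hm, -⟩ := S.deg_mod_four hg χ ht
  rcases S.coeff_eq_one_or (Char.isIrrCharacter_hom φ) hc with e | e <;> rw [e] at hm ⊢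
  · exact Or.inl ⟨rfl, by omega, by omega⟩
  · exact Or.inr ⟨rfl, by omega⟩

/-- A constituent of a rotation-fixed invariant linear character, not principal. -/
theorem signDeg_of_coeff [IsSimpleGroup G] (hnc : ¬ IsMulCommutative G) {g : G} (hg : Rot t a g)
    {φ : oddPart t →* ℂˣ} (hφ : ∀ y, φ (S.aConj y) = φ y)
    (hfix : ∀ d : fixPart t a, φ (S.rotAut hg d : oddPart t) = φ (d : oddPart t))
    {χ : IrrCharacter G} (hc : coeff (S.lift fun y => (φ y : ℂ)) χ ≠ 0)
    (hχ : χ ≠ Blocks.trivChar G) :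
    SignDeg (coeff (S.lift fun y => (φ y : ℂ)) χ) (irrDeg χ) ∧
      (χ : G → ℂ) t = (coeff (S.lift fun y => (φ y : ℂ)) χ : ℂ) ∧
      ∀ y : oddPart t, (χ : G → ℂ) (t * y) =
        (coeff (S.lift fun y => (φ y : ℂ)) χ : ℂ) * (φ y : ℂ) :=
  S.signDeg_of_ne_one hM hg hφ hfix hc fun h => hχ (eq_trivChar_of_irrDeg_one hnc h)

/-- A degree 3 constituent of sign `-` of the principal character kills `fixPart`. -/
theorem fixPart_trivial_of_three [IsSimpleGroup G] {g : G} (hg : Rot t a g) {χ : IrrCharacter G}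
    (hχ : χ ≠ Blocks.trivChar G) (hdeg : irrDeg χ = 3)
    (hval : ∀ y : oddPart t, (χ : G → ℂ) (t * y) = -1) (d : fixPart t a) : d = 1 := by
  have ht : (χ : G → ℂ) t = ((-1 : ℤ) : ℂ) := by simpa using hval 1
  obtain ⟨m, hm, hm0⟩ := S.deg_mod_four hg χ ht
  have hm' : m = 0 := by rw [hdeg] at hm; omega
  have ha : ∀ e : fixPart t a, (χ : G → ℂ) (a * ((e : oddPart t) : G)) = -1 := by
    intro e
    obtain ⟨e', rfl⟩ := (S.rotAut hg).surjective e
    rw [S.coe_rotAut, show ∀ x : G, a * (g * x * g⁻¹) = g * (t * x) * g⁻¹ from fun x => by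
      rw [← conj_mul, hg.1], Blocks.irr_conj_apply, hval]
  have hta : (χ : G → ℂ) (t * a * ((d : oddPart t) : G)) = -1 := by
    obtain ⟨d', rfl⟩ := (S.rotAut hg).surjective d
    rw [S.coe_rotAut, show ∀ x : G, t * a * (g * x * g⁻¹) = g * (a * x) * g⁻¹ from fun x => by
      rw [← conj_mul, hg.2], Blocks.irr_conj_apply, ha]
  have h := hm0 hm' ((d : oddPart t) : G)
  rw [hval, ha, hta] at h
  have hd : (χ : G → ℂ) ((d : oddPart t) : G) = (χ : G → ℂ) 1 := by
    rw [← cast_irrDeg, hdeg]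
    push_cast
    linear_combination h
  exact Subtype.ext (Subtype.ext (eq_one_of_apply_eq_deg hχ hd))

end Setting

end CfsgLib.GWKlein
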