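import Cfsg.Agent.Lib.Char.Virtual
import Mathlib.GroupTheory.FiniteAbelian.Duality
import Mathlib.Analysis.Complex.Polynomial.Basic

/-!
# Multiplicities on a subgroup times a commuting involution

For a subgroup `H`, an involution `t` centralising it and a linear character `λ` of `H`,
`mult H t χ λ` is the multiplicity in `χ` of the character of `H × ⟨t⟩` extending `λ` and trivial on
`t`; `twist H t f` is the function induced from the corresponding extension of `f`.
-/

set_option autoImplicit false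
set_option linter.unusedSectionVars false
set_option linter.style.haveILetI false

open scoped ComplexConjugate

namespace CfsgLib.GWKlein

variable {G : Type*} [Group G]

/-- The conjugate of a linear character is its inverse. -/
theorem conj_hom_apply {K : Type*} [Group K] [Finite K] (φ : K →* ℂˣ) (x : K) :
    conj (φ x : ℂ) = ((φ x⁻¹ : ℂˣ) : ℂ) :=
  (Char.IsCharacter.apply_inv (Char.isCharacter_hom φ) x).symm

theorem hom_mul_conj {K : Type*} [Group K] [Finite K] (φ : K →* ℂˣ) (x : K) :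
    (φ x : ℂ) * conj (φ x : ℂ) = 1 := by
  rw [conj_hom_apply, ← Units.val_mul, ← map_mul, mul_inv_cancel, map_one, Units.val_one]

/-- The multiplicity of the extension of `φ` trivial on `t`. -/
noncomputable def mult (H : Subgroup G) [Fintype H] (t : G) (χ : G → ℂ) (φ : H →* ℂˣ) : ℂ :=
  (2 * (Nat.card H : ℂ))⁻¹ * ∑ y : H, (χ y + χ (t * y)) * conj (φ y : ℂ)

/-- Induction from `H × ⟨t⟩` of the extension of `f` constant along `t`. -/
noncomputable def twist [Fintype G] (H : Subgroup G) (t : G) (f : H → ℂ) (x : G) : ℂ :=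
  (2 * (Nat.card H : ℂ))⁻¹ * ∑ g : G,
    (Cfsg.extendByZero H f (g⁻¹ * x * g) + Cfsg.extendByZero H f (t * (g⁻¹ * x * g)))

/-- `mult` is a natural number, and the determinant divisibility on the eigenspace. -/
theorem exists_mult [Finite G] {χ : G → ℂ} (hχ : Cfsg.IsCharacter G χ) {t : G} (ht : t * t = 1)
    (H : Subgroup G) [Fintype H] (htH : ∀ y ∈ H, Commute t y) (φ : H →* ℂˣ) :
    ∃ d : ℕ, mult H t χ φ = d ∧ ∀ p q : G, (∀ y ∈ H, Commute p y) → (∀ y ∈ H, Commute q y) →
      Commute p t → Commute q t → ∀ hz : p * q * p⁻¹ * q⁻¹ ∈ H,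
        (φ ⟨_, hz⟩ : ℂ) ^ d = 1 := by
  obtain ⟨n, ρ, rfl⟩ := hχ
  let W : Submodule ℂ (Fin n → ℂ) :=
    { carrier := {v | (∀ y : H, ρ y v = (φ y : ℂ) • v) ∧ ρ t v = v}
      add_mem' := fun {v w} hv hw => ⟨fun y => by rw [map_add, hv.1 y, hw.1 y, smul_add],
        by rw [map_add, hv.2, hw.2]⟩
      zero_mem' := ⟨fun y => by rw [map_zero, smul_zero], map_zero _⟩
      smul_mem' := fun c v hv => ⟨fun y => by rw [map_smul, hv.1 y, smul_comm],
        by rw [map_smul, hv.2]⟩ }
  have hW : ∀ {v : Fin n → ℂ}, v ∈ W ↔ (∀ y : H, ρ y v = (φ y : ℂ) • v) ∧ ρ t v = v := Iff.rfl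
  set c : ℂ := (2 * (Nat.card H : ℂ))⁻¹ with hc
  let Q : Module.End ℂ (Fin n → ℂ) :=
    c • ∑ y : H, conj (φ y : ℂ) • (ρ y + ρ (t * y))
  have hQ : ∀ v, Q v = c • ∑ y : H, conj (φ y : ℂ) • (ρ y v + ρ t (ρ y v)) := fun v => by
    simp only [Q, LinearMap.smul_apply, LinearMap.coe_sum, Finset.sum_apply, LinearMap.add_apply,
      map_mul, Module.End.mul_apply]
  have hcard : c * (2 * (Nat.card H : ℂ)) = 1 := inv_mul_cancel₀ (by
    have : (Nat.card H : ℂ) ≠ 0 := Nat.cast_ne_zero.2 Nat.card_pos.ne'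
    simp [this])
  have hproj : LinearMap.IsProj W Q := by
    refine ⟨fun v => hW.2 ⟨fun h => ?_, ?_⟩, fun v hv => ?_⟩
    · rw [hQ, map_smul, map_sum, smul_comm (φ h : ℂ) c]
      congr 1
      rw [Finset.smul_sum]
      refine Fintype.sum_equiv (Equiv.mulLeft h) _ _ fun y => ?_
      have e : ∀ w, ρ (h : G) (ρ t w) = ρ t (ρ (h : G) w) := fun w => by
        rw [← Module.End.mul_apply, ← map_mul, ← (htH h h.2).eq, map_mul, Module.End.mul_apply]
      rw [map_smul, map_add, e, smul_smul, Equiv.coe_mulLeft, Subgroup.coe_mul, map_mul ρ,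
        Module.End.mul_apply, map_mul φ, Units.val_mul, map_mul (starRingEnd ℂ)]
      congr 1
      linear_combination (norm := ring_nf) -(conj (φ y : ℂ)) * hom_mul_conj φ h
    · rw [hQ, map_smul, map_sum]
      congr 1
      refine Finset.sum_congr rfl fun y _ => ?_
      rw [map_smul, map_add, show ρ t (ρ t (ρ (y : G) v)) = ρ (y : G) v by
        rw [← Module.End.mul_apply, ← map_mul, ht, map_one, Module.End.one_apply], add_comm]
    · rw [hQ, Finset.sum_congr rfl fun y _ => show
        conj (φ y : ℂ) • (ρ (y : G) v + ρ t (ρ (y : G) v)) = (2 : ℂ) • v by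
          rw [hv.1 y, map_smul, hv.2, ← add_smul, smul_smul]
          congr 1
          linear_combination 2 * hom_mul_conj φ y, Finset.sum_const, Finset.card_univ,
        ← Nat.card_eq_fintype_card, ← Nat.cast_smul_eq_nsmul ℂ, smul_smul, smul_smul]
      rw [show c * (Nat.card H : ℂ) * 2 = 1 by rw [← hcard]; ring, one_smul]
  refine ⟨Module.finrank ℂ W, ?_, fun p q hp hq hpt hqt hz => ?_⟩
  · rw [← hproj.trace]
    simp only [Q, map_smul, map_sum, map_add, smul_eq_mul]
    unfold mult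
    congr 1
    exact Finset.sum_congr rfl fun y _ => by
      simp only [Representation.character]; ring
  · have hst : ∀ {x : G}, (∀ y ∈ H, Commute x y) → Commute x t → ∀ v ∈ W, ρ x v ∈ W :=
      fun {x} hx hxt v hv => hW.2 ⟨fun y => by
        rw [← Module.End.mul_apply, ← map_mul, ← (hx y y.2).eq, map_mul, Module.End.mul_apply,
          hv.1 y, map_smul], by
        rw [← Module.End.mul_apply, ← map_mul, ← hxt.eq, map_mul, Module.End.mul_apply, hv.2]⟩
    let A := (ρ p).restrict (hst hp hpt)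
    let B := (ρ q).restrict (hst hq hqt)
    let A' := (ρ p⁻¹).restrict (hst (fun y hy => (hp y hy).inv_left) hpt.inv_left)
    let B' := (ρ q⁻¹).restrict (hst (fun y hy => (hq y hy).inv_left) hqt.inv_left)
    have e : A * B * A' * B' = (φ ⟨_, hz⟩ : ℂ) • (1 : Module.End ℂ W) := by
      refine LinearMap.ext fun v => Subtype.ext ?_
      show ρ p (ρ q (ρ p⁻¹ (ρ q⁻¹ (v : Fin n → ℂ)))) = _
      rw [← Module.End.mul_apply, ← map_mul, ← Module.End.mul_apply, ← map_mul,
        ← Module.End.mul_apply, ← map_mul]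
      exact (hW.1 v.2).1 ⟨_, hz⟩
    have hAA : A * A' = 1 := LinearMap.ext fun v => Subtype.ext (by
      show ρ p (ρ p⁻¹ (v : Fin n → ℂ)) = v
      rw [← Module.End.mul_apply, ← map_mul, mul_inv_cancel, map_one, Module.End.one_apply])
    have hBB : B * B' = 1 := LinearMap.ext fun v => Subtype.ext (by
      show ρ q (ρ q⁻¹ (v : Fin n → ℂ)) = v
      rw [← Module.End.mul_apply, ← map_mul, mul_inv_cancel, map_one, Module.End.one_apply])
    have h := congrArg LinearMap.det e
    rw [LinearMap.det_smul, map_one, mul_one, map_mul, map_mul, map_mul,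
      show LinearMap.det A * LinearMap.det B * LinearMap.det A' * LinearMap.det B' =
        LinearMap.det (A * A') * LinearMap.det (B * B') by rw [map_mul, map_mul]; ring,
      hAA, hBB, map_one, one_mul] at h
    exact h.symm

section twist

variable [Fintype G]

theorem twist_sub (H : Subgroup G) (t : G) (f f' : H → ℂ) :
    twist H t (f - f') = twist H t f - twist H t f' := by
  funext x
  simp only [twist, Pi.sub_apply, ← mul_sub, ← Finset.sum_sub_distrib]
  congr 1
  refine Finset.sum_congr rfl fun g _ => ?_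
  have : ∀ w, Cfsg.extendByZero H (f - f') w =
      Cfsg.extendByZero H f w - Cfsg.extendByZero H f' w := fun w => by
    by_cases hw : w ∈ H <;>
      simp [Char.extendByZero_apply_mem, Char.extendByZero_apply_notMem, hw]
  rw [this, this]
  ring

theorem isClassFunction_twist (H : Subgroup G) (t : G) (f : H → ℂ) :
    Cfsg.IsClassFunction G (twist H t f) := by
  intro x y
  simp only [twist]
  congr 1
  refine Fintype.sum_equiv (Equiv.mulLeft y⁻¹) _ _ fun g => ?_
  simp [mul_assoc]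

/-- Reciprocity for `twist`. -/
theorem classInner_twist (H : Subgroup G) [Fintype H] {t : G} (ht : t * t = 1) (f : H → ℂ)
    {χ : G → ℂ} (hχ : Cfsg.IsClassFunction G χ) :
    Cfsg.classInner (twist H t f) χ =
      (2 * (Nat.card H : ℂ))⁻¹ * ∑ y : H, f y * (conj (χ y) + conj (χ (t * y))) := by
  simp only [Cfsg.classInner, twist, mul_assoc, ← Finset.mul_sum, Finset.sum_mul]
  rw [Finset.sum_comm]
  have h : ∀ g : G, ∑ x : G, (Cfsg.extendByZero H f (g⁻¹ * (x * g)) +
      Cfsg.extendByZero H f (t * (g⁻¹ * (x * g)))) * conj (χ x) =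
      ∑ y : H, f y * (conj (χ y) + conj (χ (t * y))) := by
    intro g
    calc ∑ x : G, (Cfsg.extendByZero H f (g⁻¹ * (x * g)) +
          Cfsg.extendByZero H f (t * (g⁻¹ * (x * g)))) * conj (χ x)
        = ∑ w : G, (Cfsg.extendByZero H f w + Cfsg.extendByZero H f (t * w)) * conj (χ w) :=
          Fintype.sum_equiv (MulAut.conj g⁻¹).toEquiv _ _ fun x => by
            have h1 : χ (g⁻¹ * (x * g)) = χ x := by simpa [mul_assoc] using hχ x g⁻¹
            simp [mul_assoc, h1]
      _ = ∑ w : G, Cfsg.extendByZero H f w * (conj (χ w) + conj (χ (t * w))) := by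
          simp only [add_mul, mul_add, Finset.sum_add_distrib]
          congr 1
          refine Fintype.sum_equiv (Equiv.mulLeft t) _ _ fun w => ?_
          simp [← mul_assoc, ht]
      _ = _ := Char.sum_extendByZero_mul H f _
  simp only [h, Finset.sum_const, Finset.card_univ, nsmul_eq_mul, ← Nat.card_eq_fintype_card]
  field_simp [Char.card_ne_zero (G := G)]

end twist

section dual

variable {K : Type*} [Group K] [Fintype K]

theorem finite_dual : Finite (K →* ℂˣ) := Finite.of_injective _ (Char.homEquivLinear (G := K)).injective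

theorem classInner_hom [DecidableEq (K →* ℂˣ)] (φ ψ : K →* ℂˣ) :
    Cfsg.classInner (fun x => (φ x : ℂ)) (fun x => (ψ x : ℂ)) = if φ = ψ then 1 else 0 := by
  classical
  rw [Char.classInner_irr (Char.isIrrCharacter_hom φ) (Char.isIrrCharacter_hom ψ)]
  by_cases h : φ = ψ
  · rw [if_pos h, if_pos (by rw [h])]
  · rw [if_neg h, if_neg fun e => h (Char.coe_hom_injective e)]

theorem sum_hom_mul_conj [DecidableEq (K →* ℂˣ)] (φ ψ : K →* ℂˣ) :
    ∑ x, (φ x : ℂ) * conj (ψ x : ℂ) = if φ = ψ then (Nat.card K : ℂ) else 0 := by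
  have h := classInner_hom φ ψ
  rw [Cfsg.classInner, inv_mul_eq_iff_eq_mul₀ (Char.card_ne_zero (G := K))] at h
  rw [h, mul_ite, mul_one, mul_zero]

/-- Two characters none of which is conjugate to the other or to itself. -/
theorem sum_pair (φ ψ : K →* ℂˣ) (h : φ ≠ ψ) (hφ : φ ≠ φ⁻¹) (hψ : ψ ≠ ψ⁻¹) (h' : φ ≠ ψ⁻¹) :
    ∑ x, ((φ x : ℂ) - (ψ x : ℂ)) *
      (((φ x : ℂ) - (ψ x : ℂ)) + conj ((φ x : ℂ) - (ψ x : ℂ))) = 2 * (Nat.card K : ℂ) := by
  classical
  have hc : ∀ (χ : K →* ℂˣ) (x : K), (χ x : ℂ) = conj ((χ⁻¹ x : ℂˣ) : ℂ) := fun χ x => by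
    rw [conj_hom_apply, MonoidHom.inv_apply, map_inv, inv_inv]
  have h'' : ψ ≠ φ⁻¹ := fun e => h' (MonoidHom.ext fun x => by rw [e]; simp)
  calc _ = ∑ x, ((φ x : ℂ) * conj (φ x : ℂ) + (ψ x : ℂ) * conj (ψ x : ℂ)
          + (φ x : ℂ) * conj ((φ⁻¹ x : ℂˣ) : ℂ) + (ψ x : ℂ) * conj ((ψ⁻¹ x : ℂˣ) : ℂ)
          - (φ x : ℂ) * conj ((ψ⁻¹ x : ℂˣ) : ℂ) - (ψ x : ℂ) * conj ((φ⁻¹ x : ℂˣ) : ℂ)
          - (φ x : ℂ) * conj (ψ x : ℂ) - (ψ x : ℂ) * conj (φ x : ℂ)) :=
        Finset.sum_congr rfl fun x _ => by rw [← hc, ← hc, map_sub]; ring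
    _ = _ := by
      simp only [Finset.sum_sub_distrib, Finset.sum_add_distrib, sum_hom_mul_conj, if_pos,
        if_neg h, if_neg h.symm, if_neg hφ, if_neg hψ, if_neg h', if_neg h'']
      ring

/-- A function on an abelian group is the sum of its components. -/
theorem eq_sum_dual [Fintype (K →* ℂˣ)] (hK : ∀ x y : K, x * y = y * x) (f : K → ℂ) (x : K) :
    f x = ∑ φ : K →* ℂˣ, Cfsg.classInner f (fun y => (φ y : ℂ)) * (φ x : ℂ) := by
  classical
  have hf : Cfsg.IsClassFunction K f := fun g h => by rw [hK h g, mul_inv_cancel_right]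
  conv_lhs => rw [Char.IsClassFunction.eq_sum_irr hf]
  rw [Finset.sum_apply]
  refine (Fintype.sum_bijective (fun φ : K →* ℂˣ => (Char.homEquivLinear φ).1)
    ⟨fun φ ψ e => Char.homEquivLinear.injective (Subtype.ext e), fun χ => ?_⟩ _ _ fun φ => ?_).symm
  · obtain ⟨φ, hφ⟩ := Char.homEquivLinear.surjective
      ⟨χ, Char.apply_one_eq_one_of_comm hK χ.2⟩
    exact ⟨φ, congrArg Subtype.val hφ⟩
  · rw [Pi.smul_apply, smul_eq_mul]
    rfl

/-- The characters agreeing with `φ` on a subgroup. -/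
theorem card_fibre (hK : ∀ x y : K, x * y = y * x) (L : Subgroup K) (φ : K →* ℂˣ) :
    Nat.card {ψ : K →* ℂˣ // ∀ y ∈ L, ψ y = φ y} = L.index := by
  letI : CommGroup K := { ‹Group K› with mul_comm := hK }
  rw [Subgroup.index, ← CommGroup.card_domRestrictHom_ker (G := K) (M := ℂ) L]
  refine Nat.card_congr
    { toFun := fun ψ => ⟨ψ.1 * φ⁻¹, MonoidHom.mem_ker.2 (MonoidHom.ext fun y => ?_)⟩
      invFun := fun η => ⟨η.1 * φ, fun y hy => ?_⟩
      left_inv := fun ψ => Subtype.ext (inv_mul_cancel_right ψ.1 φ)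
      right_inv := fun η => Subtype.ext (mul_inv_cancel_right η.1 φ) }
  · show ψ.1 y * (φ y)⁻¹ = 1
    rw [ψ.2 y y.2, mul_inv_cancel]
  · have := DFunLike.congr_fun (MonoidHom.mem_ker.1 η.2) ⟨y, hy⟩
    show η.1 y * φ y = φ y
    rw [show η.1 y = 1 from this, one_mul]

end dual

end CfsgLib.GWKlein
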