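import Cfsg.Agent.Lib.GWKlein.SectionFusion
import Cfsg.Agent.Lib.DegreeTools.TISum
import Cfsg.Agent.Lib.Char.Integral

/-!
# Klein four Sylow subgroup: the values on the section

Modulo a prime over 2 every constituent `ν` of `y ↦ χ (t * y)` has the class averages given by the
central character of `χ`.  So if a constituent `μ` is invariant under `a` and its restriction to
`fixPart` under the rotation, it is the only one: `χ (t * y) = c * μ y`.
-/

set_option autoImplicit false
set_option linter.unusedSectionVars false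
set_option linter.style.haveILetI false

universe u

namespace CfsgLib.GWKlein

open Subgroup Cfsg BrauerSuzuki
open CfsgLib.Blocks (classInd classInd_isClassFunction)
open scoped Classical ComplexConjugate

variable {G : Type u} [Group G] [Fintype G] {t a : G} {M : Ideal AlgInt}

/-- The average of `ν / ν 1` over the class of `y₀` in `G` met with `oddPart t`. -/
noncomputable def classAvg (t y₀ : G) (ν : oddPart t → ℂ) : ℂ :=
  ∑ x : oddPart t, classInd y₀ (x : G) * (ν x / ν 1)

theorem two_LI (hM : IsPModular 2 M) : MemLocalIdeal M (2 : ℂ) := by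
  have h := Blocks.LI.natCast_prime hM
  simpa using h

/-- Modulo a prime over 2 a sum is the sum over the fixed points of an involution. -/
theorem LI_sum_involution (hM : IsPModular 2 M) {ι : Type*} [Fintype ι] (f : ι → ℂ) (σ : ι → ι)
    (hσ : ∀ x, σ (σ x) = x) (hf : ∀ x, f (σ x) = f x) (hR : ∀ x, MemLocalRing M (f x)) :
    MemLocalIdeal M ((∑ x, f x) - ∑ x with σ x = x, f x) := by
  let e : ι ≃ Fin (Fintype.card ι) := Fintype.equivFin ι
  have h1 : ∑ x, f x - ∑ x with σ x = x, f x = 2 * ∑ x with e x < e (σ x), f x := by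
    have hsplit : ∀ x, f x = (if σ x = x then f x else 0) + (if e x < e (σ x) then f x else 0) +
        if e (σ x) < e x then f x else 0 := by
      intro x
      rcases lt_trichotomy (e x) (e (σ x)) with h | h | h
      · rw [if_neg fun h' => h.ne (by rw [h']), if_pos h, if_neg h.asymm]; simp
      · rw [if_pos (e.injective h).symm, h]; simp
      · rw [if_neg fun h' => h.ne (by rw [h']), if_neg h.asymm, if_pos h]; simp
    have hswap : ∑ x with e (σ x) < e x, f x = ∑ x with e x < e (σ x), f x :=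
      Finset.sum_nbij' σ σ (fun x hx => by simpa [hσ] using hx) (fun x hx => by simpa [hσ] using hx)
        (fun x _ => hσ x) (fun x _ => hσ x) (fun x _ => (hf x).symm)
    conv_lhs => arg 1; rw [Finset.sum_congr rfl fun x _ => hsplit x]
    rw [Finset.sum_add_distrib, Finset.sum_add_distrib, ← Finset.sum_filter, ← Finset.sum_filter,
      ← Finset.sum_filter, hswap]
    ring
  rw [h1]
  exact Blocks.LI.mul_right hM (two_LI hM) (Blocks.LR.sum hM fun x _ => hR x)

/-- Translates of a class sum. -/
theorem sum_class_shift (χ : IrrCharacter G) (y₀ w : G) :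
    ∑ x, classInd y₀ x * (χ : G → ℂ) (w * x) = centralChar (χ : G → ℂ) y₀ * (χ : G → ℂ) w := by
  have h0 : (Nat.card G : ℂ) ≠ 0 := Nat.cast_ne_zero.2 Nat.card_pos.ne'
  refine mul_left_cancel₀ h0 ?_
  have h1 : ∀ g : G, ∑ x, classInd y₀ x * (χ : G → ℂ) (w * (g * x * g⁻¹)) =
      ∑ x, classInd y₀ x * (χ : G → ℂ) (w * x) := fun g =>
    Fintype.sum_equiv (MulAut.conj g).toEquiv _ _ fun x => by
      simp only [MulEquiv.toEquiv_eq_coe, EquivLike.coe_coe, MulAut.conj_apply,
        classInd_isClassFunction y₀ x g]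
  calc (Nat.card G : ℂ) * ∑ x, classInd y₀ x * (χ : G → ℂ) (w * x)
      = ∑ g : G, ∑ x, classInd y₀ x * (χ : G → ℂ) (w * (g * x * g⁻¹)) := by
        rw [Finset.sum_congr rfl fun g _ => h1 g, Finset.sum_const, Finset.card_univ,
          ← Nat.card_eq_fintype_card, nsmul_eq_mul]
    _ = ∑ x, classInd y₀ x *
          ((Nat.card G : ℂ) * (χ : G → ℂ) w * (χ : G → ℂ) x / (χ : G → ℂ) 1) := by
        rw [Finset.sum_comm]
        refine Finset.sum_congr rfl fun x _ => ?_
        rw [← Finset.mul_sum, Blocks.sum_conj_mul χ w x]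
    _ = _ := by
        rw [← Blocks.omega_classInd, Blocks.omega, Finset.sum_div, Finset.sum_mul, Finset.mul_sum]
        exact Finset.sum_congr rfl fun x _ => by ring

theorem classInd_LR (hM : IsPModular 2 M) (y x : G) : MemLocalRing M (classInd y x) := by
  unfold Blocks.classInd
  split_ifs
  exacts [Blocks.LR.one hM, Blocks.LR.zero hM]

theorem classInd_comm (y x : G) : classInd y x = classInd x y :=
  if_congr ⟨IsConj.symm, IsConj.symm⟩ rfl rfl

theorem irr_LR (hM : IsPModular 2 M) {H : Type*} [Group H] [Finite H] {ν : H → ℂ}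
    (hν : IsCharacter H ν) (x : H) : MemLocalRing M (ν x) :=
  Blocks.LR.of_isIntegral hM (Char.IsCharacter.isIntegral hν x)

theorem irr_conj_LR (hM : IsPModular 2 M) {H : Type*} [Group H] [Finite H] {ν : H → ℂ}
    (hν : IsCharacter H ν) (x : H) : MemLocalRing M (conj (ν x)) :=
  irr_LR hM (Char.IsCharacter.conj' hν) x

namespace Setting

variable (S : Setting G t a) (hM : IsPModular 2 M)
include S hM

omit hM in
theorem odd_card_oddPart : Odd (Nat.card (oddPart t)) := odd_card_core _

theorem card_oddPart_not_LI : ¬ MemLocalIdeal M ((Nat.card (oddPart t) : ℕ) : ℂ) := by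
  rw [Blocks.LI.natCast_iff hM]
  exact S.odd_card_oddPart.not_two_dvd_nat

theorem degree_not_LI {ν : oddPart t → ℂ} (hν : IsIrrCharacter (oddPart t) ν) :
    ¬ MemLocalIdeal M (ν 1) := by
  obtain ⟨n, hn, hd⟩ := Char.IsIrrCharacter.apply_one_dvd_card hν
  rw [hn, Blocks.LI.natCast_iff hM]
  exact (S.odd_card_oddPart.of_dvd_nat hd).not_two_dvd_nat

theorem ratio_LR {ν : oddPart t → ℂ} (hν : IsIrrCharacter (oddPart t) ν) (x : oddPart t) :
    MemLocalRing M (ν x / ν 1) :=
  Blocks.LR.mul hM (irr_LR hM (Char.IsIrrCharacter.isCharacter hν) x)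
    (Blocks.LR.inv hM (irr_LR hM (Char.IsIrrCharacter.isCharacter hν) 1) (S.degree_not_LI hM hν))

/-- A sum over `G` of a function supported on odd elements and fixed by `t` is congruent to its sum
over `oddPart t`. -/
theorem sum_congr_oddPart (f : G → ℂ) (hR : ∀ x, MemLocalRing M (f x))
    (hinv : ∀ x, f (t * x * t⁻¹) = f x) (hodd : ∀ x, f x ≠ 0 → Odd (orderOf x)) :
    MemLocalIdeal M ((∑ x, f x) - ∑ x : oddPart t, f x) := by
  have h := LI_sum_involution hM f (fun x => t * x * t⁻¹) (fun x => by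
    rw [S.t_inv]; simp [← mul_assoc, S.t_mul_self]
    rw [mul_assoc, S.t_mul_self, mul_one]) hinv hR
  convert h using 2
  rw [← Finset.sum_filter_of_ne (s := Finset.univ.filter fun x => t * x * t⁻¹ = x)
    (p := fun x => x ∈ oddPart t) (fun x hx hne => S.mem_oddPart.2
      ⟨hodd x hne, mul_inv_eq_iff_eq_mul.1 (Finset.mem_filter.1 hx).2⟩)]
  refine (Finset.sum_subtype _ (fun x => ?_) f).symm
  simp only [Finset.mem_filter, Finset.mem_univ, true_and, and_iff_right_iff_imp]
  exact fun hx => mul_inv_eq_iff_eq_mul.2 (commute_of_mem_oddPart hx).eq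

omit hM in
theorem odd_of_classInd {y x : G} (hy : Odd (orderOf y)) (h : classInd y x ≠ 0) :
    Odd (orderOf x) := by
  by_cases hc : IsConj y x
  · obtain ⟨c, rfl⟩ := isConj_iff.1 hc
    rwa [BrauerSuzuki.orderOf_conj']
  · exact absurd (if_neg hc) h

/-- The class of `y₀` translated by an element of `t * oddPart t`. -/
theorem class_congr (χ : IrrCharacter G) {y₀ : G} (hy₀ : Odd (orderOf y₀)) (c : oddPart t) :
    MemLocalIdeal M (centralChar (χ : G → ℂ) y₀ * (χ : G → ℂ) (t * c) -
      ∑ x : oddPart t, classInd y₀ (x : G) * (χ : G → ℂ) (t * ((c : G) * x))) := by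
  have h := S.sum_congr_oddPart hM (fun x => classInd y₀ x * (χ : G → ℂ) (t * ((c : G) * x)))
    (fun x => Blocks.LR.mul hM (classInd_LR hM _ _) (irr_LR hM (Char.isCharacter_irr χ) _))
    (fun x => by
      rw [classInd_isClassFunction y₀ x t]
      congr 1
      rw [show t * ((c : G) * (t * x * t⁻¹)) = t * (t * ((c : G) * x)) * t⁻¹ by
        rw [← mul_assoc (c : G), ← mul_assoc (c : G), ← (commute_of_mem_oddPart c.2).eq]
        simp [mul_assoc], Blocks.irr_conj_apply])
    (fun x hx => S.odd_of_classInd hy₀ (left_ne_zero_of_mul hx))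
  rwa [show ∑ x, classInd y₀ x * (χ : G → ℂ) (t * ((c : G) * x)) =
    centralChar (χ : G → ℂ) y₀ * (χ : G → ℂ) (t * c) by
      simp only [← mul_assoc t]; exact sum_class_shift χ y₀ _] at h

omit hM in
theorem isClassFunction_section (χ : IrrCharacter G) :
    IsClassFunction (oddPart t) fun y => (χ : G → ℂ) (t * y) := fun y u => by
  show (χ : G → ℂ) (t * ((u : G) * y * (u : G)⁻¹)) = (χ : G → ℂ) (t * y)
  rw [show t * ((u : G) * y * (u : G)⁻¹) = (u : G) * (t * y) * (u : G)⁻¹ by
    rw [← mul_assoc, ← mul_assoc, (commute_of_mem_oddPart u.2).eq]; simp [mul_assoc],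
    Blocks.irr_conj_apply]

omit hM in
theorem sum_class_section (χ : IrrCharacter G) {ν : oddPart t → ℂ}
    (hν : IsIrrCharacter (oddPart t) ν) (y₀ : G) :
    ∑ x : oddPart t, classInd y₀ (x : G) *
        ∑ c : oddPart t, (χ : G → ℂ) (t * ((c : G) * x)) * conj (ν c) =
      (Nat.card (oddPart t) : ℂ) * sect t (χ : G → ℂ) ν * classAvg t y₀ ν := by
  set m : ℂ := (Nat.card (oddPart t) : ℂ) with hm
  have hm0 : m ≠ 0 := Nat.cast_ne_zero.2 Nat.card_pos.ne'
  set f : oddPart t → ℂ := fun y => (χ : G → ℂ) (t * y) with hf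
  have hshift : ∀ x : oddPart t, ∑ c : oddPart t, (χ : G → ℂ) (t * ((c : G) * x)) * conj (ν c) =
      ∑ d : oddPart t, f d * conj (ν (d * x⁻¹)) := fun x =>
    Fintype.sum_equiv (Equiv.mulRight x) _ _ fun c => by simp [hf]
  have havg : ∀ d x : oddPart t, ∑ u : oddPart t, conj (ν (d * (u * x * u⁻¹)⁻¹)) =
      m * conj (ν d) * (ν x / ν 1) := by
    intro d x
    obtain ⟨n, hn, -⟩ := Char.IsIrrCharacter.apply_one_dvd_card hν
    rw [← map_sum, Finset.sum_congr rfl fun u _ => show ν (d * (u * x * u⁻¹)⁻¹) =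
        ν (d * (u * x⁻¹ * u⁻¹)) by rw [mul_inv_rev, mul_inv_rev, inv_inv, mul_assoc u],
      Blocks.sum_conj_mul (⟨ν, hν⟩ : IrrCharacter (oddPart t)) d x⁻¹]
    simp only [map_mul, map_div₀, Complex.conj_natCast, Char.IsIrrCharacter.apply_inv hν,
      Complex.conj_conj, hn, hm]
    ring
  refine mul_left_cancel₀ hm0 ?_
  calc m * ∑ x : oddPart t, classInd y₀ (x : G) *
        ∑ c : oddPart t, (χ : G → ℂ) (t * ((c : G) * x)) * conj (ν c)
      = ∑ u : oddPart t, ∑ x : oddPart t, classInd y₀ (x : G) *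
          ∑ d : oddPart t, f d * conj (ν (d * (u * x * u⁻¹)⁻¹)) := by
        rw [Finset.sum_congr rfl (g := fun _ => ∑ x : oddPart t, classInd y₀ (x : G) *
          ∑ d : oddPart t, f d * conj (ν (d * x⁻¹))) fun u _ => Fintype.sum_equiv
            (MulAut.conj u).toEquiv _ _ fun x => by
              simp only [MulEquiv.toEquiv_eq_coe, EquivLike.coe_coe, MulAut.conj_apply,
                Subgroup.coe_mul, Subgroup.coe_inv, classInd_isClassFunction y₀ (x : G) (u : G)],
          Finset.sum_const, Finset.card_univ, ← Nat.card_eq_fintype_card, nsmul_eq_mul]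
        simp only [hshift, ← hm]
    _ = ∑ x : oddPart t, classInd y₀ (x : G) *
          ∑ d : oddPart t, f d * (m * conj (ν d) * (ν x / ν 1)) := by
        rw [Finset.sum_comm]
        refine Finset.sum_congr rfl fun x _ => ?_
        rw [← Finset.mul_sum, Finset.sum_comm]
        congr 1
        refine Finset.sum_congr rfl fun d _ => ?_
        rw [← Finset.mul_sum, havg]
    _ = _ := by
        simp only [sect, classInner, classAvg, hf, ← hm, Finset.mul_sum, Finset.sum_mul]
        refine Finset.sum_congr rfl fun x _ => Finset.sum_congr rfl fun d _ => ?_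
        field_simp

/-- A constituent of the section has the class averages of the central character. -/
theorem avg_congr (χ : IrrCharacter G) {ν : oddPart t → ℂ}
    (hν : IsIrrCharacter (oddPart t) ν) (hc : sect t (χ : G → ℂ) ν ≠ 0) {y₀ : G}
    (hy₀ : Odd (orderOf y₀)) :
    MemLocalIdeal M (centralChar (χ : G → ℂ) y₀ - classAvg t y₀ ν) := by
  have hνc := Char.IsIrrCharacter.isCharacter hν
  have hsum : MemLocalIdeal M ((Nat.card (oddPart t) : ℂ) * sect t (χ : G → ℂ) ν *
      (centralChar (χ : G → ℂ) y₀ - classAvg t y₀ ν)) := by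
    have h := Blocks.LI.sum hM (s := Finset.univ) fun (c : oddPart t) _ =>
      Blocks.LI.mul_right hM (S.class_congr hM χ hy₀ c) (irr_conj_LR hM hνc c)
    convert h using 1
    simp only [sub_mul]
    rw [Finset.sum_sub_distrib, mul_sub, ← S.sum_class_section χ hν y₀]
    congr 1
    · simp only [sect, classInner, Finset.mul_sum, Finset.sum_mul]
      refine Finset.sum_congr rfl fun c _ => ?_
      field_simp
    · simp only [Finset.mul_sum, Finset.sum_mul]
      rw [Finset.sum_comm]
      exact Finset.sum_congr rfl fun x _ => Finset.sum_congr rfl fun c _ => by ring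
  have hcoe := S.cast_coeff_lift hνc χ
  have hne : coeff (S.lift ν) χ ≠ 0 := fun h0 => hc (by rw [← hcoe, h0, Int.cast_zero])
  rw [← hcoe] at hsum
  rcases S.coeff_eq_one_or hν hne with e | e
  all_goals
    rw [e] at hsum
    refine (Blocks.LI.mem_or_mem hM ?_ ?_ hsum).resolve_left ?_
    · exact Blocks.LR.mul hM (Blocks.LR.natCast hM _) (Blocks.LR.intCast hM _)
    · refine Blocks.LR.sub hM (Blocks.centralChar_LR hM χ _) (Blocks.LR.sum hM fun x _ => ?_)
      exact Blocks.LR.mul hM (classInd_LR hM _ _) (S.ratio_LR hM hν x)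
    · refine Blocks.not_LI_mul hM (Blocks.LR.natCast hM _) (Blocks.LR.intCast hM _)
        (S.card_oddPart_not_LI hM) ?_
      rw [Blocks.LI.intCast_iff hM]
      norm_num

/-- A sum over `oddPart t` of an invariant function is congruent to its sum over `fixPart`. -/
theorem sum_congr_fix (f : oddPart t → ℂ) (hR : ∀ x, MemLocalRing M (f x))
    (hinv : ∀ x, f (S.aConj x) = f x) :
    MemLocalIdeal M ((∑ x, f x) - ∑ x : fixPart t a, f x) := by
  have h := LI_sum_involution hM f S.aConj S.aConj_aConj hinv hR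
  convert h using 2
  refine (Finset.sum_subtype _ (fun x => ?_) f).symm
  simp [S.mem_fixPart, Subtype.ext_iff, S.coe_aConj]

omit hM in
theorem classInd_aConj (y₀ : G) (x : oddPart t) :
    classInd y₀ ((S.aConj x : oddPart t) : G) = classInd y₀ (x : G) := by
  rw [S.coe_aConj, classInd_isClassFunction]

/-- The average of an invariant character is its average over `fixPart`. -/
theorem avg_congr_fix {ν : oddPart t → ℂ} (hν : IsIrrCharacter (oddPart t) ν)
    (ha : ∀ y, ν (S.aConj y) = ν y) (y₀ : G) :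
    MemLocalIdeal M (classAvg t y₀ ν -
      ∑ x : fixPart t a, classInd y₀ ((x : oddPart t) : G) * (ν x / ν 1)) :=
  S.sum_congr_fix hM (fun x => classInd y₀ (x : G) * (ν x / ν 1))
    (fun x => Blocks.LR.mul hM (classInd_LR hM _ _) (S.ratio_LR hM hν x))
    (fun x => by rw [S.classInd_aConj, ha])

/-- Orthogonality on `fixPart`. -/
theorem orth_fix {ν ν' : oddPart t → ℂ} (hν : IsIrrCharacter (oddPart t) ν)
    (hν' : IsIrrCharacter (oddPart t) ν') (ha : ∀ y, ν (S.aConj y) = ν y)
    (ha' : ∀ y, ν' (S.aConj y) = ν' y) :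
    MemLocalIdeal M ((∑ x : fixPart t a, ν x * conj (ν' x)) - if ν = ν' then 1 else 0) := by
  have h := S.sum_congr_fix hM (fun x => ν x * conj (ν' x))
    (fun x => Blocks.LR.mul hM (irr_LR hM (Char.IsIrrCharacter.isCharacter hν) x)
      (irr_conj_LR hM (Char.IsIrrCharacter.isCharacter hν') x))
    (fun x => by rw [ha, ha'])
  have h1 : ∑ x : oddPart t, ν x * conj (ν' x) =
      (Nat.card (oddPart t) : ℂ) * if ν = ν' then 1 else 0 := by
    rw [← Char.classInner_irr hν hν', classInner, ← mul_assoc,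
      mul_inv_cancel₀ (Nat.cast_ne_zero.2 Nat.card_pos.ne'), one_mul]
  rw [h1] at h
  refine Blocks.LI.trans hM (Blocks.LI.sub_comm h) ?_
  split_ifs
  · obtain ⟨k, hk⟩ := S.odd_card_oddPart
    rw [hk]
    push_cast
    rw [mul_one, add_sub_cancel_right]
    exact Blocks.LI.mul_right hM (two_LI hM) (Blocks.LR.natCast hM k)
  · rw [mul_zero, sub_zero]; exact Blocks.LI.zero hM

/-- A class meeting `fixPart` does so in an odd number of elements. -/
theorem fix_class_odd (y : fixPart t a) :
    MemLocalIdeal M ((∑ d : fixPart t a,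
      classInd ((y : oddPart t) : G) ((d : oddPart t) : G)) - 1) := by
  haveI : Fact (Nat.Prime 2) := ⟨Nat.prime_two⟩
  set yy : G := ((y : oddPart t) : G)
  have hodd : Odd (orderOf yy) := (S.mem_oddPart.1 (y : oddPart t).2).1
  have hi : Odd (centralizer ({yy} : Set G)).index := by
    obtain ⟨P, hP⟩ := S.exists_sylow
    have hle : (P : Subgroup G) ≤ centralizer ({yy} : Set G) := fun v hv =>
      mem_centralizer_singleton_iff.2 (S.commute_four_of_fixPart (hP ▸ hv) y.2).eq
    rw [← Nat.not_even_iff_odd]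
    exact fun he => P.not_dvd_index (he.two_dvd.trans (index_dvd_of_le hle))
  have h0 : ∑ x : G, classInd yy x = ((centralizer ({yy} : Set G)).index : ℂ) := by
    have := Blocks.sum_class_mul yy (φ := fun _ => (1 : ℂ)) fun _ _ => rfl
    simpa using this
  have h1 := S.sum_congr_oddPart hM (fun x => classInd yy x) (classInd_LR hM yy)
    (fun x => classInd_isClassFunction yy x t) (fun x => S.odd_of_classInd hodd)
  have h2 := S.sum_congr_fix hM (fun x => classInd yy (x : G)) (fun x => classInd_LR hM yy x)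
    (S.classInd_aConj yy)
  rw [h0] at h1
  have h3 := Blocks.LI.sub_comm (Blocks.LI.trans hM h1 h2)
  refine Blocks.LI.trans hM h3 ?_
  obtain ⟨k, hk⟩ := hi
  rw [hk]
  push_cast
  rw [add_sub_cancel_right]
  exact Blocks.LI.mul_right hM (two_LI hM) (Blocks.LR.natCast hM k)

omit hM in
theorem fix_conj_of_conj {y : oddPart t} {d : fixPart t a}
    (h : IsConj ((d : oddPart t) : G) (y : G)) : ∃ u : oddPart t, u⁻¹ * y * u ∈ fixPart t a := by
  refine S.exists_fix_conj ?_
  obtain ⟨x, hx⟩ := isConj_iff.1 h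
  have hle : four t a ≤ centralizer ({((d : oddPart t) : G)} : Set G) := fun v hv =>
    mem_centralizer_singleton_iff.2 (S.commute_four_of_fixPart hv d.2).eq
  have h1 : (four t a).map (MulAut.conj x).toMonoidHom ≤ centralizer ({(y : G)} : Set G) := by
    rintro _ ⟨v, hv, rfl⟩
    refine mem_centralizer_singleton_iff.2 ?_
    show MulAut.conj x v * (y : G) = (y : G) * MulAut.conj x v
    rw [MulAut.conj_apply, ← hx, conj_mul, conj_mul, mem_centralizer_singleton_iff.1 (hle hv)]
  refine dvd_trans ?_ (card_dvd_of_le h1)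
  rw [card_map_of_injective (MulAut.conj x).injective, S.card_four]

/-- A moved constituent would take opposite values at conjugate elements. -/
theorem moved_congr (χ : IrrCharacter G) {μ ν : oddPart t → ℂ}
    (hμ : IsIrrCharacter (oddPart t) μ) (hν : IsIrrCharacter (oddPart t) ν)
    (ha : ∀ y, μ (S.aConj y) = μ y) (hcμ : sect t (χ : G → ℂ) μ ≠ 0)
    (hcν : sect t (χ : G → ℂ) ν ≠ 0) (y : oddPart t) :
    MemLocalIdeal M (ν y / ν 1 + ν (S.aConj y) / ν 1) := by
  have hcf := Char.IsIrrCharacter.isClassFunction hν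
  by_cases hfix : ∃ u : oddPart t, u⁻¹ * y * u ∈ fixPart t a
  · obtain ⟨u, hu⟩ := hfix
    have e1 : S.aConj (u⁻¹ * y * u) = u⁻¹ * y * u :=
      Subtype.ext (S.mem_fixPart.1 hu)
    have h1 : ν (u⁻¹ * y * u) = ν y := by simpa using hcf y u⁻¹
    have h2 : ν (S.aConj (u⁻¹ * y * u)) = ν (S.aConj y) := by
      rw [map_mul, map_mul, map_inv]
      simpa using hcf (S.aConj y) (S.aConj u)⁻¹
    rw [e1, h1] at h2
    rw [← h2, ← two_mul]
    exact Blocks.LI.mul_right hM (two_LI hM) (S.ratio_LR hM hν y)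
  have hno : ∀ d : fixPart t a, classInd (y : G) ((d : oddPart t) : G) = 0 := fun d =>
    if_neg fun h => hfix (S.fix_conj_of_conj h.symm)
  have hy₀ : Odd (orderOf (y : G)) := (S.mem_oddPart.1 y.2).1
  have h1 : MemLocalIdeal M (classAvg t (y : G) μ) := by
    have := S.avg_congr_fix hM hμ ha (y : G)
    rwa [Finset.sum_eq_zero fun d _ => by rw [hno d, zero_mul], sub_zero] at this
  have h2 : MemLocalIdeal M (classAvg t (y : G) ν) := by
    have := Blocks.LI.trans hM (Blocks.LI.sub_comm (S.avg_congr hM χ hν hcν hy₀))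
      (S.avg_congr hM χ hμ hcμ hy₀)
    have := Blocks.LI.add hM this h1
    rwa [sub_add_cancel] at this
  have h4 : ¬ 4 ∣ Nat.card (centralizer ({(y : G)} : Set G)) := fun h => hfix (S.exists_fix_conj h)
  -- no element outside `oddPart t ∪ t * oddPart t` centralises `y` and `t`
  have ha4 : ∀ v ∈ four t a, v ≠ 1 → v ≠ t → ∀ w ∈ oddPart t, ¬ Commute (v * w) (y : G) := by
    intro v hv hv1 hvt w hw hcomm
    have hct : Commute (v * w) t :=
      (S.four_comm hv S.t_mem).mul_left (commute_of_mem_oddPart hw).symm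
    set k := Nat.card (oddPart t)
    set s := (v * w) ^ k
    have hk : Odd k := S.odd_card_oddPart
    have hsv : ∃ z ∈ oddPart t, s = v * z := by
      refine ⟨v⁻¹ * s, S.mem_oddPart.2 ?_, by rw [mul_inv_cancel_left]⟩
      have hsw : ∀ n : ℕ, ∃ z ∈ oddPart t, (v * w) ^ n = v ^ n * z := by
        intro n
        induction n with
        | zero => exact ⟨1, one_mem _, by simp⟩
        | succ n ih =>
          obtain ⟨z, hz, e⟩ := ih
          refine ⟨v⁻¹ * z * v⁻¹⁻¹ * w, mul_mem (S.conj_mem_oddPart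
            (S.four_comm (inv_mem hv) S.t_mem) hz) hw, ?_⟩
          rw [pow_succ, e, pow_succ]
          group
      obtain ⟨z, hz, e⟩ := hsw k
      obtain ⟨j, hj⟩ := hk
      have hvk : v ^ k = v := by
        rw [hj, pow_succ, pow_mul, pow_two, S.four_sq hv, one_pow, one_mul]
      rw [show s = v * z from e.trans (by rw [hvk]), inv_mul_cancel_left]
      exact S.mem_oddPart.1 hz
    obtain ⟨z, hz, hsz⟩ := hsv
    have hs1 : s ≠ 1 := fun e => hv1 (S.eq_one_of_mem_four hv (by
      rw [eq_inv_of_mul_eq_one_left (hsz.symm.trans e)]; exact inv_mem hz))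
    have hst : s ≠ t := fun e =>
      hvt (S.four_mul_inj hv S.t_mem hz (one_mem _) (by rw [← hsz, e, mul_one])).1
    have hs2 : s * s = 1 := by
      rw [← pow_add, ← two_mul, pow_mul]
      have hvwvw : (v * w) ^ 2 ∈ oddPart t := by
        rw [pow_two, show v * w * (v * w) = v * w * v⁻¹ * w by
          rw [inv_eq_of_mul_eq_one_right (S.four_sq hv)]; simp [mul_assoc]]
        exact mul_mem (S.conj_mem_oddPart (S.four_comm hv S.t_mem) hw) hw
      exact orderOf_dvd_iff_pow_eq_one.1 (Subgroup.orderOf_dvd_natCard _ hvwvw)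
    exact h4 (S.four_dvd_of_involutions (orderOf_eq_prime (by rw [pow_two]; exact hs2) hs1) hst
      (hct.pow_left k) (hcomm.pow_left k))
  -- the sum over `C(t)` of the conjugates of `y`
  set h : oddPart t → ℂ := fun x => ν x / ν 1 with hh
  have hhR : ∀ x, MemLocalRing M (h x) := S.ratio_LR hM hν
  set F : G → ℂ := extendByZero (oddPart t) h with hF
  have hsum1 : ∑ c with Commute c t, F (c * (y : G) * c⁻¹) =
      2 * (Nat.card (oddPart t) : ℂ) * (h y + h (S.aConj y)) := by
    rw [S.sum_centralizer]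
    have hz : ∀ z : oddPart t, F ((z : G) * (y : G) * (z : G)⁻¹) = h y ∧
        F (t * z * (y : G) * (t * z)⁻¹) = h y ∧
        F (a * z * (y : G) * (a * z)⁻¹) = h (S.aConj y) ∧
        F (t * a * z * (y : G) * (t * a * z)⁻¹) = h (S.aConj y) := by
      intro z
      have e1 : (z : G) * y * (z : G)⁻¹ = ((z * y * z⁻¹ : oddPart t) : G) := rfl
      have e2 : a * z * (y : G) * (a * z)⁻¹ = ((S.aConj (z * y * z⁻¹) : oddPart t) : G) := by
        rw [S.coe_aConj, ← e1]; group
      have hA : h (S.aConj (z * y * z⁻¹)) = h (S.aConj y) := by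
        simp only [hh]; rw [map_mul, map_mul, map_inv, hcf]
      have hconj : ∀ x : oddPart t, t * (x : G) * t⁻¹ = (x : G) := fun x =>
        mul_inv_eq_iff_eq_mul.2 (commute_of_mem_oddPart x.2).eq
      refine ⟨?_, ?_, ?_, ?_⟩
      · rw [e1, hF, Char.extendByZero_coe]; simp only [hh]; rw [hcf]
      · rw [show t * z * (y : G) * (t * z)⁻¹ = t * ((z : G) * y * (z : G)⁻¹) * t⁻¹ by group, e1,
          hconj, hF, Char.extendByZero_coe]
        simp only [hh]; rw [hcf]
      · rw [e2, hF, Char.extendByZero_coe, hA]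
      · rw [show t * a * z * (y : G) * (t * a * z)⁻¹ = t * (a * z * (y : G) * (a * z)⁻¹) * t⁻¹ by
          group, e2, hconj, hF, Char.extendByZero_coe, hA]
    rw [Finset.sum_congr rfl fun z _ => by rw [(hz z).1, (hz z).2.1, (hz z).2.2.1, (hz z).2.2.2],
      Finset.sum_const, Finset.card_univ, ← Nat.card_eq_fintype_card, nsmul_eq_mul]
    ring
  set N := (Finset.univ.filter fun z : oddPart t => Commute (z : G) (y : G)).card with hN
  have hN2 : (Finset.univ.filter fun c : G => Commute c t ∧ Commute c (y : G)).card = 2 * N := by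
    have h := S.sum_centralizer fun c => if Commute c (y : G) then 1 else 0
    rw [Finset.sum_boole, Finset.filter_filter] at h
    simp only [Nat.cast_id] at h
    rw [h, Finset.sum_congr rfl (g := fun z : oddPart t =>
      (if Commute (z : G) (y : G) then 1 else 0) + if Commute (z : G) (y : G) then 1 else 0)
      fun z _ => ?_, Finset.sum_add_distrib, Finset.sum_boole, ← hN, two_mul]
    · rfl
    · rw [if_neg (ha4 a S.a_mem S.a_ne_one S.ne.symm z z.2), if_neg (ha4 (t * a) S.ta_mem
        S.ta_ne_one (fun e => S.a_ne_one (mul_left_cancel (e.trans (mul_one t).symm))) z z.2),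
        add_zero, add_zero]
      congr 1
      refine if_congr ⟨fun h => ?_, fun h => ?_⟩ rfl rfl
      · have := (commute_of_mem_oddPart y.2).mul_left h
        rwa [← mul_assoc, S.t_mul_self, one_mul] at this
      · exact (commute_of_mem_oddPart y.2).mul_left h
  have hsum2 : ∑ c with Commute c t, F (c * (y : G) * c⁻¹) =
      2 * (N : ℂ) * classAvg t (y : G) ν := by
    rw [classAvg, Finset.mul_sum]
    have hmaps : ∀ c ∈ Finset.univ.filter (fun c : G => Commute c t),
        c * (y : G) * c⁻¹ ∈ (Finset.univ.filter fun x : oddPart t => IsConj (y : G) (x : G)).map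
          ⟨Subtype.val, Subtype.val_injective⟩ := by
      intro c hc
      refine Finset.mem_map.2 ⟨⟨_, S.conj_mem_oddPart (Finset.mem_filter.1 hc).2 y.2⟩,
        Finset.mem_filter.2 ⟨Finset.mem_univ _, isConj_iff.2 ⟨c, rfl⟩⟩, rfl⟩
    rw [← Finset.sum_fiberwise_of_maps_to hmaps, Finset.sum_map, Finset.sum_filter]
    refine Finset.sum_congr rfl fun x _ => ?_
    simp only [Function.Embedding.coeFn_mk, Blocks.classInd]
    split_ifs with hx
    swap
    · simp
    obtain ⟨c₀, hc₀t, hc₀⟩ := S.exists_centralizing_conj h4 hx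
    rw [Finset.sum_congr rfl (g := fun _ => h x) fun c hc => by
      rw [(Finset.mem_filter.1 hc).2, hF, Char.extendByZero_coe], Finset.sum_const, nsmul_eq_mul,
      Finset.filter_filter, one_mul]
    congr 1
    rw [show (2 : ℂ) * N = ((2 * N : ℕ) : ℂ) by push_cast; rfl, ← hN2, Nat.cast_inj]
    refine Finset.card_nbij' (fun c => c₀⁻¹ * c) (fun c => c₀ * c) ?_ ?_
      (fun c _ => mul_inv_cancel_left _ _) (fun c _ => inv_mul_cancel_left _ _)
    · intro c hc
      obtain ⟨hct, hcx⟩ := (Finset.mem_filter.1 hc).2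
      refine Finset.mem_filter.2 ⟨Finset.mem_univ _, hc₀t.inv_left.mul_left hct,
        mul_inv_eq_iff_eq_mul.1 ?_⟩
      rw [show c₀⁻¹ * c * (y : G) * (c₀⁻¹ * c)⁻¹ = c₀⁻¹ * (c * y * c⁻¹) * c₀ by group, hcx, ← hc₀]
      group
    · intro c hc
      obtain ⟨hct, hcy⟩ := (Finset.mem_filter.1 hc).2
      refine Finset.mem_filter.2 ⟨Finset.mem_univ _, hc₀t.mul_left hct, ?_⟩
      rw [show c₀ * c * (y : G) * (c₀ * c)⁻¹ = c₀ * (c * y * c⁻¹) * c₀⁻¹ by group,
        mul_inv_eq_iff_eq_mul.2 hcy.eq, hc₀]
  have h3 : (Nat.card (oddPart t) : ℂ) * (h y + h (S.aConj y)) =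
      (N : ℂ) * classAvg t (y : G) ν := by
    have e := hsum1.symm.trans hsum2
    rw [mul_assoc, mul_assoc] at e
    exact mul_left_cancel₀ two_ne_zero e
  exact ((Blocks.LI.mem_or_mem hM (Blocks.LR.natCast hM _) (Blocks.LR.add hM (hhR _) (hhR _))
    (h3 ▸ Blocks.LI.mul_left hM (Blocks.LR.natCast hM N) h2)).resolve_left
      (S.card_oddPart_not_LI hM))

/-- A constituent of the section of `χ` next to an invariant one is invariant. -/
theorem invariant_of_sect (χ : IrrCharacter G) {μ ν : oddPart t → ℂ}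
    (hμ : IsIrrCharacter (oddPart t) μ) (hν : IsIrrCharacter (oddPart t) ν)
    (ha : ∀ y, μ (S.aConj y) = μ y) (hcμ : sect t (χ : G → ℂ) μ ≠ 0)
    (hcν : sect t (χ : G → ℂ) ν ≠ 0) : ∀ y, ν (S.aConj y) = ν y := by
  by_contra hna
  have hν' : IsIrrCharacter (oddPart t) (fun y => ν (S.aConj y)) :=
    Char.IsIrrCharacter.comp_surjective hν S.aConj.toMonoidHom S.aConj.surjective
  have hνc := Char.IsIrrCharacter.isCharacter hν
  have hne : (fun y => ν (S.aConj y)) ≠ ν := fun e => hna fun y => congrFun e y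
  have h := Blocks.LI.sum hM (s := Finset.univ) fun (y : oddPart t) _ =>
    Blocks.LI.mul_right hM (S.moved_congr hM χ hμ hν ha hcμ hcν y) (irr_conj_LR hM hνc y)
  have e : ∑ y : oddPart t, (ν y / ν 1 + ν (S.aConj y) / ν 1) * conj (ν y) =
      (Nat.card (oddPart t) : ℂ) / ν 1 := by
    have e1 := Char.classInner_irr_self hν
    have e2 := Char.classInner_irr_ne hν' hν hne
    simp only [classInner] at e1 e2
    rw [inv_mul_eq_iff_eq_mul₀ (Nat.cast_ne_zero.2 Nat.card_pos.ne')] at e1 e2
    rw [mul_one] at e1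
    rw [mul_zero] at e2
    simp only [add_mul, div_mul_eq_mul_div, Finset.sum_add_distrib, ← Finset.sum_div]
    rw [e1, e2, zero_div, add_zero]
  rw [e] at h
  have h' := Blocks.LI.mul_right hM h (irr_LR hM hνc 1)
  rw [div_mul_cancel₀ _ (Char.IsIrrCharacter.apply_one_ne_zero hν)] at h'
  exact S.card_oddPart_not_LI hM h'

/-- An invariant character whose restriction to `fixPart` the rotation fixes is alone in the section
of each of its constituents. -/
theorem sect_values {g : G} (hg : Rot t a g) (χ : IrrCharacter G) {μ : oddPart t → ℂ}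
    (hμ : IsIrrCharacter (oddPart t) μ) (ha : ∀ y, μ (S.aConj y) = μ y)
    (hfix : ∀ d : fixPart t a, μ (S.rotAut hg d : oddPart t) = μ (d : oddPart t))
    (hc : coeff (S.lift μ) χ ≠ 0) (y : oddPart t) :
    (χ : G → ℂ) (t * y) = (coeff (S.lift μ) χ : ℂ) * μ y := by
  have hμc := Char.IsIrrCharacter.isCharacter hμ
  have hcμ : sect t (χ : G → ℂ) μ ≠ 0 := by
    rw [← S.cast_coeff_lift hμc χ]; exact_mod_cast hc
  have hconst : ∀ y z : fixPart t a, IsConj ((y : oddPart t) : G) ((z : oddPart t) : G) →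
      μ (y : oddPart t) = μ (z : oddPart t) := by
    intro y z hyz
    have hcl : ∀ p q : fixPart t a, IsConj p q → μ (p : oddPart t) = μ (q : oddPart t) :=
      fun p q hpq => (Char.IsClassFunction.apply_eq_of_isConj
        (Char.IsIrrCharacter.isClassFunction hμ)
        ((fixPart t a).subtype.map_isConj hpq))
    rcases S.fix_conj hg hyz with h | h | h
    · exact hcl _ _ h
    · rw [← hcl _ _ h, hfix]
    · rw [← hcl _ _ h, hfix, hfix]
  have honly : ∀ ν : IrrCharacter (oddPart t), sect t (χ : G → ℂ) ν.1 ≠ 0 → ν.1 = μ := by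
    intro ν hcν
    have haν := S.invariant_of_sect hM χ hμ ν.2 ha hcμ hcν
    by_contra hne
    have key : ∀ {ρ : oddPart t → ℂ}, IsIrrCharacter (oddPart t) ρ →
        MemLocalIdeal M ((∑ d : fixPart t a, ρ (d : oddPart t) / ρ 1 * conj (μ (d : oddPart t))) -
          ∑ y : fixPart t a, conj (μ (y : oddPart t)) * ∑ d : fixPart t a,
            classInd ((y : oddPart t) : G) ((d : oddPart t) : G) *
              (ρ (d : oddPart t) / ρ 1)) := by
      intro ρ hρ
      simp only [Finset.mul_sum]
      rw [Finset.sum_comm, ← Finset.sum_sub_distrib]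
      refine Blocks.LI.sum hM fun d _ => ?_
      have e : ∑ y : fixPart t a, conj (μ (y : oddPart t)) *
          (classInd ((y : oddPart t) : G) ((d : oddPart t) : G) * (ρ (d : oddPart t) / ρ 1)) =
          ρ (d : oddPart t) / ρ 1 * conj (μ (d : oddPart t)) *
            ∑ y : fixPart t a, classInd ((d : oddPart t) : G) ((y : oddPart t) : G) := by
        rw [Finset.mul_sum]
        refine Finset.sum_congr rfl fun y _ => ?_
        rw [classInd_comm ((d : oddPart t) : G)]
        unfold Blocks.classInd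
        split_ifs with h
        · rw [hconst y d h]; ring
        · simp
      rw [e, ← mul_one_sub]
      exact Blocks.LI.mul_left hM (Blocks.LR.mul hM (S.ratio_LR hM hρ _) (irr_conj_LR hM hμc _))
        (Blocks.LI.sub_comm (S.fix_class_odd hM d))
    have hmid : MemLocalIdeal M ((∑ y : fixPart t a, conj (μ (y : oddPart t)) *
        ∑ d : fixPart t a, classInd ((y : oddPart t) : G) ((d : oddPart t) : G) *
          (ν.1 (d : oddPart t) / ν.1 1)) -
        ∑ y : fixPart t a, conj (μ (y : oddPart t)) *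
        ∑ d : fixPart t a, classInd ((y : oddPart t) : G) ((d : oddPart t) : G) *
          (μ (d : oddPart t) / μ 1)) := by
      rw [← Finset.sum_sub_distrib]
      refine Blocks.LI.sum hM fun y _ => ?_
      rw [← mul_sub]
      refine Blocks.LI.mul_left hM (irr_conj_LR hM hμc _) ?_
      have hy₀ := (S.mem_oddPart.1 (y : oddPart t).2).1
      exact Blocks.LI.trans hM (Blocks.LI.sub_comm (S.avg_congr_fix hM ν.2 haν _))
        (Blocks.LI.trans hM (Blocks.LI.trans hM (Blocks.LI.sub_comm (S.avg_congr hM χ ν.2 hcν hy₀))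
          (S.avg_congr hM χ hμ hcμ hy₀)) (S.avg_congr_fix hM hμ ha _))
    have hall := Blocks.LI.trans hM (key ν.2)
      (Blocks.LI.trans hM hmid (Blocks.LI.sub_comm (key hμ)))
    have o1 := S.orth_fix hM ν.2 hμ haν ha
    have o2 := S.orth_fix hM hμ hμ ha ha
    rw [if_neg hne, sub_zero] at o1
    rw [if_pos rfl] at o2
    simp only [div_mul_eq_mul_div, ← Finset.sum_div] at hall
    have hν1 := Char.IsIrrCharacter.apply_one_ne_zero ν.2
    have hμ1 := Char.IsIrrCharacter.apply_one_ne_zero hμ
    have hνc := Char.IsIrrCharacter.isCharacter ν.2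
    have e1 : MemLocalIdeal M ((∑ d : fixPart t a,
        ν.1 (d : oddPart t) * conj (μ (d : oddPart t))) / ν.1 1) :=
      Blocks.LI.mul_right hM o1 (Blocks.LR.inv hM (irr_LR hM hνc 1) (S.degree_not_LI hM ν.2))
    have e2 := Blocks.LI.mul_right hM (Blocks.LI.sub hM e1 hall) (irr_LR hM hμc 1)
    rw [sub_sub_cancel, div_mul_cancel₀ _ hμ1] at e2
    have e3 := Blocks.LI.sub hM e2 o2
    rw [sub_sub_cancel] at e3
    exact Blocks.LI.not_one hM e3
  have hexp := congrFun (Char.IsClassFunction.eq_sum_irr (S.isClassFunction_section χ)) y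
  simp only [Finset.sum_apply, Pi.smul_apply, smul_eq_mul] at hexp
  rw [hexp, Finset.sum_eq_single ⟨μ, hμ⟩ (fun ν _ hν => ?_)
    (fun hn => absurd (Finset.mem_univ _) hn)]
  · rw [S.cast_coeff_lift hμc χ]; rfl
  · refine mul_eq_zero_of_left ?_ _
    by_contra h0
    exact hν (Subtype.ext (honly ν h0))

end Setting

end CfsgLib.GWKlein
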