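import Cfsg.Agent.Lib.GWKlein.Statement
import Cfsg.Agent.S2798
import Cfsg.Agent.Lib.Involution.SEModule.Main
import Cfsg.Agent.Lib.KGroups.AbelianTwo.Linear
import Cfsg.Agent.Lib.KGroups.AbelianTwo.Exceptional
import Cfsg.Agent.Lib.KGroups.AbelianTwo.SLTwo
import Cfsg.Agent.Lib.Classical.SLOrders

/-!
# A proper subgroup over the centraliser of an involution does not rotate the four-group

Otherwise it would be strongly embedded, and Bender's theorem leaves only `A₅`, in which the
centraliser of an involution is the four-group.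
-/

set_option autoImplicit false
set_option linter.unusedSectionVars false
set_option linter.style.haveILetI false

universe u

namespace CfsgLib.GWKlein

open Subgroup

variable {G : Type u} [Group G] [Finite G] {t a : G}

theorem Setting.abTwo (S : Setting G t a) : CfsgLib.KGroups.AbelianTwo.AbTwo G := by
  intro P
  haveI : Fact (Nat.Prime 2) := ⟨Nat.prime_two⟩
  obtain ⟨P₀, hP₀⟩ := S.exists_sylow
  have h4 : Nat.card (P : Subgroup G) = 2 ^ 2 := by
    rw [P.card_eq_multiplicity, ← P₀.card_eq_multiplicity, hP₀, S.card_four]; rfl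
  exact IsPGroup.isMulCommutative_of_card_eq_prime_sq h4

theorem Minimal.not_rot_of_centralizer_le (M : Minimal G t a) (hO : oddPart t ≠ ⊥) {H : Subgroup G}
    (hH : H ≠ ⊤) (hC : centralizer ({t} : Set G) ≤ H) : ¬ ∃ g ∈ H, Rot t a g := by
  classical
  rintro ⟨g, hgH, hg⟩
  have S := M.setting
  haveI := M.simple
  haveI : Fact (Nat.Prime 2) := ⟨Nat.prime_two⟩
  have hVH : four t a ≤ H := le_trans (S.four_le_centralizer S.t_mem) hC
  -- all involutions of `H` are conjugate in `H` to `t`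
  have hconj : ∀ u ∈ H, orderOf u = 2 → ∃ x ∈ H, x * t * x⁻¹ = u := by
    intro u hu hu2
    obtain ⟨P, hP⟩ := S.exists_sylow
    let PH : Sylow 2 H := P.subtype (hP ▸ hVH)
    have h2 : IsPGroup 2 (zpowers (⟨u, hu⟩ : H)) :=
      IsPGroup.of_card (n := 1) (by rw [Nat.card_zpowers, Subgroup.orderOf_mk, hu2, pow_one])
    obtain ⟨Q, hQ⟩ := h2.exists_le_sylow
    obtain ⟨y, hy⟩ := MulAction.exists_smul_eq H Q PH
    have hv : (y : G) * u * (y : G)⁻¹ ∈ four t a := by
      have h1 : y * (⟨u, hu⟩ : H) * y⁻¹ ∈ (PH : Subgroup H) := by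
        rw [← hy, Sylow.coe_subgroup_smul]
        exact ⟨⟨u, hu⟩, hQ (mem_zpowers _), rfl⟩
      rw [← hP]
      exact h1
    obtain ⟨z, hz, e⟩ : ∃ z ∈ H, z * t * z⁻¹ = (y : G) * u * (y : G)⁻¹ := by
      rcases S.mem_four_iff.1 hv with e | e | e | e
      · exact absurd (conj_eq_one_iff.1 e) fun h => by rw [h, orderOf_one] at hu2; omega
      · exact ⟨1, one_mem _, by rw [e]; group⟩
      · exact ⟨g, hgH, by rw [e, hg.1]⟩
      · exact ⟨g * g, mul_mem hgH hgH, by
          rw [e, show g * g * t * (g * g)⁻¹ = g * (g * t * g⁻¹) * g⁻¹ by group, hg.1, hg.2]⟩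
    exact ⟨(y : G)⁻¹ * z, mul_mem (inv_mem y.2) hz, by
      rw [show (y : G)⁻¹ * z * t * ((y : G)⁻¹ * z)⁻¹ = (y : G)⁻¹ * (z * t * z⁻¹) * y by group, e]; group⟩
  -- so `H` is strongly embedded
  have hSE : Cfsg.IsStronglyEmbedded H := by
    refine ⟨hH, even_iff_two_dvd.2 (S.t2 ▸ Subgroup.orderOf_dvd_natCard H (hVH S.t_mem)), fun x hx => ?_⟩
    by_contra hodd
    rw [Nat.not_odd_iff_even, even_iff_two_dvd] at hodd
    obtain ⟨⟨u, hu⟩, hu2⟩ := exists_prime_orderOf_dvd_card' 2 hodd
    rw [Subgroup.orderOf_mk] at hu2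
    obtain ⟨w, hw, he⟩ : u ∈ H.map (MulAut.conj x).toMonoidHom := hu.2
    have he' : x * w * x⁻¹ = u := he
    have hw2 : orderOf w = 2 := by
      rw [← hu2, ← he']
      exact (orderOf_injective (MulAut.conj x).toMonoidHom (MulAut.conj x).injective w).symm
    obtain ⟨c, hc, hct⟩ := hconj u hu.1 hu2
    obtain ⟨d, hd, hdt⟩ := hconj w hw hw2
    apply hx
    have hmem : c⁻¹ * x * d ∈ centralizer ({t} : Set G) := mem_centralizer_singleton_iff.2 (by
      have : x * (d * t * d⁻¹) * x⁻¹ = c * t * c⁻¹ := by rw [hdt, hct, he']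
      calc c⁻¹ * x * d * t = c⁻¹ * (x * (d * t * d⁻¹) * x⁻¹) * x * d := by group
        _ = t * (c⁻¹ * x * d) := by rw [this]; group)
    have := mul_mem (mul_mem hc (hC hmem)) (inv_mem hd)
    rwa [show c * (c⁻¹ * x * d) * d⁻¹ = x by group] at this
  have hnc := M.noncomm
  have hcore : Cfsg.pPrimeCore 2 G = ⊥ := by
    rcases (inferInstance : (Cfsg.pPrimeCore 2 G).Normal).eq_bot_or_eq_top with e | e
    · exact e
    · have h := CfsgLib.Solvable.Cores.coprime_card_pPrimeCore (G := G) 2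
      rw [e, card_top, Nat.coprime_two_right] at h
      exact absurd (S.t2 ▸ orderOf_dvd_natCard t) h.not_two_dvd_nat
  let e₀ : G ⧸ Cfsg.pPrimeCore 2 G ≃* G :=
    (QuotientGroup.quotientMulEquivOfEq hcore).trans QuotientGroup.quotientBot
  haveI : Nontrivial (G ⧸ Cfsg.pPrimeCore 2 G) := e₀.toEquiv.nontrivial
  haveI : IsSimpleGroup (G ⧸ Cfsg.pPrimeCore 2 G) :=
    IsSimpleGroup.isSimpleGroup_of_surjective e₀.symm.toMonoidHom e₀.symm.surjective
  have hcl : Cfsg.pElementClosure 2 (⊤ : Subgroup (G ⧸ Cfsg.pPrimeCore 2 G)) = ⊤ := by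
    haveI : (Cfsg.pElementClosure 2 (⊤ : Subgroup (G ⧸ Cfsg.pPrimeCore 2 G))).Normal := by
      refine ⟨fun x hx y => ?_⟩
      induction hx using Subgroup.closure_induction with
      | mem z hz =>
        obtain ⟨-, k, hk⟩ := hz
        exact subset_closure ⟨trivial, k, (MulEquiv.orderOf_eq (MulAut.conj y) z).trans hk⟩
      | one => simp
      | mul z w _ _ hz hw =>
        rw [show y * (z * w) * y⁻¹ = y * z * y⁻¹ * (y * w * y⁻¹) by group]
        exact mul_mem hz hw
      | inv z _ hz =>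
        rw [show y * z⁻¹ * y⁻¹ = (y * z * y⁻¹)⁻¹ by group]
        exact inv_mem hz
    rcases Subgroup.Normal.eq_bot_or_eq_top (H := Cfsg.pElementClosure 2
      (⊤ : Subgroup (G ⧸ Cfsg.pPrimeCore 2 G))) inferInstance with e | e
    · exfalso
      have h : e₀.symm t ∈ Cfsg.pElementClosure 2 (⊤ : Subgroup (G ⧸ Cfsg.pPrimeCore 2 G)) :=
        subset_closure ⟨trivial, 1, by rw [MulEquiv.orderOf_eq, S.t2]; rfl⟩
      rw [e, mem_bot, MulEquiv.map_eq_one_iff] at h
      exact S.t_ne_one h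
    · exact e
  let e₁ : ↥(Cfsg.pElementClosure 2 (⊤ : Subgroup (G ⧸ Cfsg.pPrimeCore 2 G))) ≃* G :=
    ((MulEquiv.subgroupCongr hcl).trans Subgroup.topEquiv).trans e₀
  rcases Cfsg.Agent.S2798.result H (CfsgLib.Involution.SEModule.isStronglyPEmbedded hSE) with
    h | ⟨F, _, _, hF2, hF4, ⟨e⟩⟩ | ⟨F, _, _, q, hq, hq4, hF, ⟨e⟩⟩ | h
  · obtain ⟨h1, -⟩ := h t S.t2
    rw [hcore, bot_sup_eq] at h1
    have hz : t ∈ center G := mem_center_iff.2 fun x =>
      (mem_centralizer_singleton_iff.1 (h1 ▸ mem_top x))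
    rcases (inferInstance : (center G).Normal).eq_bot_or_eq_top with e | e
    · exact S.t_ne_one (mem_bot.1 (e ▸ hz))
    · exact hnc ⟨⟨fun x y => mem_center_iff.1 (e ▸ mem_top y) x⟩⟩
  · obtain ⟨n, -, hn⟩ := FiniteField.card F 2
    have hcard : Nat.card G = (2 ^ (n : ℕ)) * ((2 ^ (n : ℕ)) ^ 2 - 1) := by
      rw [← Nat.card_congr (e₁.symm.trans e).toEquiv.symm]
      have h1 := CfsgLib.Classical.card_sl_mul (F := F) hn 2 (by norm_num)
      rw [Fin.prod_univ_two] at h1
      simp only [Fin.val_zero, Fin.val_one, pow_zero, pow_one] at h1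
      set q := 2 ^ (n : ℕ)
      have hq : 2 ≤ q := by omega
      have h2 : q ^ 2 - q = q * (q - 1) := by rw [Nat.mul_sub, mul_one, pow_two]
      rw [h2] at h1
      exact Nat.eq_of_mul_eq_mul_left (show 0 < q - 1 by omega) (by rw [h1]; ring)
    have hn2 : (n : ℕ) = 2 := by
      have h2 : 2 ≤ (n : ℕ) := by
        by_contra h
        have := Nat.pow_le_pow_right (n := 2) (by norm_num) (show (n : ℕ) ≤ 1 by omega)
        omega
      by_contra h
      exact S.not_eight (hcard ▸ (pow_dvd_pow 2 (show 3 ≤ (n : ℕ) by omega)).mul_right _)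
    rw [hn2] at hcard
    norm_num at hcard
    -- the orders of the centraliser and of `H`
    set C := centralizer ({t} : Set G)
    have hC4 : 4 ∣ Nat.card C := S.card_four ▸ card_dvd_of_le (S.four_le_centralizer S.t_mem)
    have hOdvd : Nat.card (oddPart t) ∣ Nat.card C := card_dvd_of_le (oddPart_le t)
    have hO3 : 3 ≤ Nat.card (oddPart t) := by
      have h1 := one_lt_card_iff_ne_bot _ |>.2 hO
      obtain ⟨k, hk⟩ : Odd (Nat.card (oddPart t)) := odd_card_core _
      omega
    have h12 : 12 ≤ Nat.card C := by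
      have h3 : 4 * Nat.card (oddPart t) ∣ Nat.card C :=
        Nat.Coprime.mul_dvd_of_dvd_of_dvd (Nat.Coprime.pow_left 2 (Nat.coprime_two_left.2 (odd_card_core _)))
          hC4 hOdvd
      have := Nat.le_of_dvd Nat.card_pos h3
      omega
    have hHcard : Nat.card H ≤ 30 := by
      have h1 := H.card_mul_index
      have h2 : 1 < H.index := H.one_lt_index_of_ne_top hH
      rw [hcard] at h1
      by_contra h
      have := Nat.mul_le_mul (show 31 ≤ Nat.card H by omega) (show 2 ≤ H.index by omega)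
      omega
    have hidx : C.relIndex H * Nat.card C = Nat.card H := by
      have := (C.subgroupOf H).card_mul_index
      rw [Nat.card_congr (subgroupOfEquivOfLe hC).toEquiv, mul_comm] at this
      exact this
    have h3 : 3 ≤ C.relIndex H := by
      have hne : C.relIndex H ≠ 1 := fun h => by
        have hgC : g ∈ C := (relIndex_eq_one.1 h) hgH
        rw [mem_centralizer_singleton_iff] at hgC
        exact S.ne ((show g * t * g⁻¹ = t by rw [hgC, mul_inv_cancel_right]).symm.trans hg.1)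
      have hodd : ¬ 2 ∣ C.relIndex H := fun h => S.not_eight (by
        have := (Nat.mul_dvd_mul h hC4).trans (hidx ▸ card_subgroup_dvd_card H)
        norm_num at this ⊢
        exact this)
      have h0 : C.relIndex H ≠ 0 := index_ne_zero_of_finite
      omega
    have := Nat.mul_le_mul h3 h12
    omega
  · obtain ⟨p, hp⟩ := CharP.exists F
    haveI : Fact p.Prime := ⟨CharP.char_is_prime F p⟩
    obtain ⟨n, -, hn⟩ := FiniteField.card F p
    have h2p : 2 ∣ p := Nat.prime_two.dvd_of_dvd_pow (n := n)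
      (by rw [← hn, hF]; exact (even_iff_two_dvd.1 hq).trans (dvd_pow_self q two_ne_zero))
    obtain rfl : p = 2 := ((Nat.prime_dvd_prime_iff_eq Nat.prime_two Fact.out).1 h2p).symm
    exact CfsgLib.KGroups.AbelianTwo.not_psu_three hF (S.abTwo.mk_witness ⟨e₁.symm.trans e⟩)
  · obtain ⟨F, _, _, m, hm1, hK, ⟨e⟩⟩ := h
    haveI : CharP F 2 := charP_of_card_eq_prime_pow hK
    exact CfsgLib.KGroups.AbelianTwo.not_suzuki hm1 hK (S.abTwo.mk_witness ⟨e₁.symm.trans e⟩)

end CfsgLib.GWKlein
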