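import Cfsg.Agent.Lib.GWKlein.Statement
import Cfsg.Agent.Lib.Components.Bender
import Cfsg.Agent.Lib.KGroups.CharP
import Cfsg.Agent.Lib.SmallGroups.SimpleTools
import Cfsg.Agent.S0205

/-!
# Gorenstein–Walter, Klein case: overgroups of a fixed element of `O_r(O)`

`C = C(t)` is maximal, `P` is a normal `r`-subgroup of `C` inside `O = oddPart t` which `a` does not
centralise, `x ≠ 1` is an element of `P` centralised by `a` and `H` a maximal subgroup over `C(x)`.
Bender's method makes every `O_q(H)`, `q` odd, either centralised by `t` or inverted by it, so `H`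
rotates the four-group (otherwise Thompson's A×B lemma makes `a` centralise `P`) and the four-group
centralises `core H`.
-/

set_option autoImplicit false
set_option linter.unusedSectionVars false
set_option linter.style.haveILetI false

universe u

namespace CfsgLib.GWKlein

open Subgroup CfsgLib.Components.Bender
open CfsgLib.Components (map_subtype_normal_of_characteristic)

variable {G : Type u} [Group G] [Finite G] {t a : G}

/-- The centraliser of `t` is `oddPart t` times the four-group. -/
theorem Setting.centralizer_eq (S : Setting G t a) {y : G} (hy : y ∈ centralizer ({t} : Set G)) :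
    ∃ k ∈ oddPart t, ∃ v ∈ four t a, y = k * v := by
  rcases S.type_or_rot (S.four_le_centralizer S.t_mem) with h | ⟨g, hg, hgt, -⟩
  · exact h.1 y hy
  · rw [show g * t * g⁻¹ = t by rw [mem_centralizer_singleton_iff.1 hg, mul_inv_cancel_right]] at hgt
    exact absurd hgt S.ne

/-- `C(t)` normalises what `oddPart t` and the four-group normalise. -/
theorem Setting.centralizer_le_normalizer_of (S : Setting G t a) {P : Subgroup G}
    (hO : oddPart t ≤ normalizer (P : Set G)) (hV : four t a ≤ normalizer (P : Set G)) :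
    centralizer ({t} : Set G) ≤ normalizer (P : Set G) := fun y hy => by
  obtain ⟨k, hk, v, hv, rfl⟩ := S.centralizer_eq hy
  exact mul_mem (hO hk) (hV hv)

/-- A normal subgroup of `C(t)` of prime power order lies in the corresponding core. -/
theorem le_coreIn {M P : Subgroup G} {r : ℕ} (hPM : P ≤ M) (hP : IsPGroup r ↥P)
    (hn : M ≤ normalizer (P : Set G)) : P ≤ coreIn r M := by
  haveI : (P.subgroupOf M).Normal := (normal_subgroupOf_iff_le_normalizer hPM).2 hn
  exact fun y hy => ⟨⟨y, hPM hy⟩,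
    CfsgLib.Solvable.Cores.le_pCore (N := P.subgroupOf M)
      (hP.of_equiv (subgroupOfEquivOfLe hPM).symm) hy, rfl⟩

/-- An element of odd order inverted by `t` and centralised by it is trivial. -/
theorem eq_one_of_inverted {t y : G} (hy : Odd (orderOf y)) (hi : t * y * t⁻¹ = y⁻¹)
    (hc : Commute t y) : y = 1 := by
  rw [hc.eq, mul_inv_cancel_right] at hi
  have hd : orderOf y ∣ 2 := orderOf_dvd_of_pow_eq_one (by
    rw [pow_two]; nth_rewrite 2 [hi]; exact mul_inv_cancel y)
  exact orderOf_eq_one_iff.1 (Nat.eq_one_of_dvd_coprimes (Nat.coprime_two_left.2 hy) hd dvd_rfl)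

/-- An involution without fixed points on a group of odd order inverts it. -/
theorem inverts_of_fixed_free {t : G} (ht : t * t = 1) {K : Subgroup G} (hK : Odd (Nat.card K))
    (htK : t ∈ normalizer (K : Set G)) (hfix : ∀ y ∈ K, Commute t y → y = 1) {y : G} (hy : y ∈ K) :
    t * y * t⁻¹ = y⁻¹ := by
  have htK' : ∀ z ∈ K, t * z * t⁻¹ ∈ K := fun z hz => (mem_normalizer_iff.1 htK z).1 hz
  let φ : K → K := fun z => ⟨(z : G)⁻¹ * (t * z * t⁻¹), K.mul_mem (K.inv_mem z.2) (htK' _ z.2)⟩
  have hφ : Function.Injective φ := by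
    intro b c e
    have e' : (b : G)⁻¹ * (t * b * t⁻¹) = (c : G)⁻¹ * (t * c * t⁻¹) := congrArg Subtype.val e
    refine Subtype.ext (mul_inv_eq_one.1 (hfix ((b : G) * (c : G)⁻¹)
      (K.mul_mem b.2 (K.inv_mem c.2)) (mul_inv_eq_iff_eq_mul.1 ?_)))
    calc t * ((b : G) * (c : G)⁻¹) * t⁻¹
        = (b : G) * ((b : G)⁻¹ * (t * b * t⁻¹)) * (t * c * t⁻¹)⁻¹ := by group
      _ = (b : G) * (c : G)⁻¹ := by rw [e']; group
  obtain ⟨z, hz⟩ := Finite.surjective_of_injective hφ ⟨y, hy⟩
  rw [show y = (z : G)⁻¹ * (t * z * t⁻¹) from (congrArg Subtype.val hz).symm]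
  have htt : t⁻¹ = t := inv_eq_of_mul_eq_one_right ht
  calc t * ((z : G)⁻¹ * (t * z * t⁻¹)) * t⁻¹
      = (t * (z : G)⁻¹ * t⁻¹) * (t * t) * z * t⁻¹ * t⁻¹ := by group
    _ = ((z : G)⁻¹ * (t * z * t⁻¹))⁻¹ := by rw [ht, mul_one, htt]; simp [mul_assoc, ht, htt]

/-- In a soluble group of odd order, an element centralising every `O_q` lies in the Fitting
subgroup. -/
theorem mem_fitIn_of_odd {W : Subgroup G} (hW : Odd (Nat.card W)) {y : G} (hy : y ∈ W)
    (hc : ∀ q : ℕ, q.Prime → ∀ f ∈ coreIn q W, Commute y f) : y ∈ fitIn W := by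
  haveI : Group.IsSolvable ↥W := Cfsg.Agent.S0205.result hW
  refine ⟨⟨y, hy⟩, CfsgLib.Solvable.Cores.centralizer_fittingSubgroup_le
    (mem_centralizer_iff.2 fun f hf => ?_), rfl⟩
  have hle : fitIn W ≤ centralizer ({y} : Set G) := le_of_parts le_rfl fun q hq _ z hz =>
    mem_centralizer_singleton_iff.2 (hc q hq z hz.1).symm.eq
  exact Subtype.ext (mem_centralizer_singleton_iff.1 (hle ⟨f, hf, rfl⟩))

/-- `O_q` of the core lies in `O_q` of the group. -/
theorem coreIn_core_le {H : Subgroup G} {q : ℕ} :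
    coreIn q (core H) ≤ coreIn q H :=
  le_coreIn ((coreIn_le q _).trans (core_le H)) (isPGroup_coreIn q _) fun h hh => by
    have hh' := le_normalizer_core H (Subgroup.le_normalizer hh)
    exact map_subtype_normal_of_characteristic hh'

section Main

variable (M : Minimal G t a)
include M

theorem Minimal.centralizer_ne_top {x : G} (hx : x ≠ 1) : centralizer ({x} : Set G) ≠ ⊤ := by
  haveI := M.simple
  intro h
  have hc : x ∈ center G := mem_center_iff.2 fun y =>
    mem_centralizer_singleton_iff.1 (h ▸ mem_top y)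
  rw [CfsgLib.SmallGroups.SimpleTools.center_eq_bot M.noncomm] at hc
  exact hx (mem_bot.1 hc)

/-- `O_q(H)` for a subgroup `H` over `C(X)`, `1 ≠ X ≤ O_r(C(t))`: it is centralised by `t` if
`O_q(C(t)) ≠ 1`, and meets `C(t)` trivially otherwise. -/
theorem Minimal.coreIn_cases (hC : IsCoatom (centralizer ({t} : Set G))) {r : ℕ} (hr : r.Prime)
    (hr2 : r ≠ 2) {X H : Subgroup G} (hX : X ≤ coreIn r (centralizer ({t} : Set G))) (hX1 : X ≠ ⊥)
    (hXle : X ≤ H) {q : ℕ} (hq : q.Prime)
    (hXH : centralizer (X : Set G) ≤ H) :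
    coreIn q H ≤ centralizer ({t} : Set G) ∨
      (coreIn q H ⊓ centralizer ({t} : Set G) = ⊥ ∧ coreIn q (centralizer ({t} : Set G)) = ⊥) := by
  haveI := M.simple
  haveI := Fact.mk hr
  haveI := Fact.mk hq
  haveI : Fact (Nat.Prime 2) := ⟨Nat.prime_two⟩
  set C := centralizer ({t} : Set G) with hCdef
  let A : Arrow C H :=
    { Q := X
      ne_bot := hX1
      le_fit := hX.trans (coreIn_le_fitIn r C)
      le_N := hXle
      layer_le := fun z hz => hXH (centralizer_le hX (layerIn_le_centralizer r C hz))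
      cent_le := fun s hs z hz hzc => by
        haveI := Fact.mk hs
        refine hXH (mem_centralizer_iff.2 fun y hy => ?_)
        by_cases hsr : s = r
        · subst hsr
          exact mem_centralizer_iff.1 hzc y ⟨hy, hX hy⟩
        · exact mem_centralizer_iff.1 (coreIn_le_centralizer hsr C hz) y (hX hy) }
  have hU := isUniq_of_isCoatom hC
  by_cases hqC : coreIn q C = ⊥
  · exact Or.inr ⟨A.coreIn_inf_eq_bot hqC, hqC⟩
  left
  by_cases hqr : q = r
  · subst hqr
    refine A.coreIn_le_of_two hU hr2 hqC fun h2 => M.setting.t_ne_one ?_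
    have htC : zpowers t ≤ C := zpowers_le.2 (mem_centralizer_singleton_iff.2 rfl)
    have := le_coreIn (r := 2) htC (IsPGroup.of_card (n := 1) (by
      rw [Nat.card_zpowers, M.setting.t2, pow_one]))
      (fun y hy => centralizer_le_normalizer _ (mem_centralizer_iff.2 fun z hz => by
        obtain ⟨i, rfl⟩ := mem_zpowers_iff.1 hz
        exact ((show Commute t y from (mem_centralizer_singleton_iff.1 hy).symm).zpow_left i).eq))
    rw [h2] at this
    exact mem_bot.1 (this (mem_zpowers t))
  · exact A.coreIn_le_of_two hU hqr hqC fun h => hX1 (le_bot_iff.1 (h ▸ hX))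

variable (hC : IsCoatom (centralizer ({t} : Set G))) {g : G} (hg : Rot t a g)
include hC hg

/-- A maximal subgroup over `C(X)`, `1 ≠ X ≤ P` centralised by `a`, rotates the four-group, which
centralises its core. -/
theorem Minimal.rotates_of_centralizer_le {r : ℕ} (hr : r.Prime) {P : Subgroup G}
    (hPO : P ≤ oddPart t) (hP : IsPGroup r ↥P) (hPn : oddPart t ≤ normalizer (P : Set G))
    (hPV : four t a ≤ normalizer (P : Set G)) (hPa : ¬ ∀ y ∈ P, Commute a y) {X : Subgroup G}
    (hX : X ≤ P) (hXa : ∀ y ∈ X, Commute a y) (hX1 : X ≠ ⊥) {H : Subgroup G}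
    (hXH : centralizer (X : Set G) ≤ H) (hXle : X ≤ H) :
    four t a ≤ H ∧ (∃ g ∈ H, Rot t a g) ∧ core H ≤ centralizer (four t a : Set G) := by
  haveI := M.simple
  haveI := Fact.mk hr
  have S := M.setting
  set C := centralizer ({t} : Set G) with hCdef
  have hVX : four t a ≤ centralizer (X : Set G) := fun v hv => mem_centralizer_iff.2 fun y hy =>
    (mem_centralizer_iff.1 (S.commute_four (commute_of_mem_oddPart (hPO (hX hy))) (hXa y hy)) v hv).symm
  have hVH : four t a ≤ H := hVX.trans hXH
  have hXr : X ≤ coreIn r C :=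
    hX.trans (le_coreIn (hPO.trans (oddPart_le t)) hP (S.centralizer_le_normalizer_of hPn hPV))
  obtain ⟨x, hx', hx1⟩ := X.bot_or_exists_ne_one.resolve_left hX1
  have hxO : x ∈ oddPart t := hPO (hX hx')
  have hx : x ∈ P := hX hx'
  have hr2 : r ≠ 2 := by
    rintro rfl
    obtain ⟨k, hk⟩ := IsPGroup.exists_orderOf_eq_pow hP ⟨x, hx⟩
    rw [Subgroup.orderOf_mk] at hk
    rcases k with _ | k
    · exact hx1 (orderOf_eq_one_iff.1 (hk.trans (pow_zero 2)))
    · have h2 : Odd (2 ^ (k + 1)) := hk ▸ odd_orderOf (odd_card_core _) hxO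
      exact Nat.not_even_iff_odd.2 h2 (Nat.even_pow.2 ⟨even_two, by omega⟩)
  have hcases := fun {q : ℕ} (hq : q.Prime) => M.coreIn_cases hC hr hr2 hXr hX1 hXle hq hXH
  set W := core H with hW
  have hWodd : Odd (Nat.card W) := odd_card_core H
  have hVW : ∀ q, ∀ v ∈ four t a, v ∈ normalizer (coreIn q H : Set G) := fun q v hv =>
    le_normalizer_coreIn q H (hVH hv)
  -- on `O_q(core H)` the involution `t` is trivial or inverting
  have hpart : ∀ {q : ℕ}, q.Prime → (∀ f ∈ coreIn q W, Commute t f) ∨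
      ((∀ f ∈ coreIn q W, t * f * t⁻¹ = f⁻¹) ∧ coreIn q C = ⊥) := by
    intro q hq
    rcases hcases hq with h | ⟨h, h0⟩
    · exact Or.inl fun f hf =>
        (mem_centralizer_singleton_iff.1 (h (coreIn_core_le hf))).symm
    refine Or.inr ⟨fun f hf => inverts_of_fixed_free S.t_mul_self
      (hWodd.of_dvd_nat (card_dvd_of_le (coreIn_le q W))) ?_ (fun y hy hty => ?_) hf, h0⟩
    · exact map_subtype_normal_of_characteristic (le_normalizer_core H (Subgroup.le_normalizer
        (hVH S.t_mem)))
    · exact mem_bot.1 (h ▸ ⟨coreIn_core_le hy, mem_centralizer_singleton_iff.2 hty.symm.eq⟩)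
  by_cases hrot : ∃ g ∈ H, Rot t a g
  · refine ⟨hVH, hrot, ?_⟩
    obtain ⟨s, hsH, hst, hsa⟩ := hrot
    -- every `O_q(core H)` is centralised by the four-group
    have hfix : ∀ q : ℕ, q.Prime → ∀ f ∈ coreIn q W, Commute t f ∧ Commute a f := by
      intro q hq
      have hsN : s ∈ normalizer (coreIn q W : Set G) :=
        map_subtype_normal_of_characteristic (le_normalizer_core H (Subgroup.le_normalizer hsH))
      have hs' : ∀ f ∈ coreIn q W, s⁻¹ * f * s ∈ coreIn q W := fun f hf => by
        have := (mem_normalizer_iff.1 (inv_mem hsN) f).1 hf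
        rwa [inv_inv] at this
      rcases hpart hq with h | ⟨h, -⟩
      · intro f hf
        refine ⟨h f hf, ?_⟩
        have := (Commute.conj_iff s).2 (h _ (hs' f hf))
        rwa [hst, show s * (s⁻¹ * f * s) * s⁻¹ = f by group] at this
      · -- inverted by `t`, hence by `a` and by `t * a`
        have hinv : ∀ {u v : G}, s * u * s⁻¹ = v →
            (∀ f ∈ coreIn q W, u * f * u⁻¹ = f⁻¹) → ∀ f ∈ coreIn q W, v * f * v⁻¹ = f⁻¹ := by
          intro u v huv hu f hf
          have := hu _ (hs' f hf)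
          calc v * f * v⁻¹ = s * (u * (s⁻¹ * f * s) * u⁻¹) * s⁻¹ := by rw [← huv]; group
            _ = f⁻¹ := by rw [this]; group
        have ha := hinv hst h
        have hta := hinv hsa ha
        intro f hf
        have hf1 : f = 1 := by
          refine eq_one_of_inverted (t := t * a) (odd_orderOf hWodd (coreIn_le q W hf)) (hta f hf)
            (mul_inv_eq_iff_eq_mul.1 ?_)
          calc t * a * f * (t * a)⁻¹ = t * (a * f * a⁻¹) * t⁻¹ := by group
            _ = f := by rw [ha f hf, ← conj_inv, h f hf, inv_inv]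
        simp [hf1]
    intro y hy
    have hcomm : ∀ v ∈ four t a, (∀ q : ℕ, q.Prime → ∀ f ∈ coreIn q W, Commute v f) →
        Commute v y := by
      intro v hv hvf
      have hvy : v * y * v⁻¹ ∈ W := core_conj_mem H (Subgroup.le_normalizer (hVH hv)) hy
      set c := v * y * v⁻¹ * y⁻¹ with hc
      have hcW : c ∈ W := mul_mem hvy (inv_mem hy)
      have hcF : c ∈ fitIn W := by
        refine mem_fitIn_of_odd hWodd hcW fun q hq f hf => ?_
        have hyn : ∀ z ∈ W, z * f * z⁻¹ ∈ coreIn q W := fun z hz =>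
          (mem_normalizer_iff.1 (le_normalizer_coreIn q W hz) f).1 hf
        have hyf : y⁻¹ * f * y ∈ coreIn q W := by
          simpa using hyn y⁻¹ (inv_mem hy)
        refine mul_inv_eq_iff_eq_mul.1 ?_
        have h1 : v * (y⁻¹ * f * y) * v⁻¹ = y⁻¹ * f * y := by
          rw [(hvf q hq _ hyf).eq, mul_inv_cancel_right]
        have h2 : v⁻¹ * (y⁻¹ * f * y) * v = y⁻¹ * f * y := by
          rw [← (hvf q hq _ hyf).inv_left.symm.eq, inv_mul_cancel_right]
        calc c * f * c⁻¹ = v * (y * (v⁻¹ * (y⁻¹ * f * y) * v) * y⁻¹) * v⁻¹ := by rw [hc]; group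
          _ = f := by
            rw [h2, show y * (y⁻¹ * f * y) * y⁻¹ = f by group, (hvf q hq f hf).eq,
              mul_inv_cancel_right]
      have hle : fitIn W ≤ centralizer ({v} : Set G) := le_of_parts le_rfl fun q hq _ z hz =>
        mem_centralizer_singleton_iff.2 (hvf q hq z hz.1).symm.eq
      have hvc : Commute v c := (mem_centralizer_singleton_iff.1 (hle hcF)).symm
      have hc1 : c = 1 := by
        refine eq_one_of_inverted (odd_orderOf hWodd hcW) ?_ hvc
        have hvv := S.four_sq hv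
        have hvi : v⁻¹ = v := inv_eq_of_mul_eq_one_right hvv
        rw [hc]
        calc v * (v * y * v⁻¹ * y⁻¹) * v⁻¹ = (v * v) * y * v⁻¹ * y⁻¹ * v⁻¹ := by group
          _ = (v * y * v⁻¹ * y⁻¹)⁻¹ := by rw [hvv, hvi]; simp [mul_assoc, hvi]
      exact mul_inv_eq_iff_eq_mul.1 (mul_inv_eq_one.1 hc1)
    exact S.commute_four (hcomm t S.t_mem fun q hq f hf => (hfix q hq f hf).1)
      (hcomm a S.a_mem fun q hq f hf => (hfix q hq f hf).2)
  · -- without a rotation `a` centralises `P`
    exfalso
    apply hPa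
    obtain ⟨hdec, hodd⟩ := (S.type_or_rot hVH).resolve_right hrot
    set Pa := P.map (MulAut.conj g).toMonoidHom with hPa'
    have hPaC : ∀ z ∈ Pa, Commute a z := by
      rintro _ ⟨y, hy, rfl⟩
      have := (Commute.conj_iff g).2 (commute_of_mem_oddPart (hPO hy))
      rwa [hg.1] at this
    have hgx : ∀ y ∈ X, g⁻¹ * y * g ∈ C := by
      intro y hy
      have h1 : Commute t (g⁻¹ * y * g) := by
        have := (Commute.conj_iff g⁻¹).2 (hXa y hy)
        rwa [show g⁻¹ * a * g⁻¹⁻¹ = t by rw [← hg.1]; group, inv_inv] at this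
      exact mem_centralizer_singleton_iff.2 h1.symm.eq
    have hmapn : ∀ {z : G}, g⁻¹ * z * g ∈ normalizer (P : Set G) →
        z ∈ normalizer (Pa : Set G) := by
      intro z hz
      refine mem_normalizer_iff_map_conj_eq.2 ?_
      rw [hPa', map_map]
      conv_rhs => rw [← mem_normalizer_iff_map_conj_eq.1 hz, map_map]
      congr 1
      ext w
      simp [mul_assoc]
    have hCN := S.centralizer_le_normalizer_of hPn hPV
    have hXPa : X ≤ normalizer (Pa : Set G) := fun y hy => hmapn (hCN (hgx y hy))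
    have htPa : t ∈ normalizer (Pa : Set G) := by
      refine hmapn (hPV ?_)
      have : g⁻¹ * t * g = t * a := by
        have h : g * (t * a) * g⁻¹ = t := by
          rw [show g * (t * a) * g⁻¹ = g * t * g⁻¹ * (g * a * g⁻¹) by group, hg.1, hg.2, ← mul_assoc,
            ← S.comm.eq, mul_assoc, S.a_mul_self, mul_one]
        nth_rewrite 1 [← h]
        group
      exact this ▸ S.ta_mem
    have hPar : IsPGroup r ↥Pa := hP.map _
    have hfix : ∀ z ∈ Pa, (∀ y ∈ X, y * z = z * y) → t * z = z * t := by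
      intro z hz hzx
      have hzo : Odd (orderOf z) := by
        obtain ⟨y, hy, rfl⟩ := hz
        show Odd (orderOf (MulAut.conj g y))
        rw [MulEquiv.orderOf_eq]
        exact odd_orderOf (odd_card_core _) (hPO hy)
      have hzW : z ∈ W :=
        hodd z (hXH (mem_centralizer_iff.2 hzx)) hzo
      have htz : t * z * t⁻¹ ∈ W := core_conj_mem H (Subgroup.le_normalizer (hVH S.t_mem)) hzW
      set c := t * z * t⁻¹ * z⁻¹ with hc
      have hcW : c ∈ W := mul_mem htz (inv_mem hzW)
      have hcF : c ∈ fitIn W := by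
        refine mem_fitIn_of_odd hWodd hcW fun q hq f hf => ?_
        have hyf : z⁻¹ * f * z ∈ coreIn q W := by
          have := (mem_normalizer_iff.1 (le_normalizer_coreIn q W (inv_mem hzW)) f).1 hf
          rwa [inv_inv] at this
        refine mul_inv_eq_iff_eq_mul.1 ?_
        rcases hpart hq with h | ⟨h, -⟩
        · calc c * f * c⁻¹ = t * (z * (t⁻¹ * (z⁻¹ * f * z) * t) * z⁻¹) * t⁻¹ := by rw [hc]; group
            _ = f := by
              rw [show t⁻¹ * (z⁻¹ * f * z) * t = z⁻¹ * f * z by
                rw [← (h _ hyf).inv_left.symm.eq, inv_mul_cancel_right],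
                show z * (z⁻¹ * f * z) * z⁻¹ = f by group, (h f hf).eq, mul_inv_cancel_right]
        · have h' : t⁻¹ * (z⁻¹ * f * z) * t = (z⁻¹ * f * z)⁻¹ := by
            have := h _ hyf
            rwa [S.t_inv] at this ⊢
          calc c * f * c⁻¹ = t * (z * (t⁻¹ * (z⁻¹ * f * z) * t) * z⁻¹) * t⁻¹ := by rw [hc]; group
            _ = f := by
              rw [h', show z * (z⁻¹ * f * z)⁻¹ * z⁻¹ = f⁻¹ by group, ← conj_inv, h f hf, inv_inv]
      have hcPa : c ∈ Pa := mul_mem ((mem_normalizer_iff.1 htPa z).1 hz) (inv_mem hz)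
      have hcr : c ∈ coreIn r W := mem_coreIn hcF (hPar.to_le (zpowers_le.2 hcPa))
      have hci : t * c * t⁻¹ = c⁻¹ := by
        have ht := S.t_mul_self
        rw [hc]
        calc t * (t * z * t⁻¹ * z⁻¹) * t⁻¹ = (t * t) * z * t⁻¹ * z⁻¹ * t⁻¹ := by group
          _ = (t * z * t⁻¹ * z⁻¹)⁻¹ := by rw [ht, S.t_inv]; simp [mul_assoc, S.t_inv]
      have hc1 : c = 1 := by
        rcases hpart hr with h | ⟨-, h0⟩
        · exact eq_one_of_inverted (odd_orderOf hWodd hcW) hci (h c hcr)
        · exact absurd (mem_bot.1 (h0 ▸ hXr hx')) hx1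
      exact mul_inv_eq_iff_eq_mul.1 (mul_inv_eq_one.1 hc1)
    have hall := CfsgLib.KGroups.CharP.commute_of_commute_fixed hPar
      (hP.to_le hX) hXPa (y := t)
      (by rw [S.t2]; exact (Nat.coprime_primes Nat.prime_two hr).2 (Ne.symm hr2))
      (fun y hy => (commute_of_mem_oddPart (hPO (hX hy))).eq)
      htPa hfix
    intro y hy
    have hgy : g * y * g⁻¹ ∈ Pa := ⟨y, hy, rfl⟩
    have h1 : Commute (g⁻¹ * t * g) y := by
      have := (Commute.conj_iff g⁻¹).2 (show Commute t (g * y * g⁻¹) from hall _ hgy)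
      simpa [mul_assoc] using this
    have hg' : g * (t * a) * g⁻¹ = t := by
      rw [show g * (t * a) * g⁻¹ = g * t * g⁻¹ * (g * a * g⁻¹) by group, hg.1, hg.2, ← mul_assoc,
        ← S.comm.eq, mul_assoc, S.a_mul_self, mul_one]
    have h2 : Commute (t * a) y := by
      convert h1 using 1
      nth_rewrite 2 [← hg']
      group
    have h3 := (commute_of_mem_oddPart (hPO hy)).mul_left h2
    rwa [← mul_assoc, S.t_mul_self, one_mul] at h3

/-- Some maximal subgroup over `C(x)` rotates the four-group, which centralises its core. -/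
theorem Minimal.exists_rotating_overgroup {r : ℕ} (hr : r.Prime) {P : Subgroup G}
    (hPO : P ≤ oddPart t) (hP : IsPGroup r ↥P) (hPn : oddPart t ≤ normalizer (P : Set G))
    (hPV : four t a ≤ normalizer (P : Set G)) (hPa : ¬ ∀ y ∈ P, Commute a y) {x : G} (hx : x ∈ P)
    (hxa : Commute a x) (hx1 : x ≠ 1) :
    ∃ H : Subgroup G, H ≠ ⊤ ∧ four t a ≤ H ∧ centralizer ({x} : Set G) ≤ H ∧
      (∃ g ∈ H, Rot t a g) ∧ core H ≤ centralizer (four t a : Set G) := by
  obtain ⟨H, hH, hxH⟩ := (eq_top_or_exists_le_coatom (centralizer ({x} : Set G))).resolve_left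
    (M.centralizer_ne_top hx1)
  have hle : centralizer (zpowers x : Set G) ≤ H := fun z hz =>
    hxH (mem_centralizer_singleton_iff.2 (mem_centralizer_iff.1 hz x (mem_zpowers x)).symm)
  obtain ⟨hV, hrot, hR⟩ := M.rotates_of_centralizer_le hC hg hr hPO hP hPn hPV hPa
    (zpowers_le.2 hx) (fun y hy => by
      obtain ⟨i, rfl⟩ := mem_zpowers_iff.1 hy
      exact hxa.zpow_right i) (by rwa [Ne, zpowers_eq_bot]) hle
    (zpowers_le.2 (hxH (mem_centralizer_singleton_iff.2 rfl)))
  exact ⟨H, hH.1, hV, hxH, hrot, hR⟩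

/-- If some nontrivial central element of `oddPart t` is centralised by `a`, all are. -/
theorem Minimal.central_fixed {x : G} (hx : x ∈ oddPart t) (hx1 : x ≠ 1) (hxa : Commute a x)
    (hxc : oddPart t ≤ centralizer ({x} : Set G)) {y : G}
    (hyc : oddPart t ≤ centralizer ({y} : Set G)) : Commute a y := by
  haveI := M.simple
  have S := M.setting
  set C := centralizer ({t} : Set G) with hCdef
  have hVx : four t a ≤ centralizer ({x} : Set G) := fun v hv => mem_centralizer_singleton_iff.2
    (mem_centralizer_iff.1 (S.commute_four (commute_of_mem_oddPart hx) hxa) v hv)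
  have hCx : C = centralizer ({x} : Set G) := by
    have hle : C ≤ centralizer ({x} : Set G) := fun z hz => by
      obtain ⟨k, hk, v, hv, rfl⟩ := S.centralizer_eq hz
      exact mul_mem (hxc hk) (hVx hv)
    rcases hC.le_iff.1 hle with h | h
    · exact absurd h (M.centralizer_ne_top hx1)
    · exact h.symm
  set x' := g * x * g⁻¹ with hx'
  have htx : Commute t x' := by
    have hgN : g⁻¹ * t * g ∈ four t a := by
      have hg' : g * (t * a) * g⁻¹ = t := by
        rw [show g * (t * a) * g⁻¹ = g * t * g⁻¹ * (g * a * g⁻¹) by group, hg.1, hg.2, ← mul_assoc,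
          ← S.comm.eq, mul_assoc, S.a_mul_self, mul_one]
      have : g⁻¹ * t * g = t * a := by nth_rewrite 1 [← hg']; group
      exact this ▸ S.ta_mem
    have h := (Commute.conj_iff g).2
      (show Commute (g⁻¹ * t * g) x from mem_centralizer_singleton_iff.1 (hVx hgN))
    rwa [show g * (g⁻¹ * t * g) * g⁻¹ = t by group] at h
  have hx'O : x' ∈ oddPart t := S.mem_oddPart.2
    ⟨by rw [hx', ← MulAut.conj_apply, MulEquiv.orderOf_eq]; exact odd_orderOf (odd_card_core _) hx,
      htx⟩
  have hyx : Commute x' y := mem_centralizer_singleton_iff.1 (hyc hx'O)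
  have hx'' : Commute (g⁻¹ * y * g) x := by
    have := (Commute.conj_iff g⁻¹).2 hyx.symm
    simpa [hx', mul_assoc] using this
  have ht : Commute t (g⁻¹ * y * g) :=
    (mem_centralizer_singleton_iff.1 (hCx.ge (mem_centralizer_singleton_iff.2 hx''.eq))).symm
  have := (Commute.conj_iff g).2 ht
  rwa [hg.1, show g * (g⁻¹ * y * g) * g⁻¹ = y by group] at this

end Main

end CfsgLib.GWKlein
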