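import Cfsg.Agent.Lib.GWKlein.LinKernel
import Cfsg.Agent.Lib.GWKlein.Overgroup

/-!
# Klein four Sylow subgroup: `oddPart t` is generated by inverted elements

If no core `O_r(O)` of `O = oddPart t` has elements both fixed and moved by `a`, the inverted elements
lie in the Fitting subgroup, commute, and generate an inverted abelian subgroup.  Otherwise a rotating
maximal subgroup over the normaliser of the fixed part of such a core gives the rotation needed.
-/

set_option autoImplicit false
set_option linter.unusedSectionVars false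
set_option linter.style.haveILetI false

universe u

namespace CfsgLib.GWKlein

open Subgroup CfsgLib.Components.Bender
open CfsgLib.Components (map_subtype_normal_of_characteristic)

variable {G : Type u} [Group G] [Finite G] {t a : G}

/-- An inverted element of odd order centralises what it moves into itself and `a` fixes. -/
theorem commute_of_inverted_fixed {i p : G} (hi : Odd (orderOf i)) (hai : a * i * a⁻¹ = i⁻¹)
    (hp : Commute a p) (hip : Commute a (i * p * i⁻¹)) : Commute i p := by
  have h2 := mul_inv_eq_iff_eq_mul.2 hip.eq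
  rw [show a * (i * p * i⁻¹) * a⁻¹ = a * i * a⁻¹ * (a * p * a⁻¹) * (a * i * a⁻¹)⁻¹ by group, hai,
    mul_inv_eq_iff_eq_mul.2 hp.eq, inv_inv] at h2
  obtain ⟨m, hm⟩ := hi
  have h : Commute (i * i) p := by
    show i * i * p = p * (i * i)
    calc i * i * p = i * (i * p * i⁻¹) * i := by group
      _ = i * (i⁻¹ * p * i) * i := by rw [h2]
      _ = p * (i * i) := by group
  have e : i = (i * i) ^ (m + 1) := by
    rw [← pow_two, ← pow_mul, show 2 * (m + 1) = orderOf i + 1 by omega, pow_succ, pow_orderOf_eq_one,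
      one_mul]
  rw [e]
  exact h.pow_left _

/-- An inverted element of odd order centralises what it moves into itself and `a` inverts. -/
theorem commute_of_inverted_inverted {i p : G} (hi : Odd (orderOf i)) (hai : a * i * a⁻¹ = i⁻¹)
    (hp : a * p * a⁻¹ = p⁻¹) (hip : a * (i * p * i⁻¹) * a⁻¹ = (i * p * i⁻¹)⁻¹) : Commute i p := by
  rw [show a * (i * p * i⁻¹) * a⁻¹ = a * i * a⁻¹ * (a * p * a⁻¹) * (a * i * a⁻¹)⁻¹ by group, hai,
    hp, inv_inv, show (i * p * i⁻¹)⁻¹ = i * p⁻¹ * i⁻¹ by group] at hip
  obtain ⟨m, hm⟩ := hi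
  have h : Commute (i * i) p := by
    refine Commute.inv_right_iff.1 ?_
    show i * i * p⁻¹ = p⁻¹ * (i * i)
    calc i * i * p⁻¹ = i * (i * p⁻¹ * i⁻¹) * i := by group
      _ = i * (i⁻¹ * p⁻¹ * i) * i := by rw [hip]
      _ = p⁻¹ * (i * i) := by group
  have e : i = (i * i) ^ (m + 1) := by
    rw [← pow_two, ← pow_mul, show 2 * (m + 1) = orderOf i + 1 by omega, pow_succ, pow_orderOf_eq_one,
      one_mul]
  rw [e]
  exact h.pow_left _

/-- If every core is fixed or fixed-point-free, no fixed element is generated by inverted ones. -/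
theorem Setting.fixed_invClosure_eq_one (S : Setting G t a)
    (hmix : ∀ r : ℕ, r.Prime → (∀ y ∈ coreIn r (oddPart t), Commute a y) ∨
      ∀ y ∈ coreIn r (oddPart t), Commute a y → y = 1)
    {k : G} (hk : k ∈ invClosure t a) (hka : Commute a k) : k = 1 := by
  set O := oddPart t with hO
  set I : Set G := {y | y ∈ O ∧ a * y * a⁻¹ = y⁻¹} with hI
  have haN : ∀ r, a ∈ normalizer (coreIn r O : Set G) := fun r =>
    map_subtype_normal_of_characteristic (le_normalizer_core _
      (Subgroup.le_normalizer (mem_centralizer_singleton_iff.2 S.comm.symm.eq)))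
  have hcomm : ∀ i ∈ I, ∀ r : ℕ, r.Prime → ∀ p ∈ coreIn r O, Commute i p := by
    rintro i ⟨hiO, hia⟩ r hr p hp
    have hodd := (S.mem_oddPart.1 hiO).1
    have hip : i * p * i⁻¹ ∈ coreIn r O := (mem_normalizer_iff.1 (le_normalizer_coreIn r O hiO) p).1 hp
    rcases hmix r hr with hfix | hfree
    · exact commute_of_inverted_fixed hodd hia (hfix p hp) (hfix _ hip)
    · have hinv : ∀ q ∈ coreIn r O, a * q * a⁻¹ = q⁻¹ := fun q hq =>
        inverts_of_fixed_free S.a_mul_self ((odd_card_core _).of_dvd_nat
          (card_dvd_of_le (coreIn_le r O))) (haN r) hfree hq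
      exact commute_of_inverted_inverted hodd hia (hinv p hp) (hinv _ hip)
  have hF : ∀ i ∈ I, i ∈ fitIn O := fun i hi =>
    mem_fitIn_of_odd (odd_card_core _) hi.1 fun q hq f hf => hcomm i hi q hq f hf
  have hII : ∀ i ∈ I, ∀ j ∈ I, Commute i j := by
    intro i hi j hj
    have hle : fitIn O ≤ centralizer ({i} : Set G) := le_of_parts le_rfl fun q hq _ z hz =>
      mem_centralizer_singleton_iff.2 (hcomm i hi q hq z hz.1).symm.eq
    exact (mem_centralizer_singleton_iff.1 (hle (hF j hj))).symm
  have hcl : closure I ≤ centralizer (closure I : Set G) := by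
    rw [closure_le]
    intro i hi
    rw [SetLike.mem_coe, mem_centralizer_iff]
    intro y hy
    have : closure I ≤ centralizer ({i} : Set G) := (closure_le _).2 fun j hj =>
      mem_centralizer_singleton_iff.2 (hII j hj i hi).eq
    exact mem_centralizer_singleton_iff.1 (this hy)
  have hinv : ∀ y ∈ closure I, a * y * a⁻¹ = y⁻¹ := by
    intro y hy
    induction hy using closure_induction with
    | mem x hx => exact hx.2
    | one => group
    | mul x z hx hz ihx ihz =>
      rw [← conj_mul, ihx, ihz, mul_inv_rev]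
      exact (show Commute x z from (mem_centralizer_iff.1 (hcl hx) z hz).symm).inv_inv.eq
    | inv x hx ih => rw [← conj_inv, ih]
  exact eq_one_of_inverted_of_commute
    (odd_orderOf ((odd_card_core _).of_dvd_nat (card_dvd_of_le (invClosure_le t a))) hk)
    (hinv k hk) hka

/-- `oddPart t` is generated by the elements inverted by `a`. -/
theorem Minimal.inverted_generate (M : Minimal G t a)
    (hC : IsCoatom (centralizer ({t} : Set G))) {g : G} (hg : Rot t a g) :
    oddPart t ≤ closure {y | y ∈ oddPart t ∧ a * y * a⁻¹ = y⁻¹} := by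
  have S := M.setting
  haveI := M.simple
  set O := oddPart t with hO
  by_cases hmix : ∀ r : ℕ, r.Prime → (∀ y ∈ coreIn r O, Commute a y) ∨
      ∀ y ∈ coreIn r O, Commute a y → y = 1
  · refine M.inverted_generate_of hg (S.rot_invDerived hg fun k hk hka => ?_)
    rw [S.fixed_invClosure_eq_one hmix hk hka]
    simp
  push Not at hmix
  obtain ⟨r, hr, hmv, x, hx, hxa, hx1⟩ := hmix
  haveI := Fact.mk hr
  set P := coreIn r O with hP
  have hPO : P ≤ O := coreIn_le r O
  have haO : a ∈ normalizer (O : Set G) :=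
    le_normalizer_core _ (Subgroup.le_normalizer (mem_centralizer_singleton_iff.2 S.comm.symm.eq))
  have hPn : O ≤ normalizer (P : Set G) := le_normalizer_coreIn r O
  have haP : a ∈ normalizer (P : Set G) := map_subtype_normal_of_characteristic haO
  have htP : t ∈ normalizer (P : Set G) := centralizer_le_normalizer _
    (mem_centralizer_iff.2 fun p hp => (commute_of_mem_oddPart (hPO hp)).eq.symm)
  have hPV := S.le_normalizer_of htP haP
  have hPa : ¬ ∀ y ∈ P, Commute a y := fun h => by
    obtain ⟨y, hy, hya⟩ := hmv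
    exact hya (h y hy)
  set X := P ⊓ centralizer ({a} : Set G) with hX
  have hXa : ∀ y ∈ X, Commute a y := fun y hy => (mem_centralizer_singleton_iff.1 hy.2).symm
  have hX1 : X ≠ ⊥ := fun e => hx1 (mem_bot.1 (e ▸ (⟨hx, mem_centralizer_singleton_iff.2 hxa.symm.eq⟩ : x ∈ X)))
  have hXN : normalizer (X : Set G) ≠ ⊤ := by
    intro e
    rcases IsSimpleGroup.eq_bot_or_eq_top_of_normal X (normalizer_eq_top_iff.1 e) with h | h
    · exact hX1 h
    · exact S.t_notMem (hPO (h ▸ mem_top t : t ∈ X).1)
  obtain ⟨H, hH, hXH⟩ := (eq_top_or_exists_le_coatom (normalizer (X : Set G))).resolve_left hXN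
  have hXle : X ≤ H := Subgroup.le_normalizer.trans hXH
  obtain ⟨hV, hrot, hR⟩ := M.rotates_of_centralizer_le hC hg hr hPO (isPGroup_coreIn r O) hPn hPV
    hPa inf_le_left hXa hX1 ((centralizer_le_normalizer _).trans hXH) hXle
  obtain ⟨T, hT⟩ := M.exists_rotData hH.1 hV hrot hR
  have hDH : ∀ d ∈ O, Commute a d → d ∈ H := fun d hd hda => hXH (by
    refine mem_normalizer_iff.2 fun p => ?_
    have hda' : a * d * a⁻¹ = d := mul_inv_eq_iff_eq_mul.2 hda.eq
    have hc : ∀ q : G, Commute q a ↔ Commute (d * q * d⁻¹) a := fun q => by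
      refine ⟨fun hq => (hda.symm.mul_left hq).mul_left hda.symm.inv_left, fun hq => ?_⟩
      have := (hda.symm.inv_left.mul_left hq).mul_left hda.symm
      rwa [show d⁻¹ * (d * q * d⁻¹) * d = q by group] at this
    show p ∈ P ∧ p ∈ centralizer ({a} : Set G) ↔ d * p * d⁻¹ ∈ P ∧ d * p * d⁻¹ ∈ centralizer ({a} : Set G)
    rw [mem_centralizer_singleton_iff, mem_centralizer_singleton_iff]
    exact and_congr (mem_normalizer_iff.1 (hPn hd) p) (hc p))
  -- some inverted element normalises `X`
  have hT1 : T ≠ ⊥ := by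
    have hlt : X.subgroupOf P < ⊤ := lt_top_iff_ne_top.2 fun e => hPa fun y hy =>
      hXa y (subgroupOf_eq_top.1 e hy)
    haveI : Group.IsNilpotent ↥P := (isPGroup_coreIn r O).isNilpotent
    obtain ⟨y, hy, hyX⟩ := SetLike.exists_of_lt
      (Group.normalizerCondition_of_isNilpotent (X.subgroupOf P) hlt)
    have hyN : (y : G) ∈ normalizer (X : Set G) := mem_normalizer_iff.2 fun p => by
      have h1 := mem_normalizer_iff.1 hy
      constructor
      · intro hp
        exact (h1 ⟨p, hp.1⟩).1 hp
      · intro hp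
        have hpP : p ∈ P := by
          have := mul_mem (mul_mem (inv_mem y.2) hp.1) y.2
          rwa [show (y : G)⁻¹ * ((y : G) * p * (y : G)⁻¹) * y = p by group] at this
        exact (h1 ⟨p, hpP⟩).2 hp
    have haX : a ∈ normalizer (X : Set G) := mem_normalizer_iff.2 fun p => by
      show p ∈ P ∧ p ∈ centralizer ({a} : Set G) ↔
        a * p * a⁻¹ ∈ P ∧ a * p * a⁻¹ ∈ centralizer ({a} : Set G)
      rw [mem_centralizer_singleton_iff, mem_centralizer_singleton_iff]
      refine and_congr (mem_normalizer_iff.1 haP p) ⟨fun h => ?_, fun h => ?_⟩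
      · rw [show a * p * a⁻¹ = p by rw [← h, mul_inv_cancel_right]]; exact h
      · have e : a * p * a⁻¹ * a = a * p := inv_mul_cancel_right _ _
        rw [e] at h
        have hp : p = a * p * a⁻¹ := mul_left_cancel h
        calc p * a = a * p * a⁻¹ * a := by rw [← hp]
          _ = a * p := inv_mul_cancel_right _ _
    set z := a * (y : G)⁻¹ * a⁻¹ * y with hz
    have hzP : z ∈ P := mul_mem ((mem_normalizer_iff.1 haP _).1 (inv_mem y.2)) y.2
    have hzN : z ∈ normalizer (X : Set G) :=
      mul_mem (mul_mem (mul_mem haX (inv_mem hyN)) (inv_mem haX)) hyN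
    have hzi : a * z * a⁻¹ = z⁻¹ := by
      rw [hz, show a * (a * (y : G)⁻¹ * a⁻¹ * y) * a⁻¹ =
        (a * a) * (y : G)⁻¹ * (a * a)⁻¹ * (a * y * a⁻¹) by group, S.a_mul_self]
      group
    intro e
    have hzT := hT.mem z ⟨hPO hzP, hXH hzN⟩ hzi
    rw [e, mem_bot] at hzT
    refine hyX (mem_subgroupOf.2 ⟨y.2, mem_centralizer_singleton_iff.2 ?_⟩)
    have e2 : (y : G) = a * y * a⁻¹ := by
      calc (y : G) = a * y * a⁻¹ * z := by rw [hz]; group
        _ = a * y * a⁻¹ := by rw [hzT, mul_one]
    calc (y : G) * a = a * y * a⁻¹ * a := by rw [← e2]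
      _ = a * y := inv_mul_cancel_right _ _
  obtain ⟨g', hg'L, hg'⟩ := hT.exists_rot hT1
  refine M.inverted_generate_of hg' fun d hd hda hdN => ?_
  have hw := M.rot_mul_inv_mem hH.1 hV hg'L hg' hR hd hda (hDH d hd hda)
  have := mul_mem hw hdN
  rwa [inv_mul_cancel_right] at this

end CfsgLib.GWKlein
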