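import Cfsg.Agent.Lib.GWKlein.Final
import Cfsg.Agent.Lib.GWKlein.LinMain

/-!
# Gorenstein–Walter, Klein case: maximality of `C(t)` suffices
-/

set_option autoImplicit false

universe u

namespace CfsgLib.GWKlein

open Subgroup

/-- The theorem from the maximality of the centraliser of an involution. -/
theorem simpleKlein_of_coatom
    (hA : ∀ (G : Type u) [Group G] [Finite G] (t a : G), Minimal G t a → oddPart t ≠ ⊥ →
      IsCoatom (centralizer ({t} : Set G))) :
    SimpleKlein.{u} :=
  simpleKlein_of_coatom_gen hA fun G _ _ t a M hC => by
    haveI := M.simple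
    obtain ⟨g, hg⟩ := M.setting.exists_rot M.noncomm
    exact M.inverted_generate hC hg

end CfsgLib.GWKlein
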