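import Cfsg.Agent.Lib.Solvable.Cores
import Cfsg.Agent.Lib.Coprime.Sylow
import Cfsg.Agent.Lib.Coprime.Generation
import Cfsg.Agent.Lib.Involution.TwoGroupLifts

/-!
# Groups with a Klein four Sylow 2-subgroup: the basic setting

`Setting G t a`: `t`, `a` are commuting involutions and `8` does not divide `|G|`, so
`four t a = {1, t, a, t * a}` is a Sylow 2-subgroup.  `core H` is the largest normal subgroup of odd
order of `H`, `oddPart t` that of `C(t)`, which consists of all the elements of odd order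
centralising `t`.  A subgroup containing the four-group either is `core H` times the four-group, or
contains a rotation of it.
-/

set_option autoImplicit false
set_option linter.unusedSectionVars false
set_option linter.style.haveILetI false

namespace CfsgLib.GWKlein

open Subgroup

variable {G : Type*} [Group G]

/-- Two commuting involutions generating a Sylow 2-subgroup. -/
structure Setting (G : Type*) [Group G] (t a : G) : Prop where
  t2 : orderOf t = 2
  a2 : orderOf a = 2
  ne : t ≠ a
  comm : Commute t a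
  not_eight : ¬ 8 ∣ Nat.card G

/-- The four-group generated by `t` and `a`. -/
def four (t a : G) : Subgroup G := closure {t, a}

/-- The largest normal subgroup of odd order of `H`, as a subgroup of `G`. -/
def core (H : Subgroup G) : Subgroup G := (Cfsg.pPrimeCore 2 ↥H).map H.subtype

/-- The largest normal subgroup of odd order of the centraliser of `t`. -/
def oddPart (t : G) : Subgroup G := core (centralizer ({t} : Set G))

/-- `g` rotates the involutions `t → a → t * a → t`. -/
def Rot (t a g : G) : Prop := g * t * g⁻¹ = a ∧ g * a * g⁻¹ = t * a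

/-- No element of odd order other than `1` centralises the four-group. -/
def SelfCent (t a : G) : Prop := ∀ y : G, Odd (orderOf y) → Commute t y → Commute a y → y = 1

theorem core_le (H : Subgroup G) : core H ≤ H := map_subtype_le _

theorem oddPart_le (t : G) : oddPart t ≤ centralizer ({t} : Set G) := core_le _

theorem commute_of_mem_oddPart {t y : G} (hy : y ∈ oddPart t) : Commute t y :=
  (mem_centralizer_singleton_iff.1 (oddPart_le t hy)).symm

theorem odd_card_core [Finite G] (H : Subgroup G) : Odd (Nat.card (core H)) := by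
  rw [core, card_map_of_injective H.subtype_injective]
  exact Nat.coprime_two_right.1 (CfsgLib.Solvable.Cores.coprime_card_pPrimeCore 2)

theorem odd_orderOf [Finite G] {K : Subgroup G} (hK : Odd (Nat.card K)) {y : G} (hy : y ∈ K) :
    Odd (orderOf y) :=
  hK.of_dvd_nat (Subgroup.orderOf_dvd_natCard _ hy)

theorem core_conj_mem [Finite G] (H : Subgroup G) {h y : G} (hh : h ∈ normalizer (H : Set G)) (hy : y ∈ core H) :
    h * y * h⁻¹ ∈ core H := by
  obtain ⟨y, hy, rfl⟩ := hy
  have hH : ∀ z ∈ H, h * z * h⁻¹ ∈ H := fun z hz => (mem_normalizer_iff.1 hh z).1 hz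
  have hH' : ∀ z ∈ H, h⁻¹ * z * h ∈ H := fun z hz => by
    have := (mem_normalizer_iff.1 (inv_mem hh) z).1 hz
    rwa [inv_inv] at this
  let e : ↥H ≃* ↥H :=
    { toFun := fun z => ⟨h * z * h⁻¹, hH _ z.2⟩
      invFun := fun z => ⟨h⁻¹ * z * h, hH' _ z.2⟩
      left_inv := fun z => Subtype.ext (by show h⁻¹ * (h * z * h⁻¹) * h = z; group)
      right_inv := fun z => Subtype.ext (by show h * (h⁻¹ * z * h) * h⁻¹ = z; group)
      map_mul' := fun z w => Subtype.ext (by
        show h * ((z : G) * w) * h⁻¹ = h * z * h⁻¹ * (h * w * h⁻¹); group) }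
  haveI : ((Cfsg.pPrimeCore 2 ↥H).map e.toMonoidHom).Normal :=
    (inferInstance : (Cfsg.pPrimeCore 2 ↥H).Normal).map _ e.surjective
  exact ⟨e y, CfsgLib.Solvable.Cores.le_pPrimeCore ((CfsgLib.Solvable.Cores.coprime_card_pPrimeCore
    2).coprime_dvd_left (card_map_dvd _ e.toMonoidHom)) ⟨y, hy, rfl⟩, rfl⟩

theorem le_normalizer_core [Finite G] (H : Subgroup G) :
    normalizer (H : Set G) ≤ normalizer (core H : Set G) := fun h hh => by
  refine mem_normalizer_iff_map_conj_eq.2 (eq_of_le_of_card_ge ?_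
    (card_map_of_injective (MulAut.conj h).injective).ge)
  rintro _ ⟨y, hy, rfl⟩
  exact core_conj_mem H hh hy

/-- A normal subgroup of odd order lies in the core. -/
theorem le_core [Finite G] {N H : Subgroup G} (hNH : N ≤ H) (hodd : Odd (Nat.card N))
    (hn : H ≤ normalizer (N : Set G)) : N ≤ core H := by
  haveI : (N.subgroupOf H).Normal := (normal_subgroupOf_iff_le_normalizer hNH).2 hn
  intro y hy
  refine ⟨⟨y, hNH hy⟩, CfsgLib.Solvable.Cores.le_pPrimeCore (N := N.subgroupOf H) ?_ hy, rfl⟩
  rw [Nat.card_congr (subgroupOfEquivOfLe hNH).toEquiv]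
  exact Nat.coprime_two_right.2 hodd

/-- A `p`-subgroup of odd order normalised by the four-group. -/
structure VInv (p : ℕ) (t a : G) (P : Subgroup G) : Prop where
  pgroup : IsPGroup p ↥P
  odd : Odd (Nat.card P)
  le_norm : four t a ≤ normalizer (P : Set G)

/-- A maximal invariant `p`-subgroup. -/
def VMax (p : ℕ) (t a : G) (S : Subgroup G) : Prop := Maximal (VInv p t a) S

/-- Modulo the core of `H`, every invariant `p`-subgroup of `H` is centralised by one involution of
the four-group. -/
def Single (t a : G) (H : Subgroup G) : Prop :=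
  ∀ (p : ℕ) (P : Subgroup G), p.Prime → VInv p t a P → P ≤ H →
    P ≤ core H ⊔ (oddPart t ⊓ H) ∨ P ≤ core H ⊔ (oddPart a ⊓ H) ∨
      P ≤ core H ⊔ (oddPart (t * a) ⊓ H)

namespace Setting

variable {t a : G} (S : Setting G t a)
include S

theorem t_mul_self : t * t = 1 := by
  have := pow_orderOf_eq_one t; rwa [S.t2, pow_two] at this

theorem a_mul_self : a * a = 1 := by
  have := pow_orderOf_eq_one a; rwa [S.a2, pow_two] at this

theorem t_ne_one : t ≠ 1 := fun e => by simpa [e] using S.t2

theorem a_ne_one : a ≠ 1 := fun e => by simpa [e] using S.a2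

theorem t_inv : t⁻¹ = t := inv_eq_of_mul_eq_one_right S.t_mul_self

theorem a_inv : a⁻¹ = a := inv_eq_of_mul_eq_one_right S.a_mul_self

theorem ta_mul_self : t * a * (t * a) = 1 := by
  rw [S.comm.symm.mul_mul_mul_comm, S.t_mul_self, S.a_mul_self, one_mul]

theorem ta_ne_one : t * a ≠ 1 := fun e => S.ne (by
  calc t = t * (a * a) := by rw [S.a_mul_self, mul_one]
    _ = a := by rw [← mul_assoc, e, one_mul])

theorem ta_two : orderOf (t * a) = 2 :=
  orderOf_eq_prime (by rw [pow_two]; exact S.ta_mul_self) S.ta_ne_one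

theorem symm : Setting G a t := ⟨S.a2, S.t2, S.ne.symm, S.comm.symm, S.not_eight⟩

/-- The setting seen from the next pair of involutions. -/
theorem shift : Setting G a (t * a) :=
  ⟨S.a2, S.ta_two, fun e => S.t_ne_one (mul_right_cancel (e.symm.trans (one_mul a).symm)),
    S.comm.symm.mul_right (Commute.refl a), S.not_eight⟩

theorem mem_four_iff {x : G} : x ∈ four t a ↔ x = 1 ∨ x = t ∨ x = a ∨ x = t * a := by
  refine ⟨fun hx => ?_, ?_⟩
  · have hle : four t a ≤
        CfsgLib.Involution.TwoGroupLifts.fourGroup t a S.t_mul_self S.a_mul_self S.comm.eq :=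
      (closure_le _).2 fun y hy => by
        rcases hy with rfl | rfl
        · exact Or.inr (Or.inl rfl)
        · exact Or.inr (Or.inr (Or.inl rfl))
    exact CfsgLib.Involution.TwoGroupLifts.mem_fourGroup.1 (hle hx)
  · have ht : t ∈ four t a := subset_closure (Set.mem_insert _ _)
    have ha : a ∈ four t a := subset_closure (Set.mem_insert_of_mem _ rfl)
    rintro (rfl | rfl | rfl | rfl)
    exacts [one_mem _, ht, ha, mul_mem ht ha]

theorem t_mem : t ∈ four t a := S.mem_four_iff.2 (Or.inr (Or.inl rfl))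

theorem a_mem : a ∈ four t a := S.mem_four_iff.2 (Or.inr (Or.inr (Or.inl rfl)))

theorem ta_mem : t * a ∈ four t a := mul_mem S.t_mem S.a_mem

theorem four_symm : four a t = four t a := by rw [four, four, Set.pair_comm]

theorem four_shift : four a (t * a) = four t a := by
  refine le_antisymm ((closure_le _).2 ?_) ((closure_le _).2 ?_)
  · rintro y (rfl | rfl)
    · exact S.a_mem
    · exact S.ta_mem
  · rintro y (rfl | rfl)
    · have := mul_mem S.shift.a_mem S.shift.t_mem
      rwa [mul_assoc, S.a_mul_self, mul_one] at this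
    · exact S.shift.t_mem

theorem isKleinFour : IsKleinFour ↥(four t a) :=
  CfsgLib.Involution.TwoGroupLifts.isKleinFour_of_four S.t_ne_one S.a_ne_one S.ne S.t_mul_self
    S.a_mul_self S.comm.eq fun _ => S.mem_four_iff

theorem card_four : Nat.card ↥(four t a) = 4 := by
  haveI := S.isKleinFour
  exact IsKleinFour.card_four

theorem four_sq {v : G} (hv : v ∈ four t a) : v * v = 1 := by
  rcases S.mem_four_iff.1 hv with rfl | rfl | rfl | rfl
  exacts [one_mul 1, S.t_mul_self, S.a_mul_self, S.ta_mul_self]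

theorem four_comm {v w : G} (hv : v ∈ four t a) (hw : w ∈ four t a) : Commute v w := by
  haveI := S.isKleinFour
  haveI := IsKleinFour.isMulCommutative (G := ↥(four t a))
  exact congrArg Subtype.val (mul_comm' (⟨v, hv⟩ : four t a) ⟨w, hw⟩)

theorem commute_four {y : G} (hty : Commute t y) (hay : Commute a y) :
    y ∈ centralizer (four t a : Set G) := mem_centralizer_iff.2 fun v hv => by
  rcases S.mem_four_iff.1 hv with rfl | rfl | rfl | rfl
  exacts [(Commute.one_left y).eq, hty.eq, hay.eq, (hty.mul_left hay).eq]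

theorem le_normalizer_of {K : Subgroup G} (ht : t ∈ normalizer (K : Set G))
    (ha : a ∈ normalizer (K : Set G)) : four t a ≤ normalizer (K : Set G) :=
  (closure_le _).2 fun y hy => by
    rcases hy with rfl | rfl
    exacts [ht, ha]

theorem four_le_centralizer {v : G} (hv : v ∈ four t a) :
    four t a ≤ centralizer ({v} : Set G) := fun _ hw =>
  mem_centralizer_singleton_iff.2 (S.four_comm hw hv).eq

section Finite

variable [Finite G]

theorem coprime_four {K : Subgroup G} (hK : Odd (Nat.card K)) :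
    (Nat.card (four t a)).Coprime (Nat.card K) := by
  rw [S.card_four, show 4 = 2 ^ 2 by rfl]
  exact Nat.Coprime.pow_left 2 (Nat.coprime_two_left.2 hK)

theorem solvable_four : Group.IsSolvable ↥(four t a) :=
  haveI := S.isKleinFour
  haveI := IsKleinFour.isMulCommutative (G := ↥(four t a))
  letI : CommGroup ↥(four t a) := { (inferInstance : Group _) with mul_comm := mul_comm' }
  inferInstance

/-- An odd subgroup normalised by the four-group is generated by the three centralisers. -/
theorem le_of_centralizers {K C : Subgroup G} (hVK : four t a ≤ normalizer (K : Set G))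
    (hK : Odd (Nat.card K)) (h : ∀ v ∈ four t a, v ≠ 1 → ∀ y ∈ K, Commute v y → y ∈ C) : K ≤ C := by
  haveI := S.isKleinFour
  haveI := IsKleinFour.isMulCommutative (G := ↥(four t a))
  conv_lhs => rw [← Coprime.iSup_centralizer_singleton IsKleinFour.not_isCyclic hVK (S.coprime_four hK)]
  exact iSup₂_le fun v hv y hy =>
    h v hv.1 hv.2 y hy.1 (mem_centralizer_singleton_iff.1 hy.2).symm

/-- The four-group as a Sylow 2-subgroup. -/
theorem exists_sylow : ∃ P : Sylow 2 G, (P : Subgroup G) = four t a := by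
  haveI : Fact (Nat.Prime 2) := ⟨Nat.prime_two⟩
  have h2 : IsPGroup 2 ↥(four t a) := IsPGroup.of_card (n := 2) (by rw [S.card_four]; norm_num)
  obtain ⟨P, hP⟩ := h2.exists_le_sylow
  refine ⟨P, (eq_of_le_of_card_ge hP ?_).symm⟩
  obtain ⟨k, hk⟩ := IsPGroup.iff_card.1 P.2
  rw [S.card_four, hk]
  by_contra hlt
  have h3 : 3 ≤ k := by
    by_contra hk3
    have := Nat.pow_le_pow_right (n := 2) (by norm_num) (show k ≤ 2 by omega)
    omega
  exact S.not_eight ((pow_dvd_pow 2 h3).trans (hk ▸ card_subgroup_dvd_card _))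

/-- An element normalising the four-group and fixing an involution of it centralises it. -/
theorem commute_of_fixed {g : G} (hg : ∀ v ∈ four t a, g * v * g⁻¹ ∈ four t a) {v₀ : G}
    (hv₀ : v₀ ∈ four t a) (hv₀1 : v₀ ≠ 1) (hgv₀ : Commute g v₀) {v : G} (hv : v ∈ four t a) :
    Commute g v := by
  haveI : Fact (Nat.Prime 2) := ⟨Nat.prime_two⟩
  haveI := S.isKleinFour
  obtain ⟨P, hP⟩ := S.exists_sylow
  have hgN : g ∈ normalizer (four t a : Set G) := mem_normalizer_iff_map_conj_eq.2
    (eq_of_le_of_card_ge (by rintro _ ⟨w, hw, rfl⟩; exact hg w hw)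
      (card_map_of_injective (MulAut.conj g).injective).ge)
  -- the square of `g` centralises the four-group
  have h2 : ∀ w ∈ four t a, Commute (g * g) w := by
    intro w hw
    refine mul_inv_eq_iff_eq_mul.1 ?_
    rw [show g * g * w * (g * g)⁻¹ = g * (g * w * g⁻¹) * g⁻¹ by group]
    by_cases hw1 : w = 1
    · subst hw1; group
    by_cases hwv : w = v₀
    · subst hwv; rw [hgv₀.eq, mul_inv_cancel_right, hgv₀.eq, mul_inv_cancel_right]
    set z := g * w * g⁻¹ with hz
    have hzV : z ∈ four t a := hg w hw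
    by_cases hzw : z = w
    · rw [hzw, ← hz, hzw]
    have hinj : ∀ {x y : G}, g * x * g⁻¹ = g * y * g⁻¹ → x = y := fun e =>
      mul_left_cancel (mul_right_cancel e)
    have hfix : g * v₀ * g⁻¹ = v₀ := by rw [hgv₀.eq, mul_inv_cancel_right]
    have hz1 : z ≠ 1 := fun e => hw1 (conj_eq_one_iff.1 e)
    have hzv : z ≠ v₀ := fun e => hwv (hinj (e.trans hfix.symm))
    have key : ∀ {x y : G}, x ∈ four t a → y ∈ four t a → x ≠ 1 → x ≠ v₀ → y ≠ 1 → y ≠ v₀ →
        y ≠ x → y = v₀ * x := fun {x y} hx hy hx1 hxv hy1 hyv hyx =>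
      congrArg Subtype.val (IsKleinFour.eq_mul_of_ne_all (x := (⟨v₀, hv₀⟩ : four t a))
        (y := ⟨x, hx⟩) (z := ⟨y, hy⟩) (fun e => hv₀1 (congrArg Subtype.val e))
        (fun e => hx1 (congrArg Subtype.val e)) (fun e => hxv (congrArg Subtype.val e).symm)
        (fun e => hy1 (congrArg Subtype.val e)) (fun e => hyv (congrArg Subtype.val e))
        (fun e => hyx (congrArg Subtype.val e)))
    have hwz : g * z * g⁻¹ ≠ z := fun e => hzw (hinj e)
    rw [key hzV (hg z hzV) hz1 hzv (fun e => hz1 (conj_eq_one_iff.1 e))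
      (fun e => hzv (hinj (e.trans hfix.symm))) hwz, key hw hzV hw1 hwv hz1 hzv hzw, ← mul_assoc,
      S.four_sq hv₀, one_mul]
  obtain ⟨k, m, hm, hn⟩ := Nat.exists_eq_two_pow_mul_odd (orderOf_pos g).ne'
  have hgm : g ^ m ∈ four t a := by
    have h2' : IsPGroup 2 (zpowers (g ^ m)) := IsPGroup.of_card (n := k) (by
      rw [Nat.card_zpowers, orderOf_pow_of_dvd hm.pos.ne' (hn ▸ dvd_mul_left m _), hn,
        Nat.mul_div_cancel _ hm.pos])
    have hV2 : IsPGroup 2 ↥(four t a) := hP ▸ P.2
    have hsup : IsPGroup 2 (four t a ⊔ zpowers (g ^ m) : Subgroup G) :=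
      hV2.to_sup_of_normal_left' h2' (zpowers_le.2 (pow_mem hgN m))
    rw [← hP, ← P.3 hsup (hP.le.trans le_sup_left)]
    exact mem_sup_right (mem_zpowers _)
  obtain ⟨l, rfl⟩ := hm
  have h3 : Commute (g ^ (2 * l + 1)) v := S.four_comm hgm hv
  have h4 : Commute ((g * g) ^ l) v := (h2 v hv).pow_left l
  have h5 : g = ((g * g) ^ l)⁻¹ * g ^ (2 * l + 1) := by
    rw [← pow_two, ← pow_mul, pow_succ, inv_mul_cancel_left]
  rw [h5]
  exact h4.inv_left.mul_left h3

/-- An element normalising and moving the four-group gives a rotation. -/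
theorem exists_rot_of_moved {H : Subgroup G} {g : G} (hgH : g ∈ H)
    (hg : ∀ v ∈ four t a, g * v * g⁻¹ ∈ four t a) {v : G} (hv : v ∈ four t a)
    (hgv : ¬ Commute g v) : ∃ g ∈ H, Rot t a g := by
  have hfree : ∀ w ∈ four t a, w ≠ 1 → g * w * g⁻¹ ≠ w := fun w hw hw1 e =>
    hgv (S.commute_of_fixed hg hw hw1 (mul_inv_eq_iff_eq_mul.1 e) hv)
  have hinj : ∀ {x y : G}, g * x * g⁻¹ = g * y * g⁻¹ → x = y := fun e =>
    mul_left_cancel (mul_right_cancel e)
  have ht1 := S.t_ne_one
  rcases S.mem_four_iff.1 (hg t S.t_mem) with e | e | e | e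
  · exact absurd (conj_eq_one_iff.1 e) ht1
  · exact absurd e (hfree t S.t_mem ht1)
  · rcases S.mem_four_iff.1 (hg a S.a_mem) with e' | e' | e' | e'
    · exact absurd (conj_eq_one_iff.1 e') S.a_ne_one
    · exfalso
      refine hfree (t * a) S.ta_mem S.ta_ne_one ?_
      rw [show g * (t * a) * g⁻¹ = g * t * g⁻¹ * (g * a * g⁻¹) by group, e, e', S.comm.eq]
    · exact absurd e' (hfree a S.a_mem S.a_ne_one)
    · exact ⟨g, hgH, e, e'⟩
  · rcases S.mem_four_iff.1 (hg a S.a_mem) with e' | e' | e' | e'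
    · exact absurd (conj_eq_one_iff.1 e') S.a_ne_one
    · refine ⟨g⁻¹, inv_mem hgH, ?_, ?_⟩
      · rw [inv_inv, ← e']; group
      · have e3 : g * (t * a) * g⁻¹ = a := by
          rw [show g * (t * a) * g⁻¹ = g * t * g⁻¹ * (g * a * g⁻¹) by group, e, e',
            mul_assoc, S.comm.symm.eq, ← mul_assoc, S.t_mul_self, one_mul]
        calc g⁻¹ * a * g⁻¹⁻¹ = g⁻¹ * (g * (t * a) * g⁻¹) * g⁻¹⁻¹ := by rw [e3]
          _ = t * a := by group
    · exact absurd e' (hfree a S.a_mem S.a_ne_one)
    · exact absurd (hinj (e.trans e'.symm)) S.ne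

/-- A subgroup containing the four-group is its core times the four-group or contains a rotation. -/
theorem type_or_rot {H : Subgroup G} (hVH : four t a ≤ H) :
    ((∀ h ∈ H, ∃ k ∈ core H, ∃ v ∈ four t a, h = k * v) ∧
      ∀ h ∈ H, Odd (orderOf h) → h ∈ core H) ∨ ∃ g ∈ H, Rot t a g := by
  haveI : Fact (Nat.Prime 2) := ⟨Nat.prime_two⟩
  obtain ⟨P, hP⟩ := S.exists_sylow
  by_cases hfus : ∀ g ∈ H, (∀ v ∈ four t a, g * v * g⁻¹ ∈ four t a) →
      ∀ v ∈ four t a, Commute g v
  · left
    let PH : Sylow 2 H := P.subtype (hP ▸ hVH)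
    have hPH : ∀ {y : H}, y ∈ (PH : Subgroup H) ↔ (y : G) ∈ four t a := by
      intro y; rw [← hP]; exact Iff.rfl
    have hnc : normalizer ((PH : Subgroup H) : Set H) ≤ centralizer ((PH : Subgroup H) : Set H) := by
      intro g hg
      refine mem_centralizer_iff.2 fun y hy => Subtype.ext ?_
      exact (hfus g g.2 (fun v hv =>
        hPH.1 ((mem_normalizer_iff.1 hg ⟨v, hVH hv⟩).1 (hPH.2 hv))) y (hPH.1 hy)).symm.eq
    set K₀ := (MonoidHom.transferSylow PH hnc).ker
    have hc : IsComplement' K₀ (PH : Subgroup H) :=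
      MonoidHom.ker_transferSylow_isComplement' PH hnc
    have hK₀ : Odd (Nat.card K₀) := by
      rw [← hc.index_eq_card]
      exact Nat.not_even_iff_odd.1 fun e => PH.not_dvd_index e.two_dvd
    have hcore : ∀ k ∈ K₀, (k : G) ∈ core H := fun k hk => ⟨k,
      CfsgLib.Solvable.Cores.le_pPrimeCore (Nat.coprime_two_right.2 hK₀) hk, rfl⟩
    have h4 : Nat.card (PH : Subgroup H) = 4 :=
      (Nat.card_congr (subgroupOfEquivOfLe (hP ▸ hVH : (P : Subgroup G) ≤ H)).toEquiv).trans
        (by rw [hP, S.card_four])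
    refine ⟨fun h hh => ?_, fun h hh hodd => ?_⟩
    · obtain ⟨⟨⟨k, hk⟩, ⟨v, hv⟩⟩, e, -⟩ := hc.existsUnique ⟨h, hh⟩
      exact ⟨k, hcore k hk, v, hPH.1 hv, (congrArg Subtype.val e).symm⟩
    · have h4' : (⟨h, hh⟩ : H) ^ 4 ∈ K₀ := by
        have := K₀.pow_index_mem ⟨h, hh⟩
        rwa [hc.symm.index_eq_card, h4] at this
      obtain ⟨i, hi⟩ := exists_pow_eq_self_of_coprime (x := (⟨h, hh⟩ : H)) (n := 4)
        (Nat.Coprime.pow_left 2 (Nat.coprime_two_left.2 (by rwa [← Subgroup.orderOf_coe])))
      exact hcore ⟨h, hh⟩ (hi ▸ pow_mem h4' i)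
  · right
    push Not at hfus
    obtain ⟨g, hgH, hg, v, hv, hgv⟩ := hfus
    exact S.exists_rot_of_moved hgH hg hv hgv

/-- The elements of odd order centralising `t` are those of `oddPart t`. -/
theorem mem_oddPart {y : G} : y ∈ oddPart t ↔ Odd (orderOf y) ∧ Commute t y := by
  refine ⟨fun hy => ⟨odd_orderOf (odd_card_core _) hy, commute_of_mem_oddPart hy⟩, fun h => ?_⟩
  rcases S.type_or_rot (S.four_le_centralizer S.t_mem) with h1 | ⟨g, hg, hgt, -⟩
  · exact h1.2 y (mem_centralizer_singleton_iff.2 h.2.symm.eq) h.1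
  · rw [show g * t * g⁻¹ = t by rw [mem_centralizer_singleton_iff.1 hg, mul_inv_cancel_right]] at hgt
    exact absurd hgt S.ne

/-- In an odd group normalised by a self-centralising four-group one invariant Sylow subgroup
contains all invariant `p`-subgroups. -/
theorem exists_greatest_vinv (hD : SelfCent t a) {K : Subgroup G} (hK : Odd (Nat.card K))
    (hVK : four t a ≤ normalizer (K : Set G)) (p : ℕ) (hp : p.Prime) :
    ∃ R : Subgroup G, R ≤ K ∧ VInv p t a R ∧ (∀ P, VInv p t a P → P ≤ K → P ≤ R) ∧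
      ¬ p ∣ R.relIndex K := by
  haveI := Fact.mk hp
  have hsolv : Group.IsSolvable ↥(four t a) ∨ Group.IsSolvable ↥K := Or.inl S.solvable_four
  obtain ⟨T, hT⟩ := Coprime.exists_invariant_sylow hVK (S.coprime_four hK) hsolv p
  have hidx : ((T : Subgroup K).map K.subtype).relIndex K = (T : Subgroup K).index := by
    rw [relIndex, subgroupOf, comap_map_eq_self_of_injective K.subtype_injective]
  refine ⟨_, map_subtype_le _, ⟨T.2.map _, hK.of_dvd_nat (card_dvd_of_le (map_subtype_le _)), hT⟩,
    fun P hP hPK => ?_, fun h => T.not_dvd_index (hidx ▸ h)⟩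
  obtain ⟨U, hPU, hU⟩ := Coprime.exists_le_invariant_sylow hVK (S.coprime_four hK) hsolv hPK
    hP.pgroup hP.le_norm
  obtain ⟨c, hc, he⟩ :=
    Coprime.exists_centralizer_conj_sylow hVK (S.coprime_four hK) hsolv U T hU hT
  have hc1 : (c : G) = 1 := hD c (odd_orderOf hK c.2)
    (mem_centralizer_iff.1 hc t S.t_mem) (mem_centralizer_iff.1 hc a S.a_mem)
  rw [show c = 1 from Subtype.ext hc1, one_smul] at he
  exact he ▸ hPU

end Finite

end Setting

end CfsgLib.GWKlein
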