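import Mathlib
import Cfsg.Agent.S0205

/-!
A four-group acting without fixed points on a group of odd order: square roots, lifting of fixed
elements and the factorisation of the group as a product of the three centralisers.
-/

set_option autoImplicit false

namespace CfsgLib.GWKlein

open Subgroup

universe u

variable {G : Type u} [Group G]

/-- Two commuting involutory elements normalising a subgroup of odd order, without common fixed
point other than the identity. -/
structure Four (W : Subgroup G) (t a : G) : Prop where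
  hodd : Odd (Nat.card W)
  ht : t * t = 1
  ha : a * a = 1
  hta : Commute t a
  htW : ∀ w ∈ W, t * w * t ∈ W
  haW : ∀ w ∈ W, a * w * a ∈ W
  hfix : ∀ w ∈ W, Commute t w → Commute a w → w = 1

theorem cj_mul {t : G} (ht : t * t = 1) (x y : G) : t * (x * y) * t = t * x * t * (t * y * t) := by
  calc t * (x * y) * t = t * x * (t * t) * (y * t) := by rw [ht]; group
    _ = t * x * t * (t * y * t) := by group

theorem cj_cj {t : G} (ht : t * t = 1) (x : G) : t * (t * x * t) * t = x := by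
  rw [← mul_assoc, ← mul_assoc, ht, one_mul, mul_assoc, ht, mul_one]

theorem cj_inv {t : G} (ht : t * t = 1) (x : G) : (t * x * t)⁻¹ = t * x⁻¹ * t := by
  rw [mul_inv_rev, mul_inv_rev, inv_eq_of_mul_eq_one_right ht, mul_assoc]

theorem cj_eq_iff {t : G} (ht : t * t = 1) (x : G) : t * x * t = x ↔ Commute t x := by
  constructor
  · intro h
    show t * x = x * t
    calc t * x = t * x * (t * t) := by rw [ht, mul_one]
      _ = t * x * t * t := (mul_assoc _ _ _).symm
      _ = x * t := by rw [h]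
  · intro h
    rw [h.eq, mul_assoc, ht, mul_one]

theorem cj_pow {t : G} (ht : t * t = 1) (x : G) (k : ℕ) : t * x ^ k * t = (t * x * t) ^ k := by
  induction k with
  | zero => simp [ht]
  | succ k ih => rw [pow_succ, pow_succ, cj_mul ht, ih]

theorem cj_comm {t a : G} (h : Commute t a) (x : G) :
    t * (a * x * a) * t = a * (t * x * t) * a := by
  calc t * (a * x * a) * t = t * a * x * (a * t) := by group
    _ = a * t * x * (t * a) := by rw [h.eq]
    _ = a * (t * x * t) * a := by group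

theorem mem_normalizer_of_involution {t : G} {N : Subgroup G} (ht : t * t = 1)
    (h : ∀ n ∈ N, t * n * t ∈ N) : t ∈ normalizer (N : Set G) := by
  have e : t⁻¹ = t := inv_eq_of_mul_eq_one_right ht
  refine Subgroup.mem_normalizer_iff.2 fun n => ⟨fun hn => e.symm ▸ h n hn, fun hn => ?_⟩
  rw [e] at hn
  simpa [cj_cj ht] using h _ hn

theorem cj_mem {t : G} {N : Subgroup G} (ht : t * t = 1) (h : t ∈ normalizer (N : Set G)) {n : G}
    (hn : n ∈ N) : t * n * t ∈ N := by
  have h1 := (Subgroup.mem_normalizer_iff.1 h n).1 hn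
  rwa [inv_eq_of_mul_eq_one_right ht] at h1

/-- In a group of odd exponent an element is a power of its square. -/
theorem mem_of_sq_mem {H : Subgroup G} {x : G} (hx : Odd (orderOf x)) (h : x ^ 2 ∈ H) : x ∈ H := by
  obtain ⟨m, hm⟩ := hx
  have e : x = (x ^ 2) ^ (m + 1) := by
    rw [← pow_mul, show 2 * (m + 1) = orderOf x + 1 by omega, pow_succ, pow_orderOf_eq_one, one_mul]
  rw [e]
  exact pow_mem h _

theorem commute_of_sq {x y : G} (hx : Odd (orderOf x)) (h : Commute (x ^ 2) y) : Commute x y :=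
  (mem_centralizer_singleton_iff.1
    (mem_of_sq_mem hx (mem_centralizer_singleton_iff.2 h.eq)) : x * y = y * x)

theorem four_odd_orderOf [Finite G] {W : Subgroup G} (hW : Odd (Nat.card W)) {x : G} (hx : x ∈ W) :
    Odd (orderOf x) :=
  hW.of_dvd_nat (Subgroup.orderOf_dvd_natCard W hx)

theorem eq_one_of_eq_inv {x : G} (hx : Odd (orderOf x)) (h : x = x⁻¹) : x = 1 := by
  have h2 : x ^ 2 = 1 := by rw [pow_two]; nth_rw 2 [h]; exact mul_inv_cancel x
  exact mem_bot.1 (mem_of_sq_mem (H := ⊥) hx (mem_bot.2 h2))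

/-- The correction of `w` by a square root of `w⁻¹ * (a * w * a)` is fixed by `a`. -/
theorem exists_fix {a w : G} (ha : a * a = 1) (hodd : Odd (orderOf (w⁻¹ * (a * w * a)))) :
    ∃ s ∈ zpowers (w⁻¹ * (a * w * a)), Commute a (w * s) ∧ a * s * a = s⁻¹ := by
  set i := w⁻¹ * (a * w * a) with hi
  obtain ⟨m, hm⟩ := hodd
  have hs : i ^ (m + 1) * i ^ (m + 1) = i := by
    rw [← pow_add, show m + 1 + (m + 1) = orderOf i + 1 by omega, pow_succ, pow_orderOf_eq_one,
      one_mul]
  have hia : a * i * a = i⁻¹ := by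
    rw [hi, cj_mul ha, cj_cj ha, mul_inv_rev, inv_inv, cj_inv ha]
  have hsa : a * i ^ (m + 1) * a = (i ^ (m + 1))⁻¹ := by rw [cj_pow ha, hia, inv_pow]
  refine ⟨i ^ (m + 1), pow_mem (mem_zpowers i) _, (cj_eq_iff ha _).1 ?_, hsa⟩
  rw [cj_mul ha, hsa, show a * w * a = w * i by rw [hi]; group]
  calc w * i * (i ^ (m + 1))⁻¹ = w * (i ^ (m + 1) * i ^ (m + 1)) * (i ^ (m + 1))⁻¹ := by rw [hs]
    _ = w * i ^ (m + 1) := by group

namespace Four

variable {W : Subgroup G} {t a : G}

theorem swap (F : Four W t a) : Four W a t :=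
  ⟨F.hodd, F.ha, F.ht, F.hta.symm, F.haW, F.htW, fun w hw h1 h2 => F.hfix w hw h2 h1⟩

theorem prod_sq (F : Four W t a) : t * a * (t * a) = 1 := by
  calc t * a * (t * a) = t * a * (a * t) := by rw [F.hta.eq]
    _ = t * (a * a) * t := by group
    _ = 1 := by rw [F.ha, mul_one, F.ht]

theorem cj_prod (F : Four W t a) (x : G) : t * a * x * (t * a) = t * (a * x * a) * t := by
  calc t * a * x * (t * a) = t * a * x * (a * t) := by rw [F.hta.eq]
    _ = t * (a * x * a) * t := by group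

theorem prodW (F : Four W t a) : ∀ w ∈ W, t * a * w * (t * a) ∈ W := fun w hw => by
  rw [F.cj_prod]; exact F.htW _ (F.haW w hw)

/-- The same configuration for the pair `a`, `t * a`. -/
theorem rot (F : Four W t a) : Four W a (t * a) := by
  refine ⟨F.hodd, F.ha, F.prod_sq, F.hta.symm.mul_right (Commute.refl a), F.haW, F.prodW,
    fun w hw h1 h2 => F.hfix w hw ?_ h1⟩
  have h3 : Commute (t * a * a) w := h2.mul_left h1
  rwa [mul_assoc, F.ha, mul_one] at h3

theorem rot' (F : Four W t a) : Four W t (t * a) := by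
  refine ⟨F.hodd, F.ht, F.prod_sq, (Commute.refl t).mul_right F.hta, F.htW, F.prodW,
    fun w hw h1 h2 => F.hfix w hw h1 ?_⟩
  have h3 : Commute (t * (t * a)) w := h1.mul_left h2
  rwa [← mul_assoc, F.ht, one_mul] at h3

variable [Finite G]

/-- An element fixed by `t` is inverted by `a`. -/
theorem inverted (F : Four W t a) {x : G} (hx : x ∈ W) (ht : Commute t x) :
    a * x * a = x⁻¹ := by
  have hi : x⁻¹ * (a * x * a) ∈ W := mul_mem (inv_mem hx) (F.haW x hx)
  obtain ⟨s, hs, h1, h2⟩ := exists_fix F.ha (four_odd_orderOf F.hodd hi)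
  have hti : Commute t (x⁻¹ * (a * x * a)) := by
    refine ht.inv_right.mul_right ((cj_eq_iff F.ht _).1 ?_)
    rw [cj_comm F.hta, (cj_eq_iff F.ht x).2 ht]
  have hts : Commute t s := by
    obtain ⟨k, rfl⟩ := mem_zpowers_iff.1 hs
    exact hti.zpow_right k
  have hsW : s ∈ W := (zpowers_le.2 hi) hs
  have h3 : x * s = 1 := F.hfix _ (mul_mem hx hsW) (ht.mul_right hts) h1
  rw [eq_inv_of_mul_eq_one_right h3, inv_inv] at h2
  rw [← inv_inv (a * x * a), cj_inv F.ha, h2]

theorem commute_same (F : Four W t a) {x y : G} (hx : x ∈ W) (hy : y ∈ W) (hx' : Commute t x)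
    (hy' : Commute t y) : Commute x y := by
  have h := F.inverted (mul_mem hx hy) (hx'.mul_right hy')
  rw [cj_mul F.ha, F.inverted hx hx', F.inverted hy hy', mul_inv_rev] at h
  exact Commute.inv_inv_iff.1 h

/-- Fixed elements lift along an invariant subgroup. -/
theorem mem_of_fixed_mod (F : Four W t a) {M : Subgroup G} (hMW : M ≤ W)
    (haM : ∀ m ∈ M, a * m * a ∈ M) {w : G} (hw : w ∈ W)
    (h1 : w⁻¹ * (t * w * t) ∈ M) (h2 : w⁻¹ * (a * w * a) ∈ M) : w ∈ M := by
  obtain ⟨s, hs, hfs, -⟩ := exists_fix F.ht (four_odd_orderOf F.hodd (hMW h1))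
  have hsM : s ∈ M := (zpowers_le.2 h1) hs
  set v := w * s with hv
  have hvW : v ∈ W := mul_mem hw (hMW hsM)
  have h3 : v⁻¹ * (a * v * a) ∈ M := by
    rw [hv, cj_mul F.ha, show (w * s)⁻¹ * (a * w * a * (a * s * a)) =
      s⁻¹ * (w⁻¹ * (a * w * a)) * (a * s * a) by group]
    exact mul_mem (mul_mem (inv_mem hsM) h2) (haM s hsM)
  obtain ⟨r, hr, hfr, -⟩ := exists_fix F.ha (four_odd_orderOf F.hodd (hMW h3))
  have hrM : r ∈ M := (zpowers_le.2 h3) hr
  have hti : Commute t (v⁻¹ * (a * v * a)) := by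
    refine hfs.inv_right.mul_right ((cj_eq_iff F.ht _).1 ?_)
    rw [cj_comm F.hta, (cj_eq_iff F.ht v).2 hfs]
  have htr : Commute t r := by
    obtain ⟨k, rfl⟩ := mem_zpowers_iff.1 hr
    exact hti.zpow_right k
  have h4 : v * r = 1 := F.hfix _ (mul_mem hvW (hMW hrM)) (hfs.mul_right htr) hfr
  have h5 : w = r⁻¹ * s⁻¹ := by
    rw [← mul_inv_rev]; exact eq_inv_of_mul_eq_one_left (by rwa [hv, mul_assoc] at h4)
  rw [h5]
  exact mul_mem (inv_mem hrM) (inv_mem hsM)

/-- The independence step in an abelian invariant subgroup. -/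
theorem indep (F : Four W t a) {y z A B C : G} (hy : y ∈ W) (hz : z ∈ W) (hA : A ∈ W)
    (hB : B ∈ W) (hC : C ∈ W) (hya : Commute a y) (hzb : Commute (t * a) z) (hAt : Commute t A)
    (hBa : Commute a B) (hCb : Commute (t * a) C)
    (hcomm : ∀ p q : G, (p = y⁻¹ * A * y ∨ p = z * C * z⁻¹ ∨ p = B ∨ p = z⁻¹ * C⁻¹ * z) →
      (q = y⁻¹ * A * y ∨ q = z * C * z⁻¹ ∨ q = B ∨ q = z⁻¹ * C⁻¹ * z) → Commute p q)
    (heq : y⁻¹ * A * y * B * (z * C * z⁻¹) = 1) : A = 1 ∧ B = 1 ∧ C = 1 := by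
  have hb : t * a * (t * a) = 1 := F.prod_sq
  have hzI : a * z * a = z⁻¹ := by
    refine Four.inverted (t := t * a) F.rot.swap hz hzb
  have hCI : a * C * a = C⁻¹ := Four.inverted (t := t * a) F.rot.swap hC hCb
  have hAI : a * A * a = A⁻¹ := F.inverted hA hAt
  have hB4 : B = 1 := by
    have h := congrArg (fun g => a * g * a) heq
    simp only [cj_mul F.ha, ← cj_inv F.ha, hzI, hCI, hAI, (cj_eq_iff F.ha y).2 hya,
      (cj_eq_iff F.ha B).2 hBa, mul_one, F.ha, inv_inv] at h
    -- multiply the two relations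
    have hp := hcomm (y⁻¹ * A * y) B (Or.inl rfl) (Or.inr (Or.inr (Or.inl rfl)))
    have e1 : y⁻¹ * A⁻¹ * y = (y⁻¹ * A * y)⁻¹ := by group
    rw [e1] at h
    have h2 : B * B * (z * C * z⁻¹ * (z⁻¹ * C⁻¹ * z)) = 1 := by
      have hq := hcomm B (z * C * z⁻¹) (Or.inr (Or.inr (Or.inl rfl))) (Or.inr (Or.inl rfl))
      calc B * B * (z * C * z⁻¹ * (z⁻¹ * C⁻¹ * z))
          = B * (B * (z * C * z⁻¹)) * (z⁻¹ * C⁻¹ * z) := by group
        _ = B * (z * C * z⁻¹ * B) * (z⁻¹ * C⁻¹ * z) := by rw [hq.eq]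
        _ = (y⁻¹ * A * y)⁻¹ * (y⁻¹ * A * y * B * (z * C * z⁻¹)) * (B * (z⁻¹ * C⁻¹ * z)) := by group
        _ = (y⁻¹ * A * y)⁻¹ * B * (z⁻¹ * C⁻¹ * z) := by rw [heq]; group
        _ = 1 := h
    have hBB : Commute (t * a) (B * B) := by
      have e : B * B = (z * C * z⁻¹ * (z⁻¹ * C⁻¹ * z))⁻¹ := eq_inv_of_mul_eq_one_left h2
      rw [e]
      exact (((hzb.mul_right hCb).mul_right hzb.inv_right).mul_right
        ((hzb.inv_right.mul_right hCb.inv_right).mul_right hzb)).inv_right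
    have h3 : B * B = 1 := F.rot.hfix _ (mul_mem hB hB) (hBa.mul_right hBa) hBB
    refine eq_one_of_eq_inv (four_odd_orderOf F.hodd hB) (eq_inv_of_mul_eq_one_left h3)
  subst hB4
  rw [mul_one] at heq
  -- `z` commutes with `C`
  have hzC : Commute z C := by
    have h := congrArg (fun g => a * g * a) heq
    simp only [cj_mul F.ha, ← cj_inv F.ha, hzI, hCI, hAI, (cj_eq_iff F.ha y).2 hya,
      mul_one, F.ha, inv_inv] at h
    have e1 : y⁻¹ * A * y = (z * C * z⁻¹)⁻¹ := eq_inv_of_mul_eq_one_left heq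
    rw [show y⁻¹ * A⁻¹ * y = (y⁻¹ * A * y)⁻¹ by group, e1, inv_inv] at h
    refine commute_of_sq (four_odd_orderOf F.hodd hz) ?_
    show z ^ 2 * C = C * z ^ 2
    rw [pow_two]
    calc z * z * C = z * (z * C * z⁻¹ * (z⁻¹ * C⁻¹ * z)) * z⁻¹ * C * (z * z) := by group
      _ = C * (z * z) := by rw [h]; group
  rw [hzC.eq, mul_inv_cancel_right] at heq
  have e1 : A = y * C⁻¹ * y⁻¹ := by
    rw [← eq_inv_of_mul_eq_one_left heq]; group
  have hyI : t * a * y * (t * a) = y⁻¹ := F.rot.inverted hy hya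
  have hAb : t * a * A * (t * a) = A⁻¹ := F.rot'.inverted hA hAt
  have hyC : Commute y C := by
    rw [e1, cj_mul hb, cj_mul hb, ← cj_inv hb, ← cj_inv hb, hyI, (cj_eq_iff hb C).2 hCb,
      inv_inv] at hAb
    set u := y * y with hu
    have e2 : u * C * u⁻¹ = C⁻¹ := by
      calc u * C * u⁻¹ = y * (y * C⁻¹ * y⁻¹)⁻¹ * y⁻¹ := by rw [hu]; group
        _ = y * (y⁻¹ * C⁻¹ * y) * y⁻¹ := by rw [← hAb]
        _ = C⁻¹ := by group
    refine commute_of_sq (four_odd_orderOf F.hodd hy) ?_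
    rw [pow_two, ← hu]
    refine commute_of_sq (four_odd_orderOf F.hodd (mul_mem hy hy)) ?_
    rw [pow_two]
    show u * u * C = C * (u * u)
    calc u * u * C = u * (u * C * u⁻¹) * u⁻¹ * (u * u) := by group
      _ = u * C⁻¹ * u⁻¹ * (u * u) := by rw [e2]
      _ = (u * C * u⁻¹)⁻¹ * (u * u) := by group
      _ = C * (u * u) := by rw [e2, inv_inv]
  have e3 : A = C⁻¹ := by rw [e1, hyC.inv_right.eq, mul_inv_cancel_right]
  have hC1 : C = 1 := by
    rw [e3] at hAb
    rw [(cj_eq_iff hb _).2 hCb.inv_right, inv_inv] at hAb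
    exact eq_one_of_eq_inv (four_odd_orderOf F.hodd hC) hAb.symm
  exact ⟨by rw [e3, hC1, inv_one], rfl, hC1⟩

end Four

end CfsgLib.GWKlein
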