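import Cfsg.Agent.Lib.GWKlein.FourBasic

/-!
A group of odd order with a four-group acting without fixed points is the product of the three
centralisers.
-/

set_option autoImplicit false

namespace CfsgLib.GWKlein

open Subgroup
open scoped commutatorElement

set_option linter.style.haveILetI false

universe u

variable {G : Type u} [Group G]

theorem normalizer_commutator_self {N : Subgroup G} {g : G} (h : g ∈ normalizer (N : Set G)) :
    g ∈ normalizer ((⁅N, N⁆ : Subgroup G) : Set G) := by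
  have hmap : N.map (MulAut.conj g).toMonoidHom = N := by
    ext x
    constructor
    · rintro ⟨n, hn, rfl⟩
      exact (Subgroup.mem_normalizer_iff.1 h n).1 hn
    · intro hx
      refine ⟨g⁻¹ * x * g, ?_, by simp [MulAut.conj_apply, mul_assoc]⟩
      exact (Subgroup.mem_normalizer_iff.1 h _).2 (by simpa [mul_assoc] using hx)
  refine Subgroup.mem_normalizer_iff.2 fun x => ?_
  have e : (⁅N, N⁆ : Subgroup G).map (MulAut.conj g).toMonoidHom = ⁅N, N⁆ := by
    rw [map_commutator, hmap]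
  constructor
  · intro hx
    rw [← e]
    exact ⟨x, hx, rfl⟩
  · intro hx
    rw [← e] at hx
    obtain ⟨y, hy, hyx⟩ := hx
    have : y = x := (MulAut.conj g).injective hyx
    exact this ▸ hy

variable [Finite G]

/-- A non-trivial abelian subgroup of an odd-order group, invariant under given normalising
elements. -/
theorem exists_abelian_invariant {W : Subgroup G} (hodd : Odd (Nat.card W)) (hW : W ≠ ⊥) :
    ∃ N ≤ W, N ≠ ⊥ ∧ (∀ g ∈ normalizer (W : Set G), g ∈ normalizer (N : Set G)) ∧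
      ∀ x ∈ N, ∀ y ∈ N, Commute x y := by
  suffices h : ∀ n, ∀ N : Subgroup G, Nat.card N = n → N ≤ W → N ≠ ⊥ →
      (∀ g ∈ normalizer (W : Set G), g ∈ normalizer (N : Set G)) →
      ∃ N ≤ W, N ≠ ⊥ ∧ (∀ g ∈ normalizer (W : Set G), g ∈ normalizer (N : Set G)) ∧
        ∀ x ∈ N, ∀ y ∈ N, Commute x y from h _ W rfl le_rfl hW fun g hg => hg
  intro n
  induction n using Nat.strong_induction_on with
  | _ n ih =>
  intro N hn hNW hN hinv
  by_cases hc : (⁅N, N⁆ : Subgroup G) = ⊥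
  · exact ⟨N, hNW, hN, hinv, fun x hx y hy => commutatorElement_eq_one_iff_commute.1
      (mem_bot.1 (hc ▸ commutator_mem_commutator hx hy))⟩
  haveI : Group.IsSolvable N :=
    Cfsg.Agent.S0205.result (hodd.of_dvd_nat (Subgroup.card_dvd_of_le hNW))
  haveI : Nontrivial N := N.nontrivial_iff_ne_bot.2 hN
  have hle : (⁅N, N⁆ : Subgroup G) ≤ N := commutator_le_self N
  have hlt : (⁅N, N⁆ : Subgroup G) < N := by
    refine lt_of_le_of_ne hle fun e => ?_
    have h1 : commutator N = ⊤ := by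
      refine map_injective (N.subtype_injective) ?_
      rw [map_subtype_commutator, e, ← MonoidHom.range_eq_map, range_subtype]
    exact (Group.IsSolvable.commutator_lt_top_of_nontrivial N).ne h1
  refine ih (Nat.card (⁅N, N⁆ : Subgroup G)) ?_ _ rfl (hle.trans hNW) hc
    fun g hg => normalizer_commutator_self (hinv g hg)
  rw [← hn]
  exact Set.Finite.card_lt_card (Set.toFinite _) hlt

namespace Four

variable {W : Subgroup G} {t a : G}

/-- The image in a quotient by an invariant normal subgroup. -/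
theorem map (F : Four W t a) {H : Type u} [Group H] (f : G →* H)
    (hker : f.ker ⊓ W ≤ W) : Four (W.map f) (f t) (f a) := by
  refine ⟨F.hodd.of_dvd_nat (card_map_dvd W f), by rw [← map_mul, F.ht, map_one],
    by rw [← map_mul, F.ha, map_one], F.hta.map f, ?_, ?_, ?_⟩
  · rintro _ ⟨w, hw, rfl⟩
    exact ⟨t * w * t, F.htW w hw, by simp⟩
  · rintro _ ⟨w, hw, rfl⟩
    exact ⟨a * w * a, F.haW w hw, by simp⟩
  · rintro _ ⟨w, hw, rfl⟩ h1 h2
    refine MonoidHom.mem_ker.1 (F.mem_of_fixed_mod (M := f.ker ⊓ W) hker (fun m hm => ⟨?_, F.haW m hm.2⟩)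
      hw (Subgroup.mem_inf.2 ⟨?_, mul_mem (inv_mem hw) (F.htW w hw)⟩)
      (Subgroup.mem_inf.2 ⟨?_, mul_mem (inv_mem hw) (F.haW w hw)⟩)).1
    · show f (a * m * a) = 1
      rw [map_mul, map_mul, MonoidHom.mem_ker.1 hm.1, mul_one, ← map_mul, F.ha, map_one]
    · show f (w⁻¹ * (t * w * t)) = 1
      rw [map_mul, map_mul, map_mul, map_inv, h1.eq, mul_assoc (f w), ← map_mul f t t, F.ht,
        map_one, mul_one, inv_mul_cancel]
    · show f (w⁻¹ * (a * w * a)) = 1
      rw [map_mul, map_mul, map_mul, map_inv, h2.eq, mul_assoc (f w), ← map_mul f a a, F.ha,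
        map_one, mul_one, inv_mul_cancel]

end Four

section Abelian

variable {W : Subgroup G} {t a : G}

/-- Refining an element of an abelian invariant subgroup along the three centralisers. -/
theorem Four.refine_abelian (F : Four W t a) {N : Subgroup G} (hNW : N ≤ W)
    (htN : ∀ n ∈ N, t * n * t ∈ N) (haN : ∀ n ∈ N, a * n * a ∈ N)
    (hWN : W ≤ normalizer (N : Set G)) (hNc : ∀ x ∈ N, ∀ y ∈ N, Commute x y)
    {y z : G} (hy : y ∈ W) (hz : z ∈ W) (hya : Commute a y) (hzb : Commute (t * a) z)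
    {n : G} (hn : n ∈ N) :
    ∃ A B C : G, (A ∈ N ∧ Commute t A) ∧ (B ∈ N ∧ Commute a B) ∧ (C ∈ N ∧ Commute (t * a) C) ∧
      z⁻¹ * y⁻¹ * A * y * z * (z⁻¹ * B * z) * C = n := by
  classical
  let Ct := N ⊓ centralizer ({t} : Set G)
  let Ca := N ⊓ centralizer ({a} : Set G)
  let Cb := N ⊓ centralizer ({t * a} : Set G)
  have hcj : ∀ g ∈ W, ∀ m ∈ N, g⁻¹ * m * g ∈ N := fun g hg m hm => by
    have := (Subgroup.mem_normalizer_iff.1 (hWN (inv_mem hg)) m).1 hm
    rwa [inv_inv] at this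
  have hmem : ∀ {y z : G}, y ∈ W → z ∈ W → ∀ p : Ct × Ca × Cb,
      z⁻¹ * y⁻¹ * (p.1 : G) * y * z * (z⁻¹ * (p.2.1 : G) * z) * (p.2.2 : G) ∈ N := by
    intro y z hy hz p
    refine mul_mem (mul_mem ?_ (hcj z hz _ p.2.1.2.1)) p.2.2.2.1
    have := hcj z hz _ (hcj y hy _ p.1.2.1)
    simpa [mul_assoc] using this
  let ψ : ∀ (y z : G) (hy : y ∈ W) (hz : z ∈ W), Ct × Ca × Cb →* N := fun y z hy hz =>
    MonoidHom.mk' (fun p => ⟨_, hmem hy hz p⟩) (by
      rintro ⟨p1, p2, p3⟩ ⟨q1, q2, q3⟩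
      refine Subtype.ext ?_
      simp only [Prod.mk_mul_mk, Subgroup.coe_mul]
      have k1 : Commute (z⁻¹ * (p2 : G) * z * p3) (z⁻¹ * y⁻¹ * (q1 : G) * y * z) :=
        hNc _ (mul_mem (hcj z hz _ p2.2.1) p3.2.1) _
          (by simpa [mul_assoc] using hcj z hz _ (hcj y hy _ q1.2.1))
      have k2 : Commute (p3 : G) (z⁻¹ * (q2 : G) * z) := hNc _ p3.2.1 _ (hcj z hz _ q2.2.1)
      symm
      calc z⁻¹ * y⁻¹ * (p1 : G) * y * z * (z⁻¹ * p2 * z) * p3 *
            (z⁻¹ * y⁻¹ * q1 * y * z * (z⁻¹ * q2 * z) * q3)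
          = z⁻¹ * y⁻¹ * p1 * y * z * ((z⁻¹ * p2 * z * p3) * (z⁻¹ * y⁻¹ * q1 * y * z)) *
            ((z⁻¹ * q2 * z) * q3) := by group
        _ = z⁻¹ * y⁻¹ * p1 * y * z * ((z⁻¹ * y⁻¹ * q1 * y * z) * (z⁻¹ * p2 * z * p3)) *
            ((z⁻¹ * q2 * z) * q3) := by rw [k1.eq]
        _ = z⁻¹ * y⁻¹ * (p1 * q1) * y * z * (z⁻¹ * p2 * z) * (p3 * (z⁻¹ * q2 * z)) * q3 := by group
        _ = z⁻¹ * y⁻¹ * (p1 * q1) * y * z * (z⁻¹ * p2 * z) * ((z⁻¹ * q2 * z) * p3) * q3 := by
            rw [k2.eq]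
        _ = _ := by group)
  have hinj : ∀ (y z : G) (hy : y ∈ W) (hz : z ∈ W), Commute a y → Commute (t * a) z →
      Function.Injective (ψ y z hy hz) := by
    intro y z hy hz hya hzb
    refine (injective_iff_map_eq_one _).2 ?_
    rintro ⟨p1, p2, p3⟩ hp
    have h0 : z⁻¹ * y⁻¹ * (p1 : G) * y * z * (z⁻¹ * p2 * z) * p3 = 1 := congrArg Subtype.val hp
    have hzN : ∀ m ∈ N, z * m * z⁻¹ ∈ N := fun m hm =>
      (Subgroup.mem_normalizer_iff.1 (hWN hz) m).1 hm
    obtain ⟨e1, e2, e3⟩ := F.indep hy hz (hNW p1.2.1) (hNW p2.2.1) (hNW p3.2.1) hya hzb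
      (mem_centralizer_singleton_iff.1 p1.2.2).symm (mem_centralizer_singleton_iff.1 p2.2.2).symm
      (mem_centralizer_singleton_iff.1 p3.2.2).symm
      (fun p q hp hq => by
        refine hNc p ?_ q ?_
        · rcases hp with rfl | rfl | rfl | rfl
          exacts [hcj y hy _ p1.2.1, hzN _ p3.2.1, p2.2.1, hcj z hz _ (inv_mem p3.2.1)]
        · rcases hq with rfl | rfl | rfl | rfl
          exacts [hcj y hy _ p1.2.1, hzN _ p3.2.1, p2.2.1, hcj z hz _ (inv_mem p3.2.1)])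
      (by calc y⁻¹ * (p1 : G) * y * p2 * (z * p3 * z⁻¹)
            = z * (z⁻¹ * y⁻¹ * p1 * y * z * (z⁻¹ * p2 * z) * p3) * z⁻¹ := by group
          _ = 1 := by rw [h0, mul_one, mul_inv_cancel])
    exact Prod.ext (Subtype.ext e1) (Prod.ext (Subtype.ext e2) (Subtype.ext e3))
  have hinj1 := hinj 1 1 (one_mem W) (one_mem W) (Commute.one_right _) (Commute.one_right _)
  have hsurj1 : Function.Surjective (ψ 1 1 (one_mem W) (one_mem W)) := by
    intro x
    have ho : Odd (orderOf (x : G)) := four_odd_orderOf F.hodd (hNW x.2)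
    obtain ⟨k, hk⟩ := ho
    set m := (x : G) ^ (k + 1) with hm
    have hmN : m ∈ N := pow_mem x.2 _
    have htm := htN m hmN
    have ham := haN m hmN
    have hbm : t * a * m * (t * a) ∈ N := F.cj_prod m ▸ htN _ ham
    have e_t : Commute t (m * (t * m * t)) := (cj_eq_iff F.ht _).1 (by
      rw [cj_mul F.ht, cj_cj F.ht]; exact (hNc _ htm _ hmN).eq)
    have e_a : Commute a (m * (a * m * a)) := (cj_eq_iff F.ha _).1 (by
      rw [cj_mul F.ha, cj_cj F.ha]; exact (hNc _ ham _ hmN).eq)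
    have e_b : Commute (t * a) (m * (t * a * m * (t * a))) := (cj_eq_iff F.prod_sq _).1 (by
      rw [cj_mul F.prod_sq, cj_cj F.prod_sq]; exact (hNc _ hbm _ hmN).eq)
    refine ⟨(⟨_, mul_mem hmN htm, mem_centralizer_singleton_iff.2 e_t.eq.symm⟩,
      ⟨_, mul_mem hmN ham, mem_centralizer_singleton_iff.2 e_a.eq.symm⟩,
      ⟨_, mul_mem hmN hbm, mem_centralizer_singleton_iff.2 e_b.eq.symm⟩), Subtype.ext ?_⟩
    show 1⁻¹ * 1⁻¹ * (m * (t * m * t)) * 1 * 1 * (1⁻¹ * (m * (a * m * a)) * 1) *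
      (m * (t * a * m * (t * a))) = (x : G)
    simp only [inv_one, one_mul, mul_one]
    have hnorm : m * (t * m * t) * (a * m * a) * (t * a * m * (t * a)) = 1 := by
      have c1 : Commute (t * m * t) m := hNc _ htm _ hmN
      have c2 : Commute (a * m * a) (t * a * m * (t * a)) := hNc _ ham _ hbm
      have h4 := mul_mem (mul_mem (mul_mem hmN htm) ham) hbm
      refine F.hfix _ (hNW h4) ((cj_eq_iff F.ht _).1 ?_) ((cj_eq_iff F.ha _).1 ?_)
      · rw [cj_mul F.ht, cj_mul F.ht, cj_mul F.ht, cj_cj F.ht, F.cj_prod, cj_cj F.ht,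
          c1.eq, mul_assoc (m * (t * m * t)), ← F.cj_prod, ← c2.eq, ← mul_assoc]
      · have e1 : a * (t * m * t) * a = t * a * m * (t * a) := by
          rw [← cj_comm F.hta, F.cj_prod]
        have e2 : a * (t * a * m * (t * a)) * a = t * m * t := by
          rw [← e1, cj_cj F.ha]
        rw [cj_mul F.ha, cj_mul F.ha, cj_mul F.ha, cj_cj F.ha, e1, e2]
        have d1 : Commute (a * m * a * (t * a * m * (t * a))) (m * (t * m * t)) :=
          hNc _ (mul_mem ham hbm) _ (mul_mem hmN htm)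
        rw [mul_assoc, d1.eq]
        group
    have c3 : Commute (t * m * t) m := hNc _ htm _ hmN
    have c4 : Commute (t * m * t * (a * m * a)) m := hNc _ (mul_mem htm ham) _ hmN
    calc m * (t * m * t) * (m * (a * m * a)) * (m * (t * a * m * (t * a)))
        = m * ((t * m * t) * m) * (a * m * a) * m * (t * a * m * (t * a)) := by group
      _ = m * (m * (t * m * t)) * (a * m * a) * m * (t * a * m * (t * a)) := by rw [c3.eq]
      _ = m * m * ((t * m * t * (a * m * a)) * m) * (t * a * m * (t * a)) := by group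
      _ = m * m * (m * (t * m * t * (a * m * a))) * (t * a * m * (t * a)) := by rw [c4.eq]
      _ = m * m * (m * (t * m * t) * (a * m * a) * (t * a * m * (t * a))) := by group
      _ = (x : G) := by
        rw [hnorm, mul_one, hm, ← pow_add, show k + 1 + (k + 1) = orderOf (x : G) + 1 by omega,
          pow_succ, pow_orderOf_eq_one, one_mul]
  have hcard : Nat.card (Ct × Ca × Cb) = Nat.card N :=
    Nat.card_eq_of_bijective _ ⟨hinj1, hsurj1⟩
  obtain ⟨⟨p1, p2, p3⟩, hp⟩ :=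
    ((hinj y z hy hz hya hzb).bijective_of_nat_card_le hcard.ge).surjective ⟨n, hn⟩
  exact ⟨p1, p2, p3, ⟨p1.2.1, (mem_centralizer_singleton_iff.1 p1.2.2).symm⟩,
    ⟨p2.2.1, (mem_centralizer_singleton_iff.1 p2.2.2).symm⟩,
    ⟨p3.2.1, (mem_centralizer_singleton_iff.1 p3.2.2).symm⟩, congrArg Subtype.val hp⟩

end Abelian

omit [Finite G] in
theorem product_aux : ∀ (n : ℕ) {G : Type u} [Group G] [Finite G] {W : Subgroup G} {t a : G},
    Four W t a → Nat.card W = n → ∀ w ∈ W, ∃ x y z : G, (x ∈ W ∧ Commute t x) ∧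
      (y ∈ W ∧ Commute a y) ∧ (z ∈ W ∧ Commute (t * a) z) ∧ w = x * y * z := by
  intro n
  induction n using Nat.strong_induction_on with
  | _ n ih =>
  intro G _ _ W t a F hn w hw
  by_cases hW : W = ⊥
  · rw [hW, mem_bot] at hw
    exact ⟨1, 1, 1, ⟨one_mem W, Commute.one_right _⟩, ⟨one_mem W, Commute.one_right _⟩,
      ⟨one_mem W, Commute.one_right _⟩, by simp [hw]⟩
  obtain ⟨N, hNW, hN1, hinv, hNc⟩ := exists_abelian_invariant F.hodd hW
  have htn := hinv t (mem_normalizer_of_involution F.ht F.htW)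
  have han := hinv a (mem_normalizer_of_involution F.ha F.haW)
  have hWN : W ≤ normalizer (N : Set G) := fun g hg => hinv g (le_normalizer hg)
  set L := normalizer (N : Set G) with hL
  haveI : (N.subgroupOf L).Normal := normal_subgroupOf_iff_le_normalizer le_normalizer |>.2 le_rfl
  let f : L →* L ⧸ N.subgroupOf L := QuotientGroup.mk' _
  have F' : Four (W.subgroupOf L) (⟨t, htn⟩ : L) ⟨a, han⟩ := by
    refine ⟨?_, Subtype.ext F.ht, Subtype.ext F.ha, Subtype.ext F.hta.eq, fun v hv => F.htW v hv,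
      fun v hv => F.haW v hv, fun v hv h1 h2 => Subtype.ext
        (F.hfix v hv (congrArg Subtype.val h1.eq) (congrArg Subtype.val h2.eq))⟩
    rw [Nat.card_congr (subgroupOfEquivOfLe hWN).toEquiv]; exact F.hodd
  have hker : f.ker ⊓ W.subgroupOf L ≤ W.subgroupOf L := inf_le_right
  have hlt : Nat.card ((W.subgroupOf L).map f) < n := by
    rw [← hn, ← Nat.card_congr (subgroupOfEquivOfLe hWN).toEquiv]
    have hle : Nat.card ((W.subgroupOf L).map f) ≤ Nat.card (W.subgroupOf L) :=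
      Nat.le_of_dvd Nat.card_pos (card_map_dvd _ _)
    refine lt_of_le_of_ne hle fun e => hN1 (eq_bot_iff.2 fun x hx => mem_bot.2 ?_)
    have hinj : Function.Injective (f.subgroupMap (W.subgroupOf L)) :=
      ((f.subgroupMap_surjective _).bijective_of_nat_card_le e.ge).injective
    have h1 := @hinj ⟨⟨x, hWN (hNW hx)⟩, hNW hx⟩ 1 (Subtype.ext ?_)
    · exact congrArg (fun q : W.subgroupOf L => ((q : L) : G)) h1
    · show f ⟨x, hWN (hNW hx)⟩ = f 1
      rw [map_one]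
      exact (QuotientGroup.eq_one_iff _).2 hx
  obtain ⟨x', y', z', hx', hy', hz', he⟩ :=
    ih _ hlt (F'.map f hker) rfl (f ⟨w, hWN hw⟩) ⟨_, hw, rfl⟩
  -- lift fixed elements
  have hlift : ∀ {c : G} (hc : c * c = 1) (hcL : c ∈ L), (∀ v ∈ W, c * v * c ∈ W) →
      ∀ {v' : L ⧸ N.subgroupOf L}, v' ∈ (W.subgroupOf L).map f → Commute (f ⟨c, hcL⟩) v' →
      ∃ v : G, ∃ hv : v ∈ W, Commute c v ∧ f ⟨v, hWN hv⟩ = v' := by
    intro c hc hcL hcW v' hv' hcv
    obtain ⟨v, hv, rfl⟩ := hv'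
    have hi : (v : G)⁻¹ * (c * v * c) ∈ N := by
      have : f (v⁻¹ * (⟨c, hcL⟩ * v * ⟨c, hcL⟩)) = 1 := by
        rw [map_mul, map_mul, map_mul, map_inv, hcv.eq, mul_assoc (f v), ← map_mul f,
          show (⟨c, hcL⟩ : L) * ⟨c, hcL⟩ = 1 from Subtype.ext hc, map_one, mul_one, inv_mul_cancel]
      exact mem_subgroupOf.1 ((QuotientGroup.eq_one_iff _).1 this)
    obtain ⟨s, hs, hfs, -⟩ := exists_fix hc (four_odd_orderOf F.hodd (hNW hi))
    have hsN : s ∈ N := (zpowers_le.2 hi) hs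
    refine ⟨v * s, mul_mem hv (hNW hsN), hfs, ?_⟩
    show f ⟨(v : G) * s, _⟩ = f v
    rw [show (⟨(v : G) * s, hWN (mul_mem hv (hNW hsN))⟩ : L) = v * ⟨s, hWN (hNW hsN)⟩ from rfl,
      map_mul, show f ⟨s, hWN (hNW hsN)⟩ = 1 from (QuotientGroup.eq_one_iff _).2 hsN, mul_one]
  obtain ⟨x, hxW, hxt, rfl⟩ := hlift F.ht htn F.htW hx'.1 hx'.2
  obtain ⟨y, hyW, hya, rfl⟩ := hlift F.ha han F.haW hy'.1 hy'.2
  obtain ⟨z, hzW, hzb, rfl⟩ := hlift F.prod_sq (mul_mem htn han) F.prodW hz'.1 hz'.2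
  have hn' : (x * y * z)⁻¹ * w ∈ N := by
    have : f ((⟨x, hWN hxW⟩ * ⟨y, hWN hyW⟩ * ⟨z, hWN hzW⟩)⁻¹ * ⟨w, hWN hw⟩) = 1 := by
      rw [map_mul, map_inv, he, map_mul, map_mul, inv_mul_cancel]
    exact mem_subgroupOf.1 ((QuotientGroup.eq_one_iff _).1 this)
  obtain ⟨A, B, C, ⟨hA, hAt⟩, ⟨hB, hBa⟩, ⟨hC, hCb⟩, hABC⟩ := F.refine_abelian hNW
    (fun m hm => cj_mem F.ht htn hm) (fun m hm => cj_mem F.ha han hm) hWN hNc hyW hzW hya hzb hn'
  refine ⟨x * A, y * B, z * C, ⟨mul_mem hxW (hNW hA), hxt.mul_right hAt⟩,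
    ⟨mul_mem hyW (hNW hB), hya.mul_right hBa⟩, ⟨mul_mem hzW (hNW hC), hzb.mul_right hCb⟩, ?_⟩
  calc w = x * y * z * ((x * y * z)⁻¹ * w) := by group
    _ = x * y * z * (z⁻¹ * y⁻¹ * A * y * z * (z⁻¹ * B * z) * C) := by rw [hABC]
    _ = x * A * (y * B) * (z * C) := by group

/-- `W = C_W(t) C_W(a) C_W(t * a)`. -/
theorem Four.product {W : Subgroup G} {t a : G} (F : Four W t a) {w : G} (hw : w ∈ W) :
    ∃ x y z : G, (x ∈ W ∧ Commute t x) ∧ (y ∈ W ∧ Commute a y) ∧ (z ∈ W ∧ Commute (t * a) z) ∧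
      w = x * y * z :=
  product_aux _ F rfl w hw

/-- An invariant subgroup containing the three centralisers is everything. -/
theorem Four.eq_top {W H : Subgroup G} {t a : G} (F : Four W t a)
    (ht : ∀ x ∈ W, Commute t x → x ∈ H) (ha : ∀ x ∈ W, Commute a x → x ∈ H)
    (hb : ∀ x ∈ W, Commute (t * a) x → x ∈ H) : W ≤ H := fun w hw => by
  obtain ⟨x, y, z, hx, hy, hz, rfl⟩ := F.product hw
  exact mul_mem (mul_mem (ht x hx.1 hx.2) (ha y hy.1 hy.2)) (hb z hz.1 hz.2)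

end CfsgLib.GWKlein
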