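import Cfsg.Agent.Lib.GWKlein.ShapeCore
import Cfsg.Agent.Lib.GWKlein.ModuleMatrix

/-!
# Gorenstein–Walter, the shape of `O = oddPart t`: the action on `P / Z`

`P = O_r(O) = ⟨ρ, u⟩ Z` gives every element of `oddPart t` a matrix of determinant one over `ZMod r`;
the kernel is `P ⊔ A`, `A` the central elements of order prime to `r`, and the image is commutative.
-/

set_option autoImplicit false
set_option linter.unusedSectionVars false
set_option linter.style.haveILetI false

universe u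

namespace CfsgLib.GWKlein

open Subgroup CfsgLib.Components.Bender
open scoped commutatorElement Matrix

variable {G : Type u} [Group G]

/-- The central elements of `oddPart t` of order prime to `r`. -/
def centralPart (t : G) (r : ℕ) : Subgroup G where
  carrier := {y | y ∈ oddPart t ∧ oddPart t ≤ centralizer ({y} : Set G) ∧
    (orderOf y).Coprime r}
  one_mem' := ⟨one_mem _, fun c _ => mem_centralizer_singleton_iff.2 (by simp), by simp⟩
  mul_mem' := fun {x y} hx hy => ⟨mul_mem hx.1 hy.1, fun c hc =>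
    mem_centralizer_singleton_iff.2 (Commute.mul_right (mem_centralizer_singleton_iff.1 (hx.2.1 hc))
      (mem_centralizer_singleton_iff.1 (hy.2.1 hc))).eq,
    (hx.2.2.mul_left hy.2.2).coprime_dvd_left (((Commute.orderOf_mul_dvd_lcm
      (mem_centralizer_singleton_iff.1 (hy.2.1 hx.1)))).trans (Nat.lcm_dvd_mul _ _))⟩
  inv_mem' := fun {x} hx => ⟨inv_mem hx.1, fun c hc => mem_centralizer_singleton_iff.2
    (Commute.inv_right (mem_centralizer_singleton_iff.1 (hx.2.1 hc))).eq,
    by rw [orderOf_inv]; exact hx.2.2⟩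

theorem centralPart_le (t : G) (r : ℕ) : centralPart t r ≤ oddPart t := fun _ hy => hy.1

theorem commute_centralPart {t : G} {r : ℕ} {y c : G} (hy : y ∈ centralPart t r)
    (hc : c ∈ oddPart t) : Commute c y := mem_centralizer_singleton_iff.1 (hy.2.1 hc)

/-- The exponent `k` modulo `r` with `z ^ k = x`. -/
noncomputable def zexp (r : ℕ) (z x : G) : ZMod r :=
  ((Classical.epsilon fun k : ℕ => z ^ k = x : ℕ) : ZMod r)

variable [Finite G]

theorem zexp_pow {r : ℕ} {z : G} (hz : orderOf z = r) (k : ℕ) : zexp r z (z ^ k) = k := by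
  have h : ∃ l : ℕ, z ^ l = z ^ k := ⟨k, rfl⟩
  exact (ZMod.natCast_eq_natCast_iff _ _ _).2
    (hz ▸ pow_eq_pow_iff_modEq.1 (Classical.epsilon_spec (p := fun l : ℕ => z ^ l = z ^ k) h))

theorem zexp_mul {r : ℕ} {z x y : G} (hz : orderOf z = r) (hx : x ∈ zpowers z)
    (hy : y ∈ zpowers z) : zexp r z (x * y) = zexp r z x + zexp r z y := by
  obtain ⟨k, rfl⟩ := (isOfFinOrder_of_finite z).mem_powers_iff_mem_zpowers.2 hx
  obtain ⟨l, rfl⟩ := (isOfFinOrder_of_finite z).mem_powers_iff_mem_zpowers.2 hy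
  show zexp r z (z ^ k * z ^ l) = zexp r z (z ^ k) + zexp r z (z ^ l)
  rw [← pow_add, zexp_pow hz, zexp_pow hz, zexp_pow hz, Nat.cast_add]

theorem zexp_one {r : ℕ} {z : G} (hz : orderOf z = r) : zexp r z 1 = 0 := by
  simpa using zexp_pow hz 0

theorem zexp_inv {r : ℕ} {z x : G} (hz : orderOf z = r) (hx : x ∈ zpowers z) :
    zexp r z x⁻¹ = -zexp r z x := by
  refine eq_neg_of_add_eq_zero_left ?_
  rw [← zexp_mul hz (inv_mem hx) hx, inv_mul_cancel, zexp_one hz]

variable {t a : G} {r : ℕ} {ρ u : G}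

/-- The pairing of `O_r(O)` into `⟨[ρ, u]⟩`. -/
noncomputable def pairing (r : ℕ) (ρ u y w : G) : ZMod r := zexp r ⁅ρ, u⁆ ⁅y, w⁆

/-- The two coordinates modulo the centre. -/
noncomputable def coordI (r : ℕ) (ρ u y : G) : ZMod r := pairing r ρ u y u

/-- The second coordinate. -/
noncomputable def coordJ (r : ℕ) (ρ u y : G) : ZMod r := pairing r ρ u ρ y

/-- The matrix of conjugation. -/
noncomputable def coordMat (r : ℕ) (ρ u c : G) : Matrix (Fin 2) (Fin 2) (ZMod r) :=
  !![coordI r ρ u (c * ρ * c⁻¹), coordI r ρ u (c * u * c⁻¹);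
     coordJ r ρ u (c * ρ * c⁻¹), coordJ r ρ u (c * u * c⁻¹)]

/-- Commutators in the cores are multiplicative in integer powers. -/
theorem CoreHyp.commutator_zpow (h : CoreHyp t a) {r : ℕ} (hr : r.Prime) {x w : G}
    (hx : x ∈ coreIn r (oddPart t)) (hw : w ∈ coreIn r (oddPart t)) (m : ℤ) :
    ⁅x ^ m, w⁆ = ⁅x, w⁆ ^ m := by
  obtain ⟨k, rfl | rfl⟩ := Int.eq_nat_or_neg m
  · rw [zpow_natCast, zpow_natCast,
      commutatorElement_pow_of_commute (h.commute_commutator hr hx hw hx).symm]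
  · rw [zpow_neg, zpow_neg, zpow_natCast, zpow_natCast]
    refine (inv_eq_of_mul_eq_one_right ?_).symm
    rw [← commutatorElement_pow_of_commute (h.commute_commutator hr hx hw hx).symm,
      ← commutatorElement_mul_of_commute
        (h.commute_commutator hr (pow_mem hx k) hw (inv_mem (pow_mem hx k))).symm,
      inv_mul_cancel, commutatorElement_one_left]

namespace ShapeCore

variable (h : CoreHyp t a) (hc : ShapeCore t a r ρ u)
include h hc

theorem z_order : orderOf ⁅ρ, u⁆ = r := by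
  haveI := Fact.mk hc.prime
  exact orderOf_eq_prime (h.commutator_pow hc.prime hc.rho_mem hc.u_mem)
    fun e => hc.not_commute (commutatorElement_eq_one_iff_commute.1 e)

theorem z_central {c : G} (hcO : c ∈ oddPart t) {x : G} (hx : x ∈ zpowers ⁅ρ, u⁆) :
    Commute c x := by
  obtain ⟨k, rfl⟩ := mem_zpowers_iff.1 hx
  exact Commute.zpow_right (mem_centralizer_singleton_iff.1
    ((h.core_center hc.prime (h.commutator_mem_center hc.prime hc.rho_mem hc.u_mem)).1 hcO)) k

theorem pairing_mul_left {x y w : G} (hx : x ∈ coreIn r (oddPart t))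
    (hy : y ∈ coreIn r (oddPart t)) (hw : w ∈ coreIn r (oddPart t)) :
    pairing r ρ u (x * y) w = pairing r ρ u x w + pairing r ρ u y w := by
  rw [pairing, pairing, pairing,
    commutatorElement_mul_of_commute (h.commute_commutator hc.prime hy hw hx).symm,
    zexp_mul (hc.z_order h) (hc.comm_mem y hy w hw) (hc.comm_mem x hx w hw), add_comm]

theorem pairing_skew {y w : G} (hy : y ∈ coreIn r (oddPart t)) (hw : w ∈ coreIn r (oddPart t)) :
    pairing r ρ u y w = -pairing r ρ u w y := by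
  rw [pairing, pairing, ← commutatorElement_inv w y,
    zexp_inv (hc.z_order h) (hc.comm_mem w hw y hy)]

theorem pairing_mul_right {x y w : G} (hx : x ∈ coreIn r (oddPart t))
    (hy : y ∈ coreIn r (oddPart t)) (hw : w ∈ coreIn r (oddPart t)) :
    pairing r ρ u w (x * y) = pairing r ρ u w x + pairing r ρ u w y := by
  rw [hc.pairing_skew h hw (mul_mem hx hy), hc.pairing_mul_left h hx hy hw, neg_add,
    ← hc.pairing_skew h hw hx, ← hc.pairing_skew h hw hy]

theorem pairing_self {y : G} : pairing r ρ u y y = 0 := by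
  rw [pairing, show ⁅y, y⁆ = 1 by simp, zexp_one (hc.z_order h)]

theorem pairing_commute {y w : G} (hyw : Commute y w) : pairing r ρ u y w = 0 := by
  rw [pairing, commutatorElement_eq_one_iff_commute.2 hyw, zexp_one (hc.z_order h)]

theorem pairing_rho_u : pairing r ρ u ρ u = 1 := by
  rw [pairing]
  have := zexp_pow (hc.z_order h) 1
  rwa [pow_one, Nat.cast_one] at this

theorem pairing_zpow {x w : G} (hx : x ∈ coreIn r (oddPart t)) (hw : w ∈ coreIn r (oddPart t))
    (k : ℤ) : pairing r ρ u (x ^ k) w = k * pairing r ρ u x w := by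
  induction k using Int.induction_on with
  | zero => simp [hc.pairing_commute h (Commute.one_left w)]
  | succ k ih =>
    rw [zpow_add_one, hc.pairing_mul_left h (zpow_mem hx _) hx hw, ih]
    push_cast; ring
  | pred k ih =>
    have h1 := hc.pairing_mul_left h (zpow_mem hx (-(k : ℤ) - 1)) hx hw
    rw [← zpow_add_one, sub_add_cancel, ih] at h1
    push_cast at h1 ⊢
    linear_combination -h1

theorem pairing_expand {y w : G} (hy : y ∈ coreIn r (oddPart t))
    (hw : w ∈ coreIn r (oddPart t)) : pairing r ρ u y w =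
      coordI r ρ u y * coordJ r ρ u w - coordJ r ρ u y * coordI r ρ u w := by
  have key : ∀ w ∈ coreIn r (oddPart t), ∀ y ∈ coreIn r (oddPart t),
      pairing r ρ u y w =
        coordI r ρ u y * pairing r ρ u ρ w + coordJ r ρ u y * pairing r ρ u u w := by
    intro w hw y hy
    obtain ⟨i, j, z, hz, rfl⟩ := hc.decomp y hy
    have hρ := hc.rho_mem
    have hu := hc.u_mem
    have hi := zpow_mem hρ i
    have hj := zpow_mem hu j
    have hz0 : ∀ {c : G}, c ∈ coreIn r (oddPart t) → pairing r ρ u z c = 0 := fun hcP =>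
      hc.pairing_commute h (h.mem_center_of_core hz hcP)
    have e1 : coordI r ρ u (ρ ^ i * u ^ j * z) = i := by
      rw [coordI, hc.pairing_mul_left h (mul_mem hi hj) hz.1 hu, hc.pairing_mul_left h hi hj hu,
        hc.pairing_zpow h hρ hu, hc.pairing_zpow h hu hu, hc.pairing_rho_u h, hc.pairing_self h,
        hz0 hu]
      ring
    have e2 : coordJ r ρ u (ρ ^ i * u ^ j * z) = j := by
      rw [coordJ, hc.pairing_skew h hρ (mul_mem (mul_mem hi hj) hz.1),
        hc.pairing_mul_left h (mul_mem hi hj) hz.1 hρ, hc.pairing_mul_left h hi hj hρ,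
        hc.pairing_zpow h hρ hρ, hc.pairing_zpow h hu hρ, hc.pairing_self h, hz0 hρ,
        hc.pairing_skew h hu hρ, hc.pairing_rho_u h]
      ring
    rw [e1, e2, hc.pairing_mul_left h (mul_mem hi hj) hz.1 hw, hc.pairing_mul_left h hi hj hw,
      hc.pairing_zpow h hρ hw, hc.pairing_zpow h hu hw, hz0 hw]
    ring
  rw [key w hw y hy, hc.pairing_skew h hc.u_mem hw, ← coordJ, ← coordI]
  ring

theorem conj_mem {c y : G} (hcO : c ∈ oddPart t) (hy : y ∈ coreIn r (oddPart t)) :
    c * y * c⁻¹ ∈ coreIn r (oddPart t) :=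
  (mem_normalizer_iff.1 (h.le_normalizer_core r hcO) y).1 hy

theorem a_conj_mem {y : G} (hy : y ∈ coreIn r (oddPart t)) :
    a * y * a⁻¹ ∈ coreIn r (oddPart t) :=
  (mem_normalizer_iff.1 (h.a_mem_normalizer_core r) y).1 hy

theorem pairing_conj {c y w : G} (hcO : c ∈ oddPart t) (hy : y ∈ coreIn r (oddPart t))
    (hw : w ∈ coreIn r (oddPart t)) :
    pairing r ρ u (c * y * c⁻¹) (c * w * c⁻¹) = pairing r ρ u y w := by
  rw [pairing, pairing, ← h.commutator_conj, (hc.z_central h hcO (hc.comm_mem y hy w hw)).eq,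
    mul_inv_cancel_right]

theorem pairing_a {y w : G} (hy : y ∈ coreIn r (oddPart t)) (hw : w ∈ coreIn r (oddPart t)) :
    pairing r ρ u (a * y * a⁻¹) (a * w * a⁻¹) = -pairing r ρ u y w := by
  rw [pairing, pairing, ← h.commutator_conj,
    (h.core_center hc.prime (h.commutator_mem_center hc.prime hy hw)).2,
    zexp_inv (hc.z_order h) (hc.comm_mem y hy w hw)]

theorem coordI_a {y : G} (hy : y ∈ coreIn r (oddPart t)) :
    coordI r ρ u (a * y * a⁻¹) = coordI r ρ u y := by
  have e : a * u⁻¹ * a⁻¹ = u := by rw [← conj_inv, hc.u_inverted, inv_inv]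
  have h1 := hc.pairing_a h hy (inv_mem hc.u_mem)
  rw [e] at h1
  rw [coordI, h1, coordI]
  have h2 := hc.pairing_mul_right h (inv_mem hc.u_mem) hc.u_mem hy
  rw [inv_mul_cancel, hc.pairing_commute h (Commute.one_right y)] at h2
  linear_combination h2

theorem coordJ_a {y : G} (hy : y ∈ coreIn r (oddPart t)) :
    coordJ r ρ u (a * y * a⁻¹) = -coordJ r ρ u y := by
  have h1 := hc.pairing_a h hc.rho_mem hy
  rwa [show a * ρ * a⁻¹ = ρ by rw [hc.rho_fixed.eq, mul_inv_cancel_right]] at h1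

theorem coord_inv {y : G} (hy : y ∈ coreIn r (oddPart t)) :
    coordI r ρ u y⁻¹ = -coordI r ρ u y ∧ coordJ r ρ u y⁻¹ = -coordJ r ρ u y := by
  constructor
  · have h2 := hc.pairing_mul_left h (inv_mem hy) hy hc.u_mem
    rw [inv_mul_cancel, hc.pairing_commute h (Commute.one_left _)] at h2
    simp only [coordI]
    linear_combination -h2
  · have h2 := hc.pairing_mul_right h (inv_mem hy) hy hc.rho_mem
    rw [inv_mul_cancel, hc.pairing_commute h (Commute.one_right _)] at h2
    simp only [coordJ]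
    linear_combination -h2

theorem coord_conj {c y : G} (hcO : c ∈ oddPart t) (hy : y ∈ coreIn r (oddPart t)) :
    coordI r ρ u (c * y * c⁻¹) =
        coordMat r ρ u c 0 0 * coordI r ρ u y + coordMat r ρ u c 0 1 * coordJ r ρ u y ∧
      coordJ r ρ u (c * y * c⁻¹) =
        coordMat r ρ u c 1 0 * coordI r ρ u y + coordMat r ρ u c 1 1 * coordJ r ρ u y := by
  have hρ := hc.rho_mem
  have hu := hc.u_mem
  have hic : c⁻¹ ∈ oddPart t := inv_mem hcO
  have key : ∀ w ∈ coreIn r (oddPart t), pairing r ρ u (c * y * c⁻¹) w =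
      coordI r ρ u y * pairing r ρ u (c * ρ * c⁻¹) w +
        coordJ r ρ u y * pairing r ρ u (c * u * c⁻¹) w := by
    intro w hw
    have hw' : c⁻¹ * w * c ∈ coreIn r (oddPart t) := by
      simpa using hc.conj_mem h hic hw
    have e : ∀ v ∈ coreIn r (oddPart t),
        pairing r ρ u (c * v * c⁻¹) w = pairing r ρ u v (c⁻¹ * w * c) := fun v hv => by
      rw [← hc.pairing_conj h hcO hv hw', show c * (c⁻¹ * w * c) * c⁻¹ = w by group]
    rw [e y hy, e ρ hρ, e u hu, hc.pairing_expand h hy hw', hc.pairing_expand h hρ hw',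
      hc.pairing_expand h hu hw']
    have e1 : coordI r ρ u ρ = 1 := hc.pairing_rho_u h
    have e2 : coordJ r ρ u ρ = 0 := hc.pairing_self h
    have e3 : coordI r ρ u u = 0 := hc.pairing_self h
    have e4 : coordJ r ρ u u = 1 := hc.pairing_rho_u h
    rw [e1, e2, e3, e4]
    ring
  refine ⟨?_, ?_⟩
  · rw [coordI, key u hu]
    simp only [coordMat, coordI, coordJ, Matrix.of_apply, Matrix.cons_val', Matrix.cons_val_zero,
      Matrix.cons_val_one, Matrix.empty_val', Matrix.cons_val_fin_one]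
    ring
  · rw [coordJ, hc.pairing_skew h hρ (hc.conj_mem h hcO hy), key ρ hρ,
      ← neg_neg (pairing r ρ u (c * ρ * c⁻¹) ρ), ← hc.pairing_skew h hρ (hc.conj_mem h hcO hρ),
      ← neg_neg (pairing r ρ u (c * u * c⁻¹) ρ), ← hc.pairing_skew h hρ (hc.conj_mem h hcO hu)]
    simp only [coordMat, coordI, coordJ, Matrix.of_apply, Matrix.cons_val', Matrix.cons_val_zero,
      Matrix.cons_val_one, Matrix.empty_val', Matrix.cons_val_fin_one]
    ring

theorem coordMat_mul {c d : G} (hcO : c ∈ oddPart t) (hd : d ∈ oddPart t) :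
    coordMat r ρ u (c * d) = coordMat r ρ u c * coordMat r ρ u d := by
  have e : ∀ y, c * d * y * (c * d)⁻¹ = c * (d * y * d⁻¹) * c⁻¹ := fun y => by group
  obtain ⟨h1, h2⟩ := hc.coord_conj h hcO (hc.conj_mem h hd hc.rho_mem)
  obtain ⟨h3, h4⟩ := hc.coord_conj h hcO (hc.conj_mem h hd hc.u_mem)
  rw [← e] at h1 h2 h3 h4
  conv_lhs => rw [coordMat, h1, h2, h3, h4]
  ext i j
  fin_cases i <;> fin_cases j <;> simp [coordMat, Matrix.mul_apply, Fin.sum_univ_two]

theorem coordMat_det {c : G} (hcO : c ∈ oddPart t) : (coordMat r ρ u c).det = 1 := by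
  rw [Matrix.det_fin_two, ← hc.pairing_rho_u h, ← hc.pairing_conj h hcO hc.rho_mem hc.u_mem,
    hc.pairing_expand h (hc.conj_mem h hcO hc.rho_mem) (hc.conj_mem h hcO hc.u_mem)]
  simp [coordMat]
  ring

theorem coordMat_one : coordMat r ρ u 1 = 1 := by
  have e1 : coordI r ρ u ρ = 1 := hc.pairing_rho_u h
  have e2 : coordJ r ρ u ρ = 0 := hc.pairing_self h
  have e3 : coordI r ρ u u = 0 := hc.pairing_self h
  have e4 : coordJ r ρ u u = 1 := hc.pairing_rho_u h
  ext i j
  fin_cases i <;> fin_cases j <;> simp [coordMat, e1, e2, e3, e4]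

theorem coordMat_a {c : G} (hcO : c ∈ oddPart t) :
    coordMat r ρ u (a * c * a⁻¹) =
      !![coordMat r ρ u c 0 0, -coordMat r ρ u c 0 1; -coordMat r ρ u c 1 0,
        coordMat r ρ u c 1 1] := by
  have hρ := hc.rho_mem
  have hu := hc.u_mem
  have e1 : a * c * a⁻¹ * ρ * (a * c * a⁻¹)⁻¹ = a * (c * ρ * c⁻¹) * a⁻¹ := by
    conv_lhs => rw [show ρ = a * ρ * a⁻¹ by rw [hc.rho_fixed.eq, mul_inv_cancel_right]]
    group
  have e2 : a * c * a⁻¹ * u * (a * c * a⁻¹)⁻¹ = a * (c * u * c⁻¹)⁻¹ * a⁻¹ := by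
    conv_lhs => rw [show u = a * u⁻¹ * a⁻¹ by rw [← conj_inv, hc.u_inverted, inv_inv]]
    group
  obtain ⟨i1, j1⟩ := hc.coord_inv h (hc.conj_mem h hcO hu)
  conv_lhs =>
    rw [coordMat, e1, e2, hc.coordI_a h (hc.conj_mem h hcO hρ),
      hc.coordJ_a h (hc.conj_mem h hcO hρ), hc.coordI_a h (inv_mem (hc.conj_mem h hcO hu)),
      hc.coordJ_a h (inv_mem (hc.conj_mem h hcO hu)), i1, j1, neg_neg]
  ext i j
  fin_cases i <;> fin_cases j <;> simp [coordMat]

/-- Elements of `P` with trivial coordinates are central. -/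
theorem mem_center_of_coord {y : G} (hy : y ∈ coreIn r (oddPart t)) (hi : coordI r ρ u y = 0)
    (hj : coordJ r ρ u y = 0) :
    y ∈ coreIn r (oddPart t) ⊓ centralizer (coreIn r (oddPart t) : Set G) := by
  refine ⟨hy, mem_centralizer_iff.2 fun w hw => ?_⟩
  have h1 := hc.pairing_expand h hy hw
  rw [hi, hj, zero_mul, zero_mul, sub_zero] at h1
  obtain ⟨k, hk⟩ :=
    (isOfFinOrder_of_finite _).mem_powers_iff_mem_zpowers.2 (hc.comm_mem y hy w hw)
  change ⁅ρ, u⁆ ^ k = ⁅y, w⁆ at hk
  rw [pairing, ← hk, zexp_pow (hc.z_order h), ZMod.natCast_eq_zero_iff] at h1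
  have h3 : ⁅y, w⁆ = 1 := by
    rw [← hk]; exact orderOf_dvd_iff_pow_eq_one.1 (by rwa [hc.z_order h])
  exact (commutatorElement_eq_one_iff_commute.1 h3).eq.symm

theorem coordMat_core {p : G} (hp : p ∈ coreIn r (oddPart t)) : coordMat r ρ u p = 1 := by
  have key : ∀ y w : G, y ∈ coreIn r (oddPart t) → w ∈ coreIn r (oddPart t) →
      pairing r ρ u (p * y * p⁻¹) w = pairing r ρ u y w ∧
        pairing r ρ u w (p * y * p⁻¹) = pairing r ρ u w y := by
    intro y w hy hw
    have hpy := h.commutator_mem_center hc.prime hp hy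
    have e : p * y * p⁻¹ = ⁅p, y⁆ * y := by rw [commutatorElement_def]; group
    have hz : Commute ⁅p, y⁆ w := h.mem_center_of_core hpy hw
    exact ⟨by rw [e, hc.pairing_mul_left h hpy.1 hy hw, hc.pairing_commute h hz, zero_add],
      by rw [e, hc.pairing_mul_right h hpy.1 hy hw, hc.pairing_commute h hz.symm, zero_add]⟩
  have hρ := hc.rho_mem
  have hu := hc.u_mem
  rw [← hc.coordMat_one h]
  simp only [coordMat, coordI, coordJ, one_mul, inv_one, mul_one, (key ρ u hρ hu).1,
    (key u u hu hu).1, (key ρ ρ hρ hρ).2, (key u ρ hu hρ).2]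

theorem coordMat_central {y : G} (hy : y ∈ centralPart t r) : coordMat r ρ u y = 1 := by
  have e : ∀ w ∈ coreIn r (oddPart t), y * w * y⁻¹ = w := fun w hw => by
    rw [← (commute_centralPart hy (coreIn_le r _ hw)).eq, mul_inv_cancel_right]
  rw [← hc.coordMat_one h]
  simp only [coordMat, e ρ hc.rho_mem, e u hc.u_mem, one_mul, inv_one, mul_one]

theorem coordMat_eq_one_of_mem {c : G} (hcN : c ∈ coreIn r (oddPart t) ⊔ centralPart t r) :
    coordMat r ρ u c = 1 := by
  have hle : coreIn r (oddPart t) ⊔ centralPart t r ≤ oddPart t :=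
    sup_le (coreIn_le r _) (centralPart_le t r)
  let S : Subgroup G :=
    { carrier := {c | c ∈ oddPart t ∧ coordMat r ρ u c = 1}
      one_mem' := ⟨one_mem _, hc.coordMat_one h⟩
      mul_mem' := fun {x y} hx hy => ⟨mul_mem hx.1 hy.1, by
        rw [hc.coordMat_mul h hx.1 hy.1, hx.2, hy.2, one_mul]⟩
      inv_mem' := fun {x} hx => ⟨inv_mem hx.1, by
        have h1 := hc.coordMat_mul h hx.1 (inv_mem hx.1)
        rw [mul_inv_cancel, hc.coordMat_one h, hx.2, one_mul] at h1
        exact h1.symm⟩ }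
  have hS : coreIn r (oddPart t) ⊔ centralPart t r ≤ S := sup_le
    (fun y hy => ⟨coreIn_le r _ hy, hc.coordMat_core h hy⟩)
    (fun y hy => ⟨centralPart_le t r hy, hc.coordMat_central h hy⟩)
  exact (hS hcN).2

/-- The kernel of the action is `P ⊔ A`. -/
theorem mem_of_coordMat_eq_one {c : G} (hcO : c ∈ oddPart t) (hM : coordMat r ρ u c = 1) :
    c ∈ coreIn r (oddPart t) ⊔ centralPart t r := by
  haveI := Fact.mk hc.prime
  set P := coreIn r (oddPart t) with hP
  set N := P ⊔ centralPart t r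
  have hρ := hc.rho_mem
  have hu := hc.u_mem
  have hρ1 : ρ ≠ 1 := fun e => hc.not_commute (by rw [e]; exact Commute.one_left u)
  obtain ⟨T, hT, hTm⟩ := h.exists_cyclic hc.prime hρ hc.rho_fixed hρ1
  have hm : ∀ i j : Fin 2, coordMat r ρ u c i j = (1 : Matrix (Fin 2) (Fin 2) (ZMod r)) i j :=
    fun i j => by rw [hM]
  -- the two commutators with `c` are powers of `[ρ, u]`
  have hcomm : ∀ v : G, v ∈ P → v ^ r = 1 →
      coordI r ρ u (c * v * c⁻¹) = coordI r ρ u v → coordJ r ρ u (c * v * c⁻¹) = coordJ r ρ u v →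
      ⁅c, v⁆ ∈ zpowers ⁅ρ, u⁆ := by
    intro v hv hvr h1 h2
    have hcv := hc.conj_mem h hcO hv
    obtain ⟨i1, j1⟩ := hc.coord_inv h hv
    have e : ⁅c, v⁆ = c * v * c⁻¹ * v⁻¹ := commutatorElement_def c v
    have hzP : ⁅c, v⁆ ∈ P := e ▸ mul_mem hcv (inv_mem hv)
    have hz : ⁅c, v⁆ ∈ P ⊓ centralizer (P : Set G) := by
      refine hc.mem_center_of_coord h hzP ?_ ?_
      · have h3 := hc.pairing_mul_left h hcv (inv_mem hv) hu
        rw [← e] at h3
        change coordI r ρ u ⁅c, v⁆ = coordI r ρ u (c * v * c⁻¹) + coordI r ρ u v⁻¹ at h3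
        rw [h3, h1, i1, add_neg_cancel]
      · have h3 := hc.pairing_mul_right h hcv (inv_mem hv) hρ
        rw [← e] at h3
        change coordJ r ρ u ⁅c, v⁆ = coordJ r ρ u (c * v * c⁻¹) + coordJ r ρ u v⁻¹ at h3
        rw [h3, h2, j1, add_neg_cancel]
    have hvz : Commute ⁅c, v⁆ v := h.mem_center_of_core hz hv
    have hzr : ⁅c, v⁆ ^ r = 1 := by
      have h4 : (c * v * c⁻¹) ^ r = 1 := by rw [conj_pow, hvr, mul_one, mul_inv_cancel]
      rwa [show c * v * c⁻¹ = ⁅c, v⁆ * v by rw [e, inv_mul_cancel_right], hvz.mul_pow, hvr,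
        mul_one] at h4
    have hcen := h.core_center hc.prime hz
    have hz1 := h.core_center hc.prime (h.commutator_mem_center hc.prime hρ hu)
    refine mem_zpowers_of_cyclic (hTm _ (coreIn_le r _ hzP)
      (mem_centralizer_singleton_iff.1 (hcen.1 (coreIn_le r _ hρ))) hcen.2)
      (hTm _ (coreIn_le r _ (h.commutator_mem_center hc.prime hρ hu).1)
        (mem_centralizer_singleton_iff.1 (hz1.1 (coreIn_le r _ hρ))) hz1.2) hzr (hc.z_order h)
  have e1 : coordI r ρ u ρ = 1 := hc.pairing_rho_u h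
  have e2 : coordJ r ρ u ρ = 0 := hc.pairing_self h
  have e3 : coordI r ρ u u = 0 := hc.pairing_self h
  have e4 : coordJ r ρ u u = 1 := hc.pairing_rho_u h
  obtain ⟨k, hk⟩ := mem_zpowers_iff.1 (hcomm ρ hρ hc.rho_pow
    (by have := hm 0 0; simp [coordMat] at this; rw [this, e1])
    (by have := hm 1 0; simp [coordMat] at this; rw [this, e2]))
  obtain ⟨l, hl⟩ := mem_zpowers_iff.1 (hcomm u hu hc.u_pow
    (by have := hm 0 1; simp [coordMat] at this; rw [this, e3])
    (by have := hm 1 1; simp [coordMat] at this; rw [this, e4]))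
  -- correct `c` by an element of `P`
  set n := ρ ^ l * u ^ (-k) with hn
  have hnP : n ∈ P := mul_mem (zpow_mem hρ _) (zpow_mem hu _)
  have hpc : ∀ {x w : G}, x ∈ P → w ∈ P → ∀ m : ℤ, ⁅x ^ m, w⁆ = ⁅x, w⁆ ^ m :=
    fun hx hw => h.commutator_zpow hc.prime hx hw
  have hnρ : ⁅n, ρ⁆ = ⁅c, ρ⁆ := by
    rw [hn, commutatorElement_mul_of_commute
      (h.commute_commutator hc.prime (zpow_mem hu _) hρ (zpow_mem hρ l)).symm, hpc hu hρ,
      hpc hρ hρ, show ⁅ρ, ρ⁆ = 1 by simp, _root_.one_zpow, mul_one,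
      ← commutatorElement_inv ρ u, inv_zpow', neg_neg, hk]
  have hnu : ⁅n, u⁆ = ⁅c, u⁆ := by
    rw [hn, commutatorElement_mul_of_commute
      (h.commute_commutator hc.prime (zpow_mem hu _) hu (zpow_mem hρ l)).symm, hpc hu hu,
      hpc hρ hu, show ⁅u, u⁆ = 1 by simp, _root_.one_zpow, one_mul, hl]
  have hfix : ∀ v : G, ⁅n, v⁆ = ⁅c, v⁆ → Commute (n⁻¹ * c) v := by
    intro v e
    have e1 : n * v * n⁻¹ = c * v * c⁻¹ := by
      calc n * v * n⁻¹ = ⁅n, v⁆ * v := by rw [commutatorElement_def, inv_mul_cancel_right]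
        _ = c * v * c⁻¹ := by rw [e, commutatorElement_def, inv_mul_cancel_right]
    show n⁻¹ * c * v = v * (n⁻¹ * c)
    calc n⁻¹ * c * v = n⁻¹ * (c * v * c⁻¹) * c := by group
      _ = v * (n⁻¹ * c) := by rw [← e1]; group
  have hc'O : n⁻¹ * c ∈ oddPart t := mul_mem (inv_mem (coreIn_le r _ hnP)) hcO
  have hF : n⁻¹ * c ∈ fitIn (oddPart t) := by
    refine h.mem_fitIn_oddPart hc'O fun q hq f hf => ?_
    by_cases hqr : q = r
    · subst hqr
      obtain ⟨i, j, z, hz, rfl⟩ := hc.decomp f hf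
      have hzc := h.core_center hc.prime hz
      exact (((hfix ρ hnρ).zpow_right i).mul_right ((hfix u hnu).zpow_right j)).mul_right
        (mem_centralizer_singleton_iff.1 (hzc.1 hc'O))
    · exact mem_centralizer_singleton_iff.1 ((hc.others q hq hqr f hf).2 hc'O)
  have hFN : fitIn (oddPart t) ≤ N := le_of_parts le_rfl fun q hq _ f hf => by
    by_cases hqr : q = r
    · subst hqr; exact mem_sup_left hf.1
    · refine mem_sup_right ⟨coreIn_le q _ hf.1, (hc.others q hq hqr f hf.1).2, ?_⟩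
      haveI := Fact.mk hq
      obtain ⟨m, hm⟩ := IsPGroup.iff_orderOf.1 (isPGroup_coreIn q (oddPart t)) ⟨f, hf.1⟩
      rw [Subgroup.orderOf_mk] at hm
      rw [hm]
      exact ((Nat.coprime_primes hq hc.prime).2 hqr).pow_left m
  have := mul_mem (mem_sup_left hnP : n ∈ N) (hFN hF)
  rwa [mul_inv_cancel_left] at this

end ShapeCore

end CfsgLib.GWKlein
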