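import Cfsg.Agent.Lib.GWKlein.CaseOneData
import Cfsg.Agent.Lib.GWKlein.FourProduct

/-!
# Gorenstein–Walter, the last configuration: centralisers of the inverted elements

For `y ≠ 1` in `(Z ⊔ A) ⊔ E` the centraliser of `y` lies in `C(t)`: the odd group `W = O(C(y) V)` is
the product of the three fixed subgroups, so its number of Sylow `r`-subgroups divides the product
of two divisors of `e = |E|`, and `e ∣ r ± 1` leaves only the number one.
-/

set_option autoImplicit false
set_option linter.unusedSectionVars false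
set_option linter.style.haveILetI false

universe u

namespace CfsgLib.GWKlein

open Subgroup

/-- A product of two divisors of an odd divisor of `r ± 1` is not `1 + k r`, `k > 0`. -/
theorem caseOne_arith {r e α β k : ℕ} (hr5 : 5 ≤ r) (hr : Odd r) (he : Odd e)
    (hdvd : e ∣ r - 1 ∨ e ∣ r + 1) (hα : α ∣ e) (hβ : β ∣ e) (h : α * β = 1 + k * r) : k = 0 := by
  by_contra hk
  have hαo : Odd α := he.of_dvd_nat hα
  have hβo : Odd β := he.of_dvd_nat hβ
  set L := Nat.lcm α β with hL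
  have hgL : Nat.gcd α β * L = α * β := Nat.gcd_mul_lcm α β
  have hLe : L ∣ e := Nat.lcm_dvd hα hβ
  have hg : Nat.gcd α β ≤ e := Nat.le_of_dvd he.pos ((Nat.gcd_dvd_left _ _).trans hα)
  have hL1 : 1 ≤ L := Nat.pos_of_ne_zero fun e0 => by
    rw [e0, mul_zero] at hgL; omega
  have hLh : L ∣ 1 + k * r := h ▸ hgL ▸ dvd_mul_left L _
  obtain ⟨q, hq⟩ := hr
  rcases hdvd with hd | hd
  · obtain ⟨c, hc⟩ := hd
    have h2 : 2 ∣ c := by
      rcases (Nat.Prime.dvd_mul Nat.prime_two).1 (hc ▸ ⟨q, by omega⟩ : 2 ∣ e * c) with h' | h'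
      · exact absurd h' he.not_two_dvd_nat
      · exact h'
    have hc2 : 2 ≤ c := Nat.le_of_dvd (Nat.pos_of_ne_zero fun e0 => by rw [e0, mul_zero] at hc; omega) h2
    have he2 : 2 * e ≤ r - 1 := by rw [hc, mul_comm 2]; exact Nat.mul_le_mul_left e hc2
    have hk1 : L ∣ k + 1 := by
      have h1 : L ∣ k * (r - 1) := (hLe.trans ⟨c, hc⟩).mul_left k
      have e1 : 1 + k * r = k * (r - 1) + (k + 1) := by
        obtain ⟨m, rfl⟩ : ∃ m, r = m + 1 := ⟨r - 1, by omega⟩
        rw [Nat.add_sub_cancel]; ring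
      exact (Nat.dvd_add_right h1).1 (e1 ▸ hLh)
    have hle := Nat.le_of_dvd (by omega) hk1
    obtain ⟨m, rfl⟩ : ∃ m, r = m + 1 := ⟨r - 1, by omega⟩
    rw [Nat.add_sub_cancel] at he2
    have h3 : 2 * (Nat.gcd α β * L) ≤ m * (k + 1) :=
      calc 2 * (Nat.gcd α β * L) = (2 * Nat.gcd α β) * L := by ring
        _ ≤ m * (k + 1) := Nat.mul_le_mul (by omega) hle
    rw [hgL, h] at h3
    nlinarith [Nat.pos_of_ne_zero hk]
  · obtain ⟨c, hc⟩ := hd
    have h2 : 2 ∣ c := by
      rcases (Nat.Prime.dvd_mul Nat.prime_two).1 (hc ▸ ⟨q + 1, by omega⟩ : 2 ∣ e * c) with h' | h'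
      · exact absurd h' he.not_two_dvd_nat
      · exact h'
    have hc2 : 2 ≤ c := Nat.le_of_dvd (Nat.pos_of_ne_zero fun e0 => by rw [e0, mul_zero] at hc; omega) h2
    have he2 : 2 * e ≤ r + 1 := by rw [hc, mul_comm 2]; exact Nat.mul_le_mul_left e hc2
    rcases (show k = 1 ∨ 2 ≤ k by omega) with rfl | hk2
    · obtain ⟨x, hx⟩ := hαo.mul hβo
      omega
    · have hk1 : L ∣ k - 1 := by
        have h1 : L ∣ k * (r + 1) := (hLe.trans ⟨c, hc⟩).mul_left k
        have e1 : k * (r + 1) = 1 + k * r + (k - 1) := by rw [mul_add, mul_one]; omega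
        exact (Nat.dvd_add_right hLh).1 (e1 ▸ h1)
      have hle := Nat.le_of_dvd (by omega) hk1
      have h3 : 2 * (Nat.gcd α β * L) ≤ (r + 1) * (k - 1) :=
        calc 2 * (Nat.gcd α β * L) = (2 * Nat.gcd α β) * L := by ring
          _ ≤ (r + 1) * (k - 1) := Nat.mul_le_mul (by omega) hle
      rw [hgL, h] at h3
      obtain ⟨m, rfl⟩ : ∃ m, k = m + 1 := ⟨k - 1, by omega⟩
      rw [Nat.add_sub_cancel] at h3
      nlinarith

section

variable {G : Type u} [Group G] [Finite G] {t a : G} {r : ℕ} {P Z A E : Subgroup G} {ρ : G}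

theorem CaseOne.commute_E (h : CaseOne t a r P Z A E ρ) {x y : G} (hx : x ∈ E) (hy : y ∈ E) :
    Commute x y := by
  have e : (x * y)⁻¹ = x⁻¹ * y⁻¹ := by
    rw [← h.E_inverted _ (mul_mem hx hy),
      show a * (x * y) * a⁻¹ = a * x * a⁻¹ * (a * y * a⁻¹) by group, h.E_inverted x hx,
      h.E_inverted y hy]
  calc x * y = ((x * y)⁻¹)⁻¹ := (inv_inv _).symm
    _ = (x⁻¹ * y⁻¹)⁻¹ := by rw [e]
    _ = y * x := by rw [mul_inv_rev, inv_inv, inv_inv]

theorem CaseOne.coprime_r (h : CaseOne t a r P Z A E ρ) : Nat.Coprime r (A.relIndex E) := by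
  refine (Nat.Prime.coprime_iff_not_dvd h.prime).2 fun hd => ?_
  have h5 := h.five_le
  rcases h.E_dvd with hd' | hd'
  · have := Nat.le_of_dvd (by omega) (hd.trans hd'); omega
  · have h1 : r ∣ 1 := (Nat.dvd_add_right dvd_rfl).1 (hd.trans hd')
    rw [Nat.dvd_one] at h1; omega

theorem CaseOne.A_normal_E (h : CaseOne t a r P Z A E ρ) : (A.subgroupOf E).Normal :=
  ⟨fun n hn x => by
    rw [mem_subgroupOf] at hn ⊢
    rw [Subgroup.coe_mul, Subgroup.coe_mul, Subgroup.coe_inv,
      (h.commute_E x.2 n.2).eq, mul_inv_cancel_right]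
    exact hn⟩

theorem CaseOne.pow_relIndex_mem (h : CaseOne t a r P Z A E ρ) {u : G} (hu : u ∈ E) :
    u ^ A.relIndex E ∈ A := by
  haveI := h.A_normal_E
  exact mem_subgroupOf.1 ((A.subgroupOf E).pow_index_mem ⟨u, hu⟩)

theorem CaseOne.commute_ZA (h : CaseOne t a r P Z A E ρ) {x c : G} (hx : x ∈ oddPart t)
    (hc : c ∈ Z ⊔ A) : Commute c x := by
  have hle : Z ⊔ A ≤ centralizer (oddPart t : Set G) :=
    sup_le (le_centralizer_iff.1 h.Z_central) (le_centralizer_iff.1 h.A_central)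
  exact (mem_centralizer_iff.1 (hle hc) x hx).symm

theorem CaseOne.ZA_le (h : CaseOne t a r P Z A E ρ) : Z ⊔ A ≤ oddPart t :=
  sup_le (h.Z_le.trans h.P_le) h.A_le

theorem CaseOne.PA_normal (h : CaseOne t a r P Z A E ρ) :
    oddPart t ≤ normalizer ((P ⊔ A : Subgroup G) : Set G) := fun x hx => by
  refine mem_normalizer_iff_map_conj_eq.2 ?_
  rw [Subgroup.map_sup, mem_normalizer_iff_map_conj_eq.1 (h.P_normal hx)]
  congr 1
  refine eq_of_le_of_card_ge ?_ (card_map_of_injective (MulAut.conj x).injective).ge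
  rintro _ ⟨b, hb, rfl⟩
  show x * b * x⁻¹ ∈ A
  have : Commute b x := h.commute_ZA hx (mem_sup_right hb)
  rwa [← this.eq, mul_inv_cancel_right]

theorem CaseOne.mem_PA (h : CaseOne t a r P Z A E ρ) {x : G} (hx : x ∈ P ⊔ A) :
    ∃ p ∈ P, ∃ b ∈ A, x = p * b := by
  have hn : A ≤ normalizer (P : Set G) := fun b hb => h.P_normal (h.A_le hb)
  have : x ∈ (↑(P ⊔ A) : Set G) := hx
  rw [coe_mul_of_right_le_normalizer_left P A hn] at this
  obtain ⟨p, hp, b, hb, rfl⟩ := this
  exact ⟨p, hp, b, hb, rfl⟩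

theorem CaseOne.mem_O (h : CaseOne t a r P Z A E ρ) {x : G} (hx : x ∈ oddPart t) :
    ∃ n ∈ P ⊔ A, ∃ u ∈ E, x = n * u := by
  have hn : E ≤ normalizer ((P ⊔ A : Subgroup G) : Set G) := fun u hu => h.PA_normal (h.E_le hu)
  have : x ∈ (↑(P ⊔ A ⊔ E) : Set G) := h.gen hx
  rw [coe_mul_of_right_le_normalizer_left (P ⊔ A) E hn] at this
  obtain ⟨p, hp, b, hb, rfl⟩ := this
  exact ⟨p, hp, b, hb, rfl⟩

theorem CaseOne.mem_B (h : CaseOne t a r P Z A E ρ) {x : G} (hx : x ∈ Z ⊔ A ⊔ E) :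
    ∃ c ∈ Z ⊔ A, ∃ u ∈ E, x = c * u := by
  have hn : E ≤ normalizer ((Z ⊔ A : Subgroup G) : Set G) := fun u hu =>
    mem_normalizer_iff_map_conj_eq.2 (eq_of_le_of_card_ge (by
      rintro _ ⟨c, hc, rfl⟩
      show u * c * u⁻¹ ∈ _
      rwa [← (h.commute_ZA (h.E_le hu) hc).eq, mul_inv_cancel_right])
      (card_map_of_injective (MulAut.conj u).injective).ge)
  have : x ∈ (↑(Z ⊔ A ⊔ E) : Set G) := hx
  rw [coe_mul_of_right_le_normalizer_left (Z ⊔ A) E hn] at this
  obtain ⟨p, hp, b, hb, rfl⟩ := this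
  exact ⟨p, hp, b, hb, rfl⟩

theorem CaseOne.inverted_B (h : CaseOne t a r P Z A E ρ) {x : G} (hx : x ∈ Z ⊔ A ⊔ E) :
    a * x * a⁻¹ = x⁻¹ := by
  obtain ⟨c, hc, u, hu, rfl⟩ := h.mem_B hx
  rw [show a * (c * u) * a⁻¹ = a * c * a⁻¹ * (a * u * a⁻¹) by group, h.ZA_inverted c hc,
    h.E_inverted u hu, (h.commute_ZA (h.E_le hu) hc).eq, mul_inv_rev]

/-- The fixed points in `oddPart t` of an element of `B` outside `Z A`. -/
theorem CaseOne.cent_B (h : CaseOne t a r P Z A E ρ) {c u : G} (hc : c ∈ Z ⊔ A) (hu : u ∈ E)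
    (hu1 : u ∉ A) {x : G} (hx : x ∈ oddPart t) (hxy : Commute x (c * u)) : x ∈ Z ⊔ A ⊔ E := by
  obtain ⟨n, hn, e, he, rfl⟩ := h.mem_O hx
  obtain ⟨p, hp, b, hb, rfl⟩ := h.mem_PA hn
  have hxc : Commute (p * b * e) c := (h.commute_ZA hx hc).symm
  have hxu : Commute (p * b * e) u := by
    have := hxc.inv_right.mul_right hxy
    rwa [inv_mul_cancel_left] at this
  have heu : Commute e u := h.commute_E he hu
  have hbu : Commute b u := h.commute_ZA (h.E_le hu) (mem_sup_right hb)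
  have hpu : Commute p u := by
    have := hxu.mul_left (hbu.mul_left heu).inv_left
    rwa [show p * b * e * (b * e)⁻¹ = p by group] at this
  exact mul_mem (mem_sup_left (mul_mem (mem_sup_left (h.E_fpf u hu hu1 p hp hpu.symm))
    (mem_sup_right hb))) (mem_sup_right he)

/-- An element of order prime to `r` of `P A` lies in `A`; in general a power does. -/
theorem CaseOne.pow_mem_A (h : CaseOne t a r P Z A E ρ) {x : G} (hx : x ∈ P ⊔ A) :
    ∃ k : ℕ, x ^ r ^ k ∈ A := by
  obtain ⟨p, hp, b, hb, rfl⟩ := h.mem_PA hx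
  obtain ⟨k, hk⟩ := h.pgroup ⟨p, hp⟩
  refine ⟨k, ?_⟩
  have hpb : Commute p b := (h.commute_ZA (h.P_le hp) (mem_sup_right hb)).symm
  rw [hpb.mul_pow, show p ^ r ^ k = 1 from congrArg Subtype.val hk, one_mul]
  exact _root_.pow_mem hb _

variable (M : Minimal G t a) (hC : IsCoatom (centralizer ({t} : Set G)))
include M hC

theorem CaseOne.centralizer_t (h : CaseOne t a r P Z A E ρ) {x : G}
    (hx : x ∈ centralizer ({t} : Set G)) : ∃ k ∈ oddPart t, ∃ v ∈ four t a, x = k * v := by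
  rcases M.setting.type_or_rot (M.setting.four_le_centralizer M.setting.t_mem) with h1 | ⟨g, hg, hgt, -⟩
  · exact h1.1 x hx
  · rw [mem_centralizer_singleton_iff.1 hg, mul_inv_cancel_right] at hgt
    exact absurd hgt M.setting.ne

/-- `C(t)` is the normaliser of each non-trivial subgroup of `Z A`. -/
theorem CaseOne.normalizer_eq (h : CaseOne t a r P Z A E ρ) {Y : Subgroup G} (hY : Y ≤ Z ⊔ A)
    (hne : Y ≠ ⊥) : normalizer (Y : Set G) = centralizer ({t} : Set G) := by
  have hle : centralizer ({t} : Set G) ≤ normalizer (Y : Set G) := by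
    intro x hx
    obtain ⟨k, hk, v, hv, rfl⟩ := h.centralizer_t M hC hx
    refine mul_mem (mem_normalizer_iff_map_conj_eq.2 (eq_of_le_of_card_ge ?_
      (card_map_of_injective (MulAut.conj k).injective).ge)) ((M.setting.le_normalizer_of ?_ ?_) hv)
    · rintro _ ⟨c, hc, rfl⟩
      show k * c * k⁻¹ ∈ Y
      rwa [← (h.commute_ZA hk (hY hc)).eq, mul_inv_cancel_right]
    · refine mem_normalizer_iff_map_conj_eq.2 (eq_of_le_of_card_ge ?_
        (card_map_of_injective (MulAut.conj t).injective).ge)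
      rintro _ ⟨c, hc, rfl⟩
      show t * c * t⁻¹ ∈ Y
      rwa [(commute_of_mem_oddPart (h.ZA_le (hY hc))).eq, mul_inv_cancel_right]
    · refine mem_normalizer_iff_map_conj_eq.2 (eq_of_le_of_card_ge ?_
        (card_map_of_injective (MulAut.conj a).injective).ge)
      rintro _ ⟨c, hc, rfl⟩
      show a * c * a⁻¹ ∈ Y
      rw [h.ZA_inverted c (hY hc)]
      exact inv_mem hc
  rcases hle.lt_or_eq with hlt | heq
  · exfalso
    haveI := M.simple
    rcases (normalizer_eq_top_iff.1 (hC.2 _ hlt)).eq_bot_or_eq_top with e | e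
    · exact hne e
    · refine hC.1 (top_le_iff.1 fun x _ => ?_)
      have ht : t ∈ Z ⊔ A := hY (e ▸ mem_top t)
      have := odd_orderOf (odd_card_core _) (h.ZA_le ht)
      rw [M.setting.t2] at this
      exact absurd this (by decide)
  · exact heq.symm

theorem CaseOne.cent_ZA (h : CaseOne t a r P Z A E ρ) {c : G} (hc : c ∈ Z ⊔ A) (hc1 : c ≠ 1) :
    centralizer ({c} : Set G) ≤ centralizer ({t} : Set G) := by
  rw [← h.normalizer_eq M hC (Y := zpowers c) (zpowers_le.2 hc) (zpowers_ne_bot.2 hc1)]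
  intro x hx
  rw [mem_normalizer_iff_map_conj_eq, MonoidHom.map_zpowers]
  show zpowers (x * c * x⁻¹) = _
  rw [mem_centralizer_singleton_iff.1 hx, mul_inv_cancel_right]

/-- The fixed points of `v = a` or `v = t a` in `W` have order dividing `|E|`. -/
theorem CaseOne.card_fixed (h : CaseOne t a r P Z A E ρ) {W : Subgroup G} (F : Four W t a)
    {y c v : G} (hWy : ∀ w ∈ W, Commute w y) (hv : c * t * c⁻¹ = v) (hvy : ¬ Commute v y)
    (hrZ : ∀ x ∈ W, Commute v x → (∃ k : ℕ, x ^ r ^ k = 1) → x = 1) :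
    Nat.card ↥(W ⊓ centralizer ({v} : Set G)) ∣ A.relIndex E := by
  set X := (W ⊓ centralizer ({v} : Set G)).map (MulAut.conj c⁻¹).toMonoidHom with hXdef
  have hX : ∀ x ∈ X, c * x * c⁻¹ ∈ W ∧ Commute v (c * x * c⁻¹) := by
    rintro _ ⟨w, hw, rfl⟩
    have e : c * (MulAut.conj c⁻¹ w) * c⁻¹ = w := by simp [MulAut.conj_apply]; group
    exact ⟨e.symm ▸ hw.1, e.symm ▸ (mem_centralizer_singleton_iff.1 hw.2).symm⟩
  have hXO : X ≤ oddPart t := fun x hx => by
    obtain ⟨hxW, hxv⟩ := hX x hx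
    refine M.setting.mem_oddPart.2 ⟨?_, ?_⟩
    · have := odd_orderOf F.hodd hxW
      rwa [← MulAut.conj_apply, MulEquiv.orderOf_eq] at this
    · rw [← hv] at hxv
      show t * x = x * t
      apply (MulAut.conj c).injective
      simp only [map_mul, MulAut.conj_apply]
      exact hxv.eq
  -- no non-trivial element of `X` lies in `Z A`
  have hZA : ∀ x ∈ X, x ∈ Z ⊔ A → x = 1 := by
    intro x hx hxZA
    by_contra hx1
    obtain ⟨hxW, -⟩ := hX x hx
    have hy : Commute (c⁻¹ * y * c) x := by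
      show c⁻¹ * y * c * x = x * (c⁻¹ * y * c)
      calc c⁻¹ * y * c * x = c⁻¹ * (y * (c * x * c⁻¹)) * c := by group
        _ = c⁻¹ * ((c * x * c⁻¹) * y) * c := by rw [(hWy _ hxW).symm.eq]
        _ = x * (c⁻¹ * y * c) := by group
    have := mem_centralizer_singleton_iff.1 (h.cent_ZA M hC hxZA hx1
      (mem_centralizer_singleton_iff.2 hy.eq))
    refine hvy ?_
    rw [← hv]
    show c * t * c⁻¹ * y = y * (c * t * c⁻¹)
    calc c * t * c⁻¹ * y = c * (t * (c⁻¹ * y * c)) * c⁻¹ := by group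
      _ = c * ((c⁻¹ * y * c) * t) * c⁻¹ := by rw [this]
      _ = y * (c * t * c⁻¹) := by group
  have hPA : ∀ x ∈ X, x ∈ P ⊔ A → x = 1 := by
    intro x hx hxPA
    obtain ⟨k, hk⟩ := h.pow_mem_A hxPA
    have h1 := hZA _ (_root_.pow_mem hx _) (mem_sup_right hk)
    obtain ⟨hxW, hxv⟩ := hX x hx
    have := hrZ _ hxW hxv ⟨k, by rw [_root_.conj_pow, h1, mul_one, mul_inv_cancel]⟩
    rwa [conj_eq_one_iff] at this
  set O := oddPart t
  haveI hn : ((P ⊔ A).subgroupOf O).Normal :=
    (normal_subgroupOf_iff_le_normalizer (sup_le h.P_le h.A_le)).2 h.PA_normal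
  let f : X →* O ⧸ (P ⊔ A).subgroupOf O := (QuotientGroup.mk' _).comp (inclusion hXO)
  have hf : Function.Injective f := (injective_iff_map_eq_one f).2 fun x hx =>
    Subtype.ext (hPA x x.2 ((QuotientGroup.eq_one_iff (inclusion hXO x)).1 hx))
  let g : E →* O ⧸ (P ⊔ A).subgroupOf O := (QuotientGroup.mk' _).comp (inclusion h.E_le)
  have hg : Function.Surjective g := by
    intro q
    obtain ⟨⟨x, hx⟩, rfl⟩ := QuotientGroup.mk_surjective q
    obtain ⟨n, hn', u, hu, rfl⟩ := h.mem_O hx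
    refine ⟨⟨u, hu⟩, ?_⟩
    show QuotientGroup.mk (inclusion h.E_le ⟨u, hu⟩) = _
    rw [QuotientGroup.eq, mem_subgroupOf]
    show u⁻¹ * (n * u) ∈ P ⊔ A
    have := (mem_normalizer_iff.1 (h.PA_normal (inv_mem (h.E_le hu))) n).1 hn'
    simpa [mul_assoc] using this
  rw [← card_map_of_injective (K := W ⊓ centralizer ({v} : Set G)) (f := (MulAut.conj c⁻¹).toMonoidHom)
    (MulAut.conj c⁻¹).injective]
  haveI := h.A_normal_E
  have hA : A.subgroupOf E ≤ g.ker := fun u hu => by
    rw [MonoidHom.mem_ker]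
    exact (QuotientGroup.eq_one_iff _).2
      (mem_subgroupOf.2 (mem_sup_right (mem_subgroupOf.1 hu)))
  exact (card_dvd_of_injective f hf).trans (card_dvd_of_surjective
    (QuotientGroup.lift (A.subgroupOf E) g hA) fun q => by
      obtain ⟨u, hu⟩ := hg q
      exact ⟨QuotientGroup.mk u, hu⟩)

/-- A four-group acting on `W` whose fixed points for `t` lie in `B` forces `W` into `C(t)`. -/
theorem CaseOne.four_le_centralizer (h : CaseOne t a r P Z A E ρ) {g : G} (hg : Rot t a g)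
    {W : Subgroup G} (F : Four W t a) {y : G} (hZW : Z ≤ W) (hWy : ∀ w ∈ W, Commute w y)
    (hay : ¬ Commute a y) (hbay : ¬ Commute (t * a) y)
    (hCt : ∀ w ∈ W, Commute t w → w ∈ Z ⊔ A ⊔ E) :
    W ≤ centralizer ({t} : Set G) := by
  have S := M.setting
  haveI : Fact r.Prime := ⟨h.prime⟩
  have hVW : four t a ≤ normalizer (W : Set G) := S.le_normalizer_of
    (mem_normalizer_of_involution F.ht F.htW) (mem_normalizer_of_involution F.ha F.haW)
  have hcop := S.coprime_four F.hodd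
  have hsolv : Group.IsSolvable ↥(four t a) ∨ Group.IsSolvable ↥W := Or.inl S.solvable_four
  have hVZ : four t a ≤ normalizer (Z : Set G) := by
    rw [h.normalizer_eq M hC le_sup_left h.Z_ne]
    exact S.four_le_centralizer S.t_mem
  have hZp : IsPGroup r ↥Z := h.pgroup.to_le h.Z_le
  obtain ⟨R, hZR, hR⟩ := Coprime.exists_le_invariant_sylow hVW hcop hsolv hZW hZp hVZ
  have hrB : ∀ x ∈ Z ⊔ A ⊔ E, (∃ k : ℕ, x ^ r ^ k = 1) → x ∈ Z := by
    intro x hx hxr
    obtain ⟨k, hk⟩ := hxr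
    obtain ⟨c, hc, u, hu, rfl⟩ := h.mem_B hx
    have hcu := h.commute_ZA (h.E_le hu) hc
    haveI := h.ZA_cyclic
    -- the `E`-part has order dividing both `r ^ k` and `|E|`
    have hu0 : u ^ r ^ k ∈ A := by
      have hk' := hk
      rw [hcu.mul_pow, mul_eq_one_iff_eq_inv] at hk'
      have hmem : u ^ r ^ k ∈ Z ⊔ A := by
        have e : u ^ r ^ k = (c ^ r ^ k)⁻¹ := by rw [hk', inv_inv]
        exact e ▸ inv_mem (_root_.pow_mem hc _)
      exact h.disjoint.le ⟨_root_.pow_mem hu _, sup_le_sup_right h.Z_le A hmem⟩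
    have hu1 : u ∈ A := by
      haveI := h.A_normal_E
      let q : ↥E ⧸ A.subgroupOf E := QuotientGroup.mk ⟨u, hu⟩
      have h1 : q ^ r ^ k = 1 := by
        rw [← QuotientGroup.mk_pow, QuotientGroup.eq_one_iff]; exact hu0
      have h2 : q ^ A.relIndex E = 1 := pow_card_eq_one'
      exact mem_subgroupOf.1 ((QuotientGroup.eq_one_iff _).1 (orderOf_eq_one_iff.1
        (Nat.eq_one_of_dvd_coprimes (h.coprime_r.pow_left k) (orderOf_dvd_of_pow_eq_one h1)
          (orderOf_dvd_of_pow_eq_one h2))))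
    have hc2 : c * u ∈ Z ⊔ A := mul_mem hc (mem_sup_right hu1)
    clear hc hcu hu0
    generalize c * u = c at hk hc2 hx ⊢
    rename' hc2 => hc
    have hn : A ≤ normalizer (Z : Set G) := fun b hb => by
      rw [h.normalizer_eq M hC le_sup_left h.Z_ne]
      exact oddPart_le t (h.A_le hb)
    have hc' : c ∈ (↑(Z ⊔ A) : Set G) := hc
    rw [coe_mul_of_right_le_normalizer_left Z A hn] at hc'
    obtain ⟨z, hz, b, hb, rfl⟩ := hc'
    have hzb : Commute z b := h.commute_ZA (h.A_le hb) (mem_sup_left hz)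
    obtain ⟨j, hj⟩ := hZp ⟨z, hz⟩
    have hb0 : b ^ r ^ (k + j) = 1 := by
      have e : (z * b) ^ r ^ (k + j) = 1 := by rw [pow_add, pow_mul, hk, one_pow]
      rwa [hzb.mul_pow, pow_add, mul_comm (r ^ k), pow_mul,
        show z ^ r ^ j = 1 from congrArg Subtype.val hj, one_pow, one_mul,
        mul_comm (r ^ j), ← pow_add] at e
    have hb1 : b = 1 := orderOf_eq_one_iff.1 (Nat.eq_one_of_dvd_coprimes
      (((Nat.Prime.coprime_iff_not_dvd h.prime).2 h.A_coprime).pow_left (k + j))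
      (orderOf_dvd_of_pow_eq_one hb0) (Subgroup.orderOf_dvd_natCard _ hb))
    show z * b ∈ Z
    rwa [hb1, mul_one]
  have hRZ : (R : Subgroup W).map W.subtype = Z := by
    rcases hZR.eq_or_lt with e | e
    · exact e.symm
    exfalso
    have hRp := R.isPGroup'.map W.subtype
    refine (Coprime.lt_normalizer_inf_of_lt hRp e).not_ge fun x hx => ?_
    have hxW : x ∈ W := map_subtype_le _ hx.1
    have hxt : x ∈ centralizer ({t} : Set G) := h.normalizer_eq M hC le_sup_left h.Z_ne ▸ hx.2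
    obtain ⟨k, hk⟩ := hRp ⟨x, hx.1⟩
    exact hrB x (hCt x hxW (mem_centralizer_singleton_iff.1 hxt).symm)
      ⟨k, congrArg Subtype.val hk⟩
  -- fixed elements of `r`-power order of `a` and `t * a` are trivial
  have hrv : ∀ x ∈ W, t * x * t = x⁻¹ → a * x * a ∈ zpowers x → (∃ k : ℕ, x ^ r ^ k = 1) → x = 1 := by
    intro x hx htx hax hxr
    obtain ⟨k, hk⟩ := hxr
    have hn : ∀ {s : G}, s * s = 1 → s * x * s ∈ zpowers x → s ∈ normalizer (zpowers x : Set G) :=
      fun {s} hs hsx => mem_normalizer_of_involution hs fun n hn => by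
        obtain ⟨i, rfl⟩ := mem_zpowers_iff.1 hn
        have e : s * x ^ i * s = (s * x * s) ^ i := by
          rw [show s * x * s = s * x * s⁻¹ by rw [inv_eq_of_mul_eq_one_right hs], conj_zpow,
            inv_eq_of_mul_eq_one_right hs]
        rw [e]
        exact zpow_mem hsx i
    have hp : IsPGroup r (zpowers x) := by
      obtain ⟨i, -, hi⟩ := (Nat.dvd_prime_pow h.prime).1 (orderOf_dvd_of_pow_eq_one hk)
      exact IsPGroup.of_card (n := i) (by rw [Nat.card_zpowers, hi])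
    obtain ⟨U, hxU, hU⟩ := Coprime.exists_le_invariant_sylow hVW hcop hsolv (zpowers_le.2 hx) hp
      (S.le_normalizer_of (hn F.ht (htx ▸ inv_mem (mem_zpowers x))) (hn F.ha hax))
    obtain ⟨d, hd, he⟩ := Coprime.exists_centralizer_conj_sylow hVW hcop hsolv U R hU hR
    have hd1 : (d : G) = 1 := F.hfix d d.2 (mem_centralizer_iff.1 hd t S.t_mem)
      (mem_centralizer_iff.1 hd a S.a_mem)
    rw [show d = 1 from Subtype.ext hd1, one_smul] at he
    subst he
    have hxZ : x ∈ Z := hRZ ▸ hxU (mem_zpowers x)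
    have hxt : Commute t x := commute_of_mem_oddPart (h.P_le (h.Z_le hxZ))
    rw [hxt.eq, mul_assoc, F.ht, mul_one] at htx
    exact eq_one_of_eq_inv (odd_orderOf F.hodd hx) htx
  have hga : g * t * g⁻¹ = a := hg.1
  have hgb : g * g * t * (g * g)⁻¹ = t * a := by
    rw [show g * g * t * (g * g)⁻¹ = g * (g * t * g⁻¹) * g⁻¹ by group, hg.1, hg.2]
  have hα := h.card_fixed M hC F hWy hga hay fun x hx hax hxr => hrv x hx
    (F.swap.inverted hx hax) (by rw [(cj_eq_iff F.ha x).2 hax]; exact mem_zpowers x) hxr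
  have hβ := h.card_fixed M hC F hWy hgb hbay fun x hx hbx hxr => by
    have h1 : a * x * a = x⁻¹ := Four.inverted (t := t * a) F.rot.swap hx hbx
    refine hrv x hx ?_ (h1 ▸ inv_mem (mem_zpowers x)) hxr
    have h2 := (cj_eq_iff F.prod_sq x).2 hbx
    rw [F.cj_prod, h1, ← cj_inv F.ht, inv_eq_iff_eq_inv] at h2
    exact h2
  -- the number of Sylow subgroups
  set Wt := W ⊓ centralizer ({t} : Set G) with hWt
  set Wa := W ⊓ centralizer ({a} : Set G) with hWa
  set Wb := W ⊓ centralizer ({t * a} : Set G) with hWb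
  have hN : normalizer ((R : Subgroup W) : Set W) = Wt.subgroupOf W := by
    have e : (R : Subgroup W) = Z.subgroupOf W := by
      rw [← hRZ]; exact (comap_map_eq_self_of_injective W.subtype_injective _).symm
    rw [e, ← subgroupOf_normalizer_eq hZW, h.normalizer_eq M hC le_sup_left h.Z_ne, hWt,
      inf_subgroupOf_left]
  have hWdvd : Nat.card W ∣ Nat.card Wt * (Nat.card Wa * Nat.card Wb) := by
    refine (Nat.dvd_iff_prime_pow_dvd_dvd _ _).2 fun q k hq hqk => ?_
    haveI := Fact.mk hq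
    obtain ⟨T, hT⟩ := Coprime.exists_invariant_sylow hVW hcop hsolv q
    set T' := (T : Subgroup W).map W.subtype with hT'
    have hTW : T' ≤ W := map_subtype_le _
    have hTp : IsPGroup q T' := T.isPGroup'.map _
    have hcj : ∀ {s : G}, s ∈ four t a → ∀ w ∈ T', s * w * s ∈ T' := fun {s} hs w hw =>
      cj_mem (S.four_sq hs) (hT hs) hw
    have FT : Four T' t a := ⟨F.hodd.of_dvd_nat (card_dvd_of_le hTW), F.ht, F.ha, F.hta,
      hcj S.t_mem, hcj S.a_mem, fun w hw => F.hfix w (hTW hw)⟩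
    obtain ⟨i, hi⟩ := IsPGroup.iff_card.1 hTp
    obtain ⟨i₁, hi₁⟩ := IsPGroup.iff_card.1 (hTp.to_le (inf_le_left : T' ⊓ centralizer ({t} : Set G) ≤ T'))
    obtain ⟨i₂, hi₂⟩ := IsPGroup.iff_card.1 (hTp.to_le (inf_le_left : T' ⊓ centralizer ({a} : Set G) ≤ T'))
    obtain ⟨i₃, hi₃⟩ :=
      IsPGroup.iff_card.1 (hTp.to_le (inf_le_left : T' ⊓ centralizer ({t * a} : Set G) ≤ T'))
    have hsurj : Function.Surjective (fun p : ↥(T' ⊓ centralizer ({t} : Set G)) ×
        ↥(T' ⊓ centralizer ({a} : Set G)) × ↥(T' ⊓ centralizer ({t * a} : Set G)) =>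
        (⟨p.1 * p.2.1 * p.2.2, mul_mem (mul_mem p.1.2.1 p.2.1.2.1) p.2.2.2.1⟩ : T')) := by
      rintro ⟨w, hw⟩
      obtain ⟨x₁, x₂, x₃, h1, h2, h3, he⟩ := FT.product hw
      exact ⟨(⟨x₁, h1.1, mem_centralizer_singleton_iff.2 h1.2.symm.eq⟩,
        ⟨x₂, h2.1, mem_centralizer_singleton_iff.2 h2.2.symm.eq⟩,
        ⟨x₃, h3.1, mem_centralizer_singleton_iff.2 h3.2.symm.eq⟩), Subtype.ext he.symm⟩
    have hle := Nat.card_le_card_of_surjective _ hsurj
    rw [Nat.card_prod, Nat.card_prod, hi, hi₁, hi₂, hi₃, ← pow_add, ← pow_add,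
      Nat.pow_le_pow_iff_right hq.one_lt] at hle
    have hk : k ≤ i := by
      have := (hq.pow_dvd_iff_le_factorization Nat.card_pos.ne').1 hqk
      rw [hT', card_map_of_injective W.subtype_injective, T.card_eq_multiplicity] at hi
      rwa [← Nat.pow_right_injective hq.two_le hi]
    refine (pow_dvd_pow q (hk.trans hle)).trans ?_
    rw [pow_add, pow_add, ← hi₁, ← hi₂, ← hi₃]
    exact Nat.mul_dvd_mul (card_dvd_of_le (inf_le_inf_right _ hTW))
      (Nat.mul_dvd_mul (card_dvd_of_le (inf_le_inf_right _ hTW))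
        (card_dvd_of_le (inf_le_inf_right _ hTW)))
  have hmul := (Wt.subgroupOf W).card_mul_index
  rw [Nat.card_congr (subgroupOfEquivOfLe (inf_le_left : Wt ≤ W)).toEquiv] at hmul
  have hn : (Wt.subgroupOf W).index ∣ Nat.card Wa * Nat.card Wb :=
    Nat.dvd_of_mul_dvd_mul_left Nat.card_pos (hmul.symm ▸ hWdvd)
  have hmod : (Wt.subgroupOf W).index ≡ 1 [MOD r] := by
    have h' : Nat.card (Sylow r W) = (normalizer ((R : Subgroup W) : Set W)).index :=
      R.card_eq_index_normalizer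
    rw [← hN, ← h']; exact card_sylow_modEq_one r W
  have hpos : 0 < (Wt.subgroupOf W).index := Nat.pos_of_ne_zero fun e0 => by
    rw [e0, mul_zero] at hmul; exact Nat.card_pos.ne hmul
  obtain ⟨k, hk⟩ := (Nat.modEq_iff_dvd' hpos).1 hmod.symm
  obtain ⟨d₁, d₂, hd₁, hd₂, hd⟩ := dvd_mul.1 hn
  have hk0 : k = 0 := caseOne_arith h.five_le
    (h.prime.odd_of_ne_two fun e0 => by have := h.five_le; omega)
    (((odd_card_core _).of_dvd_nat (card_dvd_of_le h.E_le)).of_dvd_nat (Subgroup.index_dvd_card _))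
    h.E_dvd (hd₁.trans hα) (hd₂.trans hβ)
    (by rw [← hd, mul_comm k r]; omega)
  have h1 : (Wt.subgroupOf W).index = 1 := by rw [hk0, mul_zero] at hk; omega
  rw [index_eq_one, subgroupOf_eq_top] at h1
  exact h1.trans inf_le_right

/-- The centralisers of the elements inverted by `a` of `Z A E` lie in `C(t)`. -/
theorem CaseOne.centralizer_le (hg : ∃ g, Rot t a g) (h : CaseOne t a r P Z A E ρ) :
    ∀ y ∈ Z ⊔ A ⊔ E, y ≠ 1 → centralizer ({y} : Set G) ≤ centralizer ({t} : Set G) := by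
  intro y hy hy1
  obtain ⟨c, hc, u, hu, hyc⟩ := h.mem_B hy
  by_cases hu1 : u ∈ A
  · exact h.cent_ZA M hC (hyc ▸ mul_mem hc (mem_sup_right hu1)) hy1
  have S := M.setting
  have hyO : y ∈ oddPart t := hyc ▸ mul_mem (h.ZA_le hc) (h.E_le hu)
  have hty : Commute t y := commute_of_mem_oddPart hyO
  have hyodd := odd_orderOf (odd_card_core _) hyO
  have hyinv : a * y * a⁻¹ = y⁻¹ := h.inverted_B hy
  have hay : ¬ Commute a y := fun e => hy1 (eq_one_of_eq_inv hyodd (by
    rwa [e.eq, mul_inv_cancel_right] at hyinv))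
  have hbay : ¬ Commute (t * a) y := fun e => hay (by
    have := hty.mul_left e
    rwa [← mul_assoc, S.t_mul_self, one_mul] at this)
  set C := centralizer ({y} : Set G) with hCy
  have hVC : four t a ≤ normalizer (C : Set G) := by
    refine S.le_normalizer_of (mem_normalizer_of_involution S.t_mul_self fun n hn => ?_)
      (mem_normalizer_of_involution S.a_mul_self fun n hn => ?_)
    · exact mul_mem (mul_mem (mem_centralizer_singleton_iff.2 hty.eq) hn)
        (mem_centralizer_singleton_iff.2 hty.eq)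
    · refine mem_centralizer_singleton_iff.2 ?_
      have hn' : Commute n y⁻¹ := (show Commute n y from mem_centralizer_singleton_iff.1 hn).inv_right
      have e1 : y * a = a * y⁻¹ := by
        rw [← hyinv, S.a_inv, ← mul_assoc, ← mul_assoc, S.a_mul_self, one_mul]
      have e2 : a * y = y⁻¹ * a := by rw [← hyinv, inv_mul_cancel_right]
      calc a * n * a * y = a * n * (a * y) := by group
        _ = a * (n * y⁻¹) * a := by rw [e2]; group
        _ = a * (y⁻¹ * n) * a := by rw [hn'.eq]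
        _ = y * a * n * a := by rw [e1]; group
        _ = y * (a * n * a) := by group
  set H := C ⊔ four t a with hH
  have hmemH : ∀ x ∈ H, ∃ k ∈ C, ∃ v ∈ four t a, x = k * v := by
    intro x hx
    have : x ∈ (↑(C ⊔ four t a) : Set G) := hx
    rw [coe_mul_of_right_le_normalizer_left C (four t a) hVC] at this
    obtain ⟨p, hp, b, hb, rfl⟩ := this
    exact ⟨p, hp, b, hb, rfl⟩
  rcases S.type_or_rot (le_sup_right : four t a ≤ H) with ⟨htype, htype'⟩ | ⟨g', hg', hgt, -⟩
  swap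
  · exfalso
    obtain ⟨k, hk, v, hv, rfl⟩ := hmemH g' hg'
    rw [show k * v * t * (k * v)⁻¹ = k * (v * t * v⁻¹) * k⁻¹ by group,
      (S.four_comm hv S.t_mem).eq, mul_inv_cancel_right] at hgt
    refine hay ?_
    rw [← hgt]
    have hky : Commute k y := mem_centralizer_singleton_iff.1 hk
    exact (hky.mul_left hty).mul_left hky.inv_left
  set W := core H with hW
  have hWodd : Odd (Nat.card W) := odd_card_core H
  have hWy : ∀ w ∈ W, Commute w y := by
    intro w hw
    obtain ⟨k, hk, v, hv, rfl⟩ := hmemH w (core_le H hw)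
    have hky : Commute k y := mem_centralizer_singleton_iff.1 hk
    have hoff : ∀ {v' : G}, v' * y * v'⁻¹ = y⁻¹ → Odd (orderOf (k * v')) → False := by
      intro v' hv' hodd
      have e1 : k * v' * y * (k * v')⁻¹ = y⁻¹ := by
        rw [show k * v' * y * (k * v')⁻¹ = k * (v' * y * v'⁻¹) * k⁻¹ by group, hv',
          hky.inv_right.eq, mul_inv_cancel_right]
      have e2 : Commute ((k * v') ^ 2) y := by
        refine mul_inv_eq_iff_eq_mul.1 ?_
        rw [pow_two, show k * v' * (k * v') * y * (k * v' * (k * v'))⁻¹ =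
          k * v' * (k * v' * y * (k * v')⁻¹) * (k * v')⁻¹ by group, e1, ← conj_inv, e1, inv_inv]
      have e3 := commute_of_sq hodd e2
      rw [e3.eq, mul_inv_cancel_right] at e1
      exact hy1 (eq_one_of_eq_inv hyodd e1)
    rcases S.mem_four_iff.1 hv with rfl | rfl | rfl | rfl
    · rwa [mul_one]
    · exact hky.mul_left hty
    · exact absurd (odd_orderOf hWodd hw) (hoff hyinv)
    · refine absurd (odd_orderOf hWodd hw) (hoff ?_)
      rw [show t * a * y * (t * a)⁻¹ = t * (a * y * a⁻¹) * t⁻¹ by group, hyinv,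
        hty.inv_right.eq, mul_inv_cancel_right]
  have hVW : four t a ≤ normalizer (W : Set G) :=
    (le_sup_right.trans le_normalizer).trans (le_normalizer_core H)
  have hcentB : ∀ w ∈ W, Commute t w → w ∈ Z ⊔ A ⊔ E := fun w hw htw =>
    h.cent_B hc hu hu1 (S.mem_oddPart.2 ⟨odd_orderOf hWodd hw, htw⟩) (hyc ▸ hWy w hw)
  have hF : Four W t a := by
    refine ⟨hWodd, S.t_mul_self, S.a_mul_self, S.comm,
      fun w hw => cj_mem S.t_mul_self (hVW S.t_mem) hw,
      fun w hw => cj_mem S.a_mul_self (hVW S.a_mem) hw, fun w hw htw haw => ?_⟩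
    have e := h.inverted_B (hcentB w hw htw)
    rw [haw.eq, mul_inv_cancel_right] at e
    exact eq_one_of_eq_inv (odd_orderOf hWodd hw) e
  have hZW : Z ≤ W := fun z hz => htype' z
    (mem_sup_left (mem_centralizer_singleton_iff.2 (h.commute_ZA hyO (mem_sup_left hz)).eq))
    (odd_orderOf (odd_card_core _) (h.P_le (h.Z_le hz)))
  obtain ⟨g, hg⟩ := hg
  have hWt := h.four_le_centralizer M hC hg hF hZW hWy hay hbay hcentB
  intro x hx
  obtain ⟨k, hk, v, hv, rfl⟩ := htype x (mem_sup_left hx)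
  exact mul_mem (hWt hk) (S.four_le_centralizer S.t_mem hv)

end

end CfsgLib.GWKlein
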