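import Cfsg.Agent.Lib.GWKlein.Statement

/-!
# Gorenstein–Walter, the last configuration: the data

`O = oddPart t` is `P E` with `P = r^(1+2) * Z`, `Z A` cyclic, central in `O` and inverted by
`a`, `E ≥ A` inverted by `a` and fixed-point-free modulo `A` on `P / Z` (`E` need not split over `A`), and `O ∩ C(a) = ⟨ρ⟩` of order `r`.
-/

set_option autoImplicit false
set_option linter.unusedSectionVars false

universe u

namespace CfsgLib.GWKlein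

open Subgroup

variable {G : Type u} [Group G]

/-- The configuration left by the local analysis. -/
structure CaseOne (t a : G) (r : ℕ) (P Z A E : Subgroup G) (ρ : G) : Prop where
  prime : r.Prime
  five_le : 5 ≤ r
  P_le : P ≤ oddPart t
  pgroup : IsPGroup r ↥P
  P_normal : oddPart t ≤ normalizer (P : Set G)
  a_norm : a ∈ normalizer (P : Set G)
  Z_le : Z ≤ P
  Z_ne : Z ≠ ⊥
  A_le : A ≤ oddPart t
  Z_central : oddPart t ≤ centralizer (Z : Set G)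
  A_central : oddPart t ≤ centralizer (A : Set G)
  ZA_inverted : ∀ y ∈ Z ⊔ A, a * y * a⁻¹ = y⁻¹
  ZA_cyclic : IsCyclic ↥(Z ⊔ A)
  A_coprime : ¬ r ∣ Nat.card ↥A
  card_P : Nat.card ↥P = r ^ 2 * Nat.card ↥Z
  centre : ∀ y ∈ P, (∀ w ∈ P, Commute y w) → y ∈ Z
  comm_mem : ∀ y ∈ P, ∀ w ∈ P, y * w * y⁻¹ * w⁻¹ ∈ Z ∧ (y * w * y⁻¹ * w⁻¹) ^ r = 1
  pow_mem : ∀ y ∈ P, y ^ r ∈ Z
  rho_mem : ρ ∈ P
  rho_order : orderOf ρ = r
  fixed : oddPart t ⊓ centralizer ({a} : Set G) = zpowers ρ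
  E_le : E ≤ oddPart t
  A_le_E : A ≤ E
  E_inverted : ∀ u ∈ E, a * u * a⁻¹ = u⁻¹
  one_lt : 1 < A.relIndex E
  E_dvd : A.relIndex E ∣ r - 1 ∨ A.relIndex E ∣ r + 1
  E_fpf : ∀ u ∈ E, u ∉ A → ∀ y ∈ P, Commute u y → y ∈ Z
  disjoint : E ⊓ (P ⊔ A) = A
  gen : oddPart t ≤ P ⊔ A ⊔ E

end CfsgLib.GWKlein
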