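import Cfsg.Agent.Lib.GWKlein.CaseOneEqual

/-!
# Gorenstein–Walter, the last configuration: the degree bound

A non-trivial `θ` of a row takes every character of `B = Z A E` non-trivial on `Z₁` `2 m` times,
`m` a fixed multiple of `r`, so `θ(1) ≥ 2 r e (r - 1)`.
-/

set_option autoImplicit false
set_option linter.unusedSectionVars false
set_option linter.style.haveILetI false

open scoped ComplexConjugate Classical

universe u

namespace CfsgLib.GWKlein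

open Subgroup

section

variable {G : Type u} [Group G] [Fintype G] {t a : G} {r : ℕ} {P Z A E : Subgroup G} {ρ : G}

/-- A multiplicity on `Z A` is the sum over the characters of `B` above. -/
theorem CaseOne.mult_ZA_eq_sum (h : CaseOne t a r P Z A E ρ) [Fintype (↥(Z ⊔ A ⊔ E) →* ℂˣ)]
    (χ : G → ℂ) (φ : ↥(Z ⊔ A ⊔ E) →* ℂˣ) :
    mult (Z ⊔ A) t χ (φ.comp (inclusion le_sup_left)) =
      ∑ ψ : ↥(Z ⊔ A ⊔ E) →* ℂˣ, if ψ.comp (inclusion le_sup_left) =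
        φ.comp (inclusion (le_sup_left : Z ⊔ A ≤ Z ⊔ A ⊔ E)) then mult (Z ⊔ A ⊔ E) t χ ψ else 0 := by
  have hK : ∀ x y : ↥(Z ⊔ A ⊔ E), x * y = y * x := fun x y =>
    Subtype.ext (h.commute_B x.2 y.2).eq
  have hexp : ∀ y : ↥(Z ⊔ A ⊔ E), (χ y + χ (t * y)) / 2 =
      ∑ ψ : ↥(Z ⊔ A ⊔ E) →* ℂˣ, mult (Z ⊔ A ⊔ E) t χ ψ * (ψ y : ℂ) := fun y => by
    rw [eq_sum_dual hK (fun y : ↥(Z ⊔ A ⊔ E) => (χ y + χ (t * y)) / 2) y]
    exact Finset.sum_congr rfl fun ψ _ => by rw [mult_eq_classInner]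
  rw [mult_eq_classInner, Cfsg.classInner, Finset.sum_congr rfl fun y : ↥(Z ⊔ A) => fun _ => by
    rw [show (χ y + χ (t * y)) / 2 = _ from hexp (inclusion le_sup_left y), Finset.sum_mul],
    Finset.sum_comm, Finset.mul_sum]
  refine Finset.sum_congr rfl fun ψ _ => ?_
  have hrw : ∀ y : ↥(Z ⊔ A), mult (Z ⊔ A ⊔ E) t χ ψ * (ψ (inclusion le_sup_left y) : ℂ) *
      conj ((φ.comp (inclusion (le_sup_left : Z ⊔ A ≤ Z ⊔ A ⊔ E))) y : ℂ) =
      mult (Z ⊔ A ⊔ E) t χ ψ *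
        (((ψ.comp (inclusion le_sup_left)) y : ℂ) *
          conj ((φ.comp (inclusion (le_sup_left : Z ⊔ A ≤ Z ⊔ A ⊔ E))) y : ℂ)) := fun y => by
    simp only [MonoidHom.comp_apply]; ring
  rw [Finset.sum_congr rfl fun y _ => hrw y, ← Finset.mul_sum, sum_hom_mul_conj]
  split_ifs with hψ
  · rw [mul_left_comm, inv_mul_cancel₀ (Char.card_ne_zero (G := ↥(Z ⊔ A))), mul_one]
  · rw [mul_zero, mul_zero]

end

section

variable {G : Type u} [Group G] [Finite G] {t a : G} {r : ℕ} {P Z A E : Subgroup G} {ρ : G}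

/-- **The degree bound.** -/
theorem CaseOne.degree_ge [Fintype G] (M : Minimal G t a)
    (hC : IsCoatom (centralizer ({t} : Set G)))
    (hg : ∃ g, Rot t a g) (h : CaseOne t a r P Z A E ρ) {μ : G → ℂ}
    (hμT : ∀ y ∈ Z ⊔ A, μ y = μ 1)
    (hμB : ∀ φ : ↥(Z ⊔ A ⊔ E) →* ℂˣ, (∃ y : ↥(Z ⊔ A ⊔ E), (y : G) ∈ Z ∧ φ y ≠ 1) →
      ∑ y : ↥(Z ⊔ A ⊔ E), μ y * conj (φ y : ℂ) = 0)
    {θ : Fin 4 → Cfsg.IrrCharacter G} {ε : Fin 4 → ℤ} (R : Row t μ θ ε) (i : Fin 4)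
    (hi : (θ i : G → ℂ) ≠ fun _ => 1) :
    2 * (r * A.relIndex E * (r - 1)) ≤ Cfsg.charDegree (θ i : G → ℂ) := by
  haveI : Finite (↥(Z ⊔ A ⊔ E) →* ℂˣ) := finite_dual
  letI := Fintype.ofFinite (↥(Z ⊔ A ⊔ E) →* ℂˣ)
  have S := M.setting
  haveI := M.simple
  haveI := Fact.mk h.prime
  have h5 := h.five_le
  obtain ⟨p, hp, q, hq, hz, hz1, hzr⟩ := h.exists_commutator
  set z0 : ↥(Z ⊔ A ⊔ E) := ⟨p * q * p⁻¹ * q⁻¹, mem_sup_left (mem_sup_left hz)⟩ with hz0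
  obtain ⟨σ, c, hσ, hc⟩ := h.exists_sigma
  set χ : G → ℂ := (θ i : G → ℂ) with hχdef
  have hχ : Cfsg.IsCharacter G χ := Char.IsIrrCharacter.isCharacter (θ i).2
  have hK : ∀ x y : ↥(Z ⊔ A ⊔ E), x * y = y * x := fun x y =>
    Subtype.ext (h.commute_B x.2 y.2).eq
  have hord : ∀ φ : ↥(Z ⊔ A ⊔ E) →* ℂˣ, φ z0 ≠ 1 → orderOf (φ z0) = r := fun φ hφ =>
    orderOf_eq_prime (by rw [← map_pow, show z0 ^ r = 1 from Subtype.ext hzr, map_one]) hφ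
  have hsq : ∀ φ : ↥(Z ⊔ A ⊔ E) →* ℂˣ, φ z0 ≠ 1 → (φ ^ 2) z0 ≠ 1 ∧
      φ z0 ≠ (φ ^ 2) z0 ∧ φ z0 ≠ ((φ ^ 2) z0)⁻¹ := by
    intro φ hφ
    have ho := hord φ hφ
    refine ⟨fun e => ?_, fun e => hφ ?_, fun e => ?_⟩
    · have := Nat.le_of_dvd two_pos (ho ▸ orderOf_dvd_of_pow_eq_one
        (show φ z0 ^ 2 = 1 from e))
      omega
    · rw [show (φ ^ 2) z0 = φ z0 * φ z0 from pow_two _] at e
      exact mul_eq_left.1 e.symm
    · have := Nat.le_of_dvd three_pos (ho ▸ orderOf_dvd_of_pow_eq_one (show φ z0 ^ 3 = 1 by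
        rw [pow_succ']; nth_rewrite 1 [e]; exact inv_mul_cancel _))
      omega
  choose m hm using fun φ : ↥(Z ⊔ A ⊔ E) →* ℂˣ =>
    exists_mult hχ S.t_mul_self (Z ⊔ A ⊔ E) (fun y hy => h.commute_t hy) φ
  -- equality on a fibre
  have hfib : ∀ φ ψ : ↥(Z ⊔ A ⊔ E) →* ℂˣ, φ z0 ≠ 1 → ψ.comp (inclusion le_sup_left) =
      φ.comp (inclusion (le_sup_left : Z ⊔ A ≤ Z ⊔ A ⊔ E)) → m ψ = m φ := by
    intro φ ψ hφ e
    obtain ⟨h2, h2a, h2b⟩ := hsq φ hφ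
    have ez : ψ z0 = φ z0 := DFunLike.congr_fun e ⟨_, mem_sup_left hz⟩
    have r1 := h.mult_relation M hC hg hμT hμB R i hσ hc hp hq hz hzr φ (φ ^ 2) hφ h2 h2a h2b
    have r2 := h.mult_relation M hC hg hμT hμB R i hσ hc hp hq hz hzr ψ (φ ^ 2) (ez ▸ hφ) h2
      (ez ▸ h2a) (ez ▸ h2b)
    rw [e] at r2
    rw [← hχdef, (hm φ).1, (hm (φ ^ 2)).1] at r1
    rw [← hχdef, (hm ψ).1, (hm (φ ^ 2)).1] at r2
    have hσ0 : (σ : ℂ) ≠ 0 := by rcases hσ with rfl | rfl <;> norm_num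
    have h3 : ((m ψ : ℕ) : ℂ) = (m φ : ℕ) :=
      mul_left_cancel₀ hσ0 (by linear_combination r2 - r1)
    exact_mod_cast h3
  have hn : ∀ φ : ↥(Z ⊔ A ⊔ E) →* ℂˣ, φ z0 ≠ 1 →
      mult (Z ⊔ A) t χ (φ.comp (inclusion le_sup_left)) = ((A.relIndex E * m φ : ℕ) : ℂ) := by
    intro φ hφ
    rw [h.mult_ZA_eq_sum, ← Finset.sum_filter, Finset.sum_congr rfl fun ψ hψ =>
      show mult (Z ⊔ A ⊔ E) t χ ψ = (m φ : ℂ) by
        rw [(hm ψ).1, hfib φ ψ hφ (Finset.mem_filter.1 hψ).2],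
      Finset.sum_const, nsmul_eq_mul, ← Fintype.card_subtype, ← Nat.card_eq_fintype_card,
      h.card_fibre_ZA φ, Nat.cast_mul]
  have hpair : ∀ φ ψ : ↥(Z ⊔ A ⊔ E) →* ℂˣ, φ z0 ≠ 1 → ψ z0 ≠ 1 → φ z0 ≠ ψ z0 →
      φ z0 ≠ (ψ z0)⁻¹ → m φ = m ψ := by
    intro φ ψ hφ hψ e1 e2
    have r1 := h.mult_relation M hC hg hμT hμB R i hσ hc hp hq hz hzr φ ψ hφ hψ e1 e2
    rw [← hχdef, (hm φ).1, (hm ψ).1, hn φ hφ, hn ψ hψ] at r1
    have hcC : (1 : ℂ) - (σ : ℂ) * r = (c : ℂ) * (A.relIndex E : ℕ) := by exact_mod_cast hc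
    have hr0 : (r : ℂ) ≠ 0 := Nat.cast_ne_zero.2 h.prime.pos.ne'
    push_cast at r1
    field_simp at r1
    have h3 : ((m φ : ℕ) : ℂ) = (m ψ : ℕ) := by
      linear_combination r1 + ((m φ : ℕ) - (m ψ : ℕ) : ℂ) * hcC
    exact_mod_cast h3
  have hconst : ∀ φ ψ : ↥(Z ⊔ A ⊔ E) →* ℂˣ, φ z0 ≠ 1 → ψ z0 ≠ 1 → m φ = m ψ := by
    intro φ ψ hφ hψ
    by_cases e1 : φ z0 = ψ z0
    · obtain ⟨h2, h2a, h2b⟩ := hsq φ hφ
      rw [hpair φ (φ ^ 2) hφ h2 h2a h2b, hpair ψ (φ ^ 2) hψ h2 (e1 ▸ h2a) (e1 ▸ h2b)]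
    by_cases e2 : φ z0 = (ψ z0)⁻¹
    · obtain ⟨h2, h2a, h2b⟩ := hsq ψ hψ
      rw [hpair ψ (ψ ^ 2) hψ h2 h2a h2b, hpair φ (ψ ^ 2) hφ h2
        (fun e => h2b (inv_inj.1 (by rw [inv_inv, ← e, e2])))
        (fun e => h2a (inv_injective (e2.symm.trans e)))]
    exact hpair φ ψ hφ hψ e1 e2
  -- the multiplicities on `B`
  set Mf : (↥(Z ⊔ A ⊔ E) →* ℂˣ) → ℂ := fun φ =>
    Cfsg.classInner (fun y : ↥(Z ⊔ A ⊔ E) => χ y) (fun y : ↥(Z ⊔ A ⊔ E) => (φ y : ℂ)) with hMf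
  have hMnat : ∀ φ, ∃ k : ℕ, Mf φ = k := fun φ => Char.IsCharacter.classInner_nat
    (Char.IsCharacter.restrict hχ (Z ⊔ A ⊔ E)) (Char.isCharacter_hom φ)
  choose k hk using hMnat
  have htwo : ∀ φ : ↥(Z ⊔ A ⊔ E) →* ℂˣ, φ z0 ≠ 1 → k φ = 2 * m φ := by
    intro φ hφ
    have e : mult (Z ⊔ A ⊔ E) t χ φ = Mf φ / 2 := by
      simp only [mult, hMf, Cfsg.classInner, add_mul, Finset.sum_add_distrib]
      have h0 : ∑ y : ↥(Z ⊔ A ⊔ E), χ (t * y) * conj (φ y : ℂ) = 0 := by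
        simp only [hχdef, fun y : ↥(Z ⊔ A ⊔ E) => R.val i y (h.B_le y.2), mul_assoc, ← Finset.mul_sum]
        rw [hμB φ ⟨z0, hz, hφ⟩, mul_zero]
      rw [h0, add_zero, mul_inv]
      ring
    rw [(hm φ).1, hk] at e
    have h4 : ((k φ : ℕ) : ℂ) = ((2 * m φ : ℕ) : ℂ) := by
      push_cast
      linear_combination -2 * e
    exact_mod_cast h4
  have hexp : ∀ y : ↥(Z ⊔ A ⊔ E), χ y = ∑ φ : ↥(Z ⊔ A ⊔ E) →* ℂˣ, (k φ : ℂ) * (φ y : ℂ) :=
    fun y => by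
      rw [eq_sum_dual hK (fun y : ↥(Z ⊔ A ⊔ E) => χ y) y]
      exact Finset.sum_congr rfl fun φ _ => by rw [← hk]
  have hdeg : Cfsg.charDegree χ = ∑ φ : ↥(Z ⊔ A ⊔ E) →* ℂˣ, k φ := by
    have h1 := hexp 1
    simp only [map_one, Units.val_one, mul_one, OneMemClass.coe_one] at h1
    rw [hχdef, Blocks.irr_one_eq] at h1
    exact_mod_cast h1
  -- some multiplicity is non-zero
  obtain ⟨φ₀, hφ₀, hm₀⟩ : ∃ φ, φ z0 ≠ 1 ∧ m φ ≠ 0 := by
    by_contra hno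
    push Not at hno
    have hker : χ z0 = χ 1 := by
      have h1 := hexp 1
      rw [OneMemClass.coe_one] at h1
      rw [hexp, h1]
      refine Finset.sum_congr rfl fun φ _ => ?_
      by_cases hφ : φ z0 = 1
      · rw [hφ, map_one]
      · rw [htwo φ hφ, hno φ hφ]; simp
    haveI := Char.charKer_normal hχ
    rcases (inferInstance : (Char.charKer hχ).Normal).eq_bot_or_eq_top with e | e
    · have : (z0 : G) ∈ Char.charKer hχ := (Char.mem_charKer hχ).2 hker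
      rw [e, mem_bot] at this
      exact hz1 this
    · have hconst' : χ = fun _ => χ 1 := funext fun x =>
        (Char.mem_charKer hχ).1 (e ▸ mem_top x)
      have h1 := Char.classInner_irr (θ i).2 (Char.isIrrCharacter_one (G := G))
      rw [if_neg hi, ← hχdef, hconst', Char.classInner_fun_one_right, Finset.sum_const,
        Finset.card_univ, nsmul_eq_mul, ← Nat.card_eq_fintype_card,
        inv_mul_cancel_left₀ (Char.card_ne_zero (G := G))] at h1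
      exact Char.IsIrrCharacter.apply_one_ne_zero (θ i).2 h1
  have hrm : r ∣ m φ₀ := by
    obtain ⟨d, hd, hdvd⟩ := h.dvd_mult M hχ hp hq (mem_sup_left hz) hzr
      (φ₀.comp (inclusion le_sup_left)) hφ₀
    rw [hn φ₀ hφ₀] at hd
    rw [← show A.relIndex E * m φ₀ = d by exact_mod_cast hd] at hdvd
    exact h.coprime_r.dvd_of_dvd_mul_left hdvd
  have hm0 : r ≤ m φ₀ := Nat.le_of_dvd (Nat.pos_of_ne_zero hm₀) hrm
  -- the number of characters non-trivial on `Z₁`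
  set s : Finset (↥(Z ⊔ A ⊔ E) →* ℂˣ) := Finset.univ.filter fun φ => φ z0 ≠ 1 with hs
  have hordz : orderOf z0 = r := orderOf_eq_prime (Subtype.ext hzr)
    fun e => hz1 (congrArg Subtype.val e)
  have hidx : (zpowers z0).index * r = Nat.card ↥(Z ⊔ A ⊔ E) := by
    rw [← (zpowers z0).index_mul_card, Nat.card_zpowers, hordz]
  have htot : Fintype.card (↥(Z ⊔ A ⊔ E) →* ℂˣ) = Nat.card ↥(Z ⊔ A ⊔ E) := by
    rw [← Nat.card_eq_fintype_card, ← index_bot (G := ↥(Z ⊔ A ⊔ E)), ← card_fibre hK ⊥ 1]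
    exact (Nat.card_congr (Equiv.subtypeUnivEquiv fun ψ y hy => by
      rw [mem_bot.1 hy, map_one, map_one])).symm
  have htriv : (Finset.univ.filter fun φ : ↥(Z ⊔ A ⊔ E) →* ℂˣ => φ z0 = 1).card =
      (zpowers z0).index := by
    rw [← card_fibre hK (zpowers z0) 1, ← Fintype.card_subtype, ← Nat.card_eq_fintype_card]
    refine Nat.card_congr (Equiv.subtypeEquivRight fun φ => ?_)
    constructor
    · rintro e y hy
      obtain ⟨j, rfl⟩ := mem_zpowers_iff.1 hy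
      rw [map_zpow, e, one_zpow, MonoidHom.one_apply]
    · exact fun e => e z0 (mem_zpowers z0)
  have hscard : s.card + (zpowers z0).index = Nat.card ↥(Z ⊔ A ⊔ E) := by
    rw [← htriv, ← htot, hs, add_comm, Finset.card_filter_add_card_filter_not, Finset.card_univ]
  have hge : A.relIndex E ≤ (zpowers z0).index := by
    refine Nat.le_of_mul_le_mul_right ?_ h.prime.pos
    rw [hidx, h.card_B, mul_comm (A.relIndex E)]
    exact Nat.mul_le_mul_right _ h.card_ZA_le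
  have hs_ge : A.relIndex E * (r - 1) ≤ s.card := by
    refine le_trans (Nat.mul_le_mul_right _ hge) ?_
    rw [Nat.mul_sub, mul_one, hidx]
    omega
  calc 2 * (r * A.relIndex E * (r - 1)) = A.relIndex E * (r - 1) * (2 * r) := by ring
    _ ≤ s.card * (2 * m φ₀) := Nat.mul_le_mul hs_ge (by omega)
    _ = ∑ φ ∈ s, k φ := by
      rw [Finset.sum_congr rfl fun φ hφ => show k φ = 2 * m φ₀ by
        rw [htwo φ (Finset.mem_filter.1 hφ).2, hconst φ φ₀ (Finset.mem_filter.1 hφ).2 hφ₀],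
        Finset.sum_const, smul_eq_mul]
    _ ≤ ∑ φ : ↥(Z ⊔ A ⊔ E) →* ℂˣ, k φ :=
      Finset.sum_le_sum_of_subset (Finset.filter_subset _ _)
    _ = _ := hdeg.symm

end

end CfsgLib.GWKlein
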