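import Cfsg.Agent.Lib.GWKlein.Section
import Cfsg.Agent.Lib.Blocks.FourGroupOrder

/-!
# Klein four Sylow subgroup: the weighted count of pairs of involutions

The coefficients of `lift ν` on the irreducible characters: an invariant `ν` gives four with
coefficient `± 1`, a moved one two.  Counting the pairs of involutions with product `t * y`, weighted
by the conjugate of `μ(y)`, gives
`|G| |D|² ∑ c(χ) χ(t)² / χ(1) = 32 |O|² twist μ`.
-/

set_option autoImplicit false
set_option linter.unusedSectionVars false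
set_option linter.style.haveILetI false

universe u

namespace CfsgLib.GWKlein

open Subgroup Cfsg BrauerSuzuki
open scoped Classical ComplexConjugate

variable {G : Type u} [Group G] {t a : G}

namespace Setting

variable (S : Setting G t a)
include S

section Finite

variable [Finite G]

/-- With a rotation all involutions are conjugate. -/
theorem isConj_of_rot {g : G} (hg : Rot t a g) {s : G} (hs : orderOf s = 2) : IsConj t s := by
  haveI : Fact (Nat.Prime 2) := ⟨Nat.prime_two⟩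
  letI := Fintype.ofFinite G
  obtain ⟨P, hP⟩ := S.exists_sylow
  obtain ⟨x, hx⟩ := Blocks.TIAbelian.exists_conj_mem_sylow_p P (R := Subgroup.zpowers s)
    (IsPGroup.of_card (n := 1) (by rw [Nat.card_zpowers, hs, pow_one]))
  have hv := hx s (mem_zpowers s)
  rw [hP] at hv
  have h1 : IsConj s (x * s * x⁻¹) := isConj_iff.2 ⟨x, rfl⟩
  refine IsConj.trans ?_ h1.symm
  rcases S.mem_four_iff.1 hv with e | e | e | e
  · have h2 : s = 1 := conj_eq_one_iff.1 e
    rw [h2, orderOf_one] at hs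
    omega
  · rw [e]
  · rw [e]; exact isConj_iff.2 ⟨g, hg.1⟩
  · rw [e]; exact (isConj_iff.2 ⟨g, hg.1⟩).trans (isConj_iff.2 ⟨g, hg.2⟩)

theorem card_fixed :
    Nat.card ↥(oddPart t ⊓ centralizer ({a} : Set G)) =
      Nat.card {d : oddPart t // a * (d : G) * a⁻¹ = d} :=
  Nat.card_congr
    { toFun := fun d => ⟨⟨d, d.2.1⟩, by
        show a * (d : G) * a⁻¹ = d
        rw [← mem_centralizer_singleton_iff.1 d.2.2, mul_inv_cancel_right]⟩
      invFun := fun d => ⟨(d : oddPart t), d.1.2,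
        mem_centralizer_singleton_iff.2 (mul_inv_eq_iff_eq_mul.1 d.2).symm⟩
      left_inv := fun _ => rfl
      right_inv := fun _ => rfl }

end Finite

variable [Fintype G]

theorem cast_coeff_lift {ν : oddPart t → ℂ} (hν : IsCharacter (oddPart t) ν)
    (χ : IrrCharacter G) : (coeff (S.lift ν) χ : ℂ) = sect t (χ : G → ℂ) ν := by
  obtain ⟨n, hn⟩ := S.exists_sect_eq_intCast hν χ
  rw [cast_coeff (S.isGeneralizedCharacter_lift hν), hn, ← Char.classInner_conj_symm,
    S.classInner_lift (Char.IsIrrCharacter.isClassFunction χ.2) ν, hn, map_intCast]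

theorem sum_coeff_mul {μ ν : oddPart t → ℂ} (hμ : IsIrrCharacter (oddPart t) μ)
    (hν : IsIrrCharacter (oddPart t) ν) :
    ∑ χ : IrrCharacter G, coeff (S.lift μ) χ * coeff (S.lift ν) χ =
      2 * ((if μ = ν then 1 else 0) + if μ = (fun y => ν (S.aConj y)) then 1 else 0) := by
  have h := classInner_eq_sum_coeff
    (S.isGeneralizedCharacter_lift (Char.IsIrrCharacter.isCharacter hμ))
    (S.isGeneralizedCharacter_lift (Char.IsIrrCharacter.isCharacter hν))
  have hν' : IsIrrCharacter (oddPart t) (fun y => ν (S.aConj y)) :=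
    Char.IsIrrCharacter.comp_surjective hν S.aConj.toMonoidHom S.aConj.surjective
  rw [S.classInner_lift_lift (Char.IsIrrCharacter.isClassFunction hν), Char.classInner_irr hμ hν,
    Char.classInner_irr hμ hν'] at h
  exact_mod_cast h.symm

/-- An invariant character gives norm four. -/
theorem sum_coeff_sq {μ : oddPart t → ℂ} (hμ : IsIrrCharacter (oddPart t) μ)
    (ha : ∀ y, μ (S.aConj y) = μ y) :
    ∑ χ : IrrCharacter G, coeff (S.lift μ) χ ^ 2 = 4 := by
  rw [Finset.sum_congr rfl fun χ _ => sq (coeff (S.lift μ) χ), S.sum_coeff_mul hμ hμ, if_pos rfl,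
    if_pos (funext fun y => (ha y).symm)]
  norm_num

/-- A moved character gives norm two. -/
theorem sum_coeff_sq_moved {μ : oddPart t → ℂ} (hμ : IsIrrCharacter (oddPart t) μ)
    (ha : ¬ ∀ y, μ (S.aConj y) = μ y) :
    ∑ χ : IrrCharacter G, coeff (S.lift μ) χ ^ 2 = 2 := by
  rw [Finset.sum_congr rfl fun χ _ => sq (coeff (S.lift μ) χ), S.sum_coeff_mul hμ hμ, if_pos rfl,
    if_neg fun e => ha fun y => (congrFun e y).symm]
  norm_num

theorem sum_coeff_apply {μ : oddPart t → ℂ} (hμ : IsCharacter (oddPart t) μ) (x : G) :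
    ∑ χ : IrrCharacter G, (coeff (S.lift μ) χ : ℂ) * (χ : G → ℂ) x = S.lift μ x :=
  (eq_sum_coeff (S.isGeneralizedCharacter_lift hμ) x).symm

theorem sum_coeff_degree {μ : oddPart t → ℂ} (hμ : IsCharacter (oddPart t) μ) :
    ∑ χ : IrrCharacter G, (coeff (S.lift μ) χ : ℂ) * (χ : G → ℂ) 1 = 0 := by
  rw [S.sum_coeff_apply hμ, S.lift_one]

/-- The coefficients of an irreducible character are `0` or `± 1`. -/
theorem abs_coeff_le_one {μ : oddPart t → ℂ} (hμ : IsIrrCharacter (oddPart t) μ)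
    (χ : IrrCharacter G) : |coeff (S.lift μ) χ| ≤ 1 := by
  by_contra hlt
  have h4 : ∑ ψ : IrrCharacter G, coeff (S.lift μ) ψ ^ 2 ≤ 4 := by
    by_cases ha : ∀ y, μ (S.aConj y) = μ y
    · exact (S.sum_coeff_sq hμ ha).le
    · rw [S.sum_coeff_sq_moved hμ ha]; norm_num
  have hχ : 4 ≤ coeff (S.lift μ) χ ^ 2 := by
    rw [← sq_abs]
    nlinarith
  have hzero : ∀ ψ, ψ ≠ χ → coeff (S.lift μ) ψ = 0 := by
    intro ψ hψ
    by_contra h0
    have h1 := Finset.sum_le_sum_of_subset_of_nonneg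
      (Finset.subset_univ ({ψ, χ} : Finset (IrrCharacter G)))
      (fun x _ _ => sq_nonneg (coeff (S.lift μ) x))
    rw [Finset.sum_pair hψ] at h1
    have : 0 < coeff (S.lift μ) ψ ^ 2 := by positivity
    omega
  have h := S.sum_coeff_degree (Char.IsIrrCharacter.isCharacter hμ)
  rw [Finset.sum_eq_single χ (fun ψ _ hψ => by simp [hzero ψ hψ])
    (fun hn => absurd (Finset.mem_univ _) hn)] at h
  rcases mul_eq_zero.1 h with h0 | h0
  · have : coeff (S.lift μ) χ = 0 := by exact_mod_cast h0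
    simp [this] at hlt
  · exact Char.IsIrrCharacter.apply_one_ne_zero χ.2 h0

theorem coeff_eq_one_or {μ : oddPart t → ℂ} (hμ : IsIrrCharacter (oddPart t) μ)
    {χ : IrrCharacter G} (h : coeff (S.lift μ) χ ≠ 0) :
    coeff (S.lift μ) χ = 1 ∨ coeff (S.lift μ) χ = -1 := by
  have h1 := abs_le.1 (S.abs_coeff_le_one hμ χ)
  omega

/-- An invariant character has exactly four constituents. -/
theorem card_constituents {μ : oddPart t → ℂ} (hμ : IsIrrCharacter (oddPart t) μ)
    (ha : ∀ y, μ (S.aConj y) = μ y) :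
    (Finset.univ.filter fun χ : IrrCharacter G => coeff (S.lift μ) χ ≠ 0).card = 4 := by
  have h := S.sum_coeff_sq hμ ha
  rw [← Finset.sum_filter_of_ne (p := fun χ => coeff (S.lift μ) χ ≠ 0) (fun χ _ hne h0 => hne (by
    rw [h0, sq, mul_zero])), Finset.sum_congr rfl (g := fun _ => (1 : ℤ)) (fun χ hχ => by
      rcases S.coeff_eq_one_or hμ (Finset.mem_filter.1 hχ).2 with e | e <;> rw [e] <;> norm_num),
    Finset.sum_const, nsmul_eq_mul, mul_one] at h
  exact_mod_cast h

theorem classInd_eq {g : G} (hg : Rot t a g) (x : G) :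
    Blocks.classInd t x = if orderOf x = 2 then 1 else 0 := by
  by_cases hx : orderOf x = 2
  · rw [if_pos hx, Blocks.classInd, if_pos (S.isConj_of_rot hg hx)]
  · rw [if_neg hx, Blocks.classInd, if_neg fun h => hx ?_]
    obtain ⟨c, rfl⟩ := isConj_iff.1 h
    rw [BrauerSuzuki.orderOf_conj', S.t2]

theorem orderOf_two_iff {x : G} (h1 : x ≠ 1) : orderOf x = 2 ↔ x * x = 1 :=
  ⟨fun h => BrauerSuzuki.mul_self_of_orderOf_two h,
    fun h => orderOf_eq_prime (by rw [pow_two]; exact h) h1⟩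

theorem pair_eq {g : G} (hg : Rot t a g) {v : G} (hv : v = a ∨ v = t * a) (z y : oddPart t) :
    Blocks.classInd t (v * z) * Blocks.classInd t ((v * z)⁻¹ * (t * (y : G))⁻¹) =
      if a * (z : G) * a⁻¹ = (z : G)⁻¹ ∧ a * z * (y : G) * (a * z)⁻¹ = (y : G)⁻¹ then 1 else 0 := by
  have hvV : v ∈ four t a := by rcases hv with rfl | rfl; exacts [S.a_mem, S.ta_mem]
  have hv1 : v ≠ 1 := by rcases hv with rfl | rfl; exacts [S.a_ne_one, S.ta_ne_one]
  have hvt : v ≠ t := by
    rcases hv with rfl | rfl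
    · exact S.ne.symm
    · exact fun e => S.a_ne_one (mul_left_cancel (e.trans (mul_one t).symm))
  have hvi : v⁻¹ = v := inv_eq_of_mul_eq_one_right (S.four_sq hvV)
  have hvc : ∀ w ∈ oddPart t, v * w * v⁻¹ = a * w * a⁻¹ := by
    intro w hw
    rcases hv with rfl | rfl
    · rfl
    · rw [show t * a * w * (t * a)⁻¹ = t * (a * w * a⁻¹) * t⁻¹ by group,
        (commute_of_mem_oddPart (S.a_conj_mem hw)).eq, mul_inv_cancel_right]
  set x := v * (z : G) with hxdef
  have hx1 : x ≠ 1 := fun e => hv1 (S.eq_one_of_mem_four hvV (by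
    rw [eq_inv_of_mul_eq_one_left e]; exact inv_mem z.2))
  have hA : orderOf x = 2 ↔ a * (z : G) * a⁻¹ = (z : G)⁻¹ := by
    rw [S.orderOf_two_iff hx1, ← hvc z z.2, hvi,
      show x * x = v * z * v * z by rw [hxdef]; simp [mul_assoc], mul_eq_one_iff_eq_inv]
  rw [S.classInd_eq hg, S.classInd_eq hg]
  by_cases hAx : orderOf x = 2
  swap
  · rw [if_neg hAx, zero_mul, if_neg fun h => hAx (hA.2 h.1)]
  rw [if_pos hAx, one_mul, BrauerSuzuki.inv_eq_of_orderOf_two hAx]
  have hxt : Commute t x :=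
    (S.four_comm S.t_mem hvV).mul_right (commute_of_mem_oddPart z.2)
  have hyt : Commute t (x * (y : G)⁻¹) :=
    hxt.mul_right (commute_of_mem_oddPart y.2).inv_right
  have hw : x * (t * (y : G))⁻¹ = t * (x * (y : G)⁻¹) := by
    rw [mul_inv_rev, S.t_inv, ← mul_assoc, hyt.eq]
  have hw1 : t * (x * (y : G)⁻¹) ≠ 1 := by
    intro e
    have e1 : v * (z : G) = t * y := by
      rw [← hxdef, ← mul_inv_eq_iff_eq_mul, eq_inv_of_mul_eq_one_right e, S.t_inv]
    exact hvt (S.four_mul_inj hvV S.t_mem z.2 y.2 e1).1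
  have hB : orderOf (t * (x * (y : G)⁻¹)) = 2 ↔
      a * z * (y : G) * (a * z)⁻¹ = (y : G)⁻¹ := by
    have e2 : x * (y : G) * x⁻¹ = a * z * (y : G) * (a * z)⁻¹ := by
      have hm : (z : G) * y * (z : G)⁻¹ ∈ oddPart t := mul_mem (mul_mem z.2 y.2) (inv_mem z.2)
      calc x * (y : G) * x⁻¹ = v * ((z : G) * y * (z : G)⁻¹) * v⁻¹ := by rw [hxdef]; group
        _ = a * ((z : G) * y * (z : G)⁻¹) * a⁻¹ := hvc _ hm
        _ = a * z * (y : G) * (a * z)⁻¹ := by group
    rw [S.orderOf_two_iff hw1, hyt.symm.mul_mul_mul_comm, S.t_mul_self, one_mul, ← e2,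
      BrauerSuzuki.inv_eq_of_orderOf_two hAx, mul_eq_one_iff_eq_inv, mul_inv_rev, inv_inv,
      BrauerSuzuki.inv_eq_of_orderOf_two hAx]
    have hxx := BrauerSuzuki.mul_self_of_orderOf_two hAx
    constructor
    · intro h
      rw [mul_assoc, ← h, ← mul_assoc, hxx, one_mul]
    · intro h
      calc x * (y : G)⁻¹ = x * (x * (y : G) * x) := by rw [h]
        _ = x * x * ((y : G) * x) := by group
        _ = (y : G) * x := by rw [hxx, one_mul]
  rw [hw]
  by_cases hB' : orderOf (t * (x * (y : G)⁻¹)) = 2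
  · rw [if_pos hB', if_pos ⟨hA.1 hAx, hB.1 hB'⟩]
  · rw [if_neg hB', if_neg fun h => hB' (hB.2 h.2)]

/-- The pairs of involutions with product `t * y`. -/
theorem sum_pair {g : G} (hg : Rot t a g) (y : oddPart t) :
    ∑ x : G, Blocks.classInd t x * Blocks.classInd t (x⁻¹ * (t * (y : G))⁻¹) =
      2 * ∑ z : oddPart t,
        if a * (z : G) * a⁻¹ = (z : G)⁻¹ ∧ a * z * (y : G) * (a * z)⁻¹ = (y : G)⁻¹
        then (1 : ℂ) else 0 := by
  rw [← Finset.sum_filter_of_ne (p := fun x => Commute x t), S.sum_centralizer, Finset.mul_sum]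
  · refine Finset.sum_congr rfl fun z _ => ?_
    have hodd : ∀ w ∈ oddPart t, orderOf w ≠ 2 := fun w hw h =>
      absurd (S.mem_oddPart.1 hw).1 (by rw [h]; decide)
    have h0 : Blocks.classInd t (z : G) = 0 := by
      rw [S.classInd_eq hg, if_neg (hodd _ z.2)]
    have h1 : Blocks.classInd t (t * (z : G)) *
        Blocks.classInd t ((t * (z : G))⁻¹ * (t * (y : G))⁻¹) = 0 := by
      rw [S.classInd_eq hg, S.classInd_eq hg]
      by_cases h : orderOf (t * (z : G)) = 2
      · refine mul_eq_zero_of_right _ (if_neg fun h' => ?_)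
        have hz1 : (z : G) * z = 1 := by
          have := BrauerSuzuki.mul_self_of_orderOf_two h
          rwa [(commute_of_mem_oddPart z.2).symm.mul_mul_mul_comm, S.t_mul_self, one_mul] at this
        have hz : (z : G) = 1 := by
          by_contra hne
          exact hodd _ z.2 ((S.orderOf_two_iff hne).2 hz1)
        rw [hz, mul_one, mul_inv_rev, ← mul_assoc, S.t_inv,
          ((commute_of_mem_oddPart y.2).inv_right).eq, mul_assoc, S.t_mul_self, mul_one] at h'
        exact hodd _ (inv_mem y.2) h'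
      · rw [if_neg h, zero_mul]
    rw [h0, h1, S.pair_eq hg (Or.inl rfl), S.pair_eq hg (Or.inr rfl)]
    ring
  · intro x _ hne
    rw [S.classInd_eq hg, S.classInd_eq hg] at hne
    obtain ⟨hx, hw⟩ := mul_ne_zero_iff.1 hne
    have hx' : orderOf x = 2 := by by_contra h; exact hx (if_neg h)
    have hw' : orderOf (x⁻¹ * (t * (y : G))⁻¹) = 2 := by by_contra h; exact hw (if_neg h)
    have hww := BrauerSuzuki.mul_self_of_orderOf_two hw'
    refine S.sect_ti y.2 (inv_mem y.2) ?_
    rw [show t * (y : G)⁻¹ = (t * y)⁻¹ by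
      rw [mul_inv_rev, S.t_inv, (commute_of_mem_oddPart y.2).inv_right.eq]]
    rw [BrauerSuzuki.inv_eq_of_orderOf_two hx'] at hww ⊢
    calc x * (t * y) * x = (x * (t * (y : G))⁻¹ * x)⁻¹ := by
          rw [mul_inv_rev, mul_inv_rev, inv_inv, BrauerSuzuki.inv_eq_of_orderOf_two hx', mul_assoc]
      _ = (t * (y : G))⁻¹ := by
          rw [inv_eq_iff_mul_eq_one]
          simpa [mul_assoc] using hww

/-- The sum of the values of `μ` at the commutators with `a`. -/
noncomputable def twist (μ : oddPart t → ℂ) : ℂ := ∑ w : oddPart t, μ (S.aConj w⁻¹ * w)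

/-- A sum over the inverted elements as a sum over the commutators with `a`. -/
theorem card_fixed_mul_sum (f : oddPart t → ℂ) :
    (Nat.card ↥(oddPart t ⊓ centralizer ({a} : Set G)) : ℂ) *
        (∑ z with S.aConj z = z⁻¹, f z) = ∑ w : oddPart t, f (S.aConj w⁻¹ * w) := by
  have hinv : ∀ w : oddPart t, S.aConj (S.aConj w⁻¹ * w) = (S.aConj w⁻¹ * w)⁻¹ := by
    intro w
    simp [S.aConj_aConj]
  rw [← Finset.sum_fiberwise_of_maps_to (s := Finset.univ)
    (t := Finset.univ.filter fun z : oddPart t => S.aConj z = z⁻¹)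
    (g := fun w => S.aConj w⁻¹ * w)
    (fun w _ => Finset.mem_filter.2 ⟨Finset.mem_univ _, hinv w⟩) (fun w => f (S.aConj w⁻¹ * w)),
    Finset.mul_sum]
  refine Finset.sum_congr rfl fun z hz => ?_
  have hzi := (Finset.mem_filter.1 hz).2
  rw [Finset.sum_congr rfl (g := fun _ => f z) (fun w hw => by rw [(Finset.mem_filter.1 hw).2]),
    Finset.sum_const, nsmul_eq_mul]
  congr 1
  rw [S.card_fixed]
  obtain ⟨k, hk⟩ := (S.mem_oddPart.1 z.2).1
  rw [Subgroup.orderOf_coe] at hk
  set u := z ^ (k + 1) with hu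
  have huu : u * u = z := by
    rw [hu, ← pow_add, show k + 1 + (k + 1) = 2 * k + 1 + 1 by omega, pow_succ, ← hk,
      pow_orderOf_eq_one, one_mul]
  have hua : S.aConj u = u⁻¹ := by rw [hu, map_pow, hzi, inv_pow]
  have hu0 : S.aConj u⁻¹ * u = z := by rw [map_inv, hua, inv_inv, huu]
  rw [Nat.card_eq_fintype_card, Fintype.card_subtype, eq_comm]
  norm_cast
  refine Finset.card_bij (fun w _ => w * u⁻¹) ?_ (fun _ _ _ _ h => mul_right_cancel h) ?_
  · intro w hw
    have h1 : S.aConj w⁻¹ * w = S.aConj u⁻¹ * u := (Finset.mem_filter.1 hw).2.trans hu0.symm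
    have h2 : S.aConj (w * u⁻¹) = w * u⁻¹ := by
      rw [map_mul, eq_mul_inv_iff_mul_eq, mul_assoc, ← h1, map_inv, mul_inv_cancel_left]
    refine Finset.mem_filter.2 ⟨Finset.mem_univ _, ?_⟩
    exact congrArg Subtype.val h2
  · intro d hd
    refine ⟨d * u, Finset.mem_filter.2 ⟨Finset.mem_univ _, ?_⟩, by simp⟩
    have hd' : S.aConj d = d := Subtype.ext (Finset.mem_filter.1 hd).2
    rw [mul_inv_rev, map_mul, map_inv, map_inv, hd', hua, inv_inv, mul_assoc, inv_mul_cancel_left,
      huu]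

theorem sum_inverted_conj {μ : oddPart t → ℂ} (hμ : IsCharacter (oddPart t) μ) :
    ∑ z with S.aConj z = z⁻¹, conj (μ z) = ∑ z with S.aConj z = z⁻¹, μ z := by
  refine Finset.sum_bij' (fun z _ => z⁻¹) (fun z _ => z⁻¹) ?_ ?_ (fun z _ => inv_inv z)
    (fun z _ => inv_inv z) (fun z _ => (Char.IsCharacter.apply_inv hμ z).symm)
  all_goals
    intro z hz
    refine Finset.mem_filter.2 ⟨Finset.mem_univ _, ?_⟩
    rw [map_inv, (Finset.mem_filter.1 hz).2]

/-- The weighted count. -/
theorem weighted_eq {g : G} (hg : Rot t a g) {μ : oddPart t → ℂ}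
    (hμ : IsCharacter (oddPart t) μ) :
    (Nat.card G : ℂ) * (Nat.card ↥(oddPart t ⊓ centralizer ({a} : Set G)) : ℂ) ^ 2 *
        ∑ χ : IrrCharacter G,
          (coeff (S.lift μ) χ : ℂ) * (χ : G → ℂ) t ^ 2 / (χ : G → ℂ) 1 =
      32 * (Nat.card (oddPart t) : ℂ) ^ 2 * S.twist μ := by
  haveI : Fact (Nat.Prime 2) := ⟨Nat.prime_two⟩
  set m : ℂ := (Nat.card (oddPart t) : ℂ) with hm
  set d : ℂ := (Nat.card ↥(oddPart t ⊓ centralizer ({a} : Set G)) : ℂ) with hd
  set J := ∑ z with S.aConj z = z⁻¹, μ z with hJ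
  have hm0 : m ≠ 0 := Nat.cast_ne_zero.2 Nat.card_pos.ne'
  have hT : d * J = S.twist μ := S.card_fixed_mul_sum μ
  have hinner : ∀ i : oddPart t, S.aConj i = i⁻¹ → ∀ w : oddPart t, i = S.aConj w⁻¹ * w →
      ∑ y : oddPart t, (if S.aConj (i * y * i⁻¹) = y⁻¹ then conj (μ y) else 0) = J := by
    intro i _ w hiw
    rw [hJ, ← S.sum_inverted_conj hμ, Finset.sum_filter]
    refine Fintype.sum_equiv (MulAut.conj w).toEquiv _ _ fun y => ?_
    have hcl := Char.IsCharacter.isClassFunction hμ y w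
    simp only [MulEquiv.toEquiv_eq_coe, EquivLike.coe_coe, MulAut.conj_apply]
    rw [hcl]
    refine if_congr ?_ rfl rfl
    rw [hiw]
    simp only [map_mul, map_inv, S.aConj_aConj, mul_inv_rev, inv_inv]
    constructor
    · intro h
      calc _ = w * (w⁻¹ * S.aConj w * S.aConj y * ((S.aConj w)⁻¹ * w)) * w⁻¹ := by group
        _ = w * y⁻¹ * w⁻¹ := by rw [h]
        _ = _ := by group
    · intro h
      calc _ = w⁻¹ * (S.aConj w * S.aConj y * (S.aConj w)⁻¹) * w := by group
        _ = w⁻¹ * (w * (y⁻¹ * w⁻¹)) * w := by rw [h]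
        _ = _ := by group
  have hcount : d * ∑ y : oddPart t, conj (μ y) *
      (∑ x : G, Blocks.classInd t x * Blocks.classInd t (x⁻¹ * (t * (y : G))⁻¹)) =
        2 * m * J := by
    have e1 : ∀ z y : oddPart t, (a * (z : G) * a⁻¹ = (z : G)⁻¹ ∧
        a * z * (y : G) * (a * z)⁻¹ = (y : G)⁻¹) ↔
        (S.aConj z = z⁻¹ ∧ S.aConj (z * y * z⁻¹) = y⁻¹) := by
      intro z y
      refine and_congr ?_ ?_ <;> rw [Subtype.ext_iff, coe_aConj] <;> simp [mul_assoc]
    simp only [S.sum_pair hg, e1, Finset.mul_sum]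
    rw [Finset.sum_comm]
    have h2 : ∀ z : oddPart t, ∑ y : oddPart t, d * (conj (μ y) * (2 *
        if S.aConj z = z⁻¹ ∧ S.aConj (z * y * z⁻¹) = y⁻¹ then (1 : ℂ) else 0)) =
        if S.aConj z = z⁻¹ then d * (2 * ∑ y : oddPart t,
          if S.aConj (z * y * z⁻¹) = y⁻¹ then conj (μ y) else 0) else 0 := by
      intro z
      by_cases hz : S.aConj z = z⁻¹
      · simp only [hz, true_and, if_true, Finset.mul_sum]
        exact Finset.sum_congr rfl fun y _ => by split_ifs <;> ring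
      · simp [hz]
    rw [Finset.sum_congr rfl fun z _ => h2 z, ← Finset.sum_filter, ← Finset.mul_sum,
      S.card_fixed_mul_sum, Finset.sum_congr rfl (g := fun _ => 2 * J) fun w _ => by
        rw [hinner _ (by simp [S.aConj_aConj]) w rfl],
      Finset.sum_const, Finset.card_univ, ← Nat.card_eq_fintype_card, nsmul_eq_mul, ← hm]
    ring
  have hsum : (Nat.card G : ℂ) * ∑ χ : IrrCharacter G,
      (coeff (S.lift μ) χ : ℂ) * (χ : G → ℂ) t ^ 2 / (χ : G → ℂ) 1 * m =
      (4 * m) ^ 2 * ∑ y : oddPart t, conj (μ y) *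
        (∑ x : G, Blocks.classInd t x * Blocks.classInd t (x⁻¹ * (t * (y : G))⁻¹)) := by
    have h4 : ((Nat.card (centralizer ({t} : Set G)) : ℕ) : ℂ) = 4 * m := by
      rw [S.card_centralizer]; push_cast; rfl
    have hz : ∀ y : oddPart t, (4 * m) ^ 2 * (conj (μ y) *
        (∑ x : G, Blocks.classInd t x * Blocks.classInd t (x⁻¹ * (t * (y : G))⁻¹))) =
        (Nat.card G : ℂ) * ∑ χ : IrrCharacter G, conj (μ y) *
          ((χ : G → ℂ) t ^ 2 * (χ : G → ℂ) (t * y) / (χ : G → ℂ) 1) := by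
      intro y
      have h := Blocks.FourGroup.sum_sq_mul_div_eq (G := G) t (t * (y : G))
      rw [h4] at h
      rw [← Finset.mul_sum, mul_left_comm, ← h]
      ring
    rw [Finset.mul_sum _ _ ((4 * m) ^ 2), Finset.sum_congr rfl fun y _ => hz y, ← Finset.mul_sum,
      Finset.sum_comm]
    congr 1
    refine Finset.sum_congr rfl fun χ _ => ?_
    rw [S.cast_coeff_lift hμ, sect, classInner, ← hm, Finset.mul_sum, Finset.sum_mul,
      Finset.sum_div, Finset.sum_mul]
    refine Finset.sum_congr rfl fun y _ => ?_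
    field_simp
  refine mul_right_cancel₀ hm0 ?_
  rw [← hT]
  rw [← Finset.sum_mul] at hsum
  calc _ = (Nat.card G : ℂ) * ((∑ χ : IrrCharacter G,
          (coeff (S.lift μ) χ : ℂ) * (χ : G → ℂ) t ^ 2 / (χ : G → ℂ) 1) * m) * d ^ 2 := by ring
    _ = (4 * m) ^ 2 * d * (d * ∑ y : oddPart t, conj (μ y) *
          (∑ x : G, Blocks.classInd t x * Blocks.classInd t (x⁻¹ * (t * (y : G))⁻¹))) := by
      rw [hsum]; ring
    _ = _ := by rw [hcount]; ring

/-- An invariant linear character is trivial on the commutators with `a`. -/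
theorem twist_of_linear {φ : oddPart t →* ℂˣ} (ha : ∀ y, φ (S.aConj y) = φ y) :
    S.twist (fun y => (φ y : ℂ)) = Nat.card (oddPart t) := by
  simp [twist, ha]

/-- With an extension to `C(t)`, given by its values: `twist μ = |O| χ(a)² / μ(1)`. -/
theorem twist_of_extension {μ : oddPart t → ℂ}
    (χe : IrrCharacter ↥(centralizer ({t} : Set G)))
    (hres : ∀ y : oddPart t, χe.1 ⟨y, oddPart_le t y.2⟩ = μ y) :
    S.twist μ = (Nat.card (oddPart t) : ℂ) *
      χe.1 ⟨a, mem_centralizer_singleton_iff.2 S.comm.symm.eq⟩ ^ 2 / μ 1 := by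
  set aC : ↥(centralizer ({t} : Set G)) := ⟨a, mem_centralizer_singleton_iff.2 S.comm.symm.eq⟩
    with haC
  have h := Blocks.sum_conj_mul χe aC aC
  have h1 : χe.1 1 = μ 1 := (hres 1).symm ▸ rfl
  rw [h1, S.card_centralizer] at h
  have h2 : ∑ x : ↥(centralizer ({t} : Set G)), χe.1 (aC * (x * aC * x⁻¹)) =
      4 * S.twist μ := by
    set F : G → ℂ := fun w => if hw : Commute w t then
      χe.1 (aC * ((⟨w, mem_centralizer_singleton_iff.2 hw.eq⟩ : ↥(centralizer ({t} : Set G))) * aC *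
        (⟨w, mem_centralizer_singleton_iff.2 hw.eq⟩ : ↥(centralizer ({t} : Set G)))⁻¹)) else 0 with hF
    rw [Finset.sum_congr rfl (g := fun x : ↥(centralizer ({t} : Set G)) => F x) (fun x _ => by
      rw [hF]; dsimp only; rw [dif_pos (show Commute (x : G) t from mem_centralizer_singleton_iff.1 x.2)]),
      ← Finset.sum_subtype (Finset.univ.filter fun x : G => Commute x t)
        (fun x => by simp [mem_centralizer_singleton_iff, commute_iff_eq]) F,
      S.sum_centralizer]
    have key : ∀ v ∈ four t a, ∀ y : oddPart t, F (v * y) = μ (S.aConj y * y⁻¹) := by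
      intro v hv y
      have hc : Commute (v * (y : G)) t :=
        (S.four_comm hv S.t_mem).mul_left (commute_of_mem_oddPart y.2).symm
      rw [hF]; dsimp only; rw [dif_pos hc, ← hres]
      have hvC : v ∈ centralizer ({t} : Set G) :=
        mem_centralizer_singleton_iff.2 (S.four_comm hv S.t_mem).eq
      refine (congrArg χe.1 (Subtype.ext ?_)).trans
        (Char.IsIrrCharacter.isClassFunction χe.2 _ (⟨v, hvC⟩ : ↥(centralizer ({t} : Set G))))
      show a * (v * y * a * (v * (y : G))⁻¹) = v * (a * y * a⁻¹ * (y : G)⁻¹) * v⁻¹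
      rw [S.a_inv, mul_inv_rev]
      calc a * (v * y * a * ((y : G)⁻¹ * v⁻¹)) = a * v * y * a * (y : G)⁻¹ * v⁻¹ := by group
        _ = v * a * y * a * (y : G)⁻¹ * v⁻¹ := by rw [(S.four_comm S.a_mem hv).eq]
        _ = _ := by group
    have hk1 : ∀ y : oddPart t, F y + F (t * y) + F (a * y) + F (t * a * y) =
        4 * μ (S.aConj y * y⁻¹) := by
      intro y
      have := key 1 (one_mem _) y
      rw [one_mul] at this
      rw [this, key t S.t_mem y, key a S.a_mem y, key (t * a) S.ta_mem y]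
      ring
    rw [Finset.sum_congr rfl fun y _ => hk1 y, ← Finset.mul_sum]
    congr 1
    exact Fintype.sum_equiv (Equiv.inv _) _ _ fun y => by simp
  rw [h2] at h
  have := mul_left_cancel₀ (show (4 : ℂ) ≠ 0 by norm_num)
    (h.trans (show _ = (4 : ℂ) * ((Nat.card (oddPart t) : ℂ) * χe.1 aC ^ 2 / μ 1) by
      push_cast; ring))
  exact this

end Setting

end CfsgLib.GWKlein
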