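import Cfsg.Agent.Lib.GWKlein.CaseOneValues
import Cfsg.Agent.Lib.GWKlein.Weighted
import Cfsg.Agent.Lib.Char.Induced
import Cfsg.Agent.Lib.Char.Linear

/-!
# Gorenstein–Walter, the last configuration: the character `μ`

A linear character `λ` of `N = P A`, trivial on `T = Z A`, invariant under `a` and non-trivial at
`ρ`, is fixed in `O = N E` by `N` only, as `u` induces a fixed-point-free map on `P / Z` for
`u ∈ E`, `u ∉ A`. So `μ = λ^O` is irreducible, `a`-invariant, constant on `T`, supported in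
`B = Z A E` on `T` only, and its sum over the commutators with `a` is `|N|`.
-/

set_option autoImplicit false
set_option linter.unusedSectionVars false
set_option linter.style.haveILetI false

open scoped ComplexConjugate Classical

universe u

namespace CfsgLib.GWKlein

open Subgroup Cfsg

section

variable {G : Type u} [Group G] [Finite G] {t a : G} {r : ℕ} {P Z A E : Subgroup G} {ρ : G}

theorem CaseOne.PA_le (h : CaseOne t a r P Z A E ρ) : P ⊔ A ≤ oddPart t :=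
  sup_le h.P_le h.A_le

theorem CaseOne.a_norm_PA (h : CaseOne t a r P Z A E ρ) :
    a ∈ normalizer ((P ⊔ A : Subgroup G) : Set G) := by
  refine mem_normalizer_iff_map_conj_eq.2 ?_
  rw [Subgroup.map_sup, mem_normalizer_iff_map_conj_eq.1 h.a_norm]
  congr 1
  refine eq_of_le_of_card_ge ?_ (card_map_of_injective (MulAut.conj a).injective).ge
  rintro _ ⟨b, hb, rfl⟩
  show a * b * a⁻¹ ∈ A
  rw [h.ZA_inverted b (mem_sup_right hb)]
  exact inv_mem hb

/-- An element of `E` whose square lies in `P A` lies there. -/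
theorem CaseOne.E_sq (h : CaseOne t a r P Z A E ρ) {u : G} (hu : u ∈ E)
    (h2 : u * u ∈ P ⊔ A) : u ∈ P ⊔ A := by
  obtain ⟨k, hk⟩ := odd_orderOf (odd_card_core _) (h.E_le hu)
  have h3 : (u * u) ^ (k + 1) = u := by
    rw [← sq, ← pow_mul, show 2 * (k + 1) = orderOf u + 1 by omega, pow_succ, pow_orderOf_eq_one,
      one_mul]
  exact h3 ▸ _root_.pow_mem h2 _

theorem CaseOne.exists_pow_mem (h : CaseOne t a r P Z A E ρ) {u : G} (hu : u ∈ E) :
    ∃ k : ℕ, u ^ k ∈ A ∧ Nat.Coprime r k := by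
  refine ⟨A.relIndex E, ?_, (Nat.Prime.coprime_iff_not_dvd h.prime).2 fun hd => ?_⟩
  · haveI : (A.subgroupOf E).Normal := ⟨fun c hc x => by
      rw [mem_subgroupOf] at hc ⊢
      push_cast
      rwa [← (h.commute_ZA (h.E_le x.2) (mem_sup_right hc)).eq, mul_inv_cancel_right]⟩
    exact mem_subgroupOf.1 ((A.subgroupOf E).pow_index_mem ⟨u, hu⟩)
  · have h5 := h.five_le
    rcases h.E_dvd with hd' | hd'
    · have := Nat.le_of_dvd (by omega) (hd.trans hd'); omega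
    · have h1 : r ∣ 1 := (Nat.dvd_add_right dvd_rfl).1 (hd.trans hd')
      rw [Nat.dvd_one] at h1; omega

theorem CaseOne.index_PA (h : CaseOne t a r P Z A E ρ) :
    ((P ⊔ A).subgroupOf (oddPart t)).index = A.relIndex E := by
  haveI : ((P ⊔ A).subgroupOf (oddPart t)).Normal := ⟨fun c hc x => by
    rw [mem_subgroupOf] at hc ⊢
    push_cast
    exact (mem_normalizer_iff.1 (h.PA_normal x.2) _).1 hc⟩
  have htop : E.subgroupOf (oddPart t) ⊔ (P ⊔ A).subgroupOf (oddPart t) = ⊤ := by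
    rw [← subgroupOf_sup h.E_le h.PA_le, subgroupOf_eq_top, sup_comm]
    exact h.gen
  rw [← relIndex_top_right, ← htop, relIndex_sup_right, relIndex_subgroupOf h.E_le,
    ← inf_relIndex_right, inf_comm, h.disjoint]

/-- Linear characters of `P` trivial on `Z` are moved by `E` outside `A`. -/
theorem CaseOne.fun_eq_one (h : CaseOne t a r P Z A E ρ) {u : G} (hu : u ∈ E)
    (huA : u ∉ P ⊔ A) {f : G → ℂ} (hmul : ∀ x ∈ P, ∀ y ∈ P, f (x * y) = f x * f y)
    (hZ : ∀ x ∈ Z, f x = 1) (hfix : ∀ x ∈ P, f (u * x * u⁻¹) = f x) : ∀ x ∈ P, f x = 1 := by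
  classical
  have huO := h.E_le hu
  have hZc : ∀ c ∈ Z, ∀ x ∈ oddPart t, Commute c x := fun c hc x hx =>
    h.commute_ZA hx (mem_sup_left hc)
  set ZP : Subgroup ↥P := Z.subgroupOf P with hZP
  haveI hn : ZP.Normal := ⟨fun c hc x => by
    rw [hZP, mem_subgroupOf] at hc ⊢
    push_cast
    rwa [← (hZc _ hc _ (h.P_le x.2)).eq, mul_inv_cancel_right]⟩
  let q : ↥P →* ↥P ⧸ ZP := QuotientGroup.mk' ZP
  have hq : ∀ x : ↥P, q x = 1 ↔ (x : G) ∈ Z := fun x =>
    (QuotientGroup.eq_one_iff x).trans mem_subgroupOf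
  have hcomm : ∀ x y : ↥P, q x * q y = q y * q x := fun x y => by
    have h1 : q (x * y * x⁻¹ * y⁻¹) = 1 := (hq _).2 (h.comm_mem x x.2 y y.2).1
    rw [map_mul, map_mul, map_mul, map_inv, map_inv, mul_inv_eq_one, mul_inv_eq_iff_eq_mul] at h1
    exact h1
  have hun : ∀ x : ↥P, u * (x : G) * u⁻¹ ∈ P := fun x =>
    (mem_normalizer_iff.1 (h.P_normal huO) _).1 x.2
  let α : ↥P → ↥P := fun x => ⟨u * (x : G) * u⁻¹, hun x⟩
  have hα : ∀ x y, α (x * y) = α x * α y := fun x y => Subtype.ext (by simp [α])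
  have hαi : ∀ x, α x⁻¹ = (α x)⁻¹ := fun x => Subtype.ext (by simp [α, mul_assoc])
  let F : ↥P ⧸ ZP → ↥P ⧸ ZP := fun z => q (α z.out) * (q z.out)⁻¹
  have hsurj : Function.Surjective F := by
    refine Finite.surjective_of_injective fun z w hzw => ?_
    have h1 : q (α z.out) * (q z.out)⁻¹ = q (α w.out) * (q w.out)⁻¹ := hzw
    set d : ↥P := w.out⁻¹ * z.out with hd
    have h2 : q (α d) = q d := by
      rw [hd, hα, hαi, map_mul, map_mul, map_inv, map_inv]
      have h3 : q (α z.out) = q (α w.out) * (q w.out)⁻¹ * q z.out := mul_inv_eq_iff_eq_mul.1 h1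
      rw [h3, mul_assoc, inv_mul_cancel_left]
    have hdZ : (d : G) ∈ Z := by
      have h3 : u * (d : G) * u⁻¹ * (d : G)⁻¹ ∈ Z := by
        have := (hq (α d * d⁻¹)).1 (by rw [map_mul, map_inv, h2, mul_inv_cancel])
        simpa [α] using this
      set c := u * (d : G) * u⁻¹ * (d : G)⁻¹ with hc
      have hcu : Commute c u := hZc c h3 u huO
      have hpow : ∀ k : ℕ, u ^ k * (d : G) * (u ^ k)⁻¹ = c ^ k * (d : G) := by
        intro k
        induction k with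
        | zero => simp
        | succ k ih =>
          rw [pow_succ', show u * u ^ k * (d : G) * (u * u ^ k)⁻¹ =
            u * (u ^ k * (d : G) * (u ^ k)⁻¹) * u⁻¹ by group, ih, pow_succ]
          calc u * (c ^ k * (d : G)) * u⁻¹ = u * c ^ k * u⁻¹ * (u * (d : G) * u⁻¹) := by group
            _ = c ^ k * (u * (d : G) * u⁻¹) := by
              rw [← (hcu.pow_left k).eq, mul_inv_cancel_right]
            _ = c ^ k * c * (d : G) := by rw [hc]; group
      obtain ⟨k, hk, hkr⟩ := h.exists_pow_mem hu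
      have hck : c ^ k = 1 := by
        have h4 := hpow k
        rwa [← (h.commute_ZA (h.P_le d.2) (mem_sup_right hk)).symm.eq, mul_inv_cancel_right,
          right_eq_mul] at h4
      have hc1 : c = 1 := by
        obtain ⟨i, hi⟩ := (h.pgroup.to_le h.Z_le) ⟨c, h3⟩
        have hi' : c ^ r ^ i = 1 := congrArg Subtype.val hi
        exact orderOf_eq_one_iff.1 (Nat.eq_one_of_dvd_coprimes (hkr.pow_left i)
          (orderOf_dvd_of_pow_eq_one hi') (orderOf_dvd_of_pow_eq_one hck))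
      refine h.E_fpf u hu (fun hA => huA (mem_sup_right hA)) d d.2 ?_
      exact mul_inv_eq_iff_eq_mul.1 (mul_inv_eq_one.1 (hc ▸ hc1))
    have h4 : q w.out = q z.out := by
      have := (hq d).2 hdZ
      rwa [hd, map_mul, map_inv, inv_mul_eq_one] at this
    have h5 : z = q z.out := z.out_eq.symm
    have h6 : w = q w.out := w.out_eq.symm
    rw [h5, h6, h4]
  intro x hx
  obtain ⟨z, hz⟩ := hsurj (q ⟨x, hx⟩)
  set y : ↥P := z.out
  have h1 : q (α y * y⁻¹) = q ⟨x, hx⟩ := by rw [map_mul, map_inv]; exact hz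
  have h2 : q ((α y * y⁻¹)⁻¹ * ⟨x, hx⟩) = 1 := by rw [map_mul, map_inv, h1, inv_mul_cancel]
  have h3 := hZ _ ((hq _).1 h2)
  have hy : f (u * (y : G) * u⁻¹ * (y : G)⁻¹) = 1 := by
    rw [hmul _ (hun y) _ (inv_mem y.2), hfix _ y.2, ← hmul _ y.2 _ (inv_mem y.2), mul_inv_cancel]
    exact hZ _ (one_mem Z)
  calc f x = f (u * (y : G) * u⁻¹ * (y : G)⁻¹ *
        (((α y * y⁻¹)⁻¹ * ⟨x, hx⟩ : ↥P) : G)) := by simp [α, mul_assoc]
    _ = 1 := by rw [hmul _ (mul_mem (hun y) (inv_mem y.2)) _ (SetLike.coe_mem _), hy, h3, mul_one]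

/-- A linear character of `P A`, trivial on `Z A`, invariant under `a`, non-trivial at `ρ`. -/
theorem CaseOne.exists_lambda (h : CaseOne t a r P Z A E ρ) (haa : a * a = 1) :
    ∃ ψ : ↥(P ⊔ A) →* ℂˣ, (∀ x : ↥(P ⊔ A), (x : G) ∈ Z ⊔ A → ψ x = 1) ∧
      (∀ x y : ↥(P ⊔ A), (y : G) = a * x * a⁻¹ → ψ y = ψ x) ∧
      ψ ⟨ρ, mem_sup_left h.rho_mem⟩ ≠ 1 := by
  classical
  set N : Subgroup G := P ⊔ A
  have hTc : ∀ c ∈ Z ⊔ A, ∀ x ∈ N, Commute c x := fun c hc x hx =>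
    h.commute_ZA (h.PA_le hx) hc
  set T : Subgroup ↥N := (Z ⊔ A).subgroupOf N with hT
  haveI hn : T.Normal := ⟨fun c hc x => by
    rw [hT, mem_subgroupOf] at hc ⊢
    push_cast
    rwa [← (hTc _ hc _ x.2).eq, mul_inv_cancel_right]⟩
  have hcm : ∀ x y : ↥N, x * y * x⁻¹ * y⁻¹ ∈ T := by
    intro x y
    rw [hT, mem_subgroupOf]
    push_cast
    obtain ⟨p, hp, b, hb, ex⟩ := h.mem_PA x.2
    obtain ⟨p', hp', b', hb', ey⟩ := h.mem_PA y.2
    rw [ex, ey]
    have hbp : ∀ w ∈ oddPart t, Commute b w := fun w hw => h.commute_ZA hw (mem_sup_right hb)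
    have hbp' : ∀ w ∈ oddPart t, Commute b' w := fun w hw => h.commute_ZA hw (mem_sup_right hb')
    have e : p * b * (p' * b') * (p * b)⁻¹ * (p' * b')⁻¹ = p * p' * p⁻¹ * p'⁻¹ := by
      calc p * b * (p' * b') * (p * b)⁻¹ * (p' * b')⁻¹
          = p * (b * (p' * b') * b⁻¹) * p⁻¹ * b'⁻¹ * p'⁻¹ := by group
        _ = p * (p' * b') * p⁻¹ * b'⁻¹ * p'⁻¹ := by
          rw [(hbp _ (mul_mem (h.P_le hp') (h.A_le hb'))).eq, mul_inv_cancel_right]
        _ = p * p' * (b' * p⁻¹ * b'⁻¹) * p'⁻¹ := by group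
        _ = p * p' * p⁻¹ * p'⁻¹ := by
          rw [(hbp' _ (inv_mem (h.P_le hp))).eq, mul_inv_cancel_right]
    rw [e]
    exact mem_sup_left (h.comm_mem p hp p' hp').1
  letI : CommGroup (↥N ⧸ T) :=
    { (inferInstance : Group (↥N ⧸ T)) with
      mul_comm := fun x y => QuotientGroup.induction_on x fun x => QuotientGroup.induction_on y
        fun y => by
          have h1 : ((x * y * x⁻¹ * y⁻¹ : ↥N) : ↥N ⧸ T) = 1 :=
            (QuotientGroup.eq_one_iff _).2 (hcm x y)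
          rw [QuotientGroup.mk_mul, QuotientGroup.mk_mul, QuotientGroup.mk_mul,
            QuotientGroup.mk_inv, QuotientGroup.mk_inv, mul_inv_eq_one,
            mul_inv_eq_iff_eq_mul] at h1
          exact h1 }
  set ρN : ↥N := ⟨ρ, mem_sup_left h.rho_mem⟩ with hρN
  have hρ : (ρN : ↥N ⧸ T) ≠ 1 := by
    rw [Ne, QuotientGroup.eq_one_iff, hT, mem_subgroupOf]
    intro hρT
    have h1 : ρ ∈ oddPart t ⊓ centralizer ({a} : Set G) := h.fixed ▸ mem_zpowers ρ
    have h2 : a * ρ * a⁻¹ = ρ := by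
      rw [← mem_centralizer_singleton_iff.1 h1.2, mul_inv_cancel_right]
    have h3 : ρ ^ 2 = 1 := by
      rw [sq, mul_eq_one_iff_eq_inv, ← h.ZA_inverted ρ hρT]
      exact h2.symm
    have := Nat.le_of_dvd two_pos (h.rho_order ▸ orderOf_dvd_of_pow_eq_one h3)
    have := h.five_le
    omega
  obtain ⟨φ, hφ⟩ := CommGroup.exists_apply_ne_one_of_hasEnoughRootsOfUnity (↥N ⧸ T) ℂ hρ
  have han : ∀ x : ↥N, a * (x : G) * a⁻¹ ∈ N := fun x =>
    (mem_normalizer_iff.1 h.a_norm_PA _).1 x.2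
  let θ : ↥N →* ↥N :=
    { toFun := fun x => ⟨a * (x : G) * a⁻¹, han x⟩
      map_one' := Subtype.ext (by simp)
      map_mul' := fun x y => Subtype.ext (by simp) }
  let ψ0 : ↥N →* ℂˣ := φ.comp (QuotientGroup.mk' T)
  have hψ0 : ∀ x : ↥N, (x : G) ∈ Z ⊔ A → ψ0 x = 1 := fun x hx => by
    show φ (x : ↥N ⧸ T) = 1
    rw [(QuotientGroup.eq_one_iff x).2 (mem_subgroupOf.2 hx), map_one]
  refine ⟨ψ0 * ψ0.comp θ, fun x hx => ?_, fun x y e => ?_, ?_⟩
  · show ψ0 x * ψ0 (θ x) = 1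
    rw [hψ0 x hx, hψ0 (θ x) ?_, mul_one]
    show a * (x : G) * a⁻¹ ∈ Z ⊔ A
    rw [h.ZA_inverted _ hx]
    exact inv_mem hx
  · have e1 : y = θ x := Subtype.ext e
    have e2 : θ (θ x) = x := Subtype.ext (by
      show a * (a * (x : G) * a⁻¹) * a⁻¹ = x
      rw [inv_eq_of_mul_eq_one_right haa]
      simp only [mul_assoc, haa, mul_one]
      rw [← mul_assoc, haa, one_mul])
    show ψ0 y * ψ0 (θ y) = ψ0 x * ψ0 (θ x)
    rw [e1, e2, mul_comm]
  · show ψ0 ρN * ψ0 (θ ρN) ≠ 1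
    have e1 : θ ρN = ρN := Subtype.ext (by
      show a * ρ * a⁻¹ = ρ
      have h1 : ρ ∈ oddPart t ⊓ centralizer ({a} : Set G) := h.fixed ▸ mem_zpowers ρ
      rw [← mem_centralizer_singleton_iff.1 h1.2, mul_inv_cancel_right])
    rw [e1, ← sq]
    intro h2
    apply hφ
    have hr : (φ (ρN : ↥N ⧸ T)) ^ r = 1 := by
      rw [← map_pow, ← QuotientGroup.mk_pow,
        show ρN ^ r = 1 from Subtype.ext (by
          push_cast; rw [← h.rho_order]; exact pow_orderOf_eq_one ρ), QuotientGroup.mk_one,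
        map_one]
    have h2' : (φ (ρN : ↥N ⧸ T)) ^ 2 = 1 := h2
    have hcop : Nat.Coprime 2 r := (Nat.coprime_primes Nat.prime_two h.prime).2 (by
      have := h.five_le; omega)
    simpa [hcop.gcd_eq_one] using pow_gcd_eq_one.2 ⟨h2', hr⟩

end

section

variable {G : Type u} [Group G] [Fintype G] {t a : G} {r : ℕ} {P Z A E : Subgroup G} {ρ : G}

/-- The character `μ` of `O` with degree `|O : P A|`. -/
theorem CaseOne.exists_mu (S : Setting G t a) (h : CaseOne t a r P Z A E ρ) :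
    ∃ μ : G → ℂ, IsIrrCharacter ↥(oddPart t) (fun y => μ y) ∧
      (∀ y ∈ oddPart t, μ (a * y * a⁻¹) = μ y) ∧ μ 1 = (A.relIndex E : ℂ) ∧
      (∀ y ∈ Z ⊔ A, μ y = μ 1) ∧
      (∀ φ : ↥(Z ⊔ A ⊔ E) →* ℂˣ, (∃ y : ↥(Z ⊔ A ⊔ E), (y : G) ∈ Z ∧ φ y ≠ 1) →
        ∑ y : ↥(Z ⊔ A ⊔ E), μ y * conj (φ y : ℂ) = 0) ∧
      S.twist (fun y => μ y) * (A.relIndex E : ℂ) = Nat.card ↥(oddPart t) := by
  classical
  obtain ⟨ψ, hψT, hψa, hψρ⟩ := h.exists_lambda S.a_mul_self
  set O : Subgroup G := oddPart t with hOdef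
  set H : Subgroup ↥O := (P ⊔ A).subgroupOf O with hH
  haveI hnH : H.Normal := ⟨fun c hc x => by
    rw [hH, mem_subgroupOf] at hc ⊢
    push_cast
    exact (mem_normalizer_iff.1 (h.PA_normal x.2) _).1 hc⟩
  let L : G → ℂ := fun y => if hy : y ∈ P ⊔ A then (ψ ⟨y, hy⟩ : ℂ) else 0
  have hL : ∀ y (hy : y ∈ P ⊔ A), L y = (ψ ⟨y, hy⟩ : ℂ) := fun y hy => dif_pos hy
  have hLmul : ∀ x ∈ P ⊔ A, ∀ y ∈ P ⊔ A, L (x * y) = L x * L y := fun x hx y hy => by
    rw [hL _ hx, hL _ hy, hL _ (mul_mem hx hy), ← Units.val_mul, ← map_mul]; rfl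
  have hLT : ∀ y ∈ Z ⊔ A, L y = 1 := fun y hy => by
    rw [hL y (sup_le_sup_right h.Z_le A hy), hψT _ hy, Units.val_one]
  have hLa : ∀ y ∈ P ⊔ A, L (a * y * a⁻¹) = L y := fun y hy => by
    have hy' : a * y * a⁻¹ ∈ P ⊔ A := (mem_normalizer_iff.1 h.a_norm_PA _).1 hy
    rw [hL _ hy, hL _ hy', hψa ⟨y, hy⟩ ⟨_, hy'⟩ rfl]
  have hHm : ∀ (x : ↥O) (c : ↥H), (x : G) * ((c : ↥O) : G) * (x : G)⁻¹ ∈ P ⊔ A := fun x c =>
    (mem_normalizer_iff.1 (h.PA_normal x.2) _).1 (mem_subgroupOf.1 c.2)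
  -- the conjugates of `λ`
  let χ : ↥O → ↥H →* ℂˣ := fun x => ψ.comp
    { toFun := fun c => ⟨(x : G) * ((c : ↥O) : G) * (x : G)⁻¹, hHm x c⟩
      map_one' := Subtype.ext (by simp)
      map_mul' := fun c d => Subtype.ext (by simp) }
  have hχ : ∀ x c, (χ x c : ℂ) = L ((x : G) * ((c : ↥O) : G) * (x : G)⁻¹) := fun x c =>
    (hL _ (hHm x c)).symm
  -- the stabiliser is `H`
  have hstab : ∀ x y : ↥O, χ x = χ y ↔ x * y⁻¹ ∈ H := by
    have key : ∀ x : ↥O, χ x = χ 1 ↔ x ∈ H := by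
      intro x
      obtain ⟨n, hn, u, hu, hx⟩ := h.mem_O x.2
      have hval : ∀ c : ↥H, L ((x : G) * ((c : ↥O) : G) * (x : G)⁻¹) =
          L (u * ((c : ↥O) : G) * u⁻¹) := fun c => by
        have hm : u * ((c : ↥O) : G) * u⁻¹ ∈ P ⊔ A :=
          (mem_normalizer_iff.1 (h.PA_normal (h.E_le hu)) _).1 (mem_subgroupOf.1 c.2)
        rw [hx, show n * u * ((c : ↥O) : G) * (n * u)⁻¹ = n * (u * ((c : ↥O) : G) * u⁻¹) * n⁻¹ by
          group, hLmul _ (mul_mem hn hm) _ (inv_mem hn), hLmul _ hn _ hm, mul_comm (L n), mul_assoc,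
          ← hLmul _ hn _ (inv_mem hn), mul_inv_cancel, hLT 1 (one_mem _), mul_one]
      constructor
      · intro e
        rw [hH, mem_subgroupOf, hx]
        refine mul_mem hn ?_
        by_contra huA
        refine hψρ (Units.ext ?_)
        rw [← hL ρ (mem_sup_left h.rho_mem), Units.val_one]
        refine h.fun_eq_one hu huA (fun y hy z hz => hLmul _ (mem_sup_left hy) _ (mem_sup_left hz))
          (fun y hy => hLT y (mem_sup_left hy)) (fun y hy => ?_) ρ h.rho_mem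
        let c : ↥H := ⟨⟨y, h.P_le hy⟩, mem_subgroupOf.2 (mem_sup_left hy)⟩
        calc L (u * y * u⁻¹) = L ((x : G) * ((c : ↥O) : G) * (x : G)⁻¹) := (hval c).symm
          _ = (χ x c : ℂ) := (hχ x c).symm
          _ = (χ 1 c : ℂ) := by rw [e]
          _ = L y := by rw [hχ]; simp [c]
      · intro hxH
        refine MonoidHom.ext fun c => Units.ext ?_
        have hxm : (x : G) ∈ P ⊔ A := mem_subgroupOf.1 hxH
        have hcm : ((c : ↥O) : G) ∈ P ⊔ A := mem_subgroupOf.1 c.2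
        rw [hχ, hχ, OneMemClass.coe_one, one_mul, inv_one, mul_one,
          hLmul _ (mul_mem hxm hcm) _ (inv_mem hxm), hLmul _ hxm _ hcm, mul_comm (L (x : G)),
          mul_assoc, ← hLmul _ hxm _ (inv_mem hxm), mul_inv_cancel, hLT 1 (one_mem _), mul_one]
    intro x y
    rw [← key]
    constructor
    · intro e
      refine MonoidHom.ext fun c => Units.ext ?_
      have := congrArg (fun f : ↥H →* ℂˣ => (f ⟨y⁻¹ * (c : ↥O) * y⁻¹⁻¹,
        hnH.conj_mem _ c.2 y⁻¹⟩ : ℂ)) e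
      simp only [hχ] at this ⊢
      simpa [mul_assoc] using this
    · intro e
      refine MonoidHom.ext fun c => Units.ext ?_
      have := congrArg (fun f : ↥H →* ℂˣ => (f ⟨y * (c : ↥O) * y⁻¹,
        hnH.conj_mem _ c.2 y⟩ : ℂ)) e
      simp only [hχ] at this ⊢
      simpa [mul_assoc] using this
  -- orthogonality
  have horth : ∀ x y : ↥O, ∑ c : ↥H, (χ x c : ℂ) * conj (χ y c : ℂ) =
      if x * y⁻¹ ∈ H then (Nat.card ↥H : ℂ) else 0 := fun x y => by
    rw [sum_hom_mul_conj]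
    exact if_congr (hstab x y) rfl rfl
  set μ0 : ↥O → ℂ := indFun H (fun c => (χ 1 c : ℂ)) with hμ0
  let μ : G → ℂ := fun y => if hy : y ∈ O then μ0 ⟨y, hy⟩ else 0
  have hμμ : (fun y : ↥O => μ y) = μ0 := funext fun y => dif_pos y.2
  have hval : ∀ c : ↥H, μ0 (c : ↥O) = (Nat.card ↥H : ℂ)⁻¹ * ∑ x : ↥O, (χ x c : ℂ) := by
    intro c
    rw [hμ0, Char.indFun_apply_of_normal]
    refine congrArg _ (Finset.sum_congr rfl fun x _ => ?_)
    simp only [hχ]
    simp [mul_assoc]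
  have hoff : ∀ y : ↥O, y ∉ H → μ0 y = 0 := fun y hy =>
    Char.indFun_eq_zero_of_normal H _ hy
  have hcH : (Nat.card ↥H : ℂ) ≠ 0 := Nat.cast_ne_zero.2 Nat.card_pos.ne'
  have hidx : H.index = A.relIndex E := h.index_PA
  have hT : ∀ y ∈ Z ⊔ A, μ y = (A.relIndex E : ℂ) := by
    intro y hy
    have hyO : y ∈ O := h.ZA_le hy
    show (if hy : y ∈ O then μ0 ⟨y, hy⟩ else 0) = _
    rw [dif_pos hyO, show (⟨y, hyO⟩ : ↥O) = ((⟨⟨y, hyO⟩, mem_subgroupOf.2
      (sup_le_sup_right h.Z_le A hy)⟩ : ↥H) : ↥O) from rfl, hval,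
      Finset.sum_congr rfl (g := fun _ => (1 : ℂ)) fun x _ => (hχ x _).trans (by
        show L ((x : G) * y * (x : G)⁻¹) = (1 : ℂ)
        rw [← (h.commute_ZA x.2 hy).eq, mul_inv_cancel_right, hLT y hy]),
      Finset.sum_const, Finset.card_univ, nsmul_one, ← Nat.card_eq_fintype_card, ← hidx,
      ← H.card_mul_index, Nat.cast_mul, inv_mul_cancel_left₀ hcH]
  refine ⟨μ, ?_, ?_, hT 1 (one_mem _), fun y hy => by rw [hT y hy, hT 1 (one_mem _)], ?_, ?_⟩
  · rw [hμμ]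
    refine Char.IsCharacter.isIrrCharacter_of_norm_one
      (Char.IsCharacter.indFun H (Char.isCharacter_hom (χ 1))) ?_
    rw [hμ0, Char.classInner_indFun H _ (Char.indFun_isClassFunction H _), classInner]
    rw [Finset.sum_congr rfl fun c _ => by
      rw [show indFun H (fun c => (χ 1 c : ℂ)) (c : ↥O) = μ0 c from rfl, hval, map_mul, map_inv₀,
        map_natCast, map_sum, mul_left_comm, Finset.mul_sum]]
    rw [← Finset.mul_sum, Finset.sum_comm]
    rw [Finset.sum_congr rfl fun x _ => by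
      rw [horth 1 x]]
    simp only [one_mul, inv_mem_iff]
    rw [← Finset.sum_filter, Finset.sum_const, nsmul_eq_mul,
      show ((Finset.univ.filter fun x : ↥O => x ∈ H).card : ℂ) = Nat.card ↥H by
        rw [Nat.card_eq_fintype_card, Fintype.card_subtype]]
    field_simp
  · intro y hy
    have hy' : a * y * a⁻¹ ∈ O := S.a_conj_mem hy
    show (if hy : a * y * a⁻¹ ∈ O then μ0 ⟨_, hy⟩ else 0) = (if hy : y ∈ O then μ0 ⟨_, hy⟩ else 0)
    rw [dif_pos hy, dif_pos hy']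
    have hiff : (⟨_, hy'⟩ : ↥O) ∈ H ↔ (⟨y, hy⟩ : ↥O) ∈ H := by
      rw [hH, mem_subgroupOf, mem_subgroupOf]
      exact ((mem_normalizer_iff.1 h.a_norm_PA) y).symm
    by_cases hyH : (⟨y, hy⟩ : ↥O) ∈ H
    · have e1 := hval ⟨_, hiff.2 hyH⟩
      have e2 := hval ⟨_, hyH⟩
      rw [e1, e2]
      congr 1
      refine Fintype.sum_equiv S.aConj.toEquiv _ _ fun x => ?_
      rw [hχ, hχ]
      show L ((x : G) * (a * y * a⁻¹) * (x : G)⁻¹) =
        L (a * (x : G) * a⁻¹ * y * (a * (x : G) * a⁻¹)⁻¹)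
      rw [← hLa ((x : G) * (a * y * a⁻¹) * (x : G)⁻¹) ?_]
      · congr 1
        rw [inv_eq_of_mul_eq_one_right S.a_mul_self]
        simp [mul_assoc, inv_eq_of_mul_eq_one_right S.a_mul_self]
      · exact (mem_normalizer_iff.1 (h.PA_normal x.2) _).1 (mem_subgroupOf.1 (hiff.2 hyH))
    · rw [hoff _ hyH, hoff _ (mt hiff.1 hyH)]
  · intro φ ⟨z, hz, hφz⟩
    have hsupp : ∀ y : ↥(Z ⊔ A ⊔ E), μ y =
        if (y : G) ∈ Z ⊔ A then (A.relIndex E : ℂ) else 0 := by
      intro y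
      split_ifs with hy
      · exact hT _ hy
      · show (if hy : (y : G) ∈ O then μ0 ⟨_, hy⟩ else 0) = 0
        rw [dif_pos (h.B_le y.2)]
        exact hoff _ fun hm => hy (h.mem_ZA y.2 (mem_subgroupOf.1 hm))
    set s := ∑ y : ↥(Z ⊔ A ⊔ E), μ y * conj (φ y : ℂ) with hs
    have h1 : s = conj (φ z : ℂ) * s := by
      conv_lhs => rw [hs, ← Equiv.sum_comp (Equiv.mulLeft z)]
      rw [hs, Finset.mul_sum]
      refine Finset.sum_congr rfl fun y _ => ?_
      rw [Equiv.coe_mulLeft, map_mul, Units.val_mul, map_mul, hsupp, hsupp y]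
      have : (((z * y : ↥(Z ⊔ A ⊔ E))) : G) ∈ Z ⊔ A ↔ (y : G) ∈ Z ⊔ A :=
        mul_mem_cancel_left (mem_sup_left hz)
      simp only [this]
      ring
    by_contra hs0
    apply hφz
    have h2 : conj (φ z : ℂ) = 1 := (mul_eq_right₀ hs0).1 h1.symm
    rw [map_eq_one_iff _ (RingHom.injective _)] at h2
    exact Units.val_eq_one.1 h2
  · have hμe : ∀ w : ↥O, μ (w : G) = μ0 w := fun w => congrFun hμμ w
    simp only [Setting.twist]
    simp only [← hOdef, hμe]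
    have hmem : ∀ w : ↥O, S.aConj w⁻¹ * w ∈ H ↔ w ∈ H := by
      intro w
      obtain ⟨n, hn, u, hu, hw⟩ := h.mem_O w.2
      rw [hH, mem_subgroupOf, mem_subgroupOf, hw]
      push_cast
      rw [S.coe_aConj, InvMemClass.coe_inv, hw,
        show a * (n * u)⁻¹ * a⁻¹ * (n * u) = (a * u * a⁻¹)⁻¹ * (a * n⁻¹ * a⁻¹ * n) * u by group,
        h.E_inverted u hu, inv_inv]
      have hm : a * n⁻¹ * a⁻¹ * n ∈ P ⊔ A :=
        mul_mem ((mem_normalizer_iff.1 h.a_norm_PA _).1 (inv_mem hn)) hn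
      have hm' : u * (a * n⁻¹ * a⁻¹ * n) * u⁻¹ ∈ P ⊔ A :=
        (mem_normalizer_iff.1 (h.PA_normal (h.E_le hu)) _).1 hm
      rw [show u * (a * n⁻¹ * a⁻¹ * n) * u = u * (a * n⁻¹ * a⁻¹ * n) * u⁻¹ * (u * u) by group,
        mul_mem_cancel_left hm', mul_mem_cancel_left hn]
      exact ⟨h.E_sq hu, fun h1 => mul_mem h1 h1⟩
    rw [← Finset.sum_filter_of_ne (s := Finset.univ) (p := fun w : ↥O => w ∈ H) fun w _ hne => by
      by_contra hw
      exact hne (hoff _ (mt (hmem w).1 hw))]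
    rw [Finset.sum_subtype (p := fun w : ↥O => w ∈ H) _ (by simp)]
    have hterm : ∀ w : ↥H, μ0 (S.aConj (w : ↥O)⁻¹ * (w : ↥O)) = (Nat.card ↥H : ℂ)⁻¹ *
        ∑ x : ↥O, (χ x w : ℂ) * conj (χ (S.aConj x) w : ℂ) := by
      intro w
      have e := hval ⟨_, (hmem _).2 w.2⟩
      refine e.trans (congrArg _ (Finset.sum_congr rfl fun x _ => ?_))
      rw [conj_hom_apply]
      simp only [hχ]
      push_cast
      rw [S.coe_aConj, S.coe_aConj, InvMemClass.coe_inv]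
      have hwm : ((w : ↥O) : G) ∈ P ⊔ A := mem_subgroupOf.1 w.2
      have hxn := mem_normalizer_iff.1 (h.PA_normal x.2)
      have h1 : (x : G) * (a * ((w : ↥O) : G)⁻¹ * a⁻¹) * (x : G)⁻¹ ∈ P ⊔ A :=
        (hxn _).1 ((mem_normalizer_iff.1 h.a_norm_PA _).1 (inv_mem hwm))
      rw [show (x : G) * (a * ((w : ↥O) : G)⁻¹ * a⁻¹ * ((w : ↥O) : G)) * (x : G)⁻¹ =
        (x : G) * (a * ((w : ↥O) : G)⁻¹ * a⁻¹) * (x : G)⁻¹ *
        ((x : G) * ((w : ↥O) : G) * (x : G)⁻¹) by group,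
        hLmul _ h1 _ ((hxn _).1 hwm), mul_comm, ← hLa _ h1]
      congr 2
      have ha := inv_eq_of_mul_eq_one_right S.a_mul_self
      rw [ha]
      simp [mul_assoc, ha]
    rw [Finset.sum_congr rfl fun w _ => hterm w, ← Finset.mul_sum, Finset.sum_comm,
      Finset.sum_congr rfl fun x _ => horth x (S.aConj x)]
    have hfix : ∀ x : ↥O, x * (S.aConj x)⁻¹ ∈ H ↔ x ∈ H := by
      intro x
      obtain ⟨n, hn, u, hu, hx⟩ := h.mem_O x.2
      rw [hH, mem_subgroupOf, mem_subgroupOf]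
      push_cast
      rw [S.coe_aConj, hx,
        show a * (n * u) * a⁻¹ = a * n * a⁻¹ * (a * u * a⁻¹) by group, h.E_inverted u hu,
        show n * u * (a * n * a⁻¹ * u⁻¹)⁻¹ =
          n * (u * u) * (a * n * a⁻¹)⁻¹ by group,
        mul_mem_cancel_right (inv_mem ((mem_normalizer_iff.1 h.a_norm_PA _).1 hn)),
        mul_mem_cancel_left hn, mul_mem_cancel_left hn]
      exact ⟨h.E_sq hu, fun h1 => mul_mem h1 h1⟩
    simp only [hfix]
    rw [← Finset.sum_filter, Finset.sum_const, nsmul_eq_mul,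
      show ((Finset.univ.filter fun x : ↥O => x ∈ H).card : ℂ) = Nat.card ↥H by
        rw [Nat.card_eq_fintype_card, Fintype.card_subtype],
      inv_mul_cancel_left₀ hcH, ← hidx, ← H.card_mul_index, Nat.cast_mul]

end

end CfsgLib.GWKlein
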