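import Cfsg.Agent.Lib.GWKlein.CaseOneDegree
import Cfsg.Agent.Lib.GWKlein.CaseOneMu
import Cfsg.Agent.Lib.GWKlein.Weighted
import Cfsg.Agent.Lib.GWKlein.SectionValues

/-!
# Gorenstein–Walter, the last configuration: the end

The weighted count for the trivial character of `O = oddPart t` and for an invariant character of
degree `e`, with the lower bound `L = 2 r e (r - 1)` for the non-trivial degrees in their rows,
gives `1 - 3 / L ≤ 4 e ^ 3 / L`, impossible as `2 e ≤ r + 1` and `r ≥ 5`.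
-/

set_option autoImplicit false
set_option linter.unusedSectionVars false
set_option linter.style.haveILetI false

open scoped ComplexConjugate Classical

universe u

namespace CfsgLib.GWKlein

open Subgroup Cfsg BrauerSuzuki

section

variable {G : Type u} [Group G] [Fintype G] {t a : G} {r : ℕ} {P Z A E : Subgroup G} {ρ : G}

theorem CaseOne.two_mul_le (h : CaseOne t a r P Z A E ρ) : 2 * A.relIndex E ≤ r + 1 := by
  have h5 := h.five_le
  have hodd : Odd (A.relIndex E) :=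
    ((odd_card_core (centralizer ({t} : Set G))).of_dvd_nat (card_dvd_of_le h.E_le)).of_dvd_nat
      (A.relIndex_dvd_card E)
  obtain ⟨m, hm⟩ := h.prime.odd_of_ne_two (by omega)
  have h2 : Nat.Coprime 2 (A.relIndex E) := Nat.coprime_two_left.2 hodd
  rcases h.E_dvd with hd | hd
  · exact (Nat.le_of_dvd (by omega) (h2.mul_dvd_of_dvd_of_dvd ⟨m, by omega⟩ hd)).trans (by omega)
  · exact Nat.le_of_dvd (by omega) (h2.mul_dvd_of_dvd_of_dvd ⟨m + 1, by omega⟩ hd)

variable (S : Setting G t a)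
include S

/-- An invariant character with rotation-invariant restriction to the fixed points gives a row,
and the weighted count in terms of its signs and degrees. -/
theorem Setting.exists_row {g : G} (hg : Rot t a g) (μ : G → ℂ)
    (hμ : IsIrrCharacter (oddPart t) (fun y : oddPart t => μ y))
    (ha : ∀ y ∈ oddPart t, μ (a * y * a⁻¹) = μ y)
    (hfix : ∀ y ∈ oddPart t ⊓ centralizer ({a} : Set G), Commute g y) :
    ∃ (θ : Fin 4 → IrrCharacter G) (ε : Fin 4 → ℤ), Row t μ θ ε ∧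
      (∀ i, ε i = coeff (S.lift fun y : oddPart t => μ y) (θ i)) ∧
      (∀ χ, coeff (S.lift fun y : oddPart t => μ y) χ ≠ 0 → ∃ i, θ i = χ) ∧
      (Nat.card G : ℂ) * (Nat.card ↥(oddPart t ⊓ centralizer ({a} : Set G)) : ℂ) ^ 2 *
          (μ 1 ^ 2 * ∑ i, (ε i : ℂ) / (charDegree (θ i : G → ℂ) : ℂ)) =
        32 * (Nat.card (oddPart t) : ℂ) ^ 2 * S.twist (fun y : oddPart t => μ y) := by
  set ν : oddPart t → ℂ := fun y => μ y with hν
  have hνc := Char.IsIrrCharacter.isCharacter hμ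
  have ha' : ∀ y : oddPart t, ν (S.aConj y) = ν y := fun y => ha y y.2
  set F := Finset.univ.filter fun χ : IrrCharacter G => coeff (S.lift ν) χ ≠ 0 with hF
  let e := (Finset.equivFinOfCardEq (S.card_constituents hμ ha' : F.card = 4)).symm
  let θ : Fin 4 → IrrCharacter G := fun i => (e i : IrrCharacter G)
  have hne : ∀ i, coeff (S.lift ν) (θ i) ≠ 0 := fun i => (Finset.mem_filter.1 (e i).2).2
  obtain ⟨M, hM⟩ := DegreeTools.TISum.exists_pmodular (p := 2) Nat.prime_two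
  have hfix' : ∀ d : fixPart t a, ν (S.rotAut hg d : oddPart t) = ν (d : oddPart t) := fun d =>
    congrArg μ (show g * ((d : oddPart t) : G) * g⁻¹ = ((d : oddPart t) : G) by
      rw [(hfix _ ⟨(d : oddPart t).2, d.2⟩).eq, mul_inv_cancel_right])
  have hval : ∀ i, ∀ y ∈ oddPart t, (θ i : G → ℂ) (t * y) = (coeff (S.lift ν) (θ i) : ℂ) * μ y :=
    fun i y hy => S.sect_values hM hg (θ i) hμ ha' hfix' (hne i) ⟨y, hy⟩
  have hsum : ∀ f : IrrCharacter G → ℂ, (∀ χ, coeff (S.lift ν) χ = 0 → f χ = 0) →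
      ∑ χ, f χ = ∑ i, f (θ i) := by
    intro f hf
    rw [← Finset.sum_subset (Finset.subset_univ F) fun χ _ hχ => hf χ (by simpa [hF] using hχ),
      ← Finset.sum_coe_sort F f]
    exact (Fintype.sum_equiv e (fun i => f (θ i)) (fun χ : F => f χ) fun i => rfl).symm
  refine ⟨θ, fun i => coeff (S.lift ν) (θ i),
    ⟨fun i j hij => e.injective (Subtype.ext hij), fun i => S.coeff_eq_one_or hμ (hne i), hval,
      fun y hy => ?_⟩, fun i => rfl, fun χ hχ => ?_, ?_⟩
  · rw [← hsum (fun χ => (coeff (S.lift ν) χ : ℂ) * (χ : G → ℂ) y) fun χ h0 => by simp [h0],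
      S.sum_coeff_apply hνc, S.lift_eq_zero_of_odd ν (S.mem_oddPart.1 hy).1]
  · exact ⟨e.symm ⟨χ, Finset.mem_filter.2 ⟨Finset.mem_univ _, hχ⟩⟩, by simp [θ]⟩
  · rw [← S.weighted_eq hg hνc,
      hsum (fun χ => (coeff (S.lift ν) χ : ℂ) * (χ : G → ℂ) t ^ 2 / (χ : G → ℂ) 1)
        fun χ h0 => by simp [h0]]
    congr 1
    rw [Finset.mul_sum]
    refine Finset.sum_congr rfl fun i _ => ?_
    have ht : (θ i : G → ℂ) t = (coeff (S.lift ν) (θ i) : ℂ) * μ 1 := by
      simpa using hval i 1 (one_mem _)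
    have h2 : (coeff (S.lift ν) (θ i) : ℂ) ^ 2 = 1 := by
      rcases S.coeff_eq_one_or hμ (hne i) with h | h <;> simp [h]
    rw [ht, Blocks.irr_one_eq, mul_pow, h2]
    ring

/-- The sign of the trivial character in a row. -/
theorem Setting.coeff_trivChar {ν : oddPart t → ℂ} (hν : IsIrrCharacter (oddPart t) ν) :
    coeff (S.lift ν) (Blocks.trivChar G) = if ν = (fun _ => 1) then 1 else 0 := by
  have h := S.cast_coeff_lift (Char.IsIrrCharacter.isCharacter hν) (Blocks.trivChar G)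
  rw [show sect t (Blocks.trivChar G : G → ℂ) ν = classInner (fun _ : oddPart t => (1 : ℂ)) ν
    from rfl, Char.classInner_irr Char.isIrrCharacter_one hν] at h
  rcases eq_or_ne ν (fun _ => 1) with e | e
  · rw [if_pos e.symm] at h; rw [if_pos e]; exact_mod_cast h
  · rw [if_neg e.symm] at h; rw [if_neg e]; exact_mod_cast h

end

/-- The contradiction from the degree bound and the invariant character. -/
theorem CaseOne.false_of {G : Type u} [Group G] [Fintype G] {t a : G} {r : ℕ}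
    {P Z A E : Subgroup G} {ρ : G} (M : Minimal G t a)
    (hC : IsCoatom (centralizer ({t} : Set G))) (h : CaseOne t a r P Z A E ρ) {g : G}
    (hg : Rot t a g) (hgD : Commute g ρ)
    (μ : G → ℂ) (hμ : IsIrrCharacter (oddPart t) (fun y : oddPart t => μ y))
    (ha : ∀ y ∈ oddPart t, μ (a * y * a⁻¹) = μ y)
    (hμ1 : μ 1 = (A.relIndex E : ℕ)) (hμT : ∀ y ∈ Z ⊔ A, μ y = μ 1)
    (hμB : ∀ φ : ↥(Z ⊔ A ⊔ E) →* ℂˣ, (∃ y : ↥(Z ⊔ A ⊔ E), (y : G) ∈ Z ∧ φ y ≠ 1) →
      ∑ y : ↥(Z ⊔ A ⊔ E), μ y * conj (φ y : ℂ) = 0)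
    (htw : M.setting.twist (fun y : oddPart t => μ y) * (A.relIndex E : ℕ) = Nat.card (oddPart t)) :
    False := by
  have S := M.setting
  have hfix : ∀ y ∈ oddPart t ⊓ centralizer ({a} : Set G), Commute g y := fun y hy => by
    rw [h.fixed] at hy
    obtain ⟨k, rfl⟩ := mem_zpowers_iff.1 hy
    exact hgD.zpow_right k
  have hD : Nat.card ↥(oddPart t ⊓ centralizer ({a} : Set G)) = r := by
    rw [h.fixed, Nat.card_zpowers, h.rho_order]
  have h5 := h.five_le
  have he := h.one_lt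
  have h2e := h.two_mul_le
  set L : ℕ := 2 * (r * A.relIndex E * (r - 1)) with hL
  set e : ℕ := A.relIndex E with he_def
  have hone : IsIrrCharacter (oddPart t) (fun _ : oddPart t => (1 : ℂ)) := Char.isIrrCharacter_one
  -- the row of the trivial character
  obtain ⟨θ₁, ε₁, R₁, hε₁, hex₁, hw₁⟩ := S.exists_row hg (fun _ => 1) hone (fun _ _ => rfl) hfix
  obtain ⟨θ₂, ε₂, R₂, hε₂, -, hw₂⟩ := S.exists_row hg μ hμ ha hfix
  have hd₁ := h.degree_ge M hC ⟨g, hg⟩ (μ := fun _ => 1) (fun _ _ => rfl) (fun φ hφ => by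
    have h1 := sum_hom_mul_conj (1 : ↥(Z ⊔ A ⊔ E) →* ℂˣ) φ
    rw [if_neg fun e' => by obtain ⟨y, -, hy⟩ := hφ; exact hy (by rw [← e']; rfl)] at h1
    simpa using h1) R₁
  have hd₂ := h.degree_ge M hC ⟨g, hg⟩ hμT hμB R₂
  -- the trivial character
  obtain ⟨i₀, hi₀⟩ := hex₁ (Blocks.trivChar G) (by simp [S.coeff_trivChar hone])
  have hε₀ : ε₁ i₀ = 1 := by simp [hε₁ i₀, hi₀, S.coeff_trivChar hone]
  have hdeg₀ : charDegree (θ₁ i₀ : G → ℂ) = 1 := by
    have h1 := Blocks.irr_one_eq (Blocks.trivChar G)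
    rw [Blocks.trivChar_apply] at h1
    rw [hi₀]; exact_mod_cast h1.symm
  have hnt₁ : ∀ i, i ≠ i₀ → (θ₁ i : G → ℂ) ≠ fun _ => 1 := fun i hi e' =>
    hi (R₁.inj ((Subtype.ext e' : θ₁ i = Blocks.trivChar G).trans hi₀.symm))
  have hnt₂ : ∀ i, (θ₂ i : G → ℂ) ≠ fun _ => 1 := fun i e' => by
    have h1 : ε₂ i = 0 := by
      rw [hε₂ i, (Subtype.ext e' : θ₂ i = Blocks.trivChar G), S.coeff_trivChar hμ, if_neg]
      intro hμ'
      have h2 : μ 1 = 1 := congrFun hμ' 1
      rw [hμ1] at h2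
      have : e = 1 := by exact_mod_cast h2
      omega
    rcases R₂.sign i with h' | h' <;> omega
  -- the bounds
  have hL0 : (0 : ℝ) < (L : ℝ) := by
    have : 0 < L := by
      rw [hL]; exact Nat.mul_pos (by norm_num) (Nat.mul_pos (Nat.mul_pos (by omega) (by omega))
        (by omega))
    exact_mod_cast this
  have hb : ∀ (s : ℤ) (d : ℕ), (s = 1 ∨ s = -1) → L ≤ d →
      -(1 / (L : ℝ)) ≤ (s : ℝ) / d ∧ (s : ℝ) / d ≤ 1 / (L : ℝ) := by
    intro s d hs hd
    have h1 : 1 / (d : ℝ) ≤ 1 / (L : ℝ) := one_div_le_one_div_of_le hL0 (by exact_mod_cast hd)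
    have h2 : 0 ≤ 1 / (d : ℝ) := by positivity
    rcases hs with rfl | rfl
    · push_cast; constructor <;> linarith
    · push_cast; rw [neg_div]; constructor <;> linarith
  set S₁ : ℝ := ∑ i, (ε₁ i : ℝ) / (charDegree (θ₁ i : G → ℂ) : ℝ) with hS₁
  set S₂ : ℝ := ∑ i, (ε₂ i : ℝ) / (charDegree (θ₂ i : G → ℂ) : ℝ) with hS₂
  have hlow : 1 - 3 / (L : ℝ) ≤ S₁ := by
    rw [hS₁, ← Finset.add_sum_erase _ _ (Finset.mem_univ i₀), hε₀, hdeg₀]
    have h1 := Finset.card_nsmul_le_sum (Finset.univ.erase i₀)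
      (fun i => (ε₁ i : ℝ) / (charDegree (θ₁ i : G → ℂ) : ℝ)) (-(1 / (L : ℝ))) fun i hi =>
        (hb _ _ (R₁.sign i) (hd₁ i (hnt₁ i (Finset.mem_erase.1 hi).1))).1
    rw [Finset.card_erase_of_mem (Finset.mem_univ i₀), Finset.card_univ, Fintype.card_fin,
      nsmul_eq_mul] at h1
    have h3 : (3 : ℝ) / L = 3 * (1 / L) := by ring
    push_cast at h1 ⊢
    linarith
  have hup : S₂ ≤ 4 / (L : ℝ) := by
    have h1 := Finset.sum_le_card_nsmul Finset.univ
      (fun i => (ε₂ i : ℝ) / (charDegree (θ₂ i : G → ℂ) : ℝ)) (1 / (L : ℝ)) fun i _ =>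
        (hb _ _ (R₂.sign i) (hd₂ i (hnt₂ i))).2
    rw [Finset.card_univ, Fintype.card_fin, nsmul_eq_mul] at h1
    have h3 : (4 : ℝ) / L = 4 * (1 / L) := by ring
    push_cast at h1
    linarith
  -- the two weighted counts
  have htw1 : S.twist (fun y : oddPart t => (fun _ : G => (1 : ℂ)) y) = Nat.card (oddPart t) := by
    simp [Setting.twist]
  have heq : S₁ = (e : ℝ) ^ 3 * S₂ := by
    have hc : (S₁ : ℂ) = ((e : ℂ) ^ 3 * (S₂ : ℂ)) := by
      have hN : (Nat.card G : ℂ) * (r : ℂ) ^ 2 ≠ 0 :=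
        mul_ne_zero (Nat.cast_ne_zero.2 Nat.card_pos.ne')
          (pow_ne_zero _ (Nat.cast_ne_zero.2 (by omega)))
      rw [hD, htw1] at hw₁
      rw [hD, hμ1] at hw₂
      simp only [hS₁, hS₂, Complex.ofReal_sum, Complex.ofReal_div, Complex.ofReal_intCast,
        Complex.ofReal_natCast]
      refine mul_left_cancel₀ hN ?_
      linear_combination hw₁ - (e : ℂ) * hw₂ - 32 * (Nat.card (oddPart t) : ℂ) ^ 2 * htw
    exact_mod_cast hc
  -- the arithmetic
  have h4 : (L : ℝ) - 3 ≤ 4 * (e : ℝ) ^ 3 := by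
    have h1 : 1 - 3 / (L : ℝ) ≤ (e : ℝ) ^ 3 * (4 / L) :=
      hlow.trans (heq ▸ mul_le_mul_of_nonneg_left hup (by positivity))
    field_simp at h1
    linarith
  have hLe : (L : ℝ) = 2 * ((r : ℝ) * e * ((r : ℝ) - 1)) := by
    rw [hL]; push_cast [Nat.cast_sub (show 1 ≤ r by omega)]; ring
  have hr : (5 : ℝ) ≤ r := by exact_mod_cast h5
  have he2 : (2 : ℝ) ≤ e := by exact_mod_cast he
  have hcast : 2 * (e : ℝ) ≤ r + 1 := by exact_mod_cast h2e
  have h6 : 4 * (e : ℝ) ^ 2 ≤ ((r : ℝ) + 1) ^ 2 := by nlinarith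
  have h7 : 4 ≤ (r : ℝ) ^ 2 - 4 * r - 1 := by nlinarith
  nlinarith [mul_le_mul_of_nonneg_left h6 (show (0 : ℝ) ≤ e by linarith),
    mul_le_mul_of_nonneg_left h7 (show (0 : ℝ) ≤ e by linarith)]

/-- The configuration does not occur. -/
theorem CaseOne.false {G : Type u} [Group G] [Finite G] {t a : G} (M : Minimal G t a)
    (hC : IsCoatom (centralizer ({t} : Set G))) {r : ℕ} {P Z A E : Subgroup G} {ρ : G}
    (h : CaseOne t a r P Z A E ρ) {g : G} (hg : Rot t a g) (hgD : Commute g ρ) : False := by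
  haveI := Fintype.ofFinite G
  obtain ⟨μ, hμ, ha, hμ1, hμT, hμB, htw⟩ := h.exists_mu M.setting
  exact h.false_of M hC hg hgD μ hμ ha hμ1 hμT hμB htw

end CfsgLib.GWKlein
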