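import Cfsg.Agent.Lib.GWKlein.CaseOneValues
import Cfsg.Agent.Lib.Blocks.Basic

/-!
# Gorenstein–Walter, the last configuration: degrees in a row

For characters `φ`, `φ'` of `B = Z A E` non-trivial and not conjugate on `Z₁` the combination
`F = σ Ind (φ - φ') + κ Ind (φ - φ')|_{ZA}` (extended trivially along `t`) is a virtual character of
norm two and degree `0`, orthogonal to a row `∑ ε θ`.  So each `θ` takes all these `φ` equally often,
`r` times a multiple, and a non-trivial `θ` has degree at least `2 r (r - 1) e`.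
-/

set_option autoImplicit false
set_option linter.unusedSectionVars false
set_option linter.style.haveILetI false

open scoped ComplexConjugate Classical

universe u

namespace CfsgLib.GWKlein

open Subgroup

/-- Four irreducible characters with signs `ε` whose values on `t O` are `ε μ`. -/
structure Row {G : Type u} [Group G] (t : G) (μ : G → ℂ) (θ : Fin 4 → Cfsg.IrrCharacter G)
    (ε : Fin 4 → ℤ) : Prop where
  inj : Function.Injective θ
  sign : ∀ i, ε i = 1 ∨ ε i = -1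
  val : ∀ i, ∀ y ∈ oddPart t, (θ i : G → ℂ) (t * y) = (ε i : ℂ) * μ y
  odd : ∀ y ∈ oddPart t, ∑ i, (ε i : ℂ) * (θ i : G → ℂ) y = 0

section generic

variable {G : Type u} [Group G] [Fintype G]

/-- Coefficient of a character in a twisted induction. -/
theorem classInner_twist_char (H : Subgroup G) {t : G} (ht : t * t = 1) (htH : ∀ y ∈ H, Commute t y)
    (φ : H →* ℂˣ) {χ : G → ℂ} (hχ : Cfsg.IsCharacter G χ) :
    Cfsg.classInner (twist H t fun y => (φ y : ℂ)) χ = mult H t χ φ := by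
  rw [classInner_twist H ht _ (Char.IsCharacter.isClassFunction hχ)]
  obtain ⟨d, hd, -⟩ := exists_mult hχ ht H htH φ
  have : conj (mult H t χ φ) = mult H t χ φ := by rw [hd, map_natCast]
  rw [← this, mult, map_mul, map_inv₀, map_mul, map_natCast, map_ofNat, map_sum]
  congr 1
  exact Finset.sum_congr rfl fun y _ => by rw [map_mul, map_add, Complex.conj_conj]; ring

/-- The multiplicity as an inner product on `H`. -/
theorem mult_eq_classInner (H : Subgroup G) (t : G) (χ : G → ℂ) (φ : H →* ℂˣ) :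
    mult H t χ φ =
      Cfsg.classInner (fun y : H => (χ y + χ (t * y)) / 2) (fun y : H => (φ y : ℂ)) := by
  rw [mult, Cfsg.classInner, mul_inv, mul_comm (2 : ℂ)⁻¹, mul_assoc, Finset.mul_sum]
  congr 1
  exact Finset.sum_congr rfl fun y _ => by ring

end generic

section

variable {G : Type u} [Group G] [Fintype G] {t a : G} {r : ℕ} {P Z A E : Subgroup G} {ρ : G}

theorem CaseOne.exists_sigma (h : CaseOne t a r P Z A E ρ) :
    ∃ σ c : ℤ, (σ = 1 ∨ σ = -1) ∧ 1 - σ * r = c * ((A.relIndex E : ℕ) : ℤ) := by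
  have h5 := h.five_le
  rcases h.E_dvd with hd | hd
  · obtain ⟨k, hk⟩ := hd
    refine ⟨1, -(k : ℤ), Or.inl rfl, ?_⟩
    have : r = A.relIndex E * k + 1 := by omega
    push_cast [this]; ring
  · obtain ⟨k, hk⟩ := hd
    refine ⟨-1, (k : ℤ), Or.inr rfl, ?_⟩
    have : (r : ℤ) + 1 = ((A.relIndex E : ℕ) : ℤ) * k := by exact_mod_cast hk
    linarith

theorem CaseOne.card_ZA_le (h : CaseOne t a r P Z A E ρ) : r ≤ Nat.card ↥(Z ⊔ A) := by
  obtain ⟨p, hp, q, hq, hz, hz1, hzr⟩ := h.exists_commutator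
  haveI := Fact.mk h.prime
  have := Subgroup.orderOf_dvd_natCard (Z ⊔ A) (mem_sup_left hz : p * q * p⁻¹ * q⁻¹ ∈ Z ⊔ A)
  rw [orderOf_eq_prime hzr hz1] at this
  exact Nat.le_of_dvd Nat.card_pos this

/-- The number of characters of `B` extending a given one of `Z A`. -/
theorem CaseOne.card_fibre_ZA (h : CaseOne t a r P Z A E ρ) (φ : ↥(Z ⊔ A ⊔ E) →* ℂˣ) :
    Nat.card {ψ : ↥(Z ⊔ A ⊔ E) →* ℂˣ // ψ.comp (inclusion le_sup_left) =
      φ.comp (inclusion (le_sup_left : Z ⊔ A ≤ Z ⊔ A ⊔ E))} = A.relIndex E := by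
  have hK : ∀ x y : ↥(Z ⊔ A ⊔ E), x * y = y * x := fun x y =>
    Subtype.ext (h.commute_B x.2 y.2).eq
  have hidx : ((Z ⊔ A).subgroupOf (Z ⊔ A ⊔ E)).index = A.relIndex E := by
    have e := ((Z ⊔ A).subgroupOf (Z ⊔ A ⊔ E)).index_mul_card
    rw [Nat.card_congr (subgroupOfEquivOfLe (le_sup_left : Z ⊔ A ≤ Z ⊔ A ⊔ E)).toEquiv, h.card_B,
      mul_comm (Nat.card ↥(Z ⊔ A))] at e
    exact Nat.eq_of_mul_eq_mul_right Nat.card_pos e
  rw [← hidx, ← card_fibre hK _ φ]
  refine Nat.card_congr (Equiv.subtypeEquivRight fun ψ => ?_)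
  constructor
  · exact fun e y hy => DFunLike.congr_fun e ⟨(y : G), hy⟩
  · exact fun e => MonoidHom.ext fun y => e (inclusion le_sup_left y) y.2

variable (M : Minimal G t a) (hC : IsCoatom (centralizer ({t} : Set G))) (hg : ∃ g, Rot t a g)

include M in
/-- A multiplicity on `Z A` of a character non-trivial on `Z₁` is a multiple of `r`. -/
theorem CaseOne.dvd_mult (h : CaseOne t a r P Z A E ρ) {χ : G → ℂ} (hχ : Cfsg.IsCharacter G χ)
    {p q : G} (hp : p ∈ P) (hq : q ∈ P) (hz : p * q * p⁻¹ * q⁻¹ ∈ Z ⊔ A)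
    (hzr : (p * q * p⁻¹ * q⁻¹) ^ r = 1) (φ : ↥(Z ⊔ A) →* ℂˣ) (hφ : φ ⟨_, hz⟩ ≠ 1) :
    ∃ d : ℕ, mult (Z ⊔ A) t χ φ = d ∧ r ∣ d := by
  obtain ⟨d, hd, hdet⟩ := exists_mult hχ M.setting.t_mul_self (Z ⊔ A)
    (fun y hy => h.commute_t (mem_sup_left hy)) φ
  refine ⟨d, hd, ?_⟩
  haveI := Fact.mk h.prime
  have hc : ∀ {x : G}, x ∈ P → ∀ y ∈ Z ⊔ A, Commute x y := fun hx y hy =>
    (h.commute_ZA (h.P_le hx) hy).symm
  have h1 := hdet p q (hc hp) (hc hq) (commute_of_mem_oddPart (h.P_le hp)).symm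
    (commute_of_mem_oddPart (h.P_le hq)).symm hz
  have hord : orderOf (φ ⟨_, hz⟩ : ℂ) = r := orderOf_eq_prime (by
      rw [← Units.val_pow_eq_pow_val, ← map_pow, show (⟨_, hz⟩ : ↥(Z ⊔ A)) ^ r = 1 from
        Subtype.ext hzr, map_one, Units.val_one])
    fun e => hφ (Units.ext e)
  exact hord ▸ orderOf_dvd_of_pow_eq_one h1

include M hC hg

/-- The fundamental relation between the multiplicities. -/
theorem CaseOne.mult_relation (h : CaseOne t a r P Z A E ρ) {μ : G → ℂ}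
    (hμT : ∀ y ∈ Z ⊔ A, μ y = μ 1)
    (hμB : ∀ φ : ↥(Z ⊔ A ⊔ E) →* ℂˣ, (∃ y : ↥(Z ⊔ A ⊔ E), (y : G) ∈ Z ∧ φ y ≠ 1) →
      ∑ y : ↥(Z ⊔ A ⊔ E), μ y * conj (φ y : ℂ) = 0)
    {θ : Fin 4 → Cfsg.IrrCharacter G} {ε : Fin 4 → ℤ} (R : Row t μ θ ε) (i : Fin 4)
    {σ c : ℤ} (hσ : σ = 1 ∨ σ = -1) (hc : 1 - σ * r = c * ((A.relIndex E : ℕ) : ℤ))
    {p q : G} (hp : p ∈ P) (hq : q ∈ P) (hz : p * q * p⁻¹ * q⁻¹ ∈ Z)
    (hzr : (p * q * p⁻¹ * q⁻¹) ^ r = 1) (φ φ' : ↥(Z ⊔ A ⊔ E) →* ℂˣ)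
    (hφ : φ ⟨_, mem_sup_left (mem_sup_left hz)⟩ ≠ 1)
    (hφ' : φ' ⟨_, mem_sup_left (mem_sup_left hz)⟩ ≠ 1)
    (hne : φ ⟨_, mem_sup_left (mem_sup_left hz)⟩ ≠ φ' ⟨_, mem_sup_left (mem_sup_left hz)⟩)
    (hne' : φ ⟨_, mem_sup_left (mem_sup_left hz)⟩ ≠ (φ' ⟨_, mem_sup_left (mem_sup_left hz)⟩)⁻¹) :
    (σ : ℂ) * (mult (Z ⊔ A ⊔ E) t (θ i : G → ℂ) φ - mult (Z ⊔ A ⊔ E) t (θ i : G → ℂ) φ') +
      (c : ℂ) / r * (mult (Z ⊔ A) t (θ i : G → ℂ) (φ.comp (inclusion le_sup_left)) -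
        mult (Z ⊔ A) t (θ i : G → ℂ) (φ'.comp (inclusion le_sup_left))) = 0 := by
  have S := M.setting
  have htt := S.t_mul_self
  set z0 : ↥(Z ⊔ A ⊔ E) := ⟨p * q * p⁻¹ * q⁻¹, mem_sup_left (mem_sup_left hz)⟩ with hz0
  set lam := φ.comp (inclusion (le_sup_left : Z ⊔ A ≤ Z ⊔ A ⊔ E)) with hlam
  set lam' := φ'.comp (inclusion (le_sup_left : Z ⊔ A ≤ Z ⊔ A ⊔ E)) with hlam'
  -- facts at `z`
  have hr0 : (r : ℂ) ≠ 0 := Nat.cast_ne_zero.2 h.prime.pos.ne'
  have hrpow : ∀ ψ : ↥(Z ⊔ A ⊔ E) →* ℂˣ, ψ z0 ^ r = 1 := fun ψ => by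
    rw [← map_pow, show z0 ^ r = 1 from Subtype.ext hzr, map_one]
  have hself : ∀ ψ : ↥(Z ⊔ A ⊔ E) →* ℂˣ, ψ z0 ≠ 1 → ψ z0 ≠ (ψ z0)⁻¹ := by
    intro ψ hψ e
    have h2 : ψ z0 ^ 2 = 1 := by rw [pow_two]; nth_rewrite 2 [e]; exact mul_inv_cancel _
    refine hψ (orderOf_eq_one_iff.1 (Nat.eq_one_of_dvd_coprimes ?_ (orderOf_dvd_of_pow_eq_one h2)
      (orderOf_dvd_of_pow_eq_one (hrpow ψ))))
    exact Nat.coprime_two_left.2 (h.prime.odd_of_ne_two fun e => by have := h.five_le; omega)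
  -- the functions
  set f : ↥(Z ⊔ A ⊔ E) → ℂ := fun y => (φ y : ℂ) - (φ' y : ℂ) with hf
  set f' : ↥(Z ⊔ A) → ℂ := fun y => (lam y : ℂ) - (lam' y : ℂ) with hf'
  set F : G → ℂ := (σ : ℂ) • twist (Z ⊔ A ⊔ E) t f + ((c : ℂ) / r) • twist (Z ⊔ A) t f' with hF
  have hFcl : Cfsg.IsClassFunction G F := fun x y => by
    simp only [hF, Pi.add_apply, Pi.smul_apply]
    rw [isClassFunction_twist _ t f x y, isClassFunction_twist _ t f' x y]
  have hcoef : ∀ {χ : G → ℂ}, Cfsg.IsCharacter G χ → Cfsg.classInner F χ =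
      (σ : ℂ) * (mult (Z ⊔ A ⊔ E) t χ φ - mult (Z ⊔ A ⊔ E) t χ φ') +
        (c : ℂ) / r * (mult (Z ⊔ A) t χ lam - mult (Z ⊔ A) t χ lam') := by
    intro χ hχ
    rw [hF, Char.classInner_add_left, Char.classInner_smul_left, Char.classInner_smul_left,
      show f = (fun y => (φ y : ℂ)) - fun y => (φ' y : ℂ) from rfl,
      show f' = (fun y => (lam y : ℂ)) - fun y => (lam' y : ℂ) from rfl, twist_sub, twist_sub,
      Char.classInner_sub_left, Char.classInner_sub_left,
      classInner_twist_char _ htt (fun y hy => h.commute_t hy) φ hχ,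
      classInner_twist_char _ htt (fun y hy => h.commute_t hy) φ' hχ,
      classInner_twist_char _ htt (fun y hy => h.commute_t (mem_sup_left hy)) lam hχ,
      classInner_twist_char _ htt (fun y hy => h.commute_t (mem_sup_left hy)) lam' hχ]
  have hgen : Cfsg.IsGeneralizedCharacter G F := by
    refine Char.isGeneralizedCharacter_iff.2 ⟨hFcl, fun χ hχ => ?_⟩
    have hχc := Char.IsIrrCharacter.isCharacter hχ
    obtain ⟨m, hm, -⟩ := exists_mult hχc htt _ (fun y hy => h.commute_t hy) φ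
    obtain ⟨m', hm', -⟩ := exists_mult hχc htt _ (fun y hy => h.commute_t hy) φ'
    obtain ⟨n, hn, k, rfl⟩ := h.dvd_mult M hχc hp hq (mem_sup_left hz) hzr lam hφ
    obtain ⟨n', hn', k', rfl⟩ := h.dvd_mult M hχc hp hq (mem_sup_left hz) hzr lam' hφ'
    refine ⟨σ * ((m : ℤ) - m') + c * ((k : ℤ) - k'), ?_⟩
    rw [hcoef hχc, hm, hm', hn, hn']
    push_cast
    field_simp
  -- the values
  have hcardO : (Nat.card ↥(oddPart t) : ℂ) =
      (r : ℂ) ^ 2 * ((Nat.card ↥(Z ⊔ A) : ℂ) * ((A.relIndex E : ℕ) : ℂ)) := by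
    rw [h.card_O, h.card_B]; push_cast; ring
  have hT0 : (Nat.card ↥(Z ⊔ A) : ℂ) ≠ 0 := Nat.cast_ne_zero.2 Nat.card_pos.ne'
  have hE0 : ((A.relIndex E : ℕ) : ℂ) ≠ 0 := Nat.cast_ne_zero.2 (by have := h.one_lt; omega)
  have hcC : (1 : ℂ) - (σ : ℂ) * r = (c : ℂ) * ((A.relIndex E : ℕ) : ℂ) := by exact_mod_cast hc
  have hFval : ∀ y : ↥(Z ⊔ A ⊔ E),
      F y = (if (y : G) ∈ Z ⊔ A then (r : ℂ) else (σ : ℂ)) * (f y + conj (f y)) ∧
        F (t * y) = F y := by
    intro y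
    by_cases hy1 : (y : G) = 1
    · have hy : y = 1 := Subtype.ext hy1
      have hf1 : f y = 0 := by simp [hf, hy]
      have h0 : ∀ (H : Subgroup G) (g : H → ℂ), H ≤ Z ⊔ A ⊔ E → g 1 = 0 →
          twist H t g 1 = 0 ∧ twist H t g (t * 1) = 0 := by
        intro H g hH hg1
        have hz' : ∀ w : G, w ∈ H → w * w = 1 → Cfsg.extendByZero H g w = 0 := by
          intro w hw hw2
          have hw1 : w = 1 := orderOf_eq_one_iff.1 (Nat.eq_one_of_dvd_coprimes
            (Nat.coprime_two_right.2 (h.odd_of_mem (hH hw))) dvd_rfl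
            (orderOf_dvd_of_pow_eq_one (by rw [pow_two]; exact hw2)))
          subst hw1
          rw [Char.extendByZero_apply_mem H g hw]
          exact hg1
        have hall : ∀ w : G, w * w = 1 → Cfsg.extendByZero H g w = 0 := fun w hw2 => by
          by_cases hw : w ∈ H
          · exact hz' w hw hw2
          · exact Char.extendByZero_apply_notMem H g hw
        constructor
        · simp only [twist]
          rw [Finset.sum_eq_zero, mul_zero]
          intro x _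
          rw [hall _ (by group), hall _ (by rw [mul_one, inv_mul_cancel, mul_one, htt]), add_zero]
        · simp only [twist]
          rw [Finset.sum_eq_zero, mul_zero]
          intro x _
          have e1 : x⁻¹ * (t * 1) * x * (x⁻¹ * (t * 1) * x) = 1 := by
            rw [show x⁻¹ * (t * 1) * x * (x⁻¹ * (t * 1) * x) = x⁻¹ * (t * t) * x by group, htt,
              mul_one, inv_mul_cancel]
          rw [hall _ e1, zero_add]
          by_cases hw : t * (x⁻¹ * (t * 1) * x) ∈ H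
          · have hct := h.commute_t (hH hw)
            refine hz' _ hw ?_
            set u := x⁻¹ * (t * 1) * x with hu
            have e0 : u = t * u * t := by
              have := hct.eq
              rwa [← mul_assoc t t, htt, one_mul] at this
            have htu : Commute u t := by
              show u * t = t * u
              calc u * t = t * u * t * t := by rw [← e0]
                _ = t * u := by rw [mul_assoc, htt, mul_one]
            rw [htu.mul_mul_mul_comm, htt, one_mul, e1]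
          · exact Char.extendByZero_apply_notMem H g hw
      obtain ⟨a1, a2⟩ := h0 _ f le_rfl (by simp [hf])
      obtain ⟨b1, b2⟩ := h0 _ f' le_sup_left (by simp [hf'])
      simp only [hF, hy1, Pi.add_apply, Pi.smul_apply, smul_eq_mul, a1, a2, b1, b2, hf1, map_zero,
        add_zero, mul_zero, and_self]
    · have hyB := y.2
      have heq : ∀ (H : Subgroup G) (g : H → ℂ), H ≤ Z ⊔ A ⊔ E →
          twist H t g (t * (y : G)) = twist H t g y :=
        fun H g hH => (h.twist_apply M hC hg hH g hyB hy1).2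
      refine ⟨?_, by simp only [hF, Pi.add_apply, Pi.smul_apply, heq _ f le_rfl, heq _ f' le_sup_left]⟩
      have hconj : ∀ (ψ : ↥(Z ⊔ A ⊔ E) →* ℂˣ), conj (ψ y : ℂ) = (ψ y⁻¹ : ℂ) :=
        fun ψ => conj_hom_apply ψ y
      by_cases hyT : (y : G) ∈ Z ⊔ A
      · have v1 := h.twist_apply_ZA M hC hg le_rfl f hyT hyB hy1
        have v2 := h.twist_apply_ZA M hC hg le_sup_left f' hyT hyT hy1
        rw [if_pos hyT]
        have e1 : f ⟨(y : G), hyB⟩ + f ⟨(y : G)⁻¹, inv_mem hyB⟩ = f y + conj (f y) := by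
          simp only [hf, map_sub, hconj]; rfl
        have e2 : f' ⟨(y : G), hyT⟩ + f' ⟨(y : G)⁻¹, inv_mem hyT⟩ = f y + conj (f y) := by
          simp only [hf', hf, map_sub, hconj]; rfl
        rw [e1] at v1
        rw [e2] at v2
        rw [h.card_B, Nat.cast_mul, hcardO] at v1
        rw [hcardO] at v2
        have w1 : twist (Z ⊔ A ⊔ E) t f y = (r : ℂ) ^ 2 * (f y + conj (f y)) :=
          mul_left_cancel₀ (mul_ne_zero hT0 hE0) (v1.trans (by ring))
        have w2 : twist (Z ⊔ A) t f' y = (r : ℂ) ^ 2 * ((A.relIndex E : ℕ) : ℂ) * (f y + conj (f y)) :=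
          mul_left_cancel₀ hT0 (v2.trans (by ring))
        simp only [hF, Pi.add_apply, Pi.smul_apply, smul_eq_mul, w1, w2]
        field_simp
        linear_combination -(f y + conj (f y)) * hcC
      · obtain ⟨v1, v2⟩ := h.twist_apply_B M hC hg hyB hyT f f'
        rw [if_neg hyT]
        simp only [hF, Pi.add_apply, Pi.smul_apply, smul_eq_mul, v1, v2, mul_zero, add_zero]
        simp only [hf, map_sub, hconj]
        rfl
  have hF1 : F 1 = 0 := by
    have := (hFval 1).1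
    simpa [hf] using this
  have hreal : ∀ y : ↥(Z ⊔ A ⊔ E), conj (F y) = F y := fun y => by
    rw [(hFval y).1, map_mul, map_add, Complex.conj_conj, add_comm (conj (f y))]
    split_ifs <;> simp
  -- orthogonality on `B` and on `Z A`
  have hneB : φ ≠ φ' := fun e => hne (by rw [e])
  have hsB : ∑ y, f y * (f y + conj (f y)) = 2 * (Nat.card ↥(Z ⊔ A ⊔ E) : ℂ) := by
    refine sum_pair φ φ' hneB (fun e => hself φ hφ ?_) (fun e => hself φ' hφ' ?_) fun e => hne' ?_
    all_goals first | exact DFunLike.congr_fun e z0 | exact (DFunLike.congr_fun e z0).symm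
  have hsT : ∑ y, f' y * (f' y + conj (f' y)) = 2 * (Nat.card ↥(Z ⊔ A) : ℂ) := by
    refine sum_pair lam lam' (fun e => hne ?_) (fun e => hself φ hφ ?_) (fun e => hself φ' hφ' ?_)
      fun e => hne' ?_
    all_goals exact DFunLike.congr_fun e ⟨_, mem_sup_left hz⟩
  have hsub : ∑ y : ↥(Z ⊔ A ⊔ E), (if (y : G) ∈ Z ⊔ A then f y * (f y + conj (f y)) else 0) =
      2 * (Nat.card ↥(Z ⊔ A) : ℂ) := by
    rw [← hsT, ← Finset.sum_filter]
    refine (Finset.sum_bij' (fun y _ => inclusion (le_sup_left : Z ⊔ A ≤ Z ⊔ A ⊔ E) y)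
      (fun y hy => (⟨(y : G), (Finset.mem_filter.1 hy).2⟩ : ↥(Z ⊔ A))) (fun y _ => ?_)
      (fun _ _ => Finset.mem_univ _) (fun _ _ => rfl) (fun _ _ => rfl) fun y _ => rfl).symm
    exact Finset.mem_filter.2 ⟨Finset.mem_univ _, y.2⟩
  have hnorm : Cfsg.classInner F F = 2 := by
    nth_rewrite 1 [hF]
    rw [Char.classInner_add_left, Char.classInner_smul_left, Char.classInner_smul_left,
      classInner_twist _ htt f hFcl, classInner_twist _ htt f' hFcl]
    have s1 : ∑ y : ↥(Z ⊔ A ⊔ E), f y * (conj (F y) + conj (F (t * y))) =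
        2 * (σ : ℂ) * (2 * (Nat.card ↥(Z ⊔ A ⊔ E) : ℂ)) +
          2 * ((r : ℂ) - σ) * (2 * (Nat.card ↥(Z ⊔ A) : ℂ)) := by
      calc _ = ∑ y : ↥(Z ⊔ A ⊔ E), (2 * (σ : ℂ) * (f y * (f y + conj (f y))) + 2 * ((r : ℂ) - σ) *
            (if (y : G) ∈ Z ⊔ A then f y * (f y + conj (f y)) else 0)) :=
            Finset.sum_congr rfl fun y _ => by
              rw [(hFval y).2, hreal, (hFval y).1]
              split_ifs <;> ring
        _ = _ := by rw [Finset.sum_add_distrib, ← Finset.mul_sum, ← Finset.mul_sum, hsB, hsub]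
    have s2 : ∑ y : ↥(Z ⊔ A), f' y * (conj (F y) + conj (F (t * y))) =
        2 * (r : ℂ) * (2 * (Nat.card ↥(Z ⊔ A) : ℂ)) := by
      calc _ = ∑ y : ↥(Z ⊔ A), 2 * (r : ℂ) * (f' y * (f' y + conj (f' y))) :=
            Finset.sum_congr rfl fun y _ => by
              have h1 := hFval (inclusion le_sup_left y)
              rw [if_pos (show ((inclusion (le_sup_left : Z ⊔ A ≤ Z ⊔ A ⊔ E) y :
                ↥(Z ⊔ A ⊔ E)) : G) ∈ Z ⊔ A from y.2)] at h1
              have h2 := hreal (inclusion le_sup_left y)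
              simp only [coe_inclusion] at h1 h2
              rw [h1.2, h2, h1.1]
              simp only [hf, hf', hlam, hlam', MonoidHom.comp_apply]
              ring
        _ = _ := by rw [← Finset.mul_sum, hsT]
    rw [s1, s2, h.card_B, Nat.cast_mul]
    have hσ2 : (σ : ℂ) * σ = 1 := by rcases hσ with rfl | rfl <;> norm_num
    field_simp
    linear_combination (((A.relIndex E : ℕ) : ℂ) - 1) * hσ2 - hcC
  -- the coefficients in the row
  obtain ⟨z, hz', hexp, hzsum⟩ := Char.IsGeneralizedCharacter.exists_coeff hgen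
  rw [← hcoef (Char.IsIrrCharacter.isCharacter (θ i).2)]
  by_contra hne0
  rw [hz'] at hne0
  have hzi : z (θ i) ≠ 0 := fun e => hne0 (by rw [e, Int.cast_zero])
  -- orthogonality to the row
  have hrow : ∀ (H : Subgroup G) (hH : H ≤ Z ⊔ A ⊔ E) (g : H → ℂ),
      ∑ y : H, g y * conj (μ y) = 0 →
      ∑ j, (ε j : ℂ) * Cfsg.classInner (twist H t g) (θ j : G → ℂ) = 0 := by
    intro H hH g hg0
    calc ∑ j, (ε j : ℂ) * Cfsg.classInner (twist H t g) (θ j : G → ℂ)
        = (2 * (Nat.card H : ℂ))⁻¹ * ∑ y : H, g y * conj (∑ j, (ε j : ℂ) * ((θ j : G → ℂ) y) +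
            ∑ j, (ε j : ℂ) * ((θ j : G → ℂ) (t * y))) := by
          simp only [classInner_twist H htt g (Char.IsIrrCharacter.isClassFunction (θ _).2),
            Finset.mul_sum, map_add, map_sum, map_mul, map_intCast, mul_add, Finset.sum_add_distrib]
          rw [Finset.sum_comm (γ := H), Finset.sum_comm (γ := H)]
          congr 1 <;> exact Finset.sum_congr rfl fun y _ => Finset.sum_congr rfl fun j _ => by ring
      _ = (2 * (Nat.card H : ℂ))⁻¹ * (4 * ∑ y : H, g y * conj (μ y)) := by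
          congr 1
          rw [Finset.mul_sum]
          refine Finset.sum_congr rfl fun y _ => ?_
          rw [R.odd _ (h.B_le (hH y.2)), zero_add,
            Finset.sum_congr rfl fun j _ => by rw [R.val j _ (h.B_le (hH y.2)), ← mul_assoc,
              show (ε j : ℂ) * ε j = 1 by rcases R.sign j with e | e <;> simp [e], one_mul],
            Finset.sum_const, Finset.card_univ, Fintype.card_fin, nsmul_eq_mul, map_mul, map_natCast]
          push_cast
          ring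
      _ = 0 := by rw [hg0, mul_zero, mul_zero]
  have hconjμ : ∀ ψ : ↥(Z ⊔ A ⊔ E) →* ℂˣ, ψ z0 ≠ 1 →
      ∑ y : ↥(Z ⊔ A ⊔ E), (ψ y : ℂ) * conj (μ y) = 0 := fun ψ hψ => by
    have := congrArg conj (hμB ψ ⟨z0, hz, hψ⟩)
    rw [map_zero, map_sum] at this
    rw [← this]
    exact Finset.sum_congr rfl fun y _ => by rw [map_mul, Complex.conj_conj, mul_comm]
  have hconjT : ∀ ψ : ↥(Z ⊔ A) →* ℂˣ, ψ ⟨_, mem_sup_left hz⟩ ≠ 1 →
      ∑ y : ↥(Z ⊔ A), (ψ y : ℂ) * conj (μ y) = 0 := fun ψ hψ => by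
    rw [Finset.sum_congr rfl fun y : ↥(Z ⊔ A) => fun _ => by rw [hμT y y.2], ← Finset.sum_mul]
    have h1 := sum_hom_mul_conj ψ 1
    rw [if_neg fun e => hψ (by rw [e, MonoidHom.one_apply])] at h1
    simp only [MonoidHom.one_apply, Units.val_one, map_one, mul_one] at h1
    rw [h1, zero_mul]
  have horth : ∑ j, (ε j : ℂ) * (z (θ j) : ℂ) = 0 := by
    simp only [← hz', hF, Char.classInner_add_left, Char.classInner_smul_left, mul_add,
      Finset.sum_add_distrib, mul_left_comm _ (σ : ℂ), mul_left_comm _ ((c : ℂ) / r),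
      ← Finset.mul_sum]
    rw [hrow _ le_rfl f, hrow _ le_sup_left f', mul_zero, mul_zero, add_zero]
    · simp only [hf', sub_mul, Finset.sum_sub_distrib, hconjT lam hφ, hconjT lam' hφ', sub_zero]
    · simp only [hf, sub_mul, Finset.sum_sub_distrib, hconjμ φ hφ, hconjμ φ' hφ', sub_zero]
  obtain ⟨j, hji, hzj⟩ : ∃ j, j ≠ i ∧ z (θ j) ≠ 0 := by
    by_contra hcon
    push Not at hcon
    rw [Finset.sum_eq_single i (fun j _ hj => by rw [hcon j hj, Int.cast_zero, mul_zero])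
      fun h0 => absurd (Finset.mem_univ i) h0] at horth
    rcases mul_eq_zero.1 horth with e | e
    · have := R.sign i
      simp only [Int.cast_eq_zero] at e
      omega
    · exact hzi (by exact_mod_cast e)
  rw [hnorm] at hzsum
  have hsq : ∑ ψ : Cfsg.IrrCharacter G, z ψ * z ψ = 2 := by exact_mod_cast hzsum.symm
  have hθ : θ j ≠ θ i := fun e => hji (R.inj e)
  have h1 : 1 ≤ z (θ i) * z (θ i) := by nlinarith [mul_self_pos.2 hzi]
  have h2 : 1 ≤ z (θ j) * z (θ j) := by nlinarith [mul_self_pos.2 hzj]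
  have hle : z (θ i) * z (θ i) + z (θ j) * z (θ j) + ∑ ψ ∈ (Finset.univ.erase (θ i)).erase (θ j),
      z ψ * z ψ = 2 := by
    rw [add_assoc, Finset.add_sum_erase _ (fun ψ => z ψ * z ψ) (Finset.mem_erase.2 ⟨hθ, Finset.mem_univ _⟩),
      Finset.add_sum_erase _ (fun ψ => z ψ * z ψ) (Finset.mem_univ _), hsq]
  have h3 : (0 : ℤ) ≤ ∑ ψ ∈ (Finset.univ.erase (θ i)).erase (θ j), z ψ * z ψ :=
    Finset.sum_nonneg fun ψ _ => mul_self_nonneg _
  have hrest : ∀ ψ, ψ ≠ θ i → ψ ≠ θ j → z ψ = 0 := fun ψ a b =>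
    mul_self_eq_zero.1 ((Finset.sum_eq_zero_iff_of_nonneg fun ψ _ => mul_self_nonneg _).1
      (by omega) ψ (Finset.mem_erase.2 ⟨b, Finset.mem_erase.2 ⟨a, Finset.mem_univ _⟩⟩))
  have hFeq : ∀ x, F x = (z (θ i) : ℂ) * (θ i : G → ℂ) x + (z (θ j) : ℂ) * (θ j : G → ℂ) x := by
    intro x
    conv_lhs => rw [hexp]
    rw [Finset.sum_apply, Fintype.sum_eq_add (θ i) (θ j) hθ.symm fun ψ hψ => by
      rw [Pi.smul_apply, hrest ψ hψ.1 hψ.2, Int.cast_zero, zero_smul]]
    rfl
  -- the row sum restricted to the two constituents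
  have horth2 : (ε i : ℂ) * z (θ i) + (ε j : ℂ) * z (θ j) = 0 := by
    rw [← horth, Fintype.sum_eq_add i j hji.symm fun k hk => by
      rw [hrest (θ k) (fun e => hk.1 (R.inj e)) (fun e => hk.2 (R.inj e)), Int.cast_zero, mul_zero]]
  have hzero : ∀ y ∈ Z ⊔ A, F (t * y) = 0 := fun y hy => by
    have hyO := h.ZA_le hy
    rw [hFeq, R.val i y hyO, R.val j y hyO]
    linear_combination μ y * horth2
  have h0 : ∑ y : ↥(Z ⊔ A), f' y * (f' y + conj (f' y)) = 0 := Finset.sum_eq_zero fun y _ => by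
    have h1 := hFval (inclusion le_sup_left y)
    rw [if_pos (show ((inclusion (le_sup_left : Z ⊔ A ≤ Z ⊔ A ⊔ E) y : ↥(Z ⊔ A ⊔ E)) : G) ∈ Z ⊔ A
      from y.2)] at h1
    simp only [coe_inclusion] at h1
    have h2 := hzero y y.2
    rw [h1.2, h1.1, mul_eq_zero] at h2
    rw [show f' y + conj (f' y) = 0 from h2.resolve_left hr0, mul_zero]
  rw [hsT] at h0
  exact mul_ne_zero two_ne_zero hT0 h0

end

end CfsgLib.GWKlein
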