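import Cfsg.Agent.Lib.GWKlein.CaseOneCentralizer
import Cfsg.Agent.Lib.GWKlein.CaseOneChar
import Cfsg.Agent.Lib.GWKlein.Overgroup
import Cfsg.Agent.Lib.GWKlein.Order

/-!
# Gorenstein–Walter, the last configuration: induced values on `B = Z A E`

`B` is abelian, inverted by `a`, and two elements of `B` other than `1` are conjugate in `G` only
through `C(t)`; so the values on `B` and `t B` of a function induced from `B` or `Z A` extended
trivially along `t` are elementary.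
-/

set_option autoImplicit false
set_option linter.unusedSectionVars false
set_option linter.style.haveILetI false

open scoped ComplexConjugate

universe u

namespace CfsgLib.GWKlein

open Subgroup

variable {G : Type u} [Group G]

/-- The order of a product of two subgroups, one normalising the other. -/
theorem card_sup_eq_mul_relIndex {H K : Subgroup G} (hn : K ≤ normalizer (H : Set G)) :
    Nat.card ↥(H ⊔ K) = Nat.card ↥H * H.relIndex K := by
  haveI : (H.subgroupOf (H ⊔ K)).Normal :=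
    (normal_subgroupOf_iff_le_normalizer le_sup_left).2 (sup_le le_normalizer hn)
  have e := relIndex_sup_left (H := K.subgroupOf (H ⊔ K)) (K := H.subgroupOf (H ⊔ K))
  rw [← subgroupOf_sup le_sup_left le_sup_right, subgroupOf_self, relIndex_top_right,
    relIndex_subgroupOf le_sup_right] at e
  rw [← e, ← (H.subgroupOf (H ⊔ K)).card_mul_index,
    Nat.card_congr (subgroupOfEquivOfLe (le_sup_left : H ≤ H ⊔ K)).toEquiv]

/-- The order of a product of two disjoint subgroups, one normalising the other. -/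
theorem card_sup_of_disjoint {H K : Subgroup G} (hn : K ≤ normalizer (H : Set G))
    (hd : Disjoint H K) : Nat.card ↥(H ⊔ K) = Nat.card ↥H * Nat.card ↥K := by
  rw [← Nat.card_prod]
  symm
  refine Nat.card_congr (Equiv.ofBijective
    (fun x : ↥H × ↥K => (⟨x.1 * x.2, mul_mem (mem_sup_left x.1.2) (mem_sup_right x.2.2)⟩ : ↥(H ⊔ K)))
    ⟨fun x y e => mul_injective_of_disjoint hd (congrArg Subtype.val e), fun w => ?_⟩)
  have hw : (w : G) ∈ (↑(H ⊔ K) : Set G) := w.2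
  rw [coe_mul_of_right_le_normalizer_left H K hn] at hw
  obtain ⟨x, hx, y, hy, e⟩ := hw
  exact ⟨(⟨x, hx⟩, ⟨y, hy⟩), Subtype.ext e⟩

section

variable [Finite G] {t a : G} {r : ℕ} {P Z A E : Subgroup G} {ρ : G}

theorem CaseOne.B_le (h : CaseOne t a r P Z A E ρ) : Z ⊔ A ⊔ E ≤ oddPart t :=
  sup_le h.ZA_le h.E_le

theorem CaseOne.odd_B (h : CaseOne t a r P Z A E ρ) : Odd (Nat.card ↥(Z ⊔ A ⊔ E)) :=
  (odd_card_core _).of_dvd_nat (card_dvd_of_le h.B_le)

theorem CaseOne.odd_of_mem (h : CaseOne t a r P Z A E ρ) {x : G} (hx : x ∈ Z ⊔ A ⊔ E) :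
    Odd (orderOf x) := odd_orderOf h.odd_B hx

theorem CaseOne.commute_t (h : CaseOne t a r P Z A E ρ) {x : G} (hx : x ∈ Z ⊔ A ⊔ E) :
    Commute t x := commute_of_mem_oddPart (h.B_le hx)

theorem CaseOne.commute_B (h : CaseOne t a r P Z A E ρ) {x y : G} (hx : x ∈ Z ⊔ A ⊔ E)
    (hy : y ∈ Z ⊔ A ⊔ E) : Commute x y := by
  have hxy := h.inverted_B (mul_mem hx hy)
  have e : (x * y)⁻¹ = x⁻¹ * y⁻¹ := by
    rw [← hxy, show a * (x * y) * a⁻¹ = a * x * a⁻¹ * (a * y * a⁻¹) by group, h.inverted_B hx,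
      h.inverted_B hy]
  calc x * y = ((x * y)⁻¹)⁻¹ := (inv_inv _).symm
    _ = (x⁻¹ * y⁻¹)⁻¹ := by rw [e]
    _ = y * x := by rw [mul_inv_rev, inv_inv, inv_inv]

theorem CaseOne.mem_ZA (h : CaseOne t a r P Z A E ρ) {x : G} (hx : x ∈ Z ⊔ A ⊔ E)
    (hxP : x ∈ P ⊔ A) : x ∈ Z ⊔ A := by
  obtain ⟨c, hc, u, hu, rfl⟩ := h.mem_B hx
  refine mul_mem hc (mem_sup_right (h.disjoint.le ⟨hu, ?_⟩))
  have := mul_mem (inv_mem (sup_le_sup_right h.Z_le A hc)) hxP
  rwa [inv_mul_cancel_left] at this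

theorem CaseOne.card_ZA (h : CaseOne t a r P Z A E ρ) :
    Nat.card ↥(Z ⊔ A) = Nat.card ↥Z * Nat.card ↥A := by
  haveI := Fact.mk h.prime
  refine card_sup_of_disjoint (fun x hx => ?_) ?_
  · exact centralizer_le_normalizer _ (h.Z_central (h.A_le hx))
  · obtain ⟨n, hn⟩ := IsPGroup.iff_card.1 (h.pgroup.to_le h.Z_le)
    exact disjoint_of_coprime_natCard
      (hn ▸ (((Nat.Prime.coprime_iff_not_dvd h.prime).2 h.A_coprime).pow_left n))

theorem CaseOne.card_B (h : CaseOne t a r P Z A E ρ) :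
    Nat.card ↥(Z ⊔ A ⊔ E) = Nat.card ↥(Z ⊔ A) * A.relIndex E := by
  have hi : (Z ⊔ A) ⊓ E = A := le_antisymm
    (fun x hx => h.disjoint.le ⟨hx.2, sup_le_sup_right h.Z_le A hx.1⟩)
    (le_inf le_sup_right h.A_le_E)
  rw [card_sup_eq_mul_relIndex fun x hx => centralizer_le_normalizer _
    (mem_centralizer_iff.2 fun c hc => (h.commute_ZA (h.E_le hx) hc).eq),
    ← inf_relIndex_right, hi]

theorem CaseOne.card_O (h : CaseOne t a r P Z A E ρ) :
    Nat.card ↥(oddPart t) = r ^ 2 * Nat.card ↥(Z ⊔ A ⊔ E) := by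
  haveI := Fact.mk h.prime
  have hO : oddPart t = P ⊔ A ⊔ E :=
    le_antisymm h.gen (sup_le (sup_le h.P_le h.A_le) h.E_le)
  have h1 : Nat.card ↥(P ⊔ A) = Nat.card ↥P * Nat.card ↥A := by
    refine card_sup_of_disjoint (fun x hx => h.P_normal (h.A_le hx)) ?_
    obtain ⟨n, hn⟩ := IsPGroup.iff_card.1 h.pgroup
    exact disjoint_of_coprime_natCard
      (hn ▸ (((Nat.Prime.coprime_iff_not_dvd h.prime).2 h.A_coprime).pow_left n))
  have h2 : Nat.card ↥(P ⊔ A ⊔ E) = Nat.card ↥(P ⊔ A) * A.relIndex E := by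
    rw [card_sup_eq_mul_relIndex fun x hx => h.PA_normal (h.E_le hx), ← inf_relIndex_right,
      inf_comm, h.disjoint]
  rw [hO, h2, h1, h.card_P, h.card_B, h.card_ZA]
  ring

/-- A commutator of order `r` in the centre of `P`. -/
theorem CaseOne.exists_commutator (h : CaseOne t a r P Z A E ρ) :
    ∃ p ∈ P, ∃ q ∈ P, p * q * p⁻¹ * q⁻¹ ∈ Z ∧ p * q * p⁻¹ * q⁻¹ ≠ 1 ∧
      (p * q * p⁻¹ * q⁻¹) ^ r = 1 := by
  by_contra hne
  push Not at hne
  have hle : P ≤ Z := fun y hy => h.centre y hy fun w hw => by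
    have h1 : y * w * y⁻¹ * w⁻¹ = 1 := by
      by_contra e
      exact hne y hy w hw (h.comm_mem y hy w hw).1 e (h.comm_mem y hy w hw).2
    exact mul_inv_eq_iff_eq_mul.1 (mul_inv_eq_one.1 h1)
  have h1 := h.card_P
  rw [le_antisymm hle h.Z_le] at h1
  have h0 := Nat.card_pos (α := ↥Z)
  have h25 : 25 ≤ r ^ 2 := by nlinarith [h.five_le]
  nlinarith

variable (M : Minimal G t a) (hC : IsCoatom (centralizer ({t} : Set G))) (hg : ∃ g, Rot t a g)
include M hC hg

/-- Fusion of elements of `B` happens in `C(t)`. -/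
theorem CaseOne.mem_centralizer_of_conj (h : CaseOne t a r P Z A E ρ) {y g : G}
    (hy : y ∈ Z ⊔ A ⊔ E) (hy1 : y ≠ 1) (hw : g⁻¹ * y * g ∈ Z ⊔ A ⊔ E) :
    g ∈ centralizer ({t} : Set G) := by
  have S := M.setting
  set w := g⁻¹ * y * g with hwdef
  have hw1 : w ≠ 1 := fun e => hy1 (by
    calc y = g * w * g⁻¹ := by rw [hwdef]; group
      _ = 1 := by rw [e, mul_one, mul_inv_cancel])
  set u := g⁻¹ * t * g with hu
  have hu2 : u * u = 1 := by
    rw [hu, show g⁻¹ * t * g * (g⁻¹ * t * g) = g⁻¹ * (t * t) * g by group, S.t_mul_self, mul_one,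
      inv_mul_cancel]
  have hu1 : u ≠ 1 := fun e => S.t_ne_one (by
    calc t = g * u * g⁻¹ := by rw [hu]; group
      _ = 1 := by rw [e, mul_one, mul_inv_cancel])
  have huw : Commute u w := by
    show u * w = w * u
    rw [hu, hwdef, show g⁻¹ * t * g * (g⁻¹ * y * g) = g⁻¹ * (t * y) * g by group,
      (h.commute_t hy).eq]
    group
  have huC : u ∈ centralizer ({t} : Set G) :=
    h.centralizer_le M hC hg w hw hw1 (mem_centralizer_singleton_iff.2 huw.eq)
  obtain ⟨k, hk, v, hv, e⟩ := S.centralizer_eq huC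
  have hkodd := odd_orderOf (odd_card_core _) hk
  have hkt := commute_of_mem_oddPart hk
  suffices hut : u = t by
    refine mem_centralizer_singleton_iff.2 ?_
    calc g * t = g * u := by rw [hut]
      _ = t * g := by rw [hu]; group
  have hinv : v * w * v⁻¹ = w⁻¹ → False := fun hvw => by
    have h1 : k * w⁻¹ * k⁻¹ = w := by
      rw [← hvw, show k * (v * w * v⁻¹) * k⁻¹ = k * v * w * (k * v)⁻¹ by group, ← e, huw.eq,
        mul_inv_cancel_right]
    have h2 : k * w * k⁻¹ = w⁻¹ := by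
      calc k * w * k⁻¹ = (k * w⁻¹ * k⁻¹)⁻¹ := by group
        _ = w⁻¹ := by rw [h1]
    have h3 : Commute (k * k) w := mul_inv_eq_iff_eq_mul.1 (by
      rw [show k * k * w * (k * k)⁻¹ = k * (k * w * k⁻¹) * k⁻¹ by group, h2, h1])
    have h4 : Commute k w := by
      obtain ⟨m, hm⟩ := exists_pow_eq_self_of_coprime (x := k) (n := 2)
        (Nat.coprime_two_left.2 hkodd)
      rw [← hm, pow_two]
      exact h3.pow_left m
    rw [h4.eq, mul_inv_cancel_right] at h2
    exact hw1 (orderOf_eq_one_iff.1 (Nat.eq_one_of_dvd_coprimes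
      (Nat.coprime_two_right.2 (h.odd_of_mem hw)) dvd_rfl (orderOf_dvd_of_pow_eq_one (by
        rw [pow_two]; nth_rewrite 2 [h2]; exact mul_inv_cancel w))))
  rcases S.mem_four_iff.1 hv with rfl | rfl | rfl | rfl
  · rw [mul_one] at e
    rw [e] at hu1 hu2
    exact absurd (orderOf_eq_one_iff.1 (Nat.eq_one_of_dvd_coprimes
      (Nat.coprime_two_right.2 hkodd) dvd_rfl
      (orderOf_dvd_of_pow_eq_one (by rw [pow_two]; exact hu2)))) hu1
  · have hk1 : k = 1 := by
      rw [e, hkt.mul_mul_mul_comm, S.t_mul_self, mul_one] at hu2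
      exact orderOf_eq_one_iff.1 (Nat.eq_one_of_dvd_coprimes (Nat.coprime_two_right.2 hkodd) dvd_rfl
        (orderOf_dvd_of_pow_eq_one (by rw [pow_two]; exact hu2)))
    rw [e, hk1, one_mul]
  · exact (hinv (h.inverted_B hw)).elim
  · refine (hinv ?_).elim
    rw [show t * a * w * (t * a)⁻¹ = t * (a * w * a⁻¹) * t⁻¹ by group, h.inverted_B hw,
      (h.commute_t hw).inv_right.eq, mul_inv_cancel_right]

omit hC hg in
theorem CaseOne.conj_four (h : CaseOne t a r P Z A E ρ) {v y : G} (hv : v ∈ four t a)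
    (hy : y ∈ Z ⊔ A ⊔ E) : v⁻¹ * y * v = y ∨ v⁻¹ * y * v = y⁻¹ := by
  have S := M.setting
  have hty : t⁻¹ * y * t = y := by
    rw [mul_assoc, ← (h.commute_t hy).eq, inv_mul_cancel_left]
  have hay : a⁻¹ * y * a = y⁻¹ := by
    have := h.inverted_B hy
    rwa [S.a_inv] at this ⊢
  rcases S.mem_four_iff.1 hv with rfl | rfl | rfl | rfl
  · exact Or.inl (by group)
  · exact Or.inl hty
  · exact Or.inr hay
  · exact Or.inr (by
      rw [show (t * a)⁻¹ * y * (t * a) = a⁻¹ * (t⁻¹ * y * t) * a by group, hty, hay])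

/-- Elements of `oddPart t` conjugating `y ∈ B \ Z A` into `B` lie in `B`. -/
theorem CaseOne.mem_B_of_conj (h : CaseOne t a r P Z A E ρ) {y k : G} (hy : y ∈ Z ⊔ A ⊔ E)
    (hyT : y ∉ Z ⊔ A) (hk : k ∈ oddPart t) (hw : k⁻¹ * y * k ∈ Z ⊔ A ⊔ E) :
    k ∈ Z ⊔ A ⊔ E := by
  obtain ⟨n, hn, u, hu, rfl⟩ := h.mem_O hk
  obtain ⟨p, hp, b, hb, rfl⟩ := h.mem_PA hn
  have hbu : b * u ∈ Z ⊔ A ⊔ E := mul_mem (mem_sup_left (mem_sup_right hb)) (mem_sup_right hu)
  suffices hpB : p ∈ Z ⊔ A ⊔ E by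
    rw [mul_assoc]; exact mul_mem hpB hbu
  have hpy : p⁻¹ * y * p ∈ Z ⊔ A ⊔ E := by
    have e : p⁻¹ * y * p = b * u * ((p * b * u)⁻¹ * y * (p * b * u)) * (b * u)⁻¹ := by group
    rw [e]
    exact mul_mem (mul_mem hbu hw) (inv_mem hbu)
  set c := y⁻¹ * (p⁻¹ * y * p) with hc
  have hcB : c ∈ Z ⊔ A ⊔ E := mul_mem (inv_mem hy) hpy
  have hcP : c ∈ P := by
    have h1 := (mem_normalizer_iff.1 (h.P_normal (h.B_le (inv_mem hy))) p⁻¹).1 (inv_mem hp)
    rw [inv_inv] at h1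
    rw [hc, show y⁻¹ * (p⁻¹ * y * p) = y⁻¹ * p⁻¹ * y * p by group]
    exact mul_mem h1 hp
  have hcT : c ∈ Z ⊔ A := h.mem_ZA hcB (mem_sup_left hcP)
  have hyc : p⁻¹ * y * p = y * c := by rw [hc, mul_inv_cancel_left]
  obtain ⟨c0, hc0, u0, hu0, rfl⟩ := h.mem_B hy
  have hu01 : u0 ∉ A := fun e => hyT (mul_mem hc0 (mem_sup_right e))
  set e' := A.relIndex E with he'
  have hye : (c0 * u0) ^ e' ∈ Z ⊔ A := by
    rw [(h.commute_ZA (h.E_le hu0) hc0).mul_pow]
    exact mul_mem (_root_.pow_mem hc0 _) (mem_sup_right (h.pow_relIndex_mem hu0))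
  have hce : c ^ e' = 1 := by
    have h1 : (p⁻¹ * (c0 * u0) * p) ^ e' = p⁻¹ * (c0 * u0) ^ e' * p := by
      have := conj_pow (a := p⁻¹) (b := c0 * u0) (i := e')
      rwa [inv_inv] at this
    rw [mul_assoc p⁻¹ ((c0 * u0) ^ e') p, (h.commute_ZA (h.P_le hp) hye).eq, inv_mul_cancel_left,
      hyc, (h.commute_ZA (h.B_le hy) hcT).symm.mul_pow, mul_eq_left] at h1
    exact h1
  have hcop : Nat.Coprime r e' := h.coprime_r
  have hc1 : c = 1 := by
    obtain ⟨i, hi⟩ := h.pgroup ⟨c, hcP⟩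
    exact orderOf_eq_one_iff.1 (Nat.eq_one_of_dvd_coprimes (hcop.pow_left i)
      (orderOf_dvd_of_pow_eq_one (congrArg Subtype.val hi)) (orderOf_dvd_of_pow_eq_one hce))
  rw [hc1, mul_one] at hyc
  refine h.cent_B hc0 hu0 hu01 (h.P_le hp) ?_
  show p * (c0 * u0) = c0 * u0 * p
  conv_lhs => rw [← hyc]
  group

theorem CaseOne.disjoint_t (h : CaseOne t a r P Z A E ρ) {x : G} (hx : x ∈ Z ⊔ A ⊔ E) :
    t * x ∉ Z ⊔ A ⊔ E := fun htx => by
  have ht : t ∈ Z ⊔ A ⊔ E := by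
    have := mul_mem htx (inv_mem hx)
    rwa [mul_inv_cancel_right] at this
  have := h.odd_of_mem ht
  rw [M.setting.t2] at this
  exact absurd this (by decide)

/-- An element of `B` is not conjugate into `t B`. -/
theorem CaseOne.conj_not_mem (h : CaseOne t a r P Z A E ρ) {y g : G} (hy : y ∈ Z ⊔ A ⊔ E) :
    t * (g⁻¹ * y * g) ∉ Z ⊔ A ⊔ E ∧ g⁻¹ * (t * y) * g ∉ Z ⊔ A ⊔ E := by
  have hkey : ∀ x w c : G, w ∈ Z ⊔ A ⊔ E → x ∈ Z ⊔ A ⊔ E → c⁻¹ * (t * x) * c ≠ w := by
    intro x w c hw hx e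
    set N := Nat.card ↥(Z ⊔ A ⊔ E)
    have hpow : ∀ {z : G}, z ∈ Z ⊔ A ⊔ E → z ^ N = 1 := fun {z} hz =>
      orderOf_dvd_iff_pow_eq_one.1 (Subgroup.orderOf_dvd_natCard _ hz)
    have h1 : (c⁻¹ * (t * x) * c) ^ N = c⁻¹ * (t * x) ^ N * c := by
      have := conj_pow (a := c⁻¹) (b := t * x) (i := N)
      rwa [inv_inv] at this
    obtain ⟨m, hm⟩ : Odd N := h.odd_B
    have htN : t ^ N = t := by
      rw [hm, pow_succ, pow_mul, pow_two, M.setting.t_mul_self, one_pow, one_mul]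
    rw [e, hpow hw, (h.commute_t hx).mul_pow, hpow hx, mul_one, htN] at h1
    refine M.setting.t_ne_one ?_
    calc t = c * (c⁻¹ * t * c) * c⁻¹ := by group
      _ = 1 := by rw [← h1, mul_one, mul_inv_cancel]
  refine ⟨fun h1 => hkey _ y g⁻¹ hy h1 ?_, fun h1 => hkey y _ g h1 hy rfl⟩
  rw [← mul_assoc t t, M.setting.t_mul_self, one_mul]
  group

end

section values

variable [Fintype G] {t a : G} {r : ℕ} {P Z A E : Subgroup G} {ρ : G}
variable (M : Minimal G t a) (hC : IsCoatom (centralizer ({t} : Set G))) (hg : ∃ g, Rot t a g)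
include M hC hg

theorem CaseOne.twist_apply (h : CaseOne t a r P Z A E ρ) {H : Subgroup G} (hH : H ≤ Z ⊔ A ⊔ E)
    (f : H → ℂ) {y : G} (hy : y ∈ Z ⊔ A ⊔ E) (hy1 : y ≠ 1) :
    twist H t f y = (2 * (Nat.card H : ℂ))⁻¹ * ∑ g : G, Cfsg.extendByZero H f (g⁻¹ * y * g) ∧
    twist H t f (t * y) = twist H t f y := by
  have h1 : twist H t f y =
      (2 * (Nat.card H : ℂ))⁻¹ * ∑ g : G, Cfsg.extendByZero H f (g⁻¹ * y * g) := by
    simp only [twist]
    congr 1
    refine Finset.sum_congr rfl fun g _ => ?_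
    rw [Char.extendByZero_apply_notMem H f (g := t * (g⁻¹ * y * g))
      fun hm => (h.conj_not_mem M hC hg hy).1 (hH hm), add_zero]
  refine ⟨h1, ?_⟩
  rw [h1]
  simp only [twist]
  congr 1
  refine Finset.sum_congr rfl fun g _ => ?_
  rw [Char.extendByZero_apply_notMem H f (g := g⁻¹ * (t * y) * g)
    fun hm => (h.conj_not_mem M hC hg hy).2 (hH hm), zero_add]
  by_cases hgC : g ∈ centralizer ({t} : Set G)
  · have hgt : g⁻¹ * t = t * g⁻¹ := mem_centralizer_singleton_iff.1 (inv_mem hgC)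
    rw [show g⁻¹ * (t * y) * g = g⁻¹ * t * y * g by group, hgt,
      show t * (t * g⁻¹ * y * g) = t * t * (g⁻¹ * y * g) by group, M.setting.t_mul_self, one_mul]
  · rw [Char.extendByZero_apply_notMem, Char.extendByZero_apply_notMem]
    · exact fun hm => hgC (h.mem_centralizer_of_conj M hC hg hy hy1 (hH hm))
    · intro hm
      refine hgC (h.mem_centralizer_of_conj M hC hg (y := y * y) (mul_mem hy hy) (fun e => hy1 ?_) ?_)
      · exact orderOf_eq_one_iff.1 (Nat.eq_one_of_dvd_coprimes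
          (Nat.coprime_two_right.2 (h.odd_of_mem hy)) dvd_rfl
          (orderOf_dvd_of_pow_eq_one (by rw [pow_two]; exact e)))
      · set w := t * (g⁻¹ * (t * y) * g) with hw
        have hwB : w ∈ Z ⊔ A ⊔ E := hH hm
        have e1 : g⁻¹ * (t * y) * g = t * w := by
          rw [hw, ← mul_assoc t t, M.setting.t_mul_self, one_mul]
        have e2 : g⁻¹ * (y * y) * g = w * w := by
          calc g⁻¹ * (y * y) * g = g⁻¹ * (t * y) * g * (g⁻¹ * (t * y) * g) := by
                rw [show g⁻¹ * (t * y) * g * (g⁻¹ * (t * y) * g) = g⁻¹ * (t * y * (t * y)) * g by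
                  group, (h.commute_t hy).symm.mul_mul_mul_comm, M.setting.t_mul_self, one_mul]
            _ = w * w := by
                rw [e1, (h.commute_t hwB).symm.mul_mul_mul_comm, M.setting.t_mul_self, one_mul]
        rw [e2]
        exact mul_mem hwB hwB

omit hC hg in
/-- The sum over a set of conjugators closed under `a`. -/
theorem CaseOne.sum_conj (h : CaseOne t a r P Z A E ρ) {H : Subgroup G} (f : H → ℂ) {y : G}
    (hy : y ∈ H) (hyB : y ∈ Z ⊔ A ⊔ E) (S : Subgroup G) (haS : a ∈ S)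
    (hS : ∀ g : G, g⁻¹ * y * g ∈ H → g ∈ S)
    (hw : ∀ g ∈ S, g⁻¹ * y * g = y ∨ g⁻¹ * y * g = y⁻¹) :
    2 * ∑ g : G, Cfsg.extendByZero H f (g⁻¹ * y * g) =
      (Nat.card S : ℂ) * (f ⟨y, hy⟩ + f ⟨y⁻¹, inv_mem hy⟩) := by
  classical
  set F := fun g : G => Cfsg.extendByZero H f (g⁻¹ * y * g) with hF
  have hshift : ∑ g : G, F (g * a) = ∑ g : G, F g := Fintype.sum_equiv (Equiv.mulRight a) _ _ fun _ => rfl
  have hy' : a⁻¹ * y * a = y⁻¹ := by
    have := h.inverted_B hyB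
    rwa [M.setting.a_inv] at this ⊢
  have hval : ∀ g : G, F g + F (g * a) =
      if g ∈ S then f ⟨y, hy⟩ + f ⟨y⁻¹, inv_mem hy⟩ else 0 := by
    intro g
    have e : (g * a)⁻¹ * y * (g * a) = a⁻¹ * (g⁻¹ * y * g) * a := by group
    by_cases hgS : g ∈ S
    · rw [if_pos hgS, hF]
      simp only [e]
      rcases hw g hgS with e1 | e1
      · rw [e1, hy', Char.extendByZero_apply_mem H f hy,
          Char.extendByZero_apply_mem H f (inv_mem hy)]
      · rw [e1, show a⁻¹ * y⁻¹ * a = (a⁻¹ * y * a)⁻¹ by group, hy', inv_inv,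
          Char.extendByZero_apply_mem H f hy, Char.extendByZero_apply_mem H f (inv_mem hy), add_comm]
    · rw [if_neg hgS, hF]
      simp only
      rw [Char.extendByZero_apply_notMem H f fun hm => hgS (hS g hm),
        Char.extendByZero_apply_notMem H f fun hm => hgS (by
          have := mul_mem (hS _ hm) (inv_mem haS)
          rwa [mul_inv_cancel_right] at this), add_zero]
  rw [two_mul]
  nth_rewrite 2 [← hshift]
  rw [← Finset.sum_add_distrib, Finset.sum_congr rfl fun g _ => hval g, ← Finset.sum_filter,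
    Finset.sum_const, nsmul_eq_mul, Nat.card_eq_fintype_card, Fintype.card_subtype]

/-- Values at the elements of `Z A`. -/
theorem CaseOne.twist_apply_ZA (h : CaseOne t a r P Z A E ρ) {H : Subgroup G}
    (hH : H ≤ Z ⊔ A ⊔ E) (f : H → ℂ) {y : G} (hy : y ∈ Z ⊔ A) (hyH : y ∈ H) (hy1 : y ≠ 1) :
    (Nat.card H : ℂ) * twist H t f y =
      (Nat.card ↥(oddPart t) : ℂ) * (f ⟨y, hyH⟩ + f ⟨y⁻¹, inv_mem hyH⟩) := by
  have S := M.setting
  have hyB : y ∈ Z ⊔ A ⊔ E := mem_sup_left hy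
  have hsum := h.sum_conj M f hyH hyB (centralizer ({t} : Set G))
    (mem_centralizer_singleton_iff.2 S.comm.symm.eq)
    (fun g hm => h.mem_centralizer_of_conj M hC hg hyB hy1 (hH hm)) (fun g hgC => by
      obtain ⟨k, hk, v, hv, rfl⟩ := S.centralizer_eq hgC
      have e : (k * v)⁻¹ * y * (k * v) = v⁻¹ * y * v := by
        rw [show (k * v)⁻¹ * y * (k * v) = v⁻¹ * (k⁻¹ * (y * k)) * v by group,
          (h.commute_ZA hk hy).eq, inv_mul_cancel_left]
      rw [e]
      exact h.conj_four M hv hyB)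
  rw [S.card_centralizer_t] at hsum
  push_cast at hsum
  have hH0 : (Nat.card H : ℂ) ≠ 0 := Nat.cast_ne_zero.2 Nat.card_pos.ne'
  rw [(h.twist_apply M hC hg hH f hyB hy1).1, mul_inv]
  linear_combination (norm := (field_simp; ring)) (1 / 4 : ℂ) * hsum

/-- Values at the elements of `B` outside `Z A`. -/
theorem CaseOne.twist_apply_B (h : CaseOne t a r P Z A E ρ) {y : G} (hy : y ∈ Z ⊔ A ⊔ E)
    (hyT : y ∉ Z ⊔ A) (f : ↥(Z ⊔ A ⊔ E) → ℂ) (f' : ↥(Z ⊔ A) → ℂ) :
    twist (Z ⊔ A ⊔ E) t f y = f ⟨y, hy⟩ + f ⟨y⁻¹, inv_mem hy⟩ ∧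
      twist (Z ⊔ A) t f' y = 0 := by
  classical
  have S := M.setting
  have hy1 : y ≠ 1 := fun e => hyT (e ▸ one_mem _)
  have hV : four t a ≤ normalizer ((Z ⊔ A ⊔ E : Subgroup G) : Set G) := fun v hv => by
    refine mem_normalizer_iff_map_conj_eq.2 (eq_of_le_of_card_ge ?_
      (card_map_of_injective (MulAut.conj v).injective).ge)
    rintro _ ⟨x, hx, rfl⟩
    show v * x * v⁻¹ ∈ _
    rcases h.conj_four M (inv_mem hv) hx with e | e
    · rw [inv_inv] at e; rw [e]; exact hx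
    · rw [inv_inv] at e; rw [e]; exact inv_mem hx
  constructor
  · have hmem : ∀ g : G, g⁻¹ * y * g ∈ Z ⊔ A ⊔ E → g ∈ Z ⊔ A ⊔ E ⊔ four t a := by
      intro g hm
      obtain ⟨k, hk, v, hv, rfl⟩ := S.centralizer_eq (h.mem_centralizer_of_conj M hC hg hy hy1 hm)
      refine mul_mem (mem_sup_left (h.mem_B_of_conj M hC hg hy hyT hk ?_)) (mem_sup_right hv)
      have := (mem_normalizer_iff.1 (hV hv) _).1 hm
      rwa [show v * ((k * v)⁻¹ * y * (k * v)) * v⁻¹ = k⁻¹ * y * k by group] at this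
    have hsum := h.sum_conj M f hy hy (Z ⊔ A ⊔ E ⊔ four t a) (mem_sup_right S.a_mem) hmem
      (fun g hgS => by
        have hgS' : g ∈ (↑(Z ⊔ A ⊔ E ⊔ four t a) : Set G) := hgS
        rw [coe_mul_of_right_le_normalizer_left _ _ hV] at hgS'
        obtain ⟨k, hk, v, hv, rfl⟩ := hgS'
        have e : (k * v)⁻¹ * y * (k * v) = v⁻¹ * y * v := by
          rw [show (k * v)⁻¹ * y * (k * v) = v⁻¹ * (k⁻¹ * (y * k)) * v by group,
            (h.commute_B hy hk).eq, inv_mul_cancel_left]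
        rw [e]
        exact h.conj_four M hv hy)
    rw [card_sup_of_disjoint hV (S.disjoint_oddPart_four h.B_le), S.card_four] at hsum
    push_cast at hsum
    have hH0 : (Nat.card ↥(Z ⊔ A ⊔ E) : ℂ) ≠ 0 := Nat.cast_ne_zero.2 Nat.card_pos.ne'
    rw [(h.twist_apply M hC hg le_rfl f hy hy1).1, mul_inv]
    linear_combination (norm := (field_simp; ring))
      (1 / (4 * (Nat.card ↥(Z ⊔ A ⊔ E) : ℂ))) * hsum
  · rw [(h.twist_apply M hC hg le_sup_left f' hy hy1).1, Finset.sum_eq_zero, mul_zero]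
    intro g _
    refine Char.extendByZero_apply_notMem _ _ fun hm => hyT ?_
    obtain ⟨k, hk, v, hv, rfl⟩ := S.centralizer_eq
      (h.mem_centralizer_of_conj M hC hg hy hy1 (mem_sup_left hm))
    rcases h.conj_four M (inv_mem hv) (mem_sup_left hm) with e | e <;>
      rw [inv_inv, show v * ((k * v)⁻¹ * y * (k * v)) * v⁻¹ = k⁻¹ * y * k by group] at e
    · have h1 : k⁻¹ * y * k ∈ Z ⊔ A := e ▸ hm
      have h2 := (h.commute_ZA hk h1).eq
      rw [show y = k * (k⁻¹ * y * k) * k⁻¹ by group, ← h2, mul_inv_cancel_right]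
      exact h1
    · have h1 : k⁻¹ * y * k ∈ Z ⊔ A := e ▸ inv_mem hm
      have h2 := (h.commute_ZA hk h1).eq
      rw [show y = k * (k⁻¹ * y * k) * k⁻¹ by group, ← h2, mul_inv_cancel_right]
      exact h1

end values

end CfsgLib.GWKlein
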