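import Cfsg.Agent.Lib.GWKlein.ShapeQuot
import Cfsg.Agent.Lib.GWKlein.CaseOneData

/-!
# Gorenstein–Walter, the shape of `O = oddPart t`

If the four-group is not self-centralising then `O = (P × A) E` as described by `CaseOne`.
-/

set_option autoImplicit false
set_option linter.unusedSectionVars false
set_option linter.style.haveILetI false

universe u

namespace CfsgLib.GWKlein

open Subgroup CfsgLib.Components.Bender
open scoped commutatorElement

variable {G : Type u} [Group G] [Finite G] {t a : G} {r : ℕ} {ρ u : G}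

/-- A subgroup of `G` lying in a cyclic one is cyclic. -/
theorem isCyclic_of_subgroup_le {H T : Subgroup G} (hT : IsCyclic T) (hle : H ≤ T) : IsCyclic H :=
  haveI := hT
  isCyclic_of_injective (Subgroup.inclusion hle) (Subgroup.inclusion_injective hle)

namespace ShapeCore

section

variable (h : CoreHyp t a) (hc : ShapeCore t a r ρ u)
include h hc

theorem card_core :
    Nat.card ↥(coreIn r (oddPart t)) = r ^ 2 *
      Nat.card ↥(coreIn r (oddPart t) ⊓ centralizer (coreIn r (oddPart t) : Set G)) := by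
  haveI := Fact.mk hc.prime
  set P := coreIn r (oddPart t)
  let f : P →* Multiplicative (ZMod r) × Multiplicative (ZMod r) :=
    MonoidHom.mk' (fun p => (Multiplicative.ofAdd (coordI r ρ u p),
      Multiplicative.ofAdd (coordJ r ρ u p))) fun p q => Prod.ext
        (congrArg Multiplicative.ofAdd (hc.pairing_mul_left h p.2 q.2 hc.u_mem))
        (congrArg Multiplicative.ofAdd (hc.pairing_mul_right h p.2 q.2 hc.rho_mem))
  have hker : f.ker = (P ⊓ centralizer (P : Set G)).subgroupOf P := by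
    ext p
    rw [MonoidHom.mem_ker, mem_subgroupOf]
    constructor
    · intro e
      have e1 := congrArg (fun w => Multiplicative.toAdd w.1) e
      have e2 := congrArg (fun w => Multiplicative.toAdd w.2) e
      exact hc.mem_center_of_coord h p.2 e1 e2
    · intro hp
      have e1 : coordI r ρ u p = 0 := hc.pairing_commute h (h.mem_center_of_core hp hc.u_mem)
      have e2 : coordJ r ρ u p = 0 :=
        hc.pairing_commute h (h.mem_center_of_core hp hc.rho_mem).symm
      exact Prod.ext (congrArg Multiplicative.ofAdd e1) (congrArg Multiplicative.ofAdd e2)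
  have hρu : ∀ i j : ℕ, coordI r ρ u (ρ ^ (i : ℤ) * u ^ (j : ℤ)) = i ∧
      coordJ r ρ u (ρ ^ (i : ℤ) * u ^ (j : ℤ)) = j := by
    intro i j
    have hi := zpow_mem hc.rho_mem (i : ℤ)
    have hj := zpow_mem hc.u_mem (j : ℤ)
    constructor
    · rw [coordI, hc.pairing_mul_left h hi hj hc.u_mem, hc.pairing_zpow h hc.rho_mem hc.u_mem,
        hc.pairing_zpow h hc.u_mem hc.u_mem, hc.pairing_rho_u h, hc.pairing_self h]
      simp
    · rw [coordJ, hc.pairing_skew h hc.rho_mem (mul_mem hi hj),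
        hc.pairing_mul_left h hi hj hc.rho_mem, hc.pairing_zpow h hc.rho_mem hc.rho_mem,
        hc.pairing_zpow h hc.u_mem hc.rho_mem, hc.pairing_self h,
        hc.pairing_skew h hc.u_mem hc.rho_mem, hc.pairing_rho_u h]
      simp
  have hsurj : Function.Surjective f := by
    rintro ⟨x, y⟩
    obtain ⟨e1, e2⟩ := hρu (Multiplicative.toAdd x).val (Multiplicative.toAdd y).val
    rw [ZMod.natCast_zmod_val] at e1 e2
    exact ⟨⟨_, mul_mem (zpow_mem hc.rho_mem _) (zpow_mem hc.u_mem _)⟩,
      Prod.ext (congrArg Multiplicative.ofAdd e1) (congrArg Multiplicative.ofAdd e2)⟩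
  have h1 := f.ker.card_mul_index
  rw [index_ker, MonoidHom.range_eq_top.2 hsurj, card_top, hker,
    Nat.card_congr (subgroupOfEquivOfLe inf_le_left).toEquiv, Nat.card_prod,
    Nat.card_congr Multiplicative.toAdd, Nat.card_zmod] at h1
  rw [← h1]
  ring

/-- A fixed element of `P ⊔ A` is a power of `ρ`. -/
theorem fixed_of_mem {d : G} (hd : d ∈ coreIn r (oddPart t) ⊔ centralPart t r)
    (hda : Commute a d) : d ∈ zpowers ρ := by
  haveI := Fact.mk hc.prime
  set N := coreIn r (oddPart t) ⊔ centralPart t r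
  have hdN : d ∈ N := hd
  have hA : ∀ b ∈ centralPart t r, a * b * a⁻¹ = b⁻¹ := fun b hb =>
    h.center_inverted b hb.1 hb.2.1
  obtain ⟨p, hp, b, hb, rfl⟩ := exists_mem_core_mul h hdN
  have hpb : Commute p b := commute_centralPart hb (coreIn_le r _ hp)
  have e3 : p⁻¹ * (a * p * a⁻¹) = b * b := by
    have := mul_inv_eq_iff_eq_mul.2 hda.eq
    rw [show a * (p * b) * a⁻¹ = a * p * a⁻¹ * (a * b * a⁻¹) by group, hA b hb,
      mul_inv_eq_iff_eq_mul] at this
    rw [this]
    group
  obtain ⟨k, hk⟩ := isPGroup_coreIn r (oddPart t)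
    ⟨_, mul_mem (inv_mem hp) (hc.a_conj_mem h hp)⟩
  have hbb : b * b = 1 := by
    have h5 : (b * b) ^ r ^ k = 1 := by rw [← e3]; exact congrArg Subtype.val hk
    exact orderOf_eq_one_iff.1 (Nat.eq_one_of_dvd_coprimes
      ((mul_mem hb hb : b * b ∈ centralPart t r).2.2.pow_right k) dvd_rfl
      (orderOf_dvd_of_pow_eq_one h5))
  have hb1 : b = 1 := by
    have h6 : orderOf b ∣ 2 := orderOf_dvd_of_pow_eq_one (by rw [pow_two]; exact hbb)
    exact orderOf_eq_one_iff.1 (Nat.eq_one_of_dvd_coprimes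
      (Nat.coprime_two_left.2 (h.odd_mem hb.1)) h6 dvd_rfl)
  rw [hb1, mul_one] at hda ⊢
  exact hc.fixed p hp hda

end

section

variable (h : ShapeHyp t a) (hc : ShapeCore t a r ρ u)
include h hc

/-- The fixed points of `a` in `oddPart t`. -/
theorem fixed_eq {e : ℕ} {v : G} (hq : ShapeQuot t a r e v) :
    oddPart t ⊓ centralizer ({a} : Set G) = zpowers ρ := by
  haveI := Fact.mk hc.prime
  refine le_antisymm (fun d hd => ?_) (zpowers_le.2 ⟨coreIn_le r _ hc.rho_mem,
    mem_centralizer_singleton_iff.2 hc.rho_fixed.symm.eq⟩)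
  have hda : Commute a d := (mem_centralizer_singleton_iff.1 hd.2).symm
  obtain ⟨j, hj⟩ := hq.gen d hd.1
  set N := coreIn r (oddPart t) ⊔ centralPart t r
  have hA : ∀ b ∈ centralPart t r, a * b * a⁻¹ = b⁻¹ := fun b hb =>
    h.center_inverted hb.1 hb.2.1
  have haN : a * (d * v ^ j) * a⁻¹ ∈ N := by
    obtain ⟨p, hp, b, hb, e1⟩ := exists_mem_core_mul h.coreHyp hj
    rw [e1, show a * (p * b) * a⁻¹ = a * p * a⁻¹ * (a * b * a⁻¹) by group, hA b hb]
    exact mul_mem (mem_sup_left (hc.a_conj_mem h.coreHyp hp)) (mem_sup_right (inv_mem hb))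
  have e2 : a * (d * v ^ j) * a⁻¹ = d * v ^ (-j) := by
    rw [show a * (d * v ^ j) * a⁻¹ = a * d * a⁻¹ * (a * v ^ j * a⁻¹) by group, ← conj_zpow,
      hq.v_inverted, hda.eq, mul_inv_cancel_right, inv_zpow']
  rw [e2] at haN
  have h2j : (e : ℤ) ∣ j + j := by
    refine (hq.zpow_mem (j + j)).1 ?_
    have := mul_mem (inv_mem haN) hj
    rwa [show (d * v ^ (-j))⁻¹ * (d * v ^ j) = v ^ (j + j) by group] at this
  have hodd : Odd e := by
    refine (h.odd_mem hq.v_mem).of_dvd_nat (Int.natCast_dvd_natCast.1 ((hq.zpow_mem _).1 ?_))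
    rw [zpow_natCast, pow_orderOf_eq_one]
    exact one_mem _
  have hej : (e : ℤ) ∣ j := by
    have hco : IsCoprime (e : ℤ) 2 :=
      Int.isCoprime_iff_gcd_eq_one.2 (by simpa [Int.gcd] using Nat.coprime_two_right.2 hodd)
    exact hco.dvd_of_dvd_mul_left (by rwa [two_mul])
  have hdN : d ∈ N := by
    have := mul_mem hj (inv_mem ((hq.zpow_mem j).2 hej))
    rwa [mul_inv_cancel_right] at this
  exact hc.fixed_of_mem h.coreHyp hdN hda

end

end ShapeCore

/-- The configuration `CaseOne`. -/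
theorem ShapeHyp.exists_caseOne (h : ShapeHyp t a) (hD : ¬ SelfCent t a) :
    ∃ (r : ℕ) (P Z A E : Subgroup G) (ρ : G), CaseOne t a r P Z A E ρ := by
  have hC := h.coreHyp
  obtain ⟨r, ρ, u, hc⟩ := hC.exists_shapeCore fun hfix => hD fun d hd htd had =>
    hfix d (h.setting.mem_oddPart.2 ⟨hd, htd⟩) had
  obtain ⟨e, v, hq⟩ := hc.exists_shapeQuot h
  haveI := Fact.mk hc.prime
  set P := coreIn r (oddPart t) with hP
  set Z := P ⊓ centralizer (P : Set G) with hZ
  set A := centralPart t r with hA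
  set E := A ⊔ zpowers v with hE
  have hρ1 : ρ ≠ 1 := fun e => hc.not_commute (by rw [e]; exact Commute.one_left u)
  have hZc : oddPart t ≤ centralizer (Z : Set G) := fun c hcO => mem_centralizer_iff.2 fun z hz =>
    (mem_centralizer_singleton_iff.1 ((hC.core_center hc.prime hz).1 hcO)).symm
  have hAc : oddPart t ≤ centralizer (A : Set G) := fun c hcO => mem_centralizer_iff.2 fun z hz =>
    (commute_centralPart hz hcO).symm.eq
  have hAinv : ∀ b ∈ A, a * b * a⁻¹ = b⁻¹ := fun b hb => h.center_inverted hb.1 hb.2.1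
  -- `Z A` is central, inverted and cyclic
  have hZA : ∀ y ∈ Z ⊔ A, y ∈ oddPart t ∧ oddPart t ≤ centralizer ({y} : Set G) := by
    intro y hy
    have hle : Z ⊔ A ≤ oddPart t ⊓ centralizer (oddPart t : Set G) :=
      sup_le (le_inf (inf_le_left.trans (coreIn_le r _)) (le_centralizer_iff.1 hZc))
        (le_inf (centralPart_le t r) (le_centralizer_iff.1 hAc))
    exact ⟨(hle hy).1, fun c hcO => mem_centralizer_singleton_iff.2
      (mem_centralizer_iff.1 (hle hy).2 c hcO)⟩
  obtain ⟨T, hT, hTm⟩ := hC.exists_cyclic hc.prime hc.rho_mem hc.rho_fixed hρ1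
  have hZAT : Z ⊔ A ≤ T := fun y hy => hTm y (hZA y hy).1
    (mem_centralizer_singleton_iff.1 ((hZA y hy).2 (coreIn_le r _ hc.rho_mem)))
    (h.center_inverted (hZA y hy).1 (hZA y hy).2)
  have hcl : ∀ x ∈ E, ∃ b ∈ A, ∃ j : ℤ, x = b * v ^ j := fun x hx => by
    have hn : zpowers v ≤ normalizer (A : Set G) :=
      (zpowers_le.2 hq.v_mem).trans (hAc.trans (centralizer_le_normalizer _))
    have h1 : x ∈ (↑(A ⊔ zpowers v) : Set G) := hx
    rw [coe_mul_of_right_le_normalizer_left _ _ hn] at h1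
    obtain ⟨b, hb, w, hw, rfl⟩ := h1
    obtain ⟨j, rfl⟩ := mem_zpowers_iff.1 hw
    exact ⟨b, hb, j, rfl⟩
  have hinN : ∀ j : ℤ, v ^ j ∈ P ⊔ A → v ^ j ∈ A := by
    intro j hj
    obtain ⟨p, hp, b, hb, e1⟩ := exists_mem_core_mul hC hj
    have hpe : p = v ^ j * b⁻¹ := by rw [e1, mul_inv_cancel_right]
    obtain ⟨k, hk⟩ := isPGroup_coreIn r (oddPart t) ⟨p, hp⟩
    have hcop : (orderOf p).Coprime r := by
      have h1 : (orderOf (v ^ j)).Coprime r :=
        hq.v_coprime.coprime_dvd_left (orderOf_dvd_of_mem_zpowers ⟨j, rfl⟩)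
      have h2 : Commute (v ^ j) b⁻¹ := (commute_centralPart hb (zpow_mem hq.v_mem j)).inv_right
      exact (h1.mul_left (inv_mem hb : b⁻¹ ∈ A).2.2).coprime_dvd_left
        (hpe ▸ h2.orderOf_mul_dvd_lcm.trans (Nat.lcm_dvd_mul _ _))
    have hp1 : p = 1 := orderOf_eq_one_iff.1 (Nat.eq_one_of_dvd_coprimes (hcop.pow_right k) dvd_rfl
      (orderOf_dvd_of_pow_eq_one (congrArg Subtype.val hk)))
    rw [e1, hp1, one_mul]
    exact hb
  have hdisj : E ⊓ (P ⊔ A) = A := by
    refine le_antisymm (fun x hx => ?_) (le_inf le_sup_left le_sup_right)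
    obtain ⟨b, hb, j, rfl⟩ := hcl x hx.1
    have : v ^ j ∈ P ⊔ A := by
      have := mul_mem (inv_mem (mem_sup_right hb : b ∈ P ⊔ A)) hx.2
      rwa [inv_mul_cancel_left] at this
    exact mul_mem hb (hinN j this)
  have hvA : ∀ j : ℤ, v ^ j ∈ A ↔ (e : ℤ) ∣ j := fun j =>
    ⟨fun hj => (hq.zpow_mem j).1 (mem_sup_right hj), fun hj => hinN j ((hq.zpow_mem j).2 hj)⟩
  -- `|E : A| = e`
  have hidx : A.relIndex E = e := by
    have he0 : 0 < e := by have := hq.one_lt; omega
    haveI : NeZero e := ⟨he0.ne'⟩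
    let φ : Fin e → E ⧸ A.subgroupOf E := fun i =>
      ((⟨v ^ (i : ℤ), mem_sup_right (zpow_mem (mem_zpowers v) _)⟩ : E) : E ⧸ A.subgroupOf E)
    have hbij : Function.Bijective φ := by
     refine ⟨fun i k hik => ?_, ?_⟩
     · have h1 : (v ^ (i : ℤ))⁻¹ * v ^ (k : ℤ) ∈ A := mem_subgroupOf.1 (QuotientGroup.eq.1 hik)
       rw [← zpow_neg, ← zpow_add, hvA] at h1
       have hi := i.2
       have hk := k.2
       have : -((i : ℕ) : ℤ) + ((k : ℕ) : ℤ) = 0 :=
         Int.eq_zero_of_abs_lt_dvd h1 (abs_lt.2 ⟨by omega, by omega⟩)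
       exact Fin.ext (by omega)
     · intro x
       obtain ⟨⟨x, hx⟩, rfl⟩ := QuotientGroup.mk_surjective x
       obtain ⟨b, hb, j, rfl⟩ := hcl x hx
       refine ⟨⟨(j % e).toNat, by
         have := Int.emod_lt_of_pos j (show (0 : ℤ) < e by omega)
         have := Int.emod_nonneg j (show (e : ℤ) ≠ 0 by omega)
         omega⟩, QuotientGroup.eq.2 (mem_subgroupOf.2 ?_)⟩
       show (v ^ (((j % e).toNat : ℕ) : ℤ))⁻¹ * (b * v ^ j) ∈ A
       have hbc : Commute b (v ^ (-(j % e))) := (commute_centralPart hb (zpow_mem hq.v_mem _)).symm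
       rw [Int.toNat_of_nonneg (Int.emod_nonneg j (show (e : ℤ) ≠ 0 by omega)), ← zpow_neg,
         ← mul_assoc, ← hbc.eq, mul_assoc, ← zpow_add]
       exact mul_mem hb ((hvA _).2 ⟨j / e, by rw [Int.emod_def]; ring⟩)
    rw [relIndex, index_eq_card, ← Nat.card_congr (Equiv.ofBijective φ hbij), Nat.card_fin]
  have heodd : Odd e := (h.odd_mem hq.v_mem).of_dvd_nat (Int.natCast_dvd_natCast.1
    ((hq.zpow_mem _).1 (by rw [zpow_natCast, pow_orderOf_eq_one]; exact one_mem _)))
  have h5 : 5 ≤ r := by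
    have h2 := hc.prime.two_le
    have hne2 := hc.ne_two
    have h3 : r ≠ 3 := by
      rintro rfl
      have hlt := hq.one_lt
      obtain ⟨k, hk⟩ := heodd
      rcases hq.dvd with h7 | h7
      · have := Nat.le_of_dvd (by norm_num) h7; omega
      · have := Nat.le_of_dvd (by norm_num) h7
        obtain rfl : e = 3 := by omega
        omega
    have h4 : r ≠ 4 := by rintro rfl; exact absurd hc.prime (by norm_num)
    omega
  refine ⟨r, P, Z, A, E, ρ,
    { prime := hc.prime
      five_le := h5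
      P_le := coreIn_le r _
      pgroup := isPGroup_coreIn r _
      P_normal := h.le_normalizer_core r
      a_norm := h.a_mem_normalizer_core r
      Z_le := inf_le_left
      Z_ne := fun e0 => hc.not_commute (commutatorElement_eq_one_iff_commute.1
        (mem_bot.1 (e0 ▸ hC.commutator_mem_center hc.prime hc.rho_mem hc.u_mem)))
      A_le := centralPart_le t r
      Z_central := hZc
      A_central := hAc
      ZA_inverted := fun y hy => h.center_inverted (hZA y hy).1 (hZA y hy).2
      ZA_cyclic := isCyclic_of_subgroup_le hT hZAT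
      A_coprime := fun hd => by
        obtain ⟨x, hx⟩ := exists_prime_orderOf_dvd_card' (G := A) r hd
        have h1 := (x.2 : (x : G) ∈ centralPart t r).2.2
        rw [Subgroup.orderOf_coe, hx, Nat.coprime_self] at h1
        exact hc.prime.ne_one h1
      card_P := hc.card_core hC
      centre := fun y hy hyc => ⟨hy, mem_centralizer_iff.2 fun w hw => (hyc w hw).symm.eq⟩
      comm_mem := fun y hy w hw => by
        have h1 := hC.commutator_mem_center hc.prime hy hw
        have h2 := hC.commutator_pow hc.prime hy hw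
        rw [commutatorElement_def] at h1 h2
        exact ⟨h1, h2⟩
      pow_mem := fun y hy => hC.pow_mem_center hc.prime hy
      rho_mem := hc.rho_mem
      rho_order := orderOf_eq_prime hc.rho_pow hρ1
      fixed := hc.fixed_eq h hq
      E_le := sup_le (centralPart_le t r) (zpowers_le.2 hq.v_mem)
      A_le_E := le_sup_left
      E_inverted := fun x hx => by
        obtain ⟨b, hb, j, rfl⟩ := hcl x hx
        have hbv : Commute b (v ^ j) := (commute_centralPart hb (zpow_mem hq.v_mem _)).symm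
        rw [show a * (b * v ^ j) * a⁻¹ = a * b * a⁻¹ * (a * v ^ j * a⁻¹) by group, hAinv b hb,
          ← conj_zpow, hq.v_inverted, inv_zpow, mul_inv_rev]
        exact hbv.inv_inv.eq
      one_lt := hidx.symm ▸ hq.one_lt
      E_dvd := hidx.symm ▸ hq.dvd
      E_fpf := fun x hx hxA y hy hxy => hq.fpf x
        ((sup_le (centralPart_le t r) (zpowers_le.2 hq.v_mem) : E ≤ oddPart t) hx)
        (fun hxN => hxA (hdisj ▸ (⟨hx, hxN⟩ : x ∈ E ⊓ (P ⊔ A)))) y hy hxy
      disjoint := hdisj
      gen := fun c hcO => by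
        obtain ⟨j, hj⟩ := hq.gen c hcO
        have := mul_mem (mem_sup_left hj : c * v ^ j ∈ P ⊔ A ⊔ E)
          (mem_sup_right (mem_sup_right (zpow_mem (mem_zpowers v) (-j))) : v ^ (-j) ∈ P ⊔ A ⊔ E)
        rwa [mul_assoc, ← zpow_add, add_neg_cancel, zpow_zero, mul_one] at this }⟩

/-- The shape of `oddPart t` when the four-group is not self-centralising. -/
theorem Minimal.exists_caseOne (M : Minimal G t a) (hC : IsCoatom (centralizer ({t} : Set G)))
    {g : G} (hg : Rot t a g)
    (hgen : oddPart t ≤ closure {y | y ∈ oddPart t ∧ a * y * a⁻¹ = y⁻¹})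
    (hover : ∀ r : ℕ, r.Prime → (¬ ∀ y ∈ coreIn r (oddPart t), Commute a y) →
      ∀ x ∈ coreIn r (oddPart t), Commute a x → x ≠ 1 → ∃ H T : Subgroup G, H ≠ ⊤ ∧
        four t a ≤ H ∧ centralizer ({x} : Set G) ≤ H ∧ RotData t a H T)
    (hmod : ∀ r : ℕ, r.Prime → (¬ ∀ y ∈ coreIn r (oddPart t), Commute a y) →
      ∀ Y : Subgroup G, Y ≤ coreIn r (oddPart t) → (∀ y ∈ Y, y ^ r = 1) →
        (∀ y ∈ Y, ∀ z ∈ Y, Commute y z) → oddPart t ≤ normalizer (Y : Set G) →
          ∀ y ∈ Y, Commute a y → y = 1)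
    (hD : ¬ SelfCent t a) :
    ∃ (r : ℕ) (P Z A E : Subgroup G) (ρ : G), CaseOne t a r P Z A E ρ :=
  ShapeHyp.exists_caseOne
    ⟨M.setting, hgen, hover, hmod, fun _ hx hx1 hxa hxc _ _ hyc =>
      M.central_fixed hC hg hx hx1 hxa hxc hyc⟩ hD

end CfsgLib.GWKlein
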