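import Cfsg.Agent.Lib.GWKlein.Main
import Cfsg.Agent.Lib.GWKlein.Shape
import Cfsg.Agent.Lib.GWKlein.LocalHalf
import Cfsg.Agent.Lib.GWKlein.CaseOneEnd

/-!
# Gorenstein–Walter, Klein case: the assembly

`simpleKlein_of_coatom_gen` reduces the theorem to the maximality of `C(t)` and to the generation of
`oddPart t` by the elements inverted by `a`.
-/

set_option autoImplicit false
set_option linter.unusedSectionVars false

universe u

namespace CfsgLib.GWKlein

open Subgroup

/-- With `C(t)` maximal and `oddPart t` generated by inverted elements the four-group is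
self-centralising among the elements of odd order. -/
theorem Minimal.selfCent_of {G : Type u} [Group G] [Finite G] {t a : G} (M : Minimal G t a)
    (hC : IsCoatom (centralizer ({t} : Set G)))
    (hgen : oddPart t ≤ closure {y | y ∈ oddPart t ∧ a * y * a⁻¹ = y⁻¹}) : SelfCent t a := by
  by_contra hD
  have := M.simple
  obtain ⟨g, hg⟩ := M.setting.exists_rot M.noncomm
  obtain ⟨r, P, Z, A, E, ρ, h⟩ := M.exists_caseOne hC hg hgen
    (fun r hr hPa x hx hxa hx1 => M.exists_over_of_moved hC hr hPa hx hxa hx1)
    (fun r hr _ Y hY helem hab hn => M.elementary_fixed_eq_one hC hgen hD hr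
      (hY.trans (CfsgLib.Components.Bender.coreIn_le r _)) helem hab hn) hD
  obtain ⟨g', hg', hgρ⟩ := h.exists_rot_commute M hC
  exact h.false M hC hg' hgρ

/-- The theorem from its last two inputs. -/
theorem simpleKlein_of_coatom_gen
    (hA : ∀ (G : Type u) [Group G] [Finite G] (t a : G), Minimal G t a → oddPart t ≠ ⊥ →
      IsCoatom (centralizer ({t} : Set G)))
    (hgen : ∀ (G : Type u) [Group G] [Finite G] (t a : G), Minimal G t a →
      IsCoatom (centralizer ({t} : Set G)) →
        oddPart t ≤ closure {y | y ∈ oddPart t ∧ a * y * a⁻¹ = y⁻¹}) :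
    SimpleKlein.{u} :=
  simpleKlein_of fun G _ _ t a M hO =>
    ⟨hA G t a M hO, M.selfCent_of (hA G t a M hO) (hgen G t a M (hA G t a M hO))⟩

end CfsgLib.GWKlein
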