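import Cfsg.Agent.Lib.Classical.Dickson.PSL
import Cfsg.Agent.Lib.Classical.Dickson.Torus
import Cfsg.Agent.Lib.Classical.Dickson.Groups

/-!
# Subgroups of `A₄` and `PSL₂(q)` normalised by a four-group

An odd order `r`-subgroup of `PSL₂(q)`, `q` odd, normalised by a four-group `V` is cyclic,
centralised by one involution of `V` and inverted by the other two.
-/

set_option autoImplicit false
set_option linter.unusedSectionVars false
set_option linter.style.haveILetI false

namespace CfsgLib.GWKlein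

open Matrix OnePoint MulAction
open scoped MatrixGroups
open CfsgLib.Classical.Dickson

universe u

/-- `P` is cyclic, centralised by an involution of `V` and inverted by the others. -/
def TorusShape {X : Type u} [Group X] (V P : Subgroup X) : Prop :=
  IsCyclic P ∧ ∃ w ∈ V, w ≠ 1 ∧ (∀ x ∈ P, w * x = x * w) ∧
    ∀ v ∈ V, v ≠ 1 → v ≠ w → ∀ x ∈ P, v * x * v⁻¹ = x⁻¹

/-- A finite cyclic group has one subgroup of each order. -/
theorem subgroup_eq_of_natCard {X : Type u} [Group X] [Finite X] [IsCyclic X] {H K : Subgroup X}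
    (h : Nat.card H = Nat.card K) : H = K := by
  classical
  haveI := Fintype.ofFinite X
  have key : ∀ L : Subgroup X, Nat.card L = Nat.card H →
      (L : Set X).toFinset = Finset.univ.filter (fun x : X => x ^ Nat.card H = 1) := by
    intro L hL
    refine Finset.eq_of_subset_of_card_le (fun x hx => ?_) ?_
    · rw [Finset.mem_filter]
      refine ⟨Finset.mem_univ _, ?_⟩
      rw [← hL]
      exact congrArg Subtype.val (pow_card_eq_one' (x := (⟨x, Set.mem_toFinset.mp hx⟩ : L)))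
    · refine (IsCyclic.card_pow_eq_one_le Nat.card_pos).trans ?_
      rw [Set.toFinset_card, ← Nat.card_eq_fintype_card]
      exact hL.ge
  exact SetLike.coe_injective (Set.toFinset_inj.mp ((key H rfl).trans (key K h.symm).symm))

section PGL

variable {F : Type*} [Field F] [Fintype F] [DecidableEq F] (p : ℕ) [hp : Fact p.Prime] [CharP F p]

local notation "PG" => ProjGenLinGroup (Fin 2) F

include p hp in
theorem torusShape_sln (h2 : (2 : F) ≠ 0) {V P : Subgroup PG} (hVs : V ≤ sln F) (hV4 : Nat.card V = 4)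
    (hV2 : ∀ v ∈ V, v * v = 1) (hPs : P ≤ sln F) {r : ℕ} [Fact r.Prime] (hr : r ≠ 2)
    (hP : IsPGroup r P) (hN : ∀ v ∈ V, ∀ x ∈ P, v * x * v⁻¹ ∈ P) :
    TorusShape V P := by
  classical
  have hVcomm : ∀ v ∈ V, ∀ w ∈ V, v * w = w * v := fun v hv w hw => by
    have h := hV2 (v * w) (mul_mem hv hw)
    rw [← inv_eq_of_mul_eq_one_right h, _root_.mul_inv_rev, inv_eq_of_mul_eq_one_right (hV2 v hv),
      inv_eq_of_mul_eq_one_right (hV2 w hw)]
  have hord : ∀ v ∈ V, v ≠ 1 → orderOf v = 2 := fun v hv hv1 =>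
    orderOf_eq_prime (by rw [pow_two]; exact hV2 v hv) hv1
  obtain ⟨w₀, hw₀, hw₀1⟩ : ∃ w ∈ V, w ≠ (1 : PG) := by
    by_contra h
    push Not at h
    rw [(Subgroup.eq_bot_iff_forall V).mpr h, Subgroup.card_bot] at hV4
    omega
  by_cases hP1 : P = ⊥
  · subst hP1
    exact ⟨Bot.isCyclic, w₀, hw₀, hw₀1, fun x hx => by rw [Subgroup.mem_bot.mp hx]; simp,
      fun v _ _ _ x hx => by rw [Subgroup.mem_bot.mp hx]; simp⟩
  haveI : Nontrivial P := (Subgroup.nontrivial_iff_ne_bot P).mpr hP1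
  haveI : Finite P := inferInstance
  haveI := hP.center_nontrivial
  -- an element of order `r` in the centre
  obtain ⟨c, hc, hcr, hccent⟩ : ∃ c ∈ P, orderOf c = r ∧ ∀ g ∈ P, g * c = c * g := by
    haveI : Nontrivial (Subgroup.center P) := hP.center_nontrivial
    obtain ⟨n, hn⟩ := (hP.to_subgroup (Subgroup.center P)).nontrivial_iff_card.mp inferInstance
    obtain ⟨⟨⟨c, hc⟩, hcc⟩, hco⟩ := exists_prime_orderOf_dvd_card' (G := Subgroup.center P) r
      (by rw [hn.2]; exact dvd_pow_self r hn.1.ne')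
    refine ⟨c, hc, ?_, fun g hg => congrArg Subtype.val (Subgroup.mem_center_iff.mp hcc ⟨g, hg⟩)⟩
    rw [← hco, Subgroup.orderOf_mk, Subgroup.orderOf_mk]
  have hr2 : 2 < r := lt_of_le_of_ne (Fact.out : r.Prime).two_le (Ne.symm hr)
  have hc1 : c ≠ 1 := fun e => by rw [e, orderOf_one] at hcr; omega
  have hodd : ∀ g ∈ P, g * g = 1 → g = 1 := fun g hg hgg => by
    obtain ⟨m, hm⟩ := hP ⟨g, hg⟩
    have hm' : g ^ r ^ m = 1 := congrArg Subtype.val hm
    have h1 : orderOf g ∣ Nat.gcd (r ^ m) 2 :=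
      Nat.dvd_gcd (orderOf_dvd_of_pow_eq_one hm') (orderOf_dvd_of_pow_eq_one (by rw [pow_two]; exact hgg))
    rw [show Nat.gcd (r ^ m) 2 = 1 from Nat.Coprime.pow_left m
      ((Nat.coprime_primes Fact.out Nat.prime_two).mpr hr), Nat.dvd_one, orderOf_eq_one_iff] at h1
    exact h1
  by_cases hrp : r = p
  · -- unipotent: the four-group would fix its point
    exfalso
    have hcp : c ^ p = 1 := by rw [← hrp, ← hcr, pow_orderOf_eq_one]
    obtain ⟨x, hcx⟩ := exists_fixed_of_unip p hcp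
    have hPx : ∀ g ∈ P, g • x = x := fun g hg => by
      refine fix_of_unip p hc1 hcp hcx ?_
      rw [← mul_smul, ← hccent g hg, mul_smul, hcx]
    have huniq : ∀ y, c • y = y → y = x := fun y hy => fix_of_unip p hc1 hcp hcx hy
    have hVx : ∀ v ∈ V, v • x = x := fun v hv => huniq _ (by
      have h := hPx _ (hN v⁻¹ (inv_mem hv) c hc)
      rw [inv_inv, mul_smul, mul_smul, inv_smul_eq_iff] at h
      exact h)
    obtain ⟨v, hv, hv1, hvw⟩ : ∃ v ∈ V, v ≠ 1 ∧ v ≠ w₀ := by
      by_contra h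
      push Not at h
      have hsub : (V : Set PG) ⊆ {1, w₀} := fun v hv => by
        by_cases h1 : v = 1
        · exact Or.inl h1
        · exact Or.inr (h v hv h1)
      have := (Set.ncard_le_ncard hsub (Set.toFinite _)).trans (Set.ncard_pair (Ne.symm hw₀1)).le
      rw [← Nat.card_coe_set_eq] at this
      simp only [SetLike.coe_sort_coe, hV4] at this
      omega
    exact no_fixed_of_klein p h2 (hord v hv hv1) (hord w₀ hw₀ hw₀1) hvw (hVcomm v hv w₀ hw₀)
      (hVx v hv) (hVx w₀ hw₀)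
  -- semisimple
  have hcp : ¬ p ∣ orderOf c := fun h => hrp (by
    rw [hcr] at h
    exact ((Nat.prime_dvd_prime_iff_eq hp.out Fact.out).mp h).symm)
  have hcp' := pow_ne_one_of_semisimple hcp hc1
  have hq : 4 ≤ Fintype.card F := by
    by_contra hlt
    have hq2 : 2 ≤ Fintype.card F := Fintype.one_lt_card
    have h3 : Fintype.card F = 3 := by
      rcases (show Fintype.card F = 2 ∨ Fintype.card F = 3 by omega) with h | h
      · exfalso
        apply h2
        have := Nat.cast_card_eq_zero F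
        rw [h] at this
        exact_mod_cast this
      · exact h
    have hd : orderOf c ∣ Nat.card PG := orderOf_dvd_natCard c
    rw [card_pgl_eq, h3, hcr] at hd
    have hr3 : r ∣ 3 := by
      rcases (Nat.Prime.dvd_mul Fact.out).mp (show r ∣ 3 * 2 ^ 3 by norm_num at hd ⊢; exact hd) with h | h
      · exact h
      · have := (Nat.prime_dvd_prime_iff_eq Fact.out Nat.prime_two).mp ((Fact.out : r.Prime).dvd_of_dvd_pow h)
        omega
    have hr3' : r = 3 := (Nat.prime_dvd_prime_iff_eq Fact.out Nat.prime_three).mp hr3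
    obtain ⟨n, hn, hnc⟩ := FiniteField.card F p
    rw [h3] at hnc
    have hp3 : p ∣ 3 := hnc ▸ dvd_pow_self p n.2.ne'
    exact hrp (hr3'.trans ((Nat.prime_dvd_prime_iff_eq hp.out Nat.prime_three).mp hp3).symm)
  obtain ⟨h, -, -, -, -, hout, hcardN, -, -⟩ :=
    pairStab_data p (Or.inr rfl) hq hcp hc1 (hPs hc)
  have hPT : P ≤ torus p (sln F) c := fun g hg => by
    have hgN : g ∈ pairStab p (sln F) c := normalizing_mem_pairStab (hPs hg)
      (by rw [hccent g hg, mul_inv_cancel_right]; exact Subgroup.mem_zpowers c)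
      (by rw [mul_assoc, ← hccent g hg, inv_mul_cancel_left]; exact Subgroup.mem_zpowers c)
    by_contra hgT
    have := hodd g hg (hout g hgN hgT)
    exact hgT (this ▸ one_mem _)
  haveI hTc := isCyclic_torus (Γ := sln F) hcp'
  haveI hPc : IsCyclic P := isCyclic_of_injective (Subgroup.inclusion hPT) (Subgroup.inclusion_injective hPT)
  -- `V` normalises the subgroup of order `r`
  have hVN : ∀ v ∈ V, v ∈ pairStab p (sln F) c := by
    intro v hv
    have hz : ∀ u ∈ V, u * c * u⁻¹ ∈ Subgroup.zpowers c := fun u hu => by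
      have hmem := hN u hu c hc
      haveI := hTc
      have h1 : Subgroup.zpowers (⟨u * c * u⁻¹, hmem⟩ : P) = Subgroup.zpowers (⟨c, hc⟩ : P) :=
        subgroup_eq_of_natCard (by
          rw [Nat.card_zpowers, Nat.card_zpowers, Subgroup.orderOf_mk, Subgroup.orderOf_mk]
          exact orderOf_injective (MulAut.conj u).toMonoidHom (MulAut.conj u).injective c)
      obtain ⟨i, hi⟩ := Subgroup.mem_zpowers_iff.mp (h1 ▸ Subgroup.mem_zpowers (⟨u * c * u⁻¹, hmem⟩ : P))
      exact Subgroup.mem_zpowers_iff.mpr ⟨i, by simpa using congrArg Subtype.val hi⟩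
    refine normalizing_mem_pairStab (hVs hv) (hz v hv) ?_
    have := hz v⁻¹ (inv_mem hv)
    rwa [inv_inv] at this
  set T := torus p (sln F) c
  have hTcomm : ∀ a ∈ T, ∀ b ∈ T, a * b = b * a := fun a ha b hb => by
    obtain ⟨t, ht⟩ := hTc.exists_generator
    obtain ⟨i, hi⟩ := Subgroup.mem_zpowers_iff.mp (ht ⟨a, ha⟩)
    obtain ⟨j, hj⟩ := Subgroup.mem_zpowers_iff.mp (ht ⟨b, hb⟩)
    exact congrArg Subtype.val (show (⟨a, ha⟩ : T) * ⟨b, hb⟩ = ⟨b, hb⟩ * ⟨a, ha⟩ by
      rw [← hi, ← hj]; exact ((Commute.refl t).zpow_zpow i j).eq)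
  -- an involution of `V` in the torus
  obtain ⟨w, hw, hw1, hwT⟩ : ∃ w ∈ V, w ≠ (1 : PG) ∧ w ∈ T := by
    by_contra hcon
    push Not at hcon
    have hmem : w₀ ∈ V ∧ ∃ v ∈ V, v ≠ 1 ∧ v ≠ w₀ := by
      refine ⟨hw₀, ?_⟩
      by_contra h'
      push Not at h'
      have hsub : (V : Set PG) ⊆ {1, w₀} := fun v hv => by
        by_cases h1 : v = 1
        · exact Or.inl h1
        · exact Or.inr (h' v hv h1)
      have := (Set.ncard_le_ncard hsub (Set.toFinite _)).trans (Set.ncard_pair (Ne.symm hw₀1)).le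
      rw [← Nat.card_coe_set_eq] at this
      simp only [SetLike.coe_sort_coe, hV4] at this
      omega
    obtain ⟨-, v, hv, hv1, hvw⟩ := hmem
    -- the product of two elements outside the torus lies in it
    have hidx : (T.subgroupOf (pairStab p (sln F) c)).index = 2 := by
      have := (T.subgroupOf (pairStab p (sln F) c)).card_mul_index
      rw [Nat.card_congr (Subgroup.subgroupOfEquivOfLe (torus_le_pairStab hcp')).toEquiv, hcardN] at this
      have hpos : 0 < Nat.card T := Nat.card_pos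
      exact Nat.eq_of_mul_eq_mul_left hpos (by rw [this, mul_comm])
    have := (Subgroup.mul_mem_iff_of_index_two hidx (a := ⟨v, hVN v hv⟩) (b := ⟨w₀, hVN w₀ hw₀⟩)).mpr
      (iff_of_false (hcon v hv hv1) (hcon w₀ hw₀ hw₀1))
    refine hcon (v * w₀) (mul_mem hv hw₀) ?_ this
    intro e
    exact hvw ((eq_inv_of_mul_eq_one_left e).trans (inv_eq_of_mul_eq_one_right (hV2 w₀ hw₀)))
  refine ⟨hPc, w, hw, hw1, fun x hx => hTcomm w hwT x (hPT hx), fun v hv hv1 hvw x hx => ?_⟩
  have hvT : v ∉ T := fun hvT => by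
    -- at most one involution in a cyclic group
    have h1 : Subgroup.zpowers (⟨v, hvT⟩ : T) = Subgroup.zpowers (⟨w, hwT⟩ : T) :=
      subgroup_eq_of_natCard (by
        rw [Nat.card_zpowers, Nat.card_zpowers, Subgroup.orderOf_mk, Subgroup.orderOf_mk, hord v hv hv1,
          hord w hw hw1])
    obtain ⟨i, hi⟩ := Subgroup.mem_zpowers_iff.mp (h1 ▸ Subgroup.mem_zpowers (⟨v, hvT⟩ : T))
    have hi' : w ^ i = v := by simpa using congrArg Subtype.val hi
    rcases Int.even_or_odd i with ⟨k, rfl⟩ | ⟨k, rfl⟩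
    · apply hv1
      rw [← hi', _root_.zpow_add, ← Commute.mul_zpow rfl, hV2 w hw, _root_.one_zpow]
    · apply hvw
      rw [← hi', _root_.zpow_add, two_mul, _root_.zpow_add, ← Commute.mul_zpow rfl, hV2 w hw, _root_.one_zpow, one_mul,
        zpow_one]
  have hvxT : v * x ∉ T := fun e => hvT (by
    have := mul_mem e (inv_mem (hPT hx)); rwa [mul_inv_cancel_right] at this)
  have hsq := hout (v * x) (mul_mem (hVN v hv) (torus_le_pairStab hcp' (hPT hx))) hvxT
  rw [inv_eq_of_mul_eq_one_right (hV2 v hv)]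
  exact eq_inv_of_mul_eq_one_left (by rw [← hsq]; group)

end PGL

section Transfer

variable {X Y : Type u} [Group X] [Group Y]

/-- A group isomorphic to `A₄` or to some `PSL₂(q)`, `q` odd. -/
def IsA4OrL2 (X : Type u) [Group X] : Prop :=
  Nonempty (X ≃* alternatingGroup (Fin 4)) ∨
    ∃ (K : Type) (_ : Field K) (_ : Fintype K) (_ : DecidableEq K), Odd (Fintype.card K) ∧
      Nonempty (X ≃* ProjectiveSpecialLinearGroup (Fin 2) K)

theorem alt_four_fixed : ∀ x y : alternatingGroup (Fin 4), y * y * y = 1 → x * x = 1 →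
    (x * y * x⁻¹ = 1 ∨ x * y * x⁻¹ = y ∨ x * y * x⁻¹ = y * y) → x = 1 ∨ y = 1 := by
  decide +kernel

/-- In `A₄` and `PSL₂(q)`, `q` odd, an `r`-subgroup, `r` odd, normalised by a four-group is cyclic,
centralised by one of its involutions and inverted by the other two. -/
theorem torusShape [Finite X] (hX : IsA4OrL2 X) {V P : Subgroup X} (hV4 : Nat.card V = 4)
    (hV2 : ∀ v ∈ V, v * v = 1) {r : ℕ} [Fact r.Prime] (hr : r ≠ 2) (hP : IsPGroup r P)
    (hN : ∀ v ∈ V, ∀ x ∈ P, v * x * v⁻¹ ∈ P) : TorusShape V P := by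
  classical
  rcases hX with ⟨⟨e⟩⟩ | ⟨K, _, _, _, hodd, ⟨e⟩⟩
  · have hbot : P = ⊥ := by
      by_contra hne
      haveI : Nontrivial P := (Subgroup.nontrivial_iff_ne_bot P).mpr hne
      obtain ⟨k, hk, hcard⟩ := hP.nontrivial_iff_card.mp inferInstance
      have hdvd : Nat.card P ∣ 12 := by
        have h12 : Nat.card X = 12 := by
          rw [Nat.card_congr e.toEquiv, Nat.card_eq_fintype_card]; decide
        exact h12 ▸ Subgroup.card_subgroup_dvd_card P
      have hrr : r ∣ 3 * 2 ^ 2 := (dvd_pow_self r hk.ne').trans (hcard ▸ hdvd)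
      have hr3 : r = 3 := by
        rcases (Nat.Prime.dvd_mul Fact.out).mp hrr with h | h
        · exact (Nat.prime_dvd_prime_iff_eq Fact.out Nat.prime_three).mp h
        · exact absurd ((Nat.prime_dvd_prime_iff_eq Fact.out Nat.prime_two).mp
            ((Fact.out : r.Prime).dvd_of_dvd_pow h)) hr
      subst hr3
      have hk1 : k = 1 := by
        by_contra h
        have h9 : 9 ∣ 12 := (pow_dvd_pow 3 (show 2 ≤ k by omega)).trans (hcard ▸ hdvd)
        omega
      rw [hk1, pow_one] at hcard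
      obtain ⟨y, hy⟩ := exists_ne (1 : P)
      obtain ⟨v, hv, hv1⟩ : ∃ v ∈ V, v ≠ (1 : X) := by
        by_contra h
        push Not at h
        rw [(Subgroup.eq_bot_iff_forall V).mpr h, Subgroup.card_bot] at hV4
        omega
      have hy3 : y ^ 3 = 1 := by rw [← hcard]; exact pow_card_eq_one'
      have hgen : Subgroup.zpowers y = ⊤ := zpowers_eq_top_of_prime_card hcard hy
      have hmem : (⟨v * y * v⁻¹, hN v hv y y.2⟩ : P) ∈ Subgroup.zpowers y := hgen ▸ Subgroup.mem_top _
      obtain ⟨i, hi⟩ := Subgroup.mem_zpowers_iff.mp hmem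
      have hi' : ((y ^ (i % 3) : P) : X) = v * y * v⁻¹ := by
        rw [show y ^ (i % 3) = y ^ i from (zpow_eq_zpow_emod' i hy3).symm]
        exact congrArg Subtype.val hi
      have hcases : v * y * v⁻¹ = 1 ∨ v * y * v⁻¹ = y ∨ v * y * v⁻¹ = (y : X) * y := by
        rw [← hi']
        rcases (show i % 3 = 0 ∨ i % 3 = 1 ∨ i % 3 = 2 by omega) with h | h | h <;> rw [h]
        · left; simp
        · right; left; simp
        · right; right; simp [← pow_two, zpow_ofNat]
      rcases alt_four_fixed (e v) (e y) (by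
          rw [← map_mul, ← map_mul, ← map_one e]
          exact congrArg e (by
            have := congrArg Subtype.val hy3
            simpa [pow_succ, mul_assoc] using this))
          (by rw [← map_mul, hV2 v hv, map_one]) (by
          rw [← map_inv, ← map_mul, ← map_mul, ← map_mul, ← map_one e, e.injective.eq_iff, e.injective.eq_iff,
            e.injective.eq_iff]
          exact hcases) with h | h
      · exact hv1 (e.injective (h.trans (map_one e).symm))
      · exact hy (Subtype.ext (e.injective (h.trans (map_one e).symm)))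
    obtain ⟨w, hw, hw1⟩ : ∃ v ∈ V, v ≠ (1 : X) := by
      by_contra h
      push Not at h
      rw [(Subgroup.eq_bot_iff_forall V).mpr h, Subgroup.card_bot] at hV4
      omega
    subst hbot
    exact ⟨Bot.isCyclic, w, hw, hw1, fun x hx => by rw [Subgroup.mem_bot.mp hx]; simp,
      fun v _ _ _ x hx => by rw [Subgroup.mem_bot.mp hx]; simp⟩
  · let φ : X →* ProjGenLinGroup (Fin 2) K := ProjectiveSpecialLinearGroup.toPGL.comp e.toMonoidHom
    have hφ : Function.Injective φ := ProjectiveSpecialLinearGroup.toPGL_injective.comp e.injective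
    have hsl : ∀ x, φ x ∈ sln K := fun x => by
      show ProjectiveSpecialLinearGroup.toPGL (e x) ∈ sln K
      induction e x using QuotientGroup.induction_on with
      | H g => exact ⟨g, rfl⟩
    have h2 : (2 : K) ≠ 0 := fun h => by
      obtain ⟨p, _⟩ := CharP.exists K
      obtain ⟨n, hp, hc⟩ := FiniteField.card K p
      have hp2 : p = 2 := (Nat.prime_dvd_prime_iff_eq hp Nat.prime_two).mp
        ((CharP.cast_eq_zero_iff K p 2).mp (by exact_mod_cast h))
      rw [hc, hp2] at hodd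
      exact (Nat.not_even_iff_odd.mpr hodd) (Nat.even_pow.mpr ⟨even_two, n.2.ne'⟩)
    obtain ⟨p, hchar⟩ := CharP.exists K
    obtain ⟨n, hp, -⟩ := FiniteField.card K p
    haveI : Fact p.Prime := ⟨hp⟩
    have hmap : ∀ H : Subgroup X, H.map φ ≤ sln K := fun H => by
      rintro _ ⟨x, -, rfl⟩; exact hsl x
    obtain ⟨hcyc, w, hw, hw1, hwc, hinv⟩ := torusShape_sln p h2 (hmap V)
      (by rw [Subgroup.card_map_of_injective hφ, hV4])
      (by rintro _ ⟨v, hv, rfl⟩; rw [← map_mul, hV2 v hv, map_one]) (hmap P) hr (hP.map φ)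
      (by rintro _ ⟨v, hv, rfl⟩ _ ⟨x, hx, rfl⟩; exact ⟨_, hN v hv x hx, by simp⟩)
    obtain ⟨w, hwV, rfl⟩ := hw
    refine ⟨(P.equivMapOfInjective φ hφ).isCyclic.mpr hcyc, w, hwV, fun h => hw1 (by rw [h, map_one]),
      fun x hx => hφ ?_, fun v hv hv1 hvw x hx => hφ ?_⟩
    · simpa using hwc _ ⟨x, hx, rfl⟩
    · have := hinv _ ⟨v, hv, rfl⟩ (fun h => hv1 (hφ (h.trans (map_one φ).symm))) (fun h => hvw (hφ h)) _
        ⟨x, hx, rfl⟩
      simpa using this

/-- Two involutions of the four-group centralising `P` make it trivial. -/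
theorem TorusShape.eq_bot {V P : Subgroup X} (h : TorusShape V P) {r : ℕ} [Fact r.Prime] (hr : r ≠ 2)
    (hP : IsPGroup r P) {v v' : X} (hv : v ∈ V) (hv' : v' ∈ V) (hv1 : v ≠ 1) (hv'1 : v' ≠ 1)
    (hne : v ≠ v') (hc : ∀ x ∈ P, v * x = x * v) (hc' : ∀ x ∈ P, v' * x = x * v') : P = ⊥ := by
  obtain ⟨-, w, hw, hw1, -, hinv⟩ := h
  rw [Subgroup.eq_bot_iff_forall]
  intro x hx
  have key : ∀ u ∈ V, u ≠ 1 → u ≠ w → (∀ x ∈ P, u * x = x * u) → x = 1 := by
    intro u hu hu1 huw huc
    have h1 := hinv u hu hu1 huw x hx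
    rw [huc x hx, mul_inv_cancel_right] at h1
    obtain ⟨m, hm⟩ := hP ⟨x, hx⟩
    have hm' : x ^ r ^ m = 1 := congrArg Subtype.val hm
    have h2 : orderOf x ∣ Nat.gcd (r ^ m) 2 :=
      Nat.dvd_gcd (orderOf_dvd_of_pow_eq_one hm') (orderOf_dvd_of_pow_eq_one (by
        rw [pow_two]; exact mul_eq_one_iff_eq_inv.mpr h1))
    rw [show Nat.gcd (r ^ m) 2 = 1 from Nat.Coprime.pow_left m
      ((Nat.coprime_primes Fact.out Nat.prime_two).mpr hr), Nat.dvd_one, orderOf_eq_one_iff] at h2
    exact h2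
  by_cases hvw : v = w
  · exact key v' hv' hv'1 (fun e => hne (hvw.trans e.symm)) hc'
  · exact key v hv hv1 hvw hc

/-- The image form: modulo a normal subgroup `R` with quotient `A₄` or `PSL₂(q)`, an odd
`r`-subgroup normalised by a four-group meeting `R` trivially lies in one torus. -/
theorem torusShape_map [Finite X] [Finite Y] (π : X →* Y) (hY : IsA4OrL2 Y) {V P : Subgroup X}
    (hV4 : Nat.card V = 4) (hV2 : ∀ v ∈ V, v * v = 1) (hker : ∀ v ∈ V, π v = 1 → v = 1)
    {r : ℕ} [Fact r.Prime] (hr : r ≠ 2) (hP : IsPGroup r P)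
    (hN : ∀ v ∈ V, ∀ x ∈ P, v * x * v⁻¹ ∈ P) :
    IsCyclic (P.map π) ∧ ∃ w ∈ V, w ≠ 1 ∧ (∀ x ∈ P, π w * π x = π x * π w) ∧
      ∀ v ∈ V, v ≠ 1 → v ≠ w → ∀ x ∈ P, π v * π x * (π v)⁻¹ = (π x)⁻¹ := by
  have hinj : Function.Injective (π.comp V.subtype) := by
    rw [injective_iff_map_eq_one]
    intro v hv
    exact Subtype.ext (hker v v.2 hv)
  have hinjOn : ∀ v ∈ V, ∀ v' ∈ V, π v = π v' → v = v' := fun v hv v' hv' h =>
    congrArg Subtype.val (hinj (show π.comp V.subtype ⟨v, hv⟩ = π.comp V.subtype ⟨v', hv'⟩ from h))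
  have hcard : Nat.card (V.map π) = 4 := by
    rw [← hV4]
    exact (Nat.card_congr (Equiv.ofBijective (fun v : V => (⟨π v, v, v.2, rfl⟩ : V.map π))
      ⟨fun a b h => hinj (congrArg Subtype.val h), by rintro ⟨_, v, hv, rfl⟩; exact ⟨⟨v, hv⟩, rfl⟩⟩)).symm
  obtain ⟨hc, w, hw, hw1, hwc, hinv⟩ := torusShape hY hcard
    (by rintro _ ⟨v, hv, rfl⟩; rw [← map_mul, hV2 v hv, map_one]) hr (hP.map π)
    (by rintro _ ⟨v, hv, rfl⟩ _ ⟨x, hx, rfl⟩; exact ⟨_, hN v hv x hx, by simp⟩)
  obtain ⟨w, hwV, rfl⟩ := hw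
  exact ⟨hc, w, hwV, fun h => hw1 (by rw [h, map_one]), fun x hx => hwc _ ⟨x, hx, rfl⟩,
    fun v hv hv1 hvw x hx => hinv _ ⟨v, hv, rfl⟩ (fun h => hv1 (hker v hv h))
      (fun h => hvw (hinjOn v hv w hwV h)) _ ⟨x, hx, rfl⟩⟩

end Transfer

end CfsgLib.GWKlein
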