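import Cfsg.Agent.Lib.GWKlein.Order
import Cfsg.Agent.Lib.GWKlein.ShapeA4L2
import Cfsg.Agent.Lib.KGroups.AbelianTwo.SLTwo
import Cfsg.Agent.Lib.SmallGroups.SimpleTools
import Cfsg.Agent.S0508
import Mathlib.GroupTheory.FixedPointFree
import Mathlib.GroupTheory.SpecificGroups.ZGroup

/-!
# A self-centralising four-group with maximal involution centralisers: the group is `PSL(2,q)`

If `oddPart t` meets `C(a)` trivially it is inverted by `a`, so all its subgroups are normal in
`C(t)`; when `C(t)` is maximal it contains their normalisers and S0508 applies.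
-/

set_option autoImplicit false
set_option linter.unusedSectionVars false
set_option linter.style.haveILetI false

universe u

namespace CfsgLib.GWKlein

open Subgroup

variable {G : Type u} [Group G]

theorem map_centralizer_conj (t h : G) :
    (centralizer ({t} : Set G)).map (MulAut.conj h).toMonoidHom =
      centralizer ({h * t * h⁻¹} : Set G) := by
  ext x
  rw [mem_centralizer_singleton_iff]
  constructor
  · rintro ⟨y, hy, rfl⟩
    rw [SetLike.mem_coe, mem_centralizer_singleton_iff] at hy
    simp only [MulEquiv.coe_toMonoidHom, MulAut.conj_apply]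
    calc h * y * h⁻¹ * (h * t * h⁻¹) = h * (y * t) * h⁻¹ := by group
      _ = h * (t * y) * h⁻¹ := by rw [hy]
      _ = _ := by group
  · intro hx
    refine ⟨h⁻¹ * x * h, ?_, by simp [mul_assoc]⟩
    rw [SetLike.mem_coe, mem_centralizer_singleton_iff]
    calc h⁻¹ * x * h * t = h⁻¹ * (x * (h * t * h⁻¹)) * h := by group
      _ = h⁻¹ * (h * t * h⁻¹ * x) * h := by rw [hx]
      _ = _ := by group

namespace Setting

variable [Finite G] {t a : G} (S : Setting G t a)
include S

section SelfCent

variable (hD : SelfCent t a)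
include hD

theorem oddPart_inverted_and_comm :
    (∀ y ∈ oddPart t, a * y * a⁻¹ = y⁻¹) ∧
      ∀ x ∈ oddPart t, ∀ y ∈ oddPart t, Commute x y := by
  have ha : a ∈ normalizer (centralizer ({t} : Set G) : Set G) :=
    le_normalizer (S.four_le_centralizer S.t_mem S.a_mem)
  let φ : ↥(oddPart t) →* ↥(oddPart t) :=
    { toFun := fun y => ⟨a * y * a⁻¹, core_conj_mem _ ha y.2⟩
      map_one' := Subtype.ext (by simp)
      map_mul' := fun y z => Subtype.ext (by push_cast; group) }
  have hfp : MonoidHom.FixedPointFree φ := fun y hy => Subtype.ext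
    (hD y (odd_orderOf (odd_card_core _) y.2) (commute_of_mem_oddPart y.2)
      (mul_inv_eq_iff_eq_mul.1 (congrArg Subtype.val hy)))
  have hinv : Function.Involutive φ := fun y => Subtype.ext (by
    show a * (a * (y : G) * a⁻¹) * a⁻¹ = y
    rw [S.a_inv, ← mul_assoc, ← mul_assoc, S.a_mul_self, one_mul, mul_assoc, S.a_mul_self, mul_one])
  exact ⟨fun y hy => congrArg Subtype.val (congrFun (hfp.coe_eq_inv_of_involutive hinv) ⟨y, hy⟩),
    fun x hx y hy => congrArg Subtype.val (hfp.commute_all_of_involutive hinv ⟨x, hx⟩ ⟨y, hy⟩).eq⟩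

/-- Every subgroup of `oddPart t` is normal in the centraliser of `t`. -/
theorem centralizer_le_normalizer_of_le {Y : Subgroup G} (hY : Y ≤ oddPart t) :
    centralizer ({t} : Set G) ≤ normalizer (Y : Set G) := by
  obtain ⟨hi, hc⟩ := S.oddPart_inverted_and_comm hD
  have hV : four t a ≤ normalizer (Y : Set G) := by
    refine S.le_normalizer_of ?_ ?_
    · refine Subgroup.centralizer_le_normalizer (Y : Set G) (mem_centralizer_iff.2 fun y hy => ?_)
      exact (commute_of_mem_oddPart (hY hy)).symm.eq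
    · refine mem_normalizer_iff.2 fun y => ⟨fun hy => ?_, fun hy => ?_⟩
      · rw [hi y (hY hy)]; exact inv_mem hy
      · have h := hi _ (hY hy)
        rw [S.a_inv, ← mul_assoc, ← mul_assoc, S.a_mul_self, one_mul, mul_assoc, S.a_mul_self,
          mul_one] at h
        rw [h]
        exact inv_mem (by rwa [S.a_inv] at hy)
  intro x hx
  obtain ⟨k, hk, v, hv, rfl⟩ := S.exists_eq_mul (mem_centralizer_singleton_iff.1 hx).symm
  exact mul_mem (Subgroup.centralizer_le_normalizer (Y : Set G) (mem_centralizer_iff.2 fun y hy =>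
    (hc y (hY hy) k hk).eq)) (hV hv)

/-- The normalisers of the subgroups of `oddPart t` lie in the centraliser of `t`. -/
theorem norm_le [IsSimpleGroup G]
    (hC : oddPart t ≠ ⊥ → IsCoatom (centralizer ({t} : Set G))) {Y : Subgroup G}
    (hY : Y ≤ oddPart t) (hY1 : Y ≠ ⊥) :
    normalizer (Y : Set G) ≤ centralizer ({t} : Set G) := by
  have hO : oddPart t ≠ ⊥ := fun e => hY1 (le_bot_iff.1 (hY.trans e.le))
  have hC' := hC hO
  rcases (S.centralizer_le_normalizer_of_le hD hY).eq_or_lt with e | hlt
  · exact e.ge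
  · exfalso
    rcases (normalizer_eq_top_iff.1 (hC'.2 _ hlt)).eq_bot_or_eq_top with e | e
    · exact hY1 e
    · exact hC'.1 (top_unique (e.ge.trans (hY.trans (oddPart_le t))))

/-- The group is `PSL(2,q)`. -/
theorem isPSLThreeFive [IsSimpleGroup G] (hG : ¬ IsMulCommutative G)
    (hC : oddPart t ≠ ⊥ → IsCoatom (centralizer ({t} : Set G))) : IsPSLThreeFive G := by
  obtain ⟨P, hP⟩ := S.exists_sylow
  haveI : IsKleinFour ↥(P : Subgroup G) := hP ▸ S.isKleinFour
  obtain ⟨hi, -⟩ := S.oddPart_inverted_and_comm hD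
  have hmove : ∀ {y}, y ∈ oddPart t → y ≠ 1 → ¬ Commute a y := fun {y} hy hy1 h =>
    hy1 (hD y (odd_orderOf (odd_card_core _) hy) (commute_of_mem_oddPart hy) h)
  have htc : t ∈ centralizer (oddPart t : Set G) :=
    mem_centralizer_iff.2 fun y hy => (commute_of_mem_oddPart hy).symm.eq
  have hint : oddPart t ≠ ⊥ →
      four t a ⊓ centralizer (oddPart t : Set G) = zpowers t := fun hne => by
    obtain ⟨y, hy, hy1⟩ := (bot_or_exists_ne_one (oddPart t)).resolve_left hne
    refine le_antisymm (fun v ⟨hv, hvc⟩ => ?_) ((zpowers_le).2 ⟨S.t_mem, htc⟩)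
    have hvy : Commute v y := (mem_centralizer_iff.1 hvc y hy).symm
    rcases S.mem_four_iff.1 hv with rfl | rfl | rfl | rfl
    · exact one_mem _
    · exact mem_zpowers _
    · exact absurd hvy (hmove hy hy1)
    · refine absurd ?_ (hmove hy hy1)
      have h := (commute_of_mem_oddPart hy).mul_left hvy
      rwa [← mul_assoc, S.t_mul_self, one_mul] at h
  obtain ⟨F, iF, jF, hodd, ⟨e⟩⟩ := Cfsg.Agent.S0508.result P 2 le_rfl
    IsKleinFour.nonempty_mulEquiv t S.t2 (hP ▸ S.t_mem)
    (fun s hs => (S.four_comm (hP ▸ hs) S.t_mem).eq) (oddPart t) rfl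
    (fun hne => by
      rw [hP, hint hne]
      refine ⟨inferInstance, ?_⟩
      have h := relIndex_mul_relIndex ⊥ (zpowers t) (four t a) bot_le (zpowers_le.2 S.t_mem)
      rw [relIndex_bot_left, relIndex_bot_left, Nat.card_zpowers, S.t2, S.card_four] at h
      omega)
    (fun s hs hsc y hy => by
      rcases S.mem_four_iff.1 (hP ▸ hs : s ∈ four t a) with rfl | rfl | rfl | rfl
      · exact absurd (one_mem _) hsc
      · exact absurd htc hsc
      · exact hi y hy
      · calc t * a * y * (t * a)⁻¹ = t * (a * y * a⁻¹) * t⁻¹ := by group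
          _ = t * y⁻¹ * t⁻¹ := by rw [hi y hy]
          _ = y⁻¹ := by rw [(commute_of_mem_oddPart hy).inv_right.eq, mul_inv_cancel_right])
    (fun Y hY hY1 => S.norm_le hD hC hY hY1)
  have hcard : Nat.card G = Nat.card (Matrix.ProjectiveSpecialLinearGroup (Fin 2) F) :=
    Nat.card_congr e.toEquiv
  have h2 := CfsgLib.KGroups.AbelianTwo.card_psl2_odd (F := F) hodd
  rw [← hcard] at h2
  have hq1 : 1 < Fintype.card F := Fintype.one_lt_card
  have hq3 : 3 < Fintype.card F := by
    by_contra hle
    have h3 : Fintype.card F = 3 := by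
      obtain ⟨j, hj⟩ := hodd
      omega
    rw [h3] at h2
    have hidx : (P : Subgroup G).index = 3 := by
      have h := (P : Subgroup G).index_mul_card
      rw [hP, S.card_four] at h
      rw [hP]
      omega
    have hd := CfsgLib.SmallGroups.SimpleTools.two_mul_card_dvd_factorial hG (P : Subgroup G)
      fun e => by rw [e, index_top] at hidx; omega
    rw [hidx, show Nat.card G = 12 by omega] at hd
    revert hd
    decide
  refine ⟨F, iF, jF, hodd, hq3, ?_, ⟨e⟩⟩
  by_contra hq
  obtain ⟨m, hm | hm⟩ : ∃ m, Fintype.card F = 8 * m + 1 ∨ Fintype.card F = 8 * m + 7 := by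
    obtain ⟨j, hj⟩ := hodd
    exact ⟨Fintype.card F / 8, by omega⟩
  · refine S.not_eight ⟨Fintype.card F * (m * (4 * m + 1)), ?_⟩
    rw [hm] at h2 ⊢
    rw [Nat.add_sub_cancel] at h2
    nlinarith
  · refine S.not_eight ⟨Fintype.card F * ((4 * m + 3) * (m + 1)), ?_⟩
    rw [hm] at h2 ⊢
    rw [show 8 * m + 7 - 1 = 8 * m + 6 by omega] at h2
    nlinarith

/-- The odd part of the centraliser of an involution is cyclic. -/
theorem isCyclic_oddPart (hPSL : IsPSLThreeFive G) : IsCyclic ↥(oddPart t) := by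
  obtain ⟨-, hc⟩ := S.oddPart_inverted_and_comm hD
  obtain ⟨F, iF, jF, hodd, -, -, ⟨e⟩⟩ := hPSL
  haveI : IsMulCommutative ↥(oddPart t) := ⟨⟨fun x y => Subtype.ext (hc x x.2 y y.2).eq⟩⟩
  letI : CommGroup ↥(oddPart t) := { (inferInstance : Group _) with mul_comm := mul_comm' }
  haveI : IsZGroup ↥(oddPart t) := ⟨fun p hp Q => by
    haveI := Fact.mk hp
    by_cases hp2 : p = 2
    · subst hp2
      have h : ¬ 2 ∣ Nat.card ↥(oddPart t) := fun h =>
        Nat.not_even_iff_odd.2 (odd_card_core _) (even_iff_two_dvd.2 h)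
      obtain ⟨k, hk⟩ := IsPGroup.iff_card.1 Q.2
      rcases Nat.eq_zero_or_pos k with rfl | hk0
      · haveI : Subsingleton ↥(Q : Subgroup ↥(oddPart t)) :=
          (Nat.card_eq_one_iff_unique.1 (by simpa using hk)).1
        infer_instance
      · exact absurd ((dvd_pow_self 2 hk0.ne').trans (hk ▸ card_subgroup_dvd_card _)) h
    · have hle : (Q : Subgroup ↥(oddPart t)).map (oddPart t).subtype ≤ oddPart t := map_subtype_le _
      have hn : four t a ≤ normalizer (((Q : Subgroup ↥(oddPart t)).map (oddPart t).subtype : Subgroup G) : Set G) :=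
        (S.four_le_centralizer S.t_mem).trans (S.centralizer_le_normalizer_of_le hD hle)
      have hshape := torusShape (Or.inr ⟨F, iF, jF, Classical.decEq F, hodd, ⟨e⟩⟩) S.card_four
        (fun v hv => S.four_sq hv) hp2 (Q.2.map (oddPart t).subtype)
        (fun v hv x hx => (mem_normalizer_iff.1 (hn hv) x).1 hx)
      exact ((Q : Subgroup ↥(oddPart t)).equivMapOfInjective _ (oddPart t).subtype_injective).isCyclic.2
        hshape.1⟩
  infer_instance

end SelfCent

/-- Conjugation carries the odd parts of the centralisers of involutions to each other. -/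
theorem map_oddPart {s c : G} (S' : Setting G s c) {h : G} (e : h * t * h⁻¹ = s) :
    (oddPart t).map (MulAut.conj h).toMonoidHom = oddPart s := by
  ext x
  rw [S'.mem_oddPart]
  constructor
  · rintro ⟨y, hy, rfl⟩
    rw [SetLike.mem_coe, S.mem_oddPart] at hy
    refine ⟨?_, ?_⟩
    · rw [orderOf_injective (MulAut.conj h).toMonoidHom (MulAut.conj h).injective y]; exact hy.1
    · rw [← e]; exact hy.2.map (MulAut.conj h).toMonoidHom
  · rintro ⟨hodd, hcomm⟩
    refine ⟨h⁻¹ * x * h, (S.mem_oddPart).2 ⟨?_, ?_⟩, by simp [mul_assoc]⟩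
    · have := orderOf_injective (MulAut.conj h⁻¹).toMonoidHom (MulAut.conj h⁻¹).injective x
      simp only [MulEquiv.coe_toMonoidHom, MulAut.conj_apply, inv_inv] at this
      rwa [this]
    · have h' := hcomm.map (MulAut.conj h⁻¹).toMonoidHom
      simp only [MulEquiv.coe_toMonoidHom, MulAut.conj_apply, inv_inv, ← e] at h'
      rwa [show h⁻¹ * (h * t * h⁻¹) * h = t by group] at h'

theorem selfCent_transfer (hD : SelfCent t a) {s c : G} (S' : Setting G s c) : SelfCent s c := by
  haveI : Fact (Nat.Prime 2) := ⟨Nat.prime_two⟩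
  obtain ⟨P, hP⟩ := S.exists_sylow
  obtain ⟨Q, hQ⟩ := S'.exists_sylow
  obtain ⟨g, hg⟩ := MulAction.exists_smul_eq G P Q
  intro y hy hsy hcy
  have hVy := S'.commute_four hsy hcy
  have key : ∀ v ∈ four t a, Commute v (g⁻¹ * y * g) := fun v hv => by
    have hm : g * v * g⁻¹ ∈ four s c := by
      rw [← hQ, ← hg, Sylow.coe_subgroup_smul]
      exact Subgroup.smul_mem_pointwise_smul v (MulAut.conj g) _ (hP ▸ hv)
    have h' := (show Commute (g * v * g⁻¹) y from mem_centralizer_iff.1 hVy _ hm).map
      (MulAut.conj g⁻¹).toMonoidHom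
    simp only [MulEquiv.coe_toMonoidHom, MulAut.conj_apply, inv_inv] at h'
    rwa [show g⁻¹ * (g * v * g⁻¹) * g = v by group] at h'
  have h1 := hD (g⁻¹ * y * g) ?_ (key t S.t_mem) (key a S.a_mem)
  · exact (conj_eq_one_iff (a := g⁻¹) (b := y)).1 (by rw [inv_inv]; exact h1)
  · have := orderOf_injective (MulAut.conj g⁻¹).toMonoidHom (MulAut.conj g⁻¹).injective y
    simp only [MulEquiv.coe_toMonoidHom, MulAut.conj_apply, inv_inv] at this
    rwa [this]

end Setting

/-- A minimal group with maximal involution centralisers and self-centralising four-group. -/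
theorem Minimal.finish [Finite G] {t a : G} (M : Minimal G t a)
    (hC : oddPart t ≠ ⊥ → IsCoatom (centralizer ({t} : Set G))) (hD : SelfCent t a) :
    IsPSLThreeFive G ∧ ∀ s c : G, Setting G s c → Good G s c := by
  haveI := M.simple
  have S := M.setting
  have hP := S.isPSLThreeFive hD M.noncomm hC
  refine ⟨hP, fun s c S' => ?_⟩
  obtain ⟨h, he⟩ := isConj_iff.1 (S.isConj_involution M.noncomm S'.t2).symm
  have hO := S.map_oddPart S' he
  have hC' : oddPart s ≠ ⊥ → IsCoatom (centralizer ({s} : Set G)) := fun hne => by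
    have hne' : oddPart t ≠ ⊥ := fun e => hne (by rw [← hO, e, Subgroup.map_bot])
    rw [← he, ← map_centralizer_conj]
    exact (OrderIso.isCoatom_iff (MulAut.conj h).mapSubgroup _).2 (hC hne')
  exact ⟨S.selfCent_transfer hD S', S'.isCyclic_oddPart (S.selfCent_transfer hD S') hP, hC',
    fun Y hY hY1 => S'.norm_le (S.selfCent_transfer hD S') hC' hY hY1⟩

end CfsgLib.GWKlein
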