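import Cfsg.Agent.Lib.GWKlein.FourModule
import Cfsg.Agent.Lib.Solvable.NarrowFitting
import Cfsg.Agent.Lib.Coprime.Action

/-!
A group of odd order with a four-group acting without fixed points has derived group inside the
Fitting subgroup.
-/

set_option autoImplicit false
set_option linter.style.haveILetI false

namespace CfsgLib.GWKlein

open Subgroup
open scoped commutatorElement

universe u

variable {G : Type u} [Group G] [Finite G]

namespace Four

variable {W : Subgroup G} {t a : G}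

/-- Derived elements of order prime to `q` centralise the invariant `q`-subgroups. -/
theorem derived_centralizes (F : Four W t a) {q : ℕ} [hq : Fact q.Prime] {N : Subgroup G}
    (hNW : N ≤ W) (hN : IsPGroup q N) (hWN : W ≤ normalizer (N : Set G))
    (htN : t ∈ normalizer (N : Set G)) (haN : a ∈ normalizer (N : Set G))
    {x : G} (hx : x ∈ ⁅W, W⁆) (hxq : (orderOf x).Coprime q) : x ∈ centralizer (N : Set G) := by
  classical
  suffices h : ∀ n, ∀ N : Subgroup G, Nat.card N = n → N ≤ W → IsPGroup q N →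
      W ≤ normalizer (N : Set G) → t ∈ normalizer (N : Set G) → a ∈ normalizer (N : Set G) →
      x ∈ centralizer (N : Set G) from h _ N rfl hNW hN hWN htN haN
  clear hNW hN hWN htN haN N
  intro n
  induction n using Nat.strong_induction_on with
  | _ n ih =>
  intro N hn hNW hN hWN htN haN
  by_cases hN1 : N = ⊥
  · refine mem_centralizer_iff.2 fun z hz => ?_
    rw [hN1, SetLike.mem_coe, mem_bot] at hz
    rw [hz, one_mul, mul_one]
  haveI : Group.IsSolvable N :=
    Cfsg.Agent.S0205.result (F.hodd.of_dvd_nat (Subgroup.card_dvd_of_le hNW))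
  haveI : Nontrivial N := N.nontrivial_iff_ne_bot.2 hN1
  have hlt : (⁅N, N⁆ : Subgroup G) < N := by
    refine lt_of_le_of_ne (commutator_le_self N) fun e => ?_
    have h1 : commutator N = ⊤ := by
      refine map_injective (N.subtype_injective) ?_
      rw [map_subtype_commutator, e, ← MonoidHom.range_eq_map, range_subtype]
    exact (Group.IsSolvable.commutator_lt_top_of_nontrivial N).ne h1
  obtain ⟨M, hN'M, ⟨hMN, hWM, htM, haM⟩, hmax⟩ := Finite.exists_le_maximal
    (p := fun M : Subgroup G => M < N ∧ W ≤ normalizer (M : Set G) ∧ t ∈ normalizer (M : Set G) ∧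
      a ∈ normalizer (M : Set G)) (a := (⁅N, N⁆ : Subgroup G))
    ⟨hlt, fun g hg => normalizer_commutator_self (hWN hg), normalizer_commutator_self htN,
      normalizer_commutator_self haN⟩
  have hxM : x ∈ centralizer (M : Set G) :=
    ih _ (hn ▸ Set.Finite.card_lt_card (Set.toFinite _) hMN) M rfl (hMN.le.trans hNW)
      (hN.to_le hMN.le) hWM htM haM
  have hxW : x ∈ W := commutator_le_self W hx
  set L : Subgroup G := normalizer (N : Set G) ⊓ normalizer (M : Set G) with hL
  have hWL : W ≤ L := le_inf hWN hWM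
  have htL : t ∈ L := ⟨htN, htM⟩
  have haL : a ∈ L := ⟨haN, haM⟩
  have hNL : N ≤ L := hNW.trans hWL
  haveI hMn : (M.subgroupOf L).Normal :=
    (normal_subgroupOf_iff_le_normalizer (hMN.le.trans hNL)).2 inf_le_right
  haveI hNn : (N.subgroupOf L).Normal := (normal_subgroupOf_iff_le_normalizer hNL).2 inf_le_left
  let f : L →* L ⧸ M.subgroupOf L := QuotientGroup.mk' _
  have hf1 : ∀ y : L, f y = 1 ↔ (y : G) ∈ M := fun y => QuotientGroup.eq_one_iff y
  let U : Subgroup (L ⧸ M.subgroupOf L) := (N.subgroupOf L).map f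
  haveI hUn : U.Normal := hNn.map f (QuotientGroup.mk'_surjective _)
  have hUcomm : ∀ u v : U, u * v = v * u := by
    rintro ⟨_, u, hu, rfl⟩ ⟨_, v, hv, rfl⟩
    refine Subtype.ext (commutatorElement_eq_one_iff_commute.1 ?_).eq
    rw [← map_commutatorElement, hf1]
    exact hN'M (commutator_mem_commutator hu hv)
  letI : CommGroup U := { (inferInstance : Group U) with mul_comm := hUcomm }
  let ψ : L →* MulAut U := (MulAut.conjNormal (H := U)).comp f
  have hψ : ∀ (g : L) (u : U), ((ψ g u : U) : L ⧸ M.subgroupOf L) = f g * u * (f g)⁻¹ :=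
    fun g u => MulAut.conjNormal_apply (f g) u
  have F' : Four (W.subgroupOf L) (⟨t, htL⟩ : L) ⟨a, haL⟩ := by
    refine ⟨?_, Subtype.ext F.ht, Subtype.ext F.ha, Subtype.ext F.hta.eq, fun v hv => F.htW v hv,
      fun v hv => F.haW v hv, fun v hv h1 h2 => Subtype.ext
        (F.hfix v hv (congrArg Subtype.val h1.eq) (congrArg Subtype.val h2.eq))⟩
    rw [Nat.card_congr (subgroupOfEquivOfLe hWL).toEquiv]; exact F.hodd
  have hUnontriv : Nontrivial U := by
    obtain ⟨y, hy, hyM⟩ := SetLike.exists_of_lt hMN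
    exact ⟨⟨⟨f ⟨y, hNL hy⟩, ⟨y, hNL hy⟩, hy, rfl⟩, 1, fun h => hyM ((hf1 _).1 (congrArg Subtype.val h))⟩⟩
  have hUq : IsPGroup q U := (hN.of_equiv (subgroupOfEquivOfLe hNL).symm).map f
  -- irreducibility
  have hirr : ∀ S : Subgroup U, (∀ w ∈ (W.subgroupOf L).map ψ, ∀ s ∈ S, w s ∈ S) →
      (∀ s ∈ S, ψ ⟨t, htL⟩ s ∈ S) → (∀ s ∈ S, ψ ⟨a, haL⟩ s ∈ S) → S = ⊥ ∨ S = ⊤ := by
    intro S hW' ht' ha'
    set N0 : Subgroup L := (S.map U.subtype).comap f with hN0
    have hN0N : ∀ y ∈ N0, (y : G) ∈ N := by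
      intro y hy
      obtain ⟨⟨_, v, hv, rfl⟩, -, e⟩ := hy
      have : f (v⁻¹ * y) = 1 := by
        rw [map_mul, map_inv, show f y = f v from e.symm, inv_mul_cancel]
      have := mul_mem (show (v : G) ∈ N from hv) (hMN.le ((hf1 _).1 this))
      simpa using this
    have hinv : ∀ g : L, (∀ s ∈ S, ψ g s ∈ S) →
        (g : G) ∈ normalizer ((N0.map L.subtype : Subgroup G) : Set G) := by
      intro g hg
      refine mem_normalizer_of_forall ?_
      rintro _ ⟨y, hy, rfl⟩
      refine ⟨g * y * g⁻¹, ?_, rfl⟩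
      obtain ⟨s, hs, e⟩ := hy
      exact ⟨ψ g s, hg s hs, by
        show ((ψ g s : U) : L ⧸ M.subgroupOf L) = f (g * y * g⁻¹)
        rw [hψ, map_mul, map_mul, map_inv, ← e]; rfl⟩
    have hMN0 : M ≤ N0.map L.subtype := fun m hm =>
      ⟨⟨m, hNL (hMN.le hm)⟩, ⟨1, one_mem S, by
        show ((1 : U) : L ⧸ M.subgroupOf L) = f ⟨m, hNL (hMN.le hm)⟩
        rw [(hf1 _).2 hm]; rfl⟩, rfl⟩
    by_cases h : N0.map L.subtype = N
    · right
      refine (eq_top_iff' S).2 ?_
      rintro ⟨_, v, hv, rfl⟩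
      have hv' : (v : G) ∈ N0.map L.subtype := by rw [h]; exact hv
      obtain ⟨y, hy, e⟩ := hv'
      obtain ⟨s, hs, e'⟩ := hy
      have : y = v := Subtype.ext e
      subst this
      exact (Subtype.ext e' : s = ⟨f y, y, hv, rfl⟩) ▸ hs
    · left
      have hle : N0.map L.subtype ≤ N := by rintro _ ⟨y, hy, rfl⟩; exact hN0N y hy
      have heq : N0.map L.subtype ≤ M := hmax ⟨lt_of_le_of_ne hle h,
        fun g hg => hinv ⟨g, hWL hg⟩ (fun s hs => hW' _ ⟨⟨g, hWL hg⟩, hg, rfl⟩ s hs),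
        hinv _ ht', hinv _ ha'⟩ hMN0
      refine eq_bot_iff.2 ?_
      rintro ⟨_, v, hv, rfl⟩ hs
      have hm : (v : G) ∈ M := heq ⟨v, ⟨_, hs, rfl⟩, rfl⟩
      exact mem_bot.2 (Subtype.ext ((hf1 v).2 hm))
  -- exponent `q`
  have hexp : ∀ u : U, u ^ q = 1 := by
    let P : U →* U := powMonoidHom q
    have hPinv : ∀ φ : MulAut U, ∀ s ∈ P.range, φ s ∈ P.range := by
      rintro φ _ ⟨s, rfl⟩
      exact ⟨φ s, by simp [P]⟩
    rcases hirr P.range (fun w _ => hPinv w) (hPinv _) (hPinv _) with h | h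
    · intro u
      exact mem_bot.1 (h ▸ ⟨u, rfl⟩ : P u ∈ (⊥ : Subgroup U))
    · exfalso
      have hinj : Function.Injective P :=
        Finite.injective_iff_surjective.2 (MonoidHom.range_eq_top.1 h)
      obtain ⟨k, hk⟩ := hUq.exists_card_eq
      have hk0 : k ≠ 0 := by
        rintro rfl
        exact (Finite.one_lt_card (α := U)).ne' (by simpa using hk)
      obtain ⟨u, hu⟩ := exists_prime_orderOf_dvd_card' (G := U) q (hk ▸ dvd_pow_self q hk0)
      have : u = 1 := hinj (by
        show u ^ q = (1 : U) ^ q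
        rw [one_pow, ← hu, pow_orderOf_eq_one])
      rw [this, orderOf_one] at hu
      exact hq.out.one_lt.ne hu
  have hqodd : Odd q := by
    obtain ⟨k, hk⟩ := hN.exists_card_eq
    have hk0 : k ≠ 0 := by
      rintro rfl
      exact hN1 (Subgroup.eq_bot_of_card_eq _ (hk.trans (pow_zero q)))
    exact (F.hodd.of_dvd_nat (Subgroup.card_dvd_of_le hNW)).of_dvd_nat (hk ▸ dvd_pow_self q hk0)
  have M' : Module ((W.subgroupOf L).map ψ) (ψ ⟨t, htL⟩) (ψ ⟨a, haL⟩) q := by
    refine ⟨hq.out, hqodd, hexp, F'.map ψ inf_le_right, ?_, hirr⟩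
    rintro ⟨_, v, hv, rfl⟩ h1 h2
    have key : ∀ g : L, (g : G) * g = 1 → ψ g ⟨f v, v, hv, rfl⟩ = ⟨f v, v, hv, rfl⟩ →
        (v : G)⁻¹ * (g * v * g) ∈ M := by
      intro g hg h
      have e : f g * f v * (f g)⁻¹ = f v := (hψ g _).symm.trans (congrArg Subtype.val h)
      have : f (v⁻¹ * (g * v * g⁻¹)) = 1 := by
        rw [map_mul, map_mul, map_mul, map_inv, map_inv, e, inv_mul_cancel]
      have h' := (hf1 _).1 this
      rw [show (g : G) = (g : G)⁻¹ from (inv_eq_of_mul_eq_one_right hg).symm]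
      simpa [inv_eq_of_mul_eq_one_right hg] using h'
    refine Subtype.ext ((hf1 v).2 (F.mem_of_fixed_mod (hMN.le.trans hNW)
      (fun m hm => cj_mem F.ha haM hm) (hNW hv) (key _ F.ht h1) (key _ F.ha h2)))
  -- the derived group acts trivially
  have hψx : ψ ⟨x, hWL hxW⟩ = 1 := by
    have h1 : (⟨x, hWL hxW⟩ : L) ∈ ⁅W.subgroupOf L, W.subgroupOf L⁆ := by
      refine (mem_map_iff_mem L.subtype_injective).1 ?_
      rw [map_commutator, map_subgroupOf_eq_of_le hWL]
      exact hx
    have h2 := mem_map_of_mem ψ h1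
    rw [map_commutator, commutator_eq_bot_iff_le_centralizer.2 (fun p hp =>
      mem_centralizer_iff.2 fun r hr => (M'.commutative hr hp).eq), mem_bot] at h2
    exact h2
  refine mem_centralizer_iff.2 fun y hy => (Coprime.commute_of_stabilizes ?_ hxM ?_).eq.symm
  · obtain ⟨k, hk⟩ := (hN.to_le hMN.le).exists_card_eq
    rw [hk]
    exact hxq.pow_right k
  · have e := congrArg Subtype.val
      (congrArg (fun φ : MulAut U => φ ⟨f ⟨y, hNL hy⟩, ⟨y, hNL hy⟩, hy, rfl⟩) hψx)
    simp only [MulAut.one_apply] at e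
    rw [hψ] at e
    refine (hf1 ⁅(⟨x, hWL hxW⟩ : L), ⟨y, hNL hy⟩⁆).1 ?_
    rw [map_commutatorElement, commutatorElement_def, e, mul_inv_cancel]

/-- `W' ≤ F(W)`. -/
theorem commutator_le_fitting (F : Four W t a) : _root_.commutator W ≤ Cfsg.fittingSubgroup W := by
  haveI : Group.IsSolvable W := Cfsg.Agent.S0205.result F.hodd
  refine Solvable.NarrowFitting.le_fitting_of_centralizes fun p q hp hq hne x hx hxp => ?_
  haveI := Fact.mk hq
  set N : Subgroup G := (Cfsg.pCore q W).map W.subtype with hN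
  have hNW : N ≤ W := map_subtype_le _
  have hNq : IsPGroup q N := (Solvable.Cores.isPGroup_pCore q).map _
  have hinv : ∀ g ∈ normalizer (W : Set G), g ∈ normalizer (N : Set G) := by
    intro g hg
    refine mem_normalizer_of_forall fun k hk => ?_
    set Q : Subgroup W := (N.map (MulAut.conj g).toMonoidHom).subgroupOf W with hQ
    haveI : Q.Normal := ⟨fun y hy w => by
      obtain ⟨m, hm, e⟩ := hy
      have hw : g⁻¹ * (w : G) * g ∈ W := by
        have := (Subgroup.mem_normalizer_iff.1 (inv_mem hg) (w : G)).1 w.2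
        rwa [inv_inv] at this
      obtain ⟨m', hm', rfl⟩ := hm
      refine ⟨(g⁻¹ * (w : G) * g) * (m' : G) * (g⁻¹ * (w : G) * g)⁻¹,
        ⟨⟨_, hw⟩ * m' * ⟨_, hw⟩⁻¹,
          (inferInstance : (Cfsg.pCore q W).Normal).conj_mem m' hm' ⟨_, hw⟩, rfl⟩, ?_⟩
      have e' : g * (m' : G) * g⁻¹ = (y : G) := e
      show g * ((g⁻¹ * (w : G) * g) * (m' : G) * (g⁻¹ * (w : G) * g)⁻¹) * g⁻¹ =
        (w : G) * (y : G) * (w : G)⁻¹
      rw [← e']
      group⟩
    have hQq : IsPGroup q Q :=
      (hNq.map (MulAut.conj g).toMonoidHom).comap_of_injective W.subtype W.subtype_injective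
    have hkW : g * k * g⁻¹ ∈ W := (Subgroup.mem_normalizer_iff.1 hg k).1 (hNW hk)
    exact ⟨⟨_, hkW⟩, Solvable.Cores.le_pCore hQq (show (⟨_, hkW⟩ : W) ∈ Q from ⟨k, hk, rfl⟩), rfl⟩
  have h := F.derived_centralizes (N := N) hNW hNq (fun g hg => hinv g (le_normalizer hg))
    (hinv t (mem_normalizer_of_involution F.ht F.htW))
    (hinv a (mem_normalizer_of_involution F.ha F.haW)) (x := (x : G))
    (by rw [← map_subtype_commutator]; exact mem_map_of_mem W.subtype hx)
    (by
      obtain ⟨k, hk⟩ := hxp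
      rw [Subgroup.orderOf_coe, hk]
      exact ((Nat.coprime_primes hp hq).2 hne).pow_left k)
  exact mem_centralizer_iff.2 fun z hz => Subtype.ext (mem_centralizer_iff.1 h z ⟨z, hz, rfl⟩)

end Four

/-- A four-group acting without fixed points on `W` of odd order: `W' ≤ F(W)`. -/
theorem commutator_le_fitting_of_fourGroup (W : Subgroup G) {t a : G} (hodd : Odd (Nat.card W))
    (ht : t ^ 2 = 1) (ha : a ^ 2 = 1) (hta : Commute t a) (htW : t ∈ normalizer (W : Set G))
    (haW : a ∈ normalizer (W : Set G))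
    (hfix : ∀ w ∈ W, Commute t w → Commute a w → w = 1) :
    _root_.commutator W ≤ Cfsg.fittingSubgroup W := by
  rw [pow_two] at ht ha
  exact Four.commutator_le_fitting (t := t) (a := a) ⟨hodd, ht, ha, hta,
    fun w hw => cj_mem ht htW hw, fun w hw => cj_mem ha haW hw, hfix⟩

end CfsgLib.GWKlein
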