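import Cfsg.Agent.Lib.GWKlein.FourProduct

/-!
A group of automorphisms of odd order of an abelian `r`-group (`r` odd), normalised by a four-group
without common fixed points on either, and irreducible together with it, is abelian.
-/

set_option autoImplicit false
set_option linter.style.haveILetI false

namespace CfsgLib.GWKlein

open Subgroup
open scoped commutatorElement

universe u

variable {U : Type u} [CommGroup U] [Finite U]

/-- The module configuration. -/
structure Module (W : Subgroup (MulAut U)) (t a : MulAut U) (r : ℕ) : Prop where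
  hp : r.Prime
  hr : Odd r
  hexp : ∀ u : U, u ^ r = 1
  four : Four W t a
  fixU : ∀ u : U, t u = u → a u = u → u = 1
  irr : ∀ S : Subgroup U, (∀ w ∈ W, ∀ s ∈ S, w s ∈ S) → (∀ s ∈ S, t s ∈ S) → (∀ s ∈ S, a s ∈ S) →
    S = ⊥ ∨ S = ⊤

theorem mem_normalizer_of_forall {H : Type*} [Group H] [Finite H] {K : Subgroup H} {g : H}
    (h : ∀ k ∈ K, g * k * g⁻¹ ∈ K) : g ∈ normalizer (K : Set H) := by
  have e : K.map (MulAut.conj g).toMonoidHom = K := by
    refine eq_of_le_of_card_ge ?_ (card_map_of_injective (MulAut.conj g).injective).ge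
    rintro _ ⟨k, hk, rfl⟩
    exact h k hk
  refine Subgroup.mem_normalizer_iff.2 fun k => ⟨h k, fun hk => ?_⟩
  rw [← e] at hk
  obtain ⟨m, hm, hmk⟩ := hk
  exact (MulAut.conj g).injective hmk ▸ hm

namespace Module

variable {W : Subgroup (MulAut U)} {t a : MulAut U} {r : ℕ}

theorem odd_order (M : Module W t a r) (u : U) : Odd (orderOf u) :=
  M.hr.of_dvd_nat (orderOf_dvd_of_pow_eq_one (M.hexp u))

theorem apply_apply {c : MulAut U} (hc : c * c = 1) (u : U) : c (c u) = u := by
  have h := congrArg (fun f : MulAut U => f u) hc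
  simpa using h

theorem apply_comm {c d : MulAut U} (h : Commute c d) (u : U) : c (d u) = d (c u) := by
  have e := congrArg (fun f : MulAut U => f u) h.eq
  simpa using e

theorem swap (M : Module W t a r) : Module W a t r :=
  ⟨M.hp, M.hr, M.hexp, M.four.swap, fun u h1 h2 => M.fixU u h2 h1,
    fun S h1 h2 h3 => M.irr S h1 h3 h2⟩

theorem rot (M : Module W t a r) : Module W a (t * a) r := by
  refine ⟨M.hp, M.hr, M.hexp, M.four.rot, fun u h1 h2 => M.fixU u ?_ h1, fun S h1 h2 h3 => M.irr S h1 ?_ h2⟩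
  · rw [MulAut.mul_apply, h1] at h2; exact h2
  · intro s hs
    have := h3 _ (h2 s hs)
    rwa [MulAut.mul_apply, apply_apply M.four.ha] at this

theorem rot' (M : Module W t a r) : Module W t (t * a) r := by
  refine ⟨M.hp, M.hr, M.hexp, M.four.rot', fun u h1 h2 => M.fixU u h1 ?_, fun S h1 h2 h3 => M.irr S h1 h2 ?_⟩
  · rw [MulAut.mul_apply] at h2
    exact t.injective (h2.trans h1.symm)
  · intro s hs
    have := h2 _ (h3 s hs)
    rwa [MulAut.mul_apply, apply_apply M.four.ht] at this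

/-- An element of `W` commuting with `t` fixes the fixed points of `t`. -/
theorem fixes (M : Module W t a r) {x : MulAut U} (hx : x ∈ W) (hxt : Commute t x) {u : U}
    (hu : t u = u) : x u = u := by
  have hI : ∀ v : U, t v = v → a v = v⁻¹ := by
    intro v hv
    refine eq_inv_of_mul_eq_one_left (M.fixU _ ?_ ?_)
    · rw [map_mul, apply_comm M.four.hta, hv]
    · rw [map_mul, apply_apply M.four.ha, mul_comm]
  have hxu : t (x u) = x u := by rw [apply_comm hxt, hu]
  have h1 : a (x u) = (x u)⁻¹ := hI _ hxu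
  have h2 : a (x u) = x⁻¹ (a u) := by
    have e := congrArg (fun f : MulAut U => f (a u)) (M.four.inverted hx hxt)
    simpa [apply_apply M.four.ha] using e
  have h3 : x u = x⁻¹ u := by
    rw [hI u hu, map_inv] at h2
    exact inv_injective (h1.symm.trans h2)
  have h4 : (x ^ 2) u = u := by
    rw [pow_two, MulAut.mul_apply]
    nth_rw 1 [h3]
    exact MulAut.apply_inv_self U x u
  exact mem_of_sq_mem (H := MulAction.stabilizer (MulAut U) u) (four_odd_orderOf M.four.hodd hx) h4

/-- `[U, x, y] = 1` for commuting `x`, `y` in different classes. -/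
theorem pair (M : Module W t a r) {x y : MulAut U} (hx : x ∈ W) (hy : y ∈ W) (hxt : Commute t x)
    (hya : Commute a y) (hxy : Commute x y) (u : U) : y (x u / u) = x u / u := by
  have hanti : ∀ v : U, t (x v / v) = (x v / v)⁻¹ := by
    intro v
    have h1 : x (v * t v) = v * t v :=
      M.fixes hx hxt (by rw [map_mul, apply_apply M.four.ht, mul_comm])
    have h2 : (x (t v) / t v) * (x v / v) = 1 := by
      rw [div_mul_div_comm, ← map_mul, mul_comm (t v) v, h1, div_self']
    rw [map_div, apply_comm hxt]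
    exact eq_inv_of_mul_eq_one_left h2
  have h1 : x (y u) / y u = y (x u / u) := by rw [map_div, apply_comm hxy]
  have hyI : t * y * t = y⁻¹ := M.four.swap.inverted hy hya
  have h2 : t (y (x u / u)) = y⁻¹ (t (x u / u)) := by
    have e := congrArg (fun f : MulAut U => f (t (x u / u))) hyI
    simpa [apply_apply M.four.ht] using e
  rw [hanti u, map_inv] at h2
  rw [← h1, hanti, h1] at h2
  have h3 : (y ^ 2) (x u / u) = x u / u := by
    rw [pow_two, MulAut.mul_apply]
    nth_rw 1 [inv_injective h2]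
    exact MulAut.apply_inv_self U y _
  exact mem_of_sq_mem (H := MulAction.stabilizer (MulAut U) (x u / u))
    (four_odd_orderOf M.four.hodd hy) h3

section Simple

variable {A : Subgroup (MulAut U)}

/-- A subgroup of `U` invariant under `A` with no proper non-trivial such subgroup. -/
def Simp (A : Subgroup (MulAut U)) (S : Subgroup U) : Prop :=
  S ≠ ⊥ ∧ (∀ d ∈ A, ∀ s ∈ S, d s ∈ S) ∧
    ∀ T : Subgroup U, T ≤ S → T ≠ ⊥ → (∀ d ∈ A, ∀ s ∈ T, d s ∈ T) → T = S

/-- On a simple `A`-subgroup one of two classes of elements acts trivially. -/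
theorem simp_pair (M : Module W t a r) (hAW : A ≤ W) (hAc : ∀ p ∈ A, ∀ q ∈ A, Commute p q)
    {S : Subgroup U} (hS : Simp A S) {x : MulAut U} (hx : x ∈ A) (hxt : Commute t x)
    {y : MulAut U} (hy : y ∈ A) (hya : Commute a y) :
    (∀ s ∈ S, x s = s) ∨ (∀ s ∈ S, y s = s) := by
  let φ : U →* U := x.toMonoidHom / MonoidHom.id U
  have hle : S.map φ ≤ S := by
    rintro _ ⟨s, hs, rfl⟩
    exact div_mem (hS.2.1 x hx s hs) hs
  by_cases h0 : S.map φ = ⊥
  · left
    intro s hs
    exact div_eq_one.1 (mem_bot.1 (h0 ▸ mem_map_of_mem φ hs))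
  · right
    have he := hS.2.2 _ hle h0 (by
      rintro d hd _ ⟨s, hs, rfl⟩
      refine ⟨d s, hS.2.1 d hd s hs, ?_⟩
      show x (d s) / d s = d (x s / s)
      rw [map_div, apply_comm (hAc x hx d hd)])
    intro s hs
    rw [← he] at hs
    obtain ⟨v, -, rfl⟩ := hs
    exact M.pair (hAW hx) (hAW hy) hxt hya (hAc x hx y hy) v

/-- `a` acts by a sign on `A` modulo the kernel of a simple subgroup. -/
theorem kernel_sign (M : Module W t a r) (hAW : A ≤ W) (htA : ∀ d ∈ A, t * d * t ∈ A)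
    (haA : ∀ d ∈ A, a * d * a ∈ A) (hAc : ∀ p ∈ A, ∀ q ∈ A, Commute p q)
    {S : Subgroup U} (hS : Simp A S) :
    (∀ q ∈ A, a * q * a * q⁻¹ ∈ A ⊓ fixingSubgroup (MulAut U) (S : Set U)) ∨
      ∀ q ∈ A, a * q * a * q ∈ A ⊓ fixingSubgroup (MulAut U) (S : Set U) := by
  set K : Subgroup (MulAut U) := A ⊓ fixingSubgroup (MulAut U) (S : Set U) with hK
  have hKmem : ∀ {g}, g ∈ A → (∀ v ∈ S, g v = v) → g ∈ K := fun hg h =>
    ⟨hg, (mem_fixingSubgroup_iff _).2 h⟩
  have hA' : Four A t a := ⟨M.four.hodd.of_dvd_nat (card_dvd_of_le hAW), M.four.ht, M.four.ha,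
    M.four.hta, htA, haA, fun w hw => M.four.hfix w (hAW hw)⟩
  have htri : ∀ (p q s' : MulAut U), p ∈ A → q ∈ A → s' ∈ A → Commute t p → Commute a q →
      Commute (t * a) s' → (q ∈ K ∧ s' ∈ K) ∨ (p ∈ K ∧ s' ∈ K) ∨ (p ∈ K ∧ q ∈ K) := by
    intro p q s' hp hq hs hpt hqa hsb
    rcases M.simp_pair hAW hAc hS hp hpt hq hqa with h | h
    · rcases M.rot.simp_pair hAW hAc hS hq hqa hs hsb with h' | h'
      · exact Or.inr (Or.inr ⟨hKmem hp h, hKmem hq h'⟩)
      · exact Or.inr (Or.inl ⟨hKmem hp h, hKmem hs h'⟩)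
    · rcases M.rot'.simp_pair hAW hAc hS hp hpt hs hsb with h' | h'
      · exact Or.inr (Or.inr ⟨hKmem hp h', hKmem hq h⟩)
      · exact Or.inl ⟨hKmem hq h, hKmem hs h'⟩
  by_cases hcls : ∃ g ∈ A, Commute a g ∧ g ∉ K
  · left
    obtain ⟨g, hgA, hg, hgK⟩ := hcls
    intro q hq
    obtain ⟨p1, p2, p3, ⟨h1, h1'⟩, ⟨h2, h2'⟩, ⟨h3, h3'⟩, rfl⟩ := hA'.product hq
    have hk : p1 ∈ K ∧ p3 ∈ K := by
      rcases htri p1 g p3 h1 hgA h3 h1' hg h3' with h | h | h
      exacts [absurd h.1 hgK, h, absurd h.2 hgK]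
    have i1 : a * p1 * a = p1⁻¹ := hA'.inverted h1 h1'
    have i3 : a * p3 * a = p3⁻¹ := hA'.rot.swap.inverted h3 h3'
    rw [cj_mul M.four.ha, cj_mul M.four.ha, i1, i3, (cj_eq_iff M.four.ha p2).2 h2']
    have c : Commute (p3⁻¹ * p3⁻¹) p2⁻¹ :=
      hAc _ (mul_mem (inv_mem h3) (inv_mem h3)) _ (inv_mem h2)
    rw [show p1⁻¹ * p2 * p3⁻¹ * (p1 * p2 * p3)⁻¹ =
      p1⁻¹ * p2 * (p3⁻¹ * p3⁻¹ * p2⁻¹) * p1⁻¹ by group, c.eq,
      show p1⁻¹ * p2 * (p2⁻¹ * (p3⁻¹ * p3⁻¹)) * p1⁻¹ = p1⁻¹ * (p3⁻¹ * p3⁻¹) * p1⁻¹ by group]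
    exact mul_mem (mul_mem (inv_mem hk.1) (mul_mem (inv_mem hk.2) (inv_mem hk.2))) (inv_mem hk.1)
  · right
    push Not at hcls
    intro q hq
    obtain ⟨p1, p2, p3, ⟨h1, h1'⟩, ⟨h2, h2'⟩, ⟨h3, h3'⟩, rfl⟩ := hA'.product hq
    have k2 : p2 ∈ K := hcls p2 h2 h2'
    have i1 : a * p1 * a = p1⁻¹ := hA'.inverted h1 h1'
    have i3 : a * p3 * a = p3⁻¹ := hA'.rot.swap.inverted h3 h3'
    rw [cj_mul M.four.ha, cj_mul M.four.ha, i1, i3, (cj_eq_iff M.four.ha p2).2 h2']
    have c : Commute (p1⁻¹ * p2 * p3⁻¹) p1 :=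
      hAc _ (mul_mem (mul_mem (inv_mem h1) h2) (inv_mem h3)) _ h1
    have c' : Commute p3⁻¹ p2 := hAc _ (inv_mem h3) _ h2
    rw [show p1⁻¹ * p2 * p3⁻¹ * (p1 * p2 * p3) = p1⁻¹ * p2 * p3⁻¹ * p1 * (p2 * p3) by group,
      c.eq, show p1 * (p1⁻¹ * p2 * p3⁻¹) * (p2 * p3) = p2 * (p3⁻¹ * p2) * p3 by group, c'.eq,
      show p2 * (p2 * p3⁻¹) * p3 = p2 * p2 by group]
    exact mul_mem k2 k2

/-- An abelian invariant subgroup is centralised by `W`. -/
theorem abelian_central (M : Module W t a r) (hAW : A ≤ W)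
    (hWA : W ≤ normalizer (A : Set (MulAut U))) (htA : ∀ d ∈ A, t * d * t ∈ A)
    (haA : ∀ d ∈ A, a * d * a ∈ A) (hAc : ∀ p ∈ A, ∀ q ∈ A, Commute p q)
    {x : MulAut U} (hx : x ∈ W) (hxt : Commute t x) {d : MulAut U} (hd : d ∈ A) : Commute x d := by
  classical
  -- `r` does not divide the order of `A`
  have hrA : ∀ e ∈ A, e ^ r = 1 → e = 1 := by
    haveI := Fact.mk M.hp
    let P : Subgroup (MulAut U) :=
      { carrier := {e | e ∈ A ∧ e ^ r = 1}
        one_mem' := ⟨one_mem A, one_pow r⟩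
        mul_mem' := fun {p q} hp hq =>
          ⟨mul_mem hp.1 hq.1, by rw [(hAc p hp.1 q hq.1).mul_pow, hp.2, hq.2, one_mul]⟩
        inv_mem' := fun {p} hp => ⟨inv_mem hp.1, by rw [inv_pow, hp.2, inv_one]⟩ }
    have hP : IsPGroup r P := fun e => ⟨1, Subtype.ext (by simpa using e.2.2)⟩
    let F : Subgroup U :=
      { carrier := {u | ∀ e ∈ P, e u = u}
        one_mem' := fun e _ => map_one e
        mul_mem' := fun {u v} hu hv e he => by rw [map_mul, hu e he, hv e he]
        inv_mem' := fun {u} hu e he => by rw [map_inv, hu e he] }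
    have hinvF : ∀ g : MulAut U, (∀ e ∈ P, g⁻¹ * e * g ∈ P) → ∀ s ∈ F, g s ∈ F := by
      intro g hg s hs e he
      have h := hs _ (hg e he)
      rw [MulAut.mul_apply, MulAut.mul_apply] at h
      have h' := congrArg g h
      rwa [MulAut.apply_inv_self] at h'
    have hgP : ∀ g : MulAut U, (∀ e ∈ A, g⁻¹ * e * g ∈ A) → ∀ e ∈ P, g⁻¹ * e * g ∈ P := by
      intro g hg e he
      refine ⟨hg e he.1, ?_⟩
      have h := conj_pow (a := g⁻¹) (b := e) (i := r)
      rw [inv_inv] at h
      rw [h, he.2, mul_one, inv_mul_cancel]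
    intro e he her
    by_contra hne
    haveI : Nontrivial U := by
      by_contra h
      rw [not_nontrivial_iff_subsingleton] at h
      exact hne (MulEquiv.ext fun u => Subsingleton.elim _ _)
    have hU : IsPGroup r U := fun u => ⟨1, by simpa using M.hexp u⟩
    obtain ⟨n, hn⟩ := hU.exists_card_eq
    have hn0 : n ≠ 0 := by
      rintro rfl
      exact (Finite.one_lt_card (α := U)).ne' (by simpa using hn)
    have hdiv : r ∣ Nat.card U := hn ▸ dvd_pow_self r hn0
    obtain ⟨u, hu, hu1⟩ := hP.exists_fixed_point_of_prime_dvd_card_of_fixed_point U hdiv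
      (a := (1 : U)) (fun e => map_one (e : MulAut U))
    have hF : F = ⊤ := by
      refine (M.irr F (fun w hw => hinvF w (hgP w fun q hq => ?_))
        (hinvF t (hgP t fun q hq => ?_)) (hinvF a (hgP a fun q hq => ?_))).resolve_left fun h => ?_
      · have := (Subgroup.mem_normalizer_iff.1 (hWA (inv_mem hw)) q).1 hq
        rwa [inv_inv] at this
      · rw [inv_eq_of_mul_eq_one_right M.four.ht]; exact htA q hq
      · rw [inv_eq_of_mul_eq_one_right M.four.ha]; exact haA q hq
      · exact hu1.symm (mem_bot.1 (h ▸ (show u ∈ F from fun e he => hu ⟨e, he⟩)))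
    exact hne (MulEquiv.ext fun u => (hF ▸ mem_top u : u ∈ F) e ⟨he, her⟩)
  have hxA : ∀ q ∈ A, x * q * x⁻¹ ∈ A := fun q hq =>
    (Subgroup.mem_normalizer_iff.1 (hWA hx) q).1 hq
  have hxA' : ∀ q ∈ A, x⁻¹ * q * x ∈ A := fun q hq => by
    have := (Subgroup.mem_normalizer_iff.1 (hWA (inv_mem hx)) q).1 hq
    rwa [inv_inv] at this
  have hxI : a * x * a = x⁻¹ := M.four.inverted hx hxt
  have hxI' : a * x⁻¹ * a = x := by rw [← cj_inv M.four.ha, hxI, inv_inv]
  set e := x * d * x⁻¹ * d⁻¹ with he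
  have heA : e ∈ A := mul_mem (hxA d hd) (inv_mem hd)
  have hker : ∀ S : Subgroup U, Simp A S → ∀ s ∈ S, e s = s := by
    intro S hS
    set S' : Subgroup U := S.map x.toMonoidHom with hS'def
    set K : Subgroup (MulAut U) := A ⊓ fixingSubgroup (MulAut U) (S : Set U) with hK
    set K' : Subgroup (MulAut U) := A ⊓ fixingSubgroup (MulAut U) (S' : Set U) with hK'
    have hS' : Simp A S' := by
      refine ⟨fun h => hS.1 ((map_eq_bot_iff_of_injective _ x.injective).1 h), ?_, ?_⟩
      · rintro q hq _ ⟨s, hs, rfl⟩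
        refine ⟨_, hS.2.1 _ (hxA' q hq) s hs, ?_⟩
        show x ((x⁻¹ * q * x) s) = q (x s)
        rw [MulAut.mul_apply, MulAut.mul_apply, MulAut.apply_inv_self]
      · intro T hT hT1 hTA
        have hc : (T.comap x.toMonoidHom) = S := by
          refine hS.2.2 _ (fun s hs => ?_) (fun h => hT1 ?_) ?_
          · obtain ⟨v, hv, hv'⟩ := hT (mem_comap.1 hs)
            exact x.injective hv' ▸ hv
          · rw [eq_bot_iff]
            intro v hv
            obtain ⟨s, hs⟩ := x.surjective v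
            have hm : s ∈ T.comap x.toMonoidHom := by
              rw [mem_comap]; exact (show x s ∈ T from hs ▸ hv)
            rw [h, mem_bot] at hm
            rw [mem_bot, ← hs, hm, map_one]
          · intro q hq s hs
            rw [mem_comap] at hs ⊢
            have h1 := hTA _ (hxA q hq) _ hs
            show x (q s) ∈ T
            simpa [MulAut.mul_apply] using h1
        rw [hS'def, ← hc, map_comap_eq_self_of_surjective x.surjective]
    have hKK' : ∀ k, k ∈ K → x * k * x⁻¹ ∈ K' := by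
      intro k hk
      refine ⟨hxA k hk.1, (mem_fixingSubgroup_iff _).2 ?_⟩
      rintro _ ⟨s, hs, rfl⟩
      show (x * k * x⁻¹) (x s) = x s
      rw [MulAut.mul_apply, MulAut.mul_apply, MulAut.inv_apply_self]
      exact congrArg x ((mem_fixingSubgroup_iff _).1 hk.2 s hs)
    have hK'K : ∀ k, k ∈ K' → x⁻¹ * k * x ∈ K := by
      intro k hk
      refine ⟨hxA' k hk.1, (mem_fixingSubgroup_iff _).2 fun s hs => ?_⟩
      show (x⁻¹ * k * x) s = s
      rw [MulAut.mul_apply, MulAut.mul_apply,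
        show k (x s) = x s from (mem_fixingSubgroup_iff _).1 hk.2 (x s) ⟨s, hs, rfl⟩,
        MulAut.inv_apply_self]
    have hinv : ∀ (L : Subgroup (MulAut U)), ((∀ q ∈ A, a * q * a * q⁻¹ ∈ L) ∨
        ∀ q ∈ A, a * q * a * q ∈ L) → L ≤ A → ∀ k ∈ L, a * k * a ∈ L := by
      intro L hL hLA k hk
      rcases hL with h | h
      · simpa using mul_mem (h k (hLA hk)) hk
      · simpa using mul_mem (h k (hLA hk)) (inv_mem hk)
    have hsign := M.kernel_sign hAW htA haA hAc hS
    have hKa := hinv K hsign inf_le_left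
    have hK'a := hinv K' (M.kernel_sign hAW htA haA hAc hS') inf_le_left
    -- `x` normalises `K`
    have hstab : ∀ k ∈ K, (x ^ 2)⁻¹ * k * x ^ 2 ∈ K := by
      intro k hk
      have h := hK'K _ (hK'a _ (hKK' _ (hKa k hk)))
      rw [cj_mul M.four.ha, cj_mul M.four.ha, hxI, hxI', cj_cj M.four.ha] at h
      rwa [show (x ^ 2)⁻¹ * k * x ^ 2 = x⁻¹ * (x⁻¹ * k * x) * x by rw [pow_two]; group]
    have hNK : x ∈ normalizer (K : Set (MulAut U)) := by
      refine mem_of_sq_mem (four_odd_orderOf M.four.hodd hx) ((inv_mem_iff (x := x ^ 2)).1 ?_)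
      refine mem_normalizer_of_forall fun k hk => ?_
      rw [inv_inv]
      exact hstab k hk
    have hxK : ∀ k ∈ K, x * k * x⁻¹ ∈ K := fun k hk => (Subgroup.mem_normalizer_iff.1 hNK k).1 hk
    -- `x` is trivial on `A` modulo `K`
    have hsq : ∀ q ∈ A, (x * x) * q * (x * x)⁻¹ * q⁻¹ ∈ K := by
      intro q hq
      set R := x⁻¹ * q * x with hR
      have hRA : R ∈ A := hxA' q hq
      have haq : a * R * a = x * (a * q * a) * x⁻¹ := by
        rw [hR, cj_mul M.four.ha, cj_mul M.four.ha, hxI, hxI']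
      rcases hsign with h | h
      · have h1 := hxK _ (h q hq)
        have h2 := h R hRA
        rw [haq] at h2
        have h3 := hxK _ (mul_mem (inv_mem h1) h2)
        rwa [show x * ((x * (a * q * a * q⁻¹) * x⁻¹)⁻¹ * (x * (a * q * a) * x⁻¹ * R⁻¹)) * x⁻¹ =
          (x * x) * q * (x * x)⁻¹ * q⁻¹ by rw [hR]; group] at h3
      · have h1 := hxK _ (h q hq)
        have h2 := h R hRA
        rw [haq] at h2
        have h3 := hxK _ (mul_mem (inv_mem h2) h1)
        rw [show x * ((x * (a * q * a) * x⁻¹ * R)⁻¹ * (x * (a * q * a * q) * x⁻¹)) * x⁻¹ =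
          q⁻¹ * ((x * x) * q * (x * x)⁻¹) by
            simp only [hR, mul_inv_rev, inv_inv, mul_assoc, mul_inv_cancel_left, inv_mul_cancel_left]] at h3
        have hc : Commute q⁻¹ ((x * x) * q * (x * x)⁻¹) := by
          refine hAc _ (inv_mem hq) _ ?_
          rw [show (x * x) * q * (x * x)⁻¹ = x * (x * q * x⁻¹) * x⁻¹ by group]
          exact hxA _ (hxA q hq)
        rwa [hc.eq] at h3
    let T : Subgroup (MulAut U) :=
      { carrier := {g | g ∈ normalizer (K : Set (MulAut U)) ∧ ∀ q ∈ A, g * q * g⁻¹ * q⁻¹ ∈ K}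
        one_mem' := ⟨one_mem _, fun q _ => by simp⟩
        mul_mem' := fun {g h} hg hh => ⟨mul_mem hg.1 hh.1, fun q hq => by
          have h1 := (Subgroup.mem_normalizer_iff.1 hg.1 _).1 (hh.2 q hq)
          have := mul_mem h1 (hg.2 q hq)
          rwa [show g * (h * q * h⁻¹ * q⁻¹) * g⁻¹ * (g * q * g⁻¹ * q⁻¹) =
            g * h * q * (g * h)⁻¹ * q⁻¹ by group] at this⟩
        inv_mem' := fun {g} hg => ⟨inv_mem hg.1, fun q hq => by
          have := (Subgroup.mem_normalizer_iff.1 (inv_mem hg.1) _).1 (inv_mem (hg.2 q hq))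
          rwa [show g⁻¹ * (g * q * g⁻¹ * q⁻¹)⁻¹ * g⁻¹⁻¹ = g⁻¹ * q * g⁻¹⁻¹ * q⁻¹ by group] at this⟩ }
    have hxT : x ∈ T := mem_of_sq_mem (four_odd_orderOf M.four.hodd hx) ⟨pow_mem hNK 2, fun q hq => by rw [pow_two]; exact hsq q hq⟩
    intro s hs
    exact (mem_fixingSubgroup_iff _).1 (hxT.2 d hd).2 s hs
  -- hence `e = 1`
  suffices he1 : e = 1 by
    rw [he, mul_inv_eq_one, mul_inv_eq_iff_eq_mul] at he1
    exact he1
  by_contra hne
  let φ : U →* U := e.toMonoidHom / MonoidHom.id U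
  have hφ : φ.range ≠ ⊥ := fun h => hne (MulEquiv.ext fun u =>
    div_eq_one.1 (mem_bot.1 (h ▸ ⟨u, rfl⟩ : φ u ∈ (⊥ : Subgroup U))))
  have hφA : ∀ q ∈ A, ∀ s ∈ φ.range, q s ∈ φ.range := by
    rintro q hq _ ⟨u, rfl⟩
    refine ⟨q u, ?_⟩
    show e (q u) / q u = q (e u / u)
    rw [map_div, apply_comm (hAc e heA q hq)]
  obtain ⟨S, -, hSmin⟩ := Finite.exists_le_minimal
    (p := fun S : Subgroup U => S ≤ φ.range ∧ S ≠ ⊥ ∧ ∀ q ∈ A, ∀ s ∈ S, q s ∈ S)
    (a := φ.range) ⟨le_rfl, hφ, hφA⟩
  have hS : Simp A S := ⟨hSmin.1.2.1, hSmin.1.2.2, fun T hT hT1 hTA =>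
    le_antisymm hT (hSmin.2 ⟨hT.trans hSmin.1.1, hT1, hTA⟩ hT)⟩
  refine hS.1 (eq_bot_iff.2 fun s hs => mem_bot.2 ?_)
  obtain ⟨u, hu⟩ := hSmin.1.1 hs
  have heu : e u = u * s := by rw [← hu]; exact (mul_div_cancel u (e u)).symm
  have hpow : ∀ k : ℕ, (e ^ k) u = u * s ^ k := by
    intro k
    induction k with
    | zero => simp
    | succ k ih =>
      rw [pow_succ', MulAut.mul_apply, ih, map_mul, map_pow, heu, hker S hS s hs, pow_succ',
        mul_assoc]
  have h1 : s ^ orderOf e = 1 := by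
    have := hpow (orderOf e)
    rw [pow_orderOf_eq_one, MulAut.one_apply] at this
    exact mul_left_cancel (this.symm.trans (mul_one u).symm)
  have hnd : ¬ r ∣ orderOf e := by
    intro hd'
    have hne0 : orderOf e ≠ 0 := (orderOf_pos e).ne'
    have h2 := hrA (e ^ (orderOf e / r)) (pow_mem heA _)
      (by rw [← pow_mul, Nat.div_mul_cancel hd', pow_orderOf_eq_one])
    have h3 := Nat.le_of_dvd (Nat.div_pos (Nat.le_of_dvd (orderOf_pos e) hd') M.hp.pos)
      (orderOf_dvd_of_pow_eq_one h2)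
    exact absurd h3 (not_le.2 (Nat.div_lt_self (orderOf_pos e) M.hp.one_lt))
  have hcop : (orderOf e).Coprime r := (M.hp.coprime_iff_not_dvd.2 hnd).symm
  have h2 := pow_gcd_eq_one.mpr ⟨h1, M.hexp s⟩
  rwa [hcop.gcd_eq_one, pow_one] at h2

end Simple

/-- The image of `W` on an irreducible module is abelian. -/
theorem commutative (M : Module W t a r) {p q : MulAut U} (hp : p ∈ W) (hq : q ∈ W) :
    Commute p q := by
  have htn := mem_normalizer_of_involution M.four.ht M.four.htW
  have han := mem_normalizer_of_involution M.four.ha M.four.haW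
  -- abelian invariant subgroups are central
  have hab : ∀ A : Subgroup (MulAut U), A ≤ W →
      (∀ g ∈ normalizer (W : Set (MulAut U)), g ∈ normalizer (A : Set (MulAut U))) →
      (∀ p ∈ A, ∀ q ∈ A, Commute p q) → ∀ d ∈ A, ∀ w ∈ W, Commute d w := by
    intro A hAW hAn hAc d hd w hw
    have hWA : W ≤ normalizer (A : Set (MulAut U)) := fun g hg => hAn g (le_normalizer hg)
    have htA : ∀ e ∈ A, t * e * t ∈ A := fun e he => cj_mem M.four.ht (hAn t htn) he
    have haA : ∀ e ∈ A, a * e * a ∈ A := fun e he => cj_mem M.four.ha (hAn a han) he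
    have hbA : ∀ e ∈ A, t * a * e * (t * a) ∈ A := fun e he =>
      cj_mem M.four.prod_sq (mul_mem (hAn t htn) (hAn a han)) he
    refine (mem_centralizer_singleton_iff.1 (M.four.eq_top (H := centralizer ({d} : Set (MulAut U)))
      ?_ ?_ ?_ hw) : w * d = d * w).symm
    · exact fun x hx h => mem_centralizer_singleton_iff.2
        (M.abelian_central hAW hWA htA haA hAc hx h hd).eq
    · exact fun x hx h => mem_centralizer_singleton_iff.2
        (M.swap.abelian_central hAW hWA haA htA hAc hx h hd).eq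
    · exact fun x hx h => mem_centralizer_singleton_iff.2
        (M.rot'.swap.abelian_central hAW hWA hbA htA hAc hx h hd).eq
  by_contra hpq
  -- an invariant subgroup that is not central but has central commutators
  obtain ⟨D, hDW, hDn, hDZ, hD'⟩ : ∃ D : Subgroup (MulAut U), D ≤ W ∧
      (∀ g ∈ normalizer (W : Set (MulAut U)), g ∈ normalizer (D : Set (MulAut U))) ∧
      (∃ d ∈ D, ∃ w ∈ W, ¬ Commute d w) ∧ ∀ c ∈ ⁅D, D⁆, ∀ w ∈ W, Commute c w := by
    suffices h : ∀ n, ∀ D : Subgroup (MulAut U), Nat.card D = n → D ≤ W →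
        (∀ g ∈ normalizer (W : Set (MulAut U)), g ∈ normalizer (D : Set (MulAut U))) →
        (∃ d ∈ D, ∃ w ∈ W, ¬ Commute d w) → ∃ D : Subgroup (MulAut U), D ≤ W ∧
        (∀ g ∈ normalizer (W : Set (MulAut U)), g ∈ normalizer (D : Set (MulAut U))) ∧
        (∃ d ∈ D, ∃ w ∈ W, ¬ Commute d w) ∧ ∀ c ∈ ⁅D, D⁆, ∀ w ∈ W, Commute c w from
      h _ W rfl le_rfl (fun g hg => hg) ⟨p, hp, q, hq, hpq⟩
    intro n
    induction n using Nat.strong_induction_on with
    | _ n ih =>
    intro D hn hDW hDn hDZ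
    by_cases hc : ∀ c ∈ ⁅D, D⁆, ∀ w ∈ W, Commute c w
    · exact ⟨D, hDW, hDn, hDZ, hc⟩
    push Not at hc
    have hD1 : D ≠ ⊥ := by
      rintro rfl
      obtain ⟨d, hd, w, -, hdw⟩ := hDZ
      exact hdw (mem_bot.1 hd ▸ Commute.one_left w)
    haveI : Group.IsSolvable D :=
      Cfsg.Agent.S0205.result (M.four.hodd.of_dvd_nat (Subgroup.card_dvd_of_le hDW))
    haveI : Nontrivial D := D.nontrivial_iff_ne_bot.2 hD1
    have hlt : (⁅D, D⁆ : Subgroup (MulAut U)) < D := by
      refine lt_of_le_of_ne (commutator_le_self D) fun e => ?_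
      have h1 : commutator D = ⊤ := by
        refine map_injective (D.subtype_injective) ?_
        rw [map_subtype_commutator, e, ← MonoidHom.range_eq_map, range_subtype]
      exact (Group.IsSolvable.commutator_lt_top_of_nontrivial D).ne h1
    refine ih (Nat.card (⁅D, D⁆ : Subgroup (MulAut U))) ?_ _ rfl ((commutator_le_self D).trans hDW)
      (fun g hg => normalizer_commutator_self (hDn g hg)) hc
    rw [← hn]
    exact Set.Finite.card_lt_card (Set.toFinite _) hlt
  have htD : ∀ e ∈ D, t * e * t ∈ D := fun e he => cj_mem M.four.ht (hDn t htn) he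
  have haD : ∀ e ∈ D, a * e * a ∈ D := fun e he => cj_mem M.four.ha (hDn a han) he
  have hF : Four D t a := ⟨M.four.hodd.of_dvd_nat (card_dvd_of_le hDW), M.four.ht, M.four.ha,
    M.four.hta, htD, haD, fun w hw => M.four.hfix w (hDW hw)⟩
  -- elements of different classes commute
  have hcls : ∀ {t a : MulAut U}, Module W t a r → ∀ x ∈ D, ∀ y ∈ D, Commute t x → Commute a y →
      Commute x y := by
    intro t a M x hx y hy hxt hya
    set c := ⁅x, y⁆ with hc
    have hcD : c ∈ ⁅D, D⁆ := commutator_mem_commutator hx hy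
    have hcW : c ∈ W := (commutator_le_self D).trans hDW hcD
    have hxI : a * x * a = x⁻¹ := M.four.inverted (hDW hx) hxt
    have hyI : t * y * t = y⁻¹ := M.four.swap.inverted (hDW hy) hya
    have htt := M.four.ht
    have htx : t * x * t = x := (cj_eq_iff htt x).2 hxt
    have hay : a * y * a = y := (cj_eq_iff M.four.ha y).2 hya
    have htc : t * c * t = c⁻¹ := by
      rw [hc, commutatorElement_def, cj_mul htt, cj_mul htt, cj_mul htt, ← cj_inv htt x,
        ← cj_inv htt y, htx, hyI, inv_inv]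
      have h := hD' c⁻¹ (inv_mem hcD) y⁻¹ (inv_mem (hDW hy))
      calc x * y⁻¹ * x⁻¹ * y = y⁻¹ * c⁻¹ * y := by rw [hc, commutatorElement_def]; group
        _ = c⁻¹ * y⁻¹ * y := by rw [h.eq]
        _ = (x * y * x⁻¹ * y⁻¹)⁻¹ := by rw [hc, commutatorElement_def]; group
    have hbc : Commute (t * a) c := by
      refine (cj_eq_iff M.four.prod_sq c).1 ?_
      have hac : a * c * a = ⁅x⁻¹, y⁆ := by
        rw [hc, commutatorElement_def, commutatorElement_def, cj_mul M.four.ha, cj_mul M.four.ha,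
          cj_mul M.four.ha, ← cj_inv M.four.ha x, ← cj_inv M.four.ha y, hxI, hay]
      rw [M.four.cj_prod, hac, commutatorElement_def, inv_inv, cj_mul htt, cj_mul htt, cj_mul htt,
        ← cj_inv htt x, ← cj_inv htt y, htx, hyI, inv_inv]
      have h := hD' c hcD (y * x) (mul_mem (hDW hy) (hDW hx))
      calc x⁻¹ * y⁻¹ * x * y = (y * x)⁻¹ * (c * (y * x)) := by rw [hc, commutatorElement_def]; group
        _ = (y * x)⁻¹ * ((y * x) * c) := by rw [h.eq]
        _ = c := by group
    let F : Subgroup U :=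
      { carrier := {u | c u = u}
        one_mem' := map_one c
        mul_mem' := fun {u v} hu hv => by
          show c (u * v) = u * v
          rw [map_mul, show c u = u from hu, show c v = v from hv]
        inv_mem' := fun {u} hu => by
          show c u⁻¹ = u⁻¹
          rw [map_inv, show c u = u from hu] }
    have hFt : ∀ s ∈ F, t s ∈ F := by
      intro s hs
      have hs' : c⁻¹ s = s := by
        nth_rw 1 [← show c s = s from hs]
        exact MulAut.inv_apply_self U c s
      have e := congrArg (fun f : MulAut U => f s) htc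
      simp only [MulAut.mul_apply] at e
      rw [hs'] at e
      show c (t s) = t s
      nth_rw 2 [← e]
      rw [apply_apply htt]
    have hFb : ∀ s ∈ F, (t * a) s ∈ F := fun s hs => by
      show c ((t * a) s) = (t * a) s
      rw [← apply_comm hbc, show c s = s from hs]
    rcases M.irr F (fun w hw s hs => by
        show c (w s) = w s
        rw [apply_comm (hD' c hcD w hw), show c s = s from hs]) hFt
      (fun s hs => by
        have := hFt _ (hFb s hs)
        rwa [MulAut.mul_apply, apply_apply htt] at this) with h | h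
    · have hbI : ∀ u : U, (t * a) u = u⁻¹ := by
        intro u
        refine eq_inv_of_mul_eq_one_left ?_
        have hfix : (t * a) ((t * a) u * u) = (t * a) u * u := by
          rw [map_mul, apply_apply M.four.prod_sq, mul_comm]
        exact mem_bot.1 (h ▸ (M.rot'.swap.fixes hcW hbc hfix : (t * a) u * u ∈ F))
      have hbx : Commute (t * a) x := MulEquiv.ext fun u => by
        show (t * a) (x u) = x ((t * a) u)
        rw [hbI, hbI, map_inv]
      rw [M.rot'.four.hfix x (hDW hx) hxt hbx]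
      exact Commute.one_left y
    · refine commutatorElement_eq_one_iff_commute.1 (MulEquiv.ext fun u => ?_)
      exact (h ▸ mem_top u : u ∈ F)
  obtain ⟨d, hd, w, hw, hdw⟩ := hDZ
  refine hdw (hab D hDW hDn ?_ d hd w hw)
  intro x hx y hy
  have hgen : ∀ z ∈ D, Commute t z ∨ Commute a z ∨ Commute (t * a) z → z ∈ centralizer (D : Set (MulAut U)) := by
    intro z hz hzc
    have hle : D ≤ centralizer ({z} : Set (MulAut U)) := by
      refine hF.eq_top (fun v hv hv' => mem_centralizer_singleton_iff.2 ?_)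
        (fun v hv hv' => mem_centralizer_singleton_iff.2 ?_)
        (fun v hv hv' => mem_centralizer_singleton_iff.2 ?_)
      · rcases hzc with h | h | h
        exacts [(M.four.commute_same (hDW hv) (hDW hz) hv' h).eq, (hcls M v hv z hz hv' h).eq,
          (hcls M.rot' v hv z hz hv' h).eq]
      · rcases hzc with h | h | h
        exacts [(hcls M z hz v hv h hv').eq.symm, (M.four.swap.commute_same (hDW hv) (hDW hz) hv' h).eq,
          (hcls M.rot v hv z hz hv' h).eq]
      · rcases hzc with h | h | h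
        exacts [(hcls M.rot' z hz v hv h hv').eq.symm, (hcls M.rot z hz v hv h hv').eq.symm,
          (M.four.rot'.swap.commute_same (hDW hv) (hDW hz) hv' h).eq]
    exact mem_centralizer_iff.2 fun v hv => mem_centralizer_singleton_iff.1 (hle hv)
  have hcen : D ≤ centralizer (D : Set (MulAut U)) :=
    hF.eq_top (fun v hv h => hgen v hv (Or.inl h)) (fun v hv h => hgen v hv (Or.inr (Or.inl h)))
      (fun v hv h => hgen v hv (Or.inr (Or.inr h)))
  exact (mem_centralizer_iff.1 (hcen hy) x hx : x * y = y * x)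

end Module

end CfsgLib.GWKlein
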