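import Cfsg.Agent.Lib.GWKlein.Statement

/-!
# Klein four Sylow subgroup: the rotating overgroup has large index on the odd part

If `H` rotates the four-group and every element of `oddPart t` outside `H` moves `x ∈ core H` so that
it generates with `x` a nontrivial element of `T`, then the involutions of two points of `G / H` are
at most one, and counting the points fixed by the involutions of `H` bounds `|T|` by the index of
`oddPart t ⊓ H` in `oddPart t`.
-/

set_option autoImplicit false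
set_option linter.unusedSectionVars false
set_option linter.style.haveILetI false

universe u

namespace CfsgLib.GWKlein

open Subgroup

/-- The arithmetic of the counting. -/
theorem ineq_arith {T D e I m : ℕ} (hT : 0 < T) (hD : 0 < D) (hI : 5 * T ^ 2 ≤ I) (he : 3 ≤ e)
    (hm : I * (e - 1) < m) (hG : m * (4 * I * (T * D)) * D ^ 2 ≤ 60 * (e * (T * D)) ^ 3) :
    T < e := by
  obtain ⟨f, rfl⟩ : ∃ f, e = f + 1 := ⟨e - 1, by omega⟩
  simp only [Nat.add_sub_cancel] at hm
  by_contra hle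
  rw [not_lt] at hle
  have h1 : 4 * I * m ≤ 60 * (f + 1) ^ 3 * T ^ 2 := by
    refine Nat.le_of_mul_le_mul_left ?_ (show 0 < T * D ^ 3 by positivity)
    calc T * D ^ 3 * (4 * I * m) = m * (4 * I * (T * D)) * D ^ 2 := by ring
      _ ≤ _ := hG
      _ = T * D ^ 3 * (60 * (f + 1) ^ 3 * T ^ 2) := by ring
  have h2 : 100 * T ^ 4 * f ≤ 60 * (f + 1) ^ 3 * T ^ 2 := by
    refine le_trans ?_ h1
    calc 100 * T ^ 4 * f = 4 * (5 * T ^ 2) * ((5 * T ^ 2) * f) := by ring
      _ ≤ 4 * I * m := Nat.mul_le_mul (Nat.mul_le_mul_left 4 hI)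
          ((Nat.mul_le_mul_right f hI).trans hm.le)
  have h3 : 100 * T ^ 2 * f ≤ 60 * (f + 1) ^ 3 := by
    refine Nat.le_of_mul_le_mul_left ?_ (show 0 < T ^ 2 by positivity)
    calc T ^ 2 * (100 * T ^ 2 * f) = 100 * T ^ 4 * f := by ring
      _ ≤ _ := h2
      _ = T ^ 2 * (60 * (f + 1) ^ 3) := by ring
  have h4 : 100 * (f + 1) ^ 2 * f ≤ 100 * T ^ 2 * f :=
    Nat.mul_le_mul_right f (Nat.mul_le_mul_left 100 (Nat.pow_le_pow_left hle 2))
  have h5 : 60 * (f + 1) ^ 3 < 100 * (f + 1) ^ 2 * f := by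
    rw [show 60 * (f + 1) ^ 3 = (f + 1) ^ 2 * (60 * (f + 1)) by ring,
      show 100 * (f + 1) ^ 2 * f = (f + 1) ^ 2 * (100 * f) by ring]
    exact Nat.mul_lt_mul_of_pos_left (by omega) (by positivity)
  omega

namespace Setting

variable {G : Type u} [Group G] [Finite G] {t a : G} (S : Setting G t a)
include S

theorem card_le_four_conj {H : Subgroup G} (hV : four t a ≤ H) {A : Subgroup G} (hA : IsPGroup 2 A)
    (hAH : A ≤ H) : ∃ h ∈ H, ∀ x ∈ A, h * x * h⁻¹ ∈ four t a := by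
  haveI : Fact (Nat.Prime 2) := ⟨Nat.prime_two⟩
  obtain ⟨P, hP⟩ := S.exists_sylow
  obtain ⟨Q, hQ⟩ := (hA.comap_of_injective H.subtype H.subtype_injective).exists_le_sylow
  obtain ⟨h, hh⟩ := MulAction.exists_smul_eq H Q (P.subtype (hP ▸ hV))
  refine ⟨h, h.2, fun x hx => ?_⟩
  have h1 : MulAut.conj h • (⟨x, hAH hx⟩ : H) ∈ ((h • Q : Sylow 2 H) : Subgroup H) := by
    exact ⟨⟨x, hAH hx⟩, hQ hx, rfl⟩
  rw [hh] at h1
  exact hP ▸ h1

/-- Every involution of a rotating overgroup is conjugate to `t` in it. -/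
theorem conj_t_of_rot {H : Subgroup G} (hV : four t a ≤ H) {g : G} (hgH : g ∈ H) (hg : Rot t a g)
    {u : G} (hu : u ∈ H) (hu2 : orderOf u = 2) : ∃ h ∈ H, h * t * h⁻¹ = u := by
  obtain ⟨h, hhH, hh⟩ := S.card_le_four_conj hV
    (IsPGroup.of_card (G := zpowers u) (p := 2) (n := 1) (by rw [Nat.card_zpowers, hu2, pow_one]))
    (zpowers_le.2 hu)
  have hv := hh u (mem_zpowers u)
  have key : ∀ v, (∃ k ∈ H, k * t * k⁻¹ = v) → h * u * h⁻¹ = v → ∃ k ∈ H, k * t * k⁻¹ = u := by
    rintro v ⟨k, hk, rfl⟩ e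
    exact ⟨h⁻¹ * k, mul_mem (inv_mem hhH) hk, by
      calc h⁻¹ * k * t * (h⁻¹ * k)⁻¹ = h⁻¹ * (k * t * k⁻¹) * h := by group
        _ = u := by rw [← e]; group⟩
  rcases S.mem_four_iff.1 hv with e | e | e | e
  · exfalso
    rw [conj_eq_one_iff] at e
    rw [e, orderOf_one] at hu2
    omega
  · exact key _ ⟨1, one_mem _, by group⟩ e
  · exact key _ ⟨g, hgH, hg.1⟩ e
  · refine key _ ⟨g * g, mul_mem hgH hgH, ?_⟩ e
    calc g * g * t * (g * g)⁻¹ = g * (g * t * g⁻¹) * g⁻¹ := by group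
      _ = t * a := by rw [hg.1, hg.2]

/-- The centraliser of `t` is its odd part times the four-group. -/
theorem exists_oddPart_mul {y : G} (hy : Commute t y) :
    ∃ o ∈ oddPart t, ∃ v ∈ four t a, y = o * v := by
  rcases S.type_or_rot (S.four_le_centralizer S.t_mem) with h1 | ⟨g, hg, hgt, -⟩
  · exact h1.1 y (mem_centralizer_singleton_iff.2 hy.symm.eq)
  · rw [show g * t * g⁻¹ = t by rw [mem_centralizer_singleton_iff.1 hg, mul_inv_cancel_right]] at hgt
    exact absurd hgt S.ne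

/-- The normaliser of the four-group lies in a rotating overgroup containing `C_O(a)`. -/
theorem mem_of_normalises {H : Subgroup G} (hV : four t a ≤ H) {g : G} (hgH : g ∈ H)
    (hg : Rot t a g) (hD : oddPart t ⊓ centralizer ({a} : Set G) ≤ H) {k : G}
    (hk : ∀ v ∈ four t a, k * v * k⁻¹ ∈ four t a) : k ∈ H := by
  have hgV : ∀ v ∈ four t a, g * v * g⁻¹ ∈ four t a := fun v hv => by
    rcases S.mem_four_iff.1 hv with rfl | rfl | rfl | rfl
    · rw [mul_one, mul_inv_cancel]; exact one_mem _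
    · rw [hg.1]; exact S.a_mem
    · rw [hg.2]; exact S.ta_mem
    · rw [show g * (t * a) * g⁻¹ = g * t * g⁻¹ * (g * a * g⁻¹) by group, hg.1, hg.2]
      exact mul_mem S.a_mem S.ta_mem
  have hfix : ∀ k' : G, (∀ v ∈ four t a, k' * v * k'⁻¹ ∈ four t a) → k' * t * k'⁻¹ = t → k' ∈ H := by
    intro k' hk' he
    have hkt : Commute t k' := (mul_inv_eq_iff_eq_mul.1 he).symm
    have hka := S.commute_of_fixed hk' S.t_mem S.t_ne_one hkt.symm S.a_mem
    obtain ⟨o, ho, v, hv, rfl⟩ := S.exists_oddPart_mul hkt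
    refine H.mul_mem (hD ⟨ho, mem_centralizer_singleton_iff.2 ?_⟩) (hV hv)
    have h1 : Commute (o * v * v⁻¹) a := hka.mul_left ((S.four_comm hv S.a_mem).inv_left)
    rwa [mul_inv_cancel_right] at h1
  rcases S.mem_four_iff.1 (hk t S.t_mem) with e | e | e | e
  · exact absurd (conj_eq_one_iff.1 e) S.t_ne_one
  · exact hfix k hk e
  · have h3 : g * (t * a) * g⁻¹ = t := by
      rw [show g * (t * a) * g⁻¹ = g * t * g⁻¹ * (g * a * g⁻¹) by group, hg.1, hg.2, ← mul_assoc,
        ← S.comm.eq, mul_assoc, S.a_mul_self, mul_one]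
    have h1 := hfix (g * g * k) (fun v hv => by
      rw [show g * g * k * v * (g * g * k)⁻¹ = g * (g * (k * v * k⁻¹) * g⁻¹) * g⁻¹ by group]
      exact hgV _ (hgV _ (hk v hv))) (by
      calc g * g * k * t * (g * g * k)⁻¹ = g * (g * (k * t * k⁻¹) * g⁻¹) * g⁻¹ := by group
        _ = t := by rw [e, hg.2, h3])
    exact (H.mul_mem_cancel_left (H.mul_mem hgH hgH)).1 h1
  · have h1 := hfix (g * k) (fun v hv => by
      rw [show g * k * v * (g * k)⁻¹ = g * (k * v * k⁻¹) * g⁻¹ by group]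
      exact hgV _ (hk v hv)) (by
      calc g * k * t * (g * k)⁻¹ = g * (k * t * k⁻¹) * g⁻¹ := by group
        _ = t := by
          rw [e, show g * (t * a) * g⁻¹ = g * t * g⁻¹ * (g * a * g⁻¹) by group, hg.1, hg.2,
            ← mul_assoc, ← S.comm.eq, mul_assoc, S.a_mul_self, mul_one])
    exact (H.mul_mem_cancel_left hgH).1 h1

/-- Two commuting involutions of `H` do not both lie in another conjugate `c H c⁻¹`. -/
theorem mem_of_four_fixed {H : Subgroup G} (hV : four t a ≤ H) {g : G} (hgH : g ∈ H)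
    (hg : Rot t a g) (hD : oddPart t ⊓ centralizer ({a} : Set G) ≤ H) {c w : G} (hw2 : w * w = 1)
    (htw : Commute t w) (hw1 : w ≠ 1) (hwt : w ≠ t) (hw : w ∈ H) (htc : c⁻¹ * t * c ∈ H)
    (hwc : c⁻¹ * w * c ∈ H) : c ∈ H := by
  set A := CfsgLib.Involution.TwoGroupLifts.fourGroup t w S.t_mul_self hw2 htw.eq with hA
  have hAmem : ∀ {x : G}, x ∈ A → x = 1 ∨ x = t ∨ x = w ∨ x = t * w := fun hx =>
    CfsgLib.Involution.TwoGroupLifts.mem_fourGroup.1 hx
  have hA2 : IsPGroup 2 A := fun x => ⟨1, Subtype.ext (by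
    rw [pow_one, Subgroup.coe_pow, pow_two]
    show (x : G) * x = 1
    rcases hAmem x.2 with e | e | e | e <;> rw [e]
    exacts [one_mul 1, S.t_mul_self, hw2, by
      rw [htw.symm.mul_mul_mul_comm, S.t_mul_self, hw2, one_mul]])⟩
  obtain ⟨h₁, hh₁, k₁⟩ := S.card_le_four_conj hV hA2 fun x hx => by
    rcases hAmem hx with rfl | rfl | rfl | rfl
    exacts [one_mem _, hV S.t_mem, hw, mul_mem (hV S.t_mem) hw]
  have hA4 : ∀ v ∈ four t a, ∃ x ∈ A, h₁ * x * h₁⁻¹ = v := by
    have htA : t ∈ A := CfsgLib.Involution.TwoGroupLifts.mem_fourGroup.2 (Or.inr (Or.inl rfl))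
    have hwA : w ∈ A := CfsgLib.Involution.TwoGroupLifts.mem_fourGroup.2 (Or.inr (Or.inr (Or.inl rfl)))
    haveI := S.isKleinFour
    intro v hv
    have hinj : ∀ {x y : G}, h₁ * x * h₁⁻¹ = h₁ * y * h₁⁻¹ → x = y := fun e =>
      mul_left_cancel (mul_right_cancel e)
    by_cases h0 : v = 1
    · exact ⟨1, one_mem _, by rw [h0]; group⟩
    by_cases hvt : v = h₁ * t * h₁⁻¹
    · exact ⟨t, htA, hvt.symm⟩
    by_cases hvw : v = h₁ * w * h₁⁻¹
    · exact ⟨w, hwA, hvw.symm⟩
    refine ⟨t * w, mul_mem htA hwA, ?_⟩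
    have h := congrArg Subtype.val (IsKleinFour.eq_mul_of_ne_all (x := (⟨_, k₁ t htA⟩ : four t a))
      (y := ⟨_, k₁ w hwA⟩) (z := ⟨v, hv⟩)
      (fun e => S.t_ne_one (conj_eq_one_iff.1 (congrArg Subtype.val e)))
      (fun e => hw1 (conj_eq_one_iff.1 (congrArg Subtype.val e)))
      (fun e => hwt (hinj (congrArg Subtype.val e)).symm)
      (fun e => h0 (congrArg Subtype.val e)) (fun e => hvt (congrArg Subtype.val e))
      (fun e => hvw (congrArg Subtype.val e)))
    change v = h₁ * t * h₁⁻¹ * (h₁ * w * h₁⁻¹) at h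
    rw [h]; group
  set B := A.map (MulAut.conj c⁻¹).toMonoidHom with hB
  obtain ⟨h₂, hh₂, k₂⟩ := S.card_le_four_conj hV (hA2.map _ : IsPGroup 2 B) (by
    rintro _ ⟨x, hx, rfl⟩
    show c⁻¹ * x * c⁻¹⁻¹ ∈ H
    rw [inv_inv]
    rcases hAmem hx with rfl | rfl | rfl | rfl
    · rw [mul_one, inv_mul_cancel]; exact one_mem _
    · exact htc
    · exact hwc
    · rw [show c⁻¹ * (t * w) * c = (c⁻¹ * t * c) * (c⁻¹ * w * c) by group]
      exact mul_mem htc hwc)
  have hk := S.mem_of_normalises hV hgH hg hD (k := h₂ * c⁻¹ * h₁⁻¹) fun v hv => by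
    obtain ⟨x, hx, rfl⟩ := hA4 v hv
    have := k₂ _ ⟨x, hx, rfl⟩
    rw [show h₂ * c⁻¹ * h₁⁻¹ * (h₁ * x * h₁⁻¹) * (h₂ * c⁻¹ * h₁⁻¹)⁻¹ =
      h₂ * (c⁻¹ * x * c⁻¹⁻¹) * h₂⁻¹ by group]
    exact this
  exact inv_mem_iff.1 ((H.mul_mem_cancel_left hh₂).1 ((H.mul_mem_cancel_right (H.inv_mem hh₁)).1 hk))

variable {H T : Subgroup G}

/-- `T` and the part centralised by `a` are complements in `oddPart t ⊓ H`. -/
theorem card_split (hR : RotData t a H T) (hD : oddPart t ⊓ centralizer ({a} : Set G) ≤ H) :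
    Nat.card ↥(oddPart t ⊓ H) =
      Nat.card ↥T * Nat.card ↥(oddPart t ⊓ centralizer ({a} : Set G)) := by
  rw [← Nat.card_prod]
  refine (Nat.card_eq_of_bijective (fun p : T × ↥(oddPart t ⊓ centralizer ({a} : Set G)) =>
    (⟨(p.1 : G) * (p.2 : G), mul_mem (hR.le p.1.2) ⟨p.2.2.1, hD p.2.2⟩⟩ : ↥(oddPart t ⊓ H)))
    ⟨fun p q e => ?_, fun y => ?_⟩).symm
  · obtain ⟨⟨s, hs⟩, ⟨d, hd⟩⟩ := p
    obtain ⟨⟨s', hs'⟩, ⟨d', hd'⟩⟩ := q
    have e1 : s * d = s' * d' := congrArg Subtype.val e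
    have hz : s'⁻¹ * s = d' * d⁻¹ := by
      rw [eq_mul_inv_iff_mul_eq, mul_assoc, e1, inv_mul_cancel_left]
    have hzT : s'⁻¹ * s ∈ T := mul_mem (inv_mem hs') hs
    have hzD : Commute a (d' * d⁻¹) :=
      (mem_centralizer_singleton_iff.1 (mul_mem hd' (inv_mem hd)).2).symm
    have hz2 : (s'⁻¹ * s) * (s'⁻¹ * s) = 1 := by
      refine mul_eq_one_iff_eq_inv.2 ?_
      conv_lhs => rw [← mul_inv_cancel_right (s'⁻¹ * s) a]
      rw [← hR.inverted _ hzT, hz, hzD.eq, mul_assoc]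
    have hz1 : s'⁻¹ * s = 1 := by
      rw [← orderOf_eq_one_iff]
      have h2 : orderOf (s'⁻¹ * s) ∣ 2 := orderOf_dvd_of_pow_eq_one (by rw [pow_two]; exact hz2)
      have hodd : Odd (orderOf (s'⁻¹ * s)) := odd_orderOf (odd_card_core _) (hR.le hzT).1
      rcases (Nat.dvd_prime Nat.prime_two).1 h2 with h | h
      · exact h
      · rw [h] at hodd; exact absurd hodd (by decide)
    obtain rfl := inv_mul_eq_one.1 hz1
    exact Prod.ext rfl (Subtype.ext (mul_left_cancel e1))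
  · obtain ⟨s, hs, d, hd, hcd, he⟩ := hR.split y y.2
    exact ⟨⟨⟨s, hs⟩, ⟨d, hd.1, mem_centralizer_singleton_iff.2 hcd.symm.eq⟩⟩, Subtype.ext he.symm⟩

/-- The elements of `H` centralising `t`. -/
theorem card_cent_inf (hV : four t a ≤ H) :
    Nat.card ↥(centralizer ({t} : Set G) ⊓ H) = 4 * Nat.card ↥(oddPart t ⊓ H) := by
  rw [mul_comm, ← S.card_four, ← Nat.card_prod]
  refine (Nat.card_eq_of_bijective (fun p : ↥(oddPart t ⊓ H) × four t a =>
    (⟨(p.1 : G) * (p.2 : G), mul_mem ⟨oddPart_le t p.1.2.1, p.1.2.2⟩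
      ⟨S.four_le_centralizer S.t_mem p.2.2, hV p.2.2⟩⟩ : ↥(centralizer ({t} : Set G) ⊓ H)))
    ⟨fun p q e => ?_, fun y => ?_⟩).symm
  · obtain ⟨⟨o, ho⟩, ⟨v, hv⟩⟩ := p
    obtain ⟨⟨o', ho'⟩, ⟨v', hv'⟩⟩ := q
    have e1 : o * v = o' * v' := congrArg Subtype.val e
    have hz : o'⁻¹ * o = v' * v⁻¹ := by
      rw [eq_mul_inv_iff_mul_eq, mul_assoc, e1, inv_mul_cancel_left]
    have hzo : o'⁻¹ * o ∈ oddPart t ⊓ H := mul_mem (inv_mem ho') ho
    have hz1 : o'⁻¹ * o = 1 := by
      rw [← orderOf_eq_one_iff]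
      have h2 : orderOf (o'⁻¹ * o) ∣ 2 := orderOf_dvd_of_pow_eq_one (by
        rw [pow_two, hz]; exact S.four_sq (mul_mem hv' (inv_mem hv)))
      have hodd : Odd (orderOf (o'⁻¹ * o)) := odd_orderOf (odd_card_core _) hzo.1
      rcases (Nat.dvd_prime Nat.prime_two).1 h2 with h | h
      · exact h
      · rw [h] at hodd; exact absurd hodd (by decide)
    obtain rfl := inv_mul_eq_one.1 hz1
    exact Prod.ext rfl (Subtype.ext (mul_left_cancel e1))
  · obtain ⟨y, hy⟩ := y
    obtain ⟨o, ho, v, hv, rfl⟩ := S.exists_oddPart_mul (mem_centralizer_singleton_iff.1 hy.1).symm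
    exact ⟨⟨⟨o, ho, (H.mul_mem_cancel_right (hV hv)).1 hy.2⟩, ⟨v, hv⟩⟩, rfl⟩

/-- The involutions of a rotating overgroup. -/
theorem card_involutions (hV : four t a ≤ H) {g : G} (hgH : g ∈ H) (hg : Rot t a g) :
    Nat.card {u : G // u ∈ H ∧ orderOf u = 2} * (4 * Nat.card ↥(oddPart t ⊓ H)) = Nat.card H := by
  rw [← S.card_cent_inf hV]
  set C := (centralizer ({t} : Set G) ⊓ H).subgroupOf H with hC
  have hC' : Nat.card C = Nat.card ↥(centralizer ({t} : Set G) ⊓ H) :=
    Nat.card_congr (subgroupOfEquivOfLe inf_le_right).toEquiv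
  rw [← hC', ← C.card_mul_index, Nat.mul_comm]
  congr 1
  let f : H ⧸ C → {u : G // u ∈ H ∧ orderOf u = 2} := fun q =>
    ⟨(q.out : G) * t * (q.out : G)⁻¹,
      H.mul_mem (H.mul_mem q.out.2 (hV S.t_mem)) (H.inv_mem q.out.2),
      ((MulAut.conj (q.out : G)).orderOf_eq t).trans S.t2⟩
  refine (Nat.card_eq_of_bijective f ⟨fun p q e => ?_, fun u => ?_⟩).symm
  · rw [← QuotientGroup.out_eq' p, ← QuotientGroup.out_eq' q, QuotientGroup.eq]
    have e1 : (p.out : G) * t * (p.out : G)⁻¹ = (q.out : G) * t * (q.out : G)⁻¹ :=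
      congrArg Subtype.val e
    refine mem_subgroupOf.2 ⟨mem_centralizer_singleton_iff.2 ?_, ((p.out)⁻¹ * q.out).2⟩
    push_cast
    calc (p.out : G)⁻¹ * q.out * t = (p.out : G)⁻¹ * ((q.out : G) * t * (q.out : G)⁻¹) * q.out := by group
      _ = (p.out : G)⁻¹ * ((p.out : G) * t * (p.out : G)⁻¹) * q.out := by rw [e1]
      _ = _ := by group
  · obtain ⟨h, hh, he⟩ := S.conj_t_of_rot hV hgH hg u.2.1 u.2.2
    refine ⟨((⟨h, hh⟩ : H) : H ⧸ C), Subtype.ext ?_⟩
    obtain ⟨⟨⟨k, hkH⟩, hk⟩, hq⟩ := QuotientGroup.mk_out_eq_mul C (⟨h, hh⟩ : H)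
    show _ * t * _ = (u : G)
    rw [hq]
    have hkt : k * t = t * k := mem_centralizer_singleton_iff.1 (mem_subgroupOf.1 hk).1
    push_cast
    calc h * k * t * (h * k)⁻¹ = h * (k * t) * k⁻¹ * h⁻¹ := by group
      _ = (u : G) := by rw [hkt, ← he]; group

/-- Only `t` among the involutions of `H` lies in the conjugate by `c ∈ oddPart t` outside `H`. -/
theorem eq_of_fixed (hV : four t a ≤ H) (hR : RotData t a H T)
    (hD : oddPart t ⊓ centralizer ({a} : Set G) ≤ H) {x : G} (hx : x ∈ core H)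
    (hstab : ∀ c ∈ oddPart t, c ∉ H → ∃ z ∈ T, z ≠ 1 ∧ z ∈ closure {x, c * x * c⁻¹})
    {g : G} (hgH : g ∈ H) (hg : Rot t a g) {c : G} (hc : c ∈ oddPart t) (hcH : c ∉ H) {u : G}
    (hu : u ∈ H) (hu2 : orderOf u = 2) (huc : c⁻¹ * u * c ∈ H) : u = t := by
  by_contra hut
  have htc : c⁻¹ * t * c = t := by
    rw [mul_assoc, (commute_of_mem_oddPart hc).eq, inv_mul_cancel_left]
  have huu : u * u = 1 := by rw [← pow_two, ← hu2, pow_orderOf_eq_one]
  have hu1 : u ≠ 1 := fun e => by rw [e, orderOf_one] at hu2; omega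
  have huinv : u⁻¹ = u := inv_eq_of_mul_eq_one_right huu
  set h := t * u with hh
  have hh' : t * h * t⁻¹ = h⁻¹ := by
    rw [hh, mul_inv_rev, huinv, ← mul_assoc, S.t_mul_self, one_mul]
  have hhH : h ∈ H := mul_mem (hV S.t_mem) hu
  have hhc : c⁻¹ * h * c ∈ H := by
    rw [show c⁻¹ * h * c = (c⁻¹ * t * c) * (c⁻¹ * u * c) by rw [hh]; group, htc]
    exact mul_mem (hV S.t_mem) huc
  rcases Nat.even_or_odd (orderOf h) with hev | hodd
  · -- an involution of `⟨h⟩` commutes with `t`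
    obtain ⟨n, hn⟩ := hev
    have hn0 : 0 < n := by have := orderOf_pos h; omega
    set w := h ^ n with hw
    have hww : w * w = 1 := by rw [hw, ← pow_add, ← hn, pow_orderOf_eq_one]
    have hw1 : w ≠ 1 := fun e => by
      have := Nat.le_of_dvd hn0 (orderOf_dvd_of_pow_eq_one e); omega
    have htw : Commute t w := by
      refine mul_inv_eq_iff_eq_mul.1 ?_
      rw [hw, ← conj_pow, hh', inv_pow]
      exact inv_eq_of_mul_eq_one_right hww
    have hwH : w ∈ H := pow_mem hhH n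
    have hwc : c⁻¹ * w * c ∈ H := by
      have e : c⁻¹ * w * c = (c⁻¹ * h * c) ^ n := by
        have := map_pow (MulAut.conj c⁻¹) h n
        simpa using this
      rw [e]
      exact pow_mem hhc n
    by_cases hwt : w = t
    · have htu : Commute t u := by
        have h1 : Commute t h := by rw [← hwt, hw]; exact (Commute.refl h).pow_left n
        have h2 : Commute t (t⁻¹ * h) := ((Commute.refl t).inv_right).mul_right h1
        rwa [hh, inv_mul_cancel_left] at h2
      exact hcH (S.mem_of_four_fixed hV hgH hg hD huu htu hu1 hut hu (htc.symm ▸ hV S.t_mem) huc)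
    · exact hcH (S.mem_of_four_fixed hV hgH hg hD hww htw hw1 hwt hwH (htc.symm ▸ hV S.t_mem) hwc)
  · -- `h` centralises `x` and `c x c⁻¹`
    obtain ⟨z, hzT, hz1, hz⟩ := hstab c hc hcH
    have hcl : h ∈ closureIn t a H := hR.mem_closure h hhH hodd hh'
    have hcl' : c⁻¹ * h * c ∈ closureIn t a H := by
      refine hR.mem_closure _ hhc ?_ ?_
      · have := (MulAut.conj c⁻¹).orderOf_eq h
        rw [MulAut.conj_apply, inv_inv] at this
        exact this.symm ▸ hodd
      · calc t * (c⁻¹ * h * c) * t⁻¹ = (t * c⁻¹ * t⁻¹) * (t * h * t⁻¹) * (t * c * t⁻¹) := by group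
          _ = c⁻¹ * h⁻¹ * c := by
              rw [hh', ((commute_of_mem_oddPart hc).inv_right).eq, (commute_of_mem_oddPart hc).eq,
                mul_inv_cancel_right, mul_inv_cancel_right]
          _ = (c⁻¹ * h * c)⁻¹ := by group
    have h1 : Commute h x := (mem_centralizer_iff.1 (hR.core_comm hx) h hcl)
    have h2 : Commute h (c * x * c⁻¹) := by
      have h3 : Commute (c⁻¹ * h * c) x := mem_centralizer_iff.1 (hR.core_comm hx) _ hcl'
      have := h3.map (MulAut.conj c).toMonoidHom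
      simpa [mul_assoc] using this
    have hle : closure {x, c * x * c⁻¹} ≤ centralizer ({h} : Set G) :=
      (closure_le _).2 fun y hy => by
        rcases hy with rfl | rfl
        · exact mem_centralizer_singleton_iff.2 h1.symm.eq
        · exact mem_centralizer_singleton_iff.2 h2.symm.eq
    have hh1 := hR.fpf h hhH hodd hh' z hzT hz1 (mem_centralizer_singleton_iff.1 (hle hz)).symm
    rw [hh, mul_eq_one_iff_eq_inv, huinv] at hh1
    exact hut hh1.symm

end Setting

/-- The index inequality. -/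
theorem Minimal.card_lt_relIndex {G : Type u} [Group G] [Finite G] {t a : G} (M : Minimal G t a)
    (hord : Nat.card G * Nat.card ↥(oddPart t ⊓ centralizer {a}) ^ 2 ≤
      60 * Nat.card ↥(oddPart t) ^ 3)
    {H T : Subgroup G} (_hH : H ≠ ⊤) (hV : four t a ≤ H) (hR : RotData t a H T) (hT : T ≠ ⊥)
    (hD : oddPart t ⊓ centralizer {a} ≤ H) {x : G} (hx : x ∈ core H)
    (hstab : ∀ c ∈ oddPart t, c ∉ H → ∃ z ∈ T, z ≠ 1 ∧ z ∈ closure {x, c * x * c⁻¹})
    (hne : ¬ oddPart t ≤ H) : Nat.card T < (oddPart t ⊓ H).relIndex (oddPart t) := by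
  classical
  have S := M.setting
  obtain ⟨g, hgcl, hg⟩ := hR.exists_rot hT
  have hgH : g ∈ H := by
    refine (closure_le _).2 ?_ hgcl
    rintro _ ⟨h, hh, v, hv, rfl⟩
    exact H.mul_mem (H.mul_mem hh (hV hv)) (H.inv_mem hh)
  haveI : Fintype G := Fintype.ofFinite G
  haveI : Fintype (G ⧸ H) := Fintype.ofFinite _
  set O := oddPart t with hO
  set e := (O ⊓ H).relIndex O with he
  have hee : e * Nat.card ↥(O ⊓ H) = Nat.card O := by
    rw [he, mul_comm, relIndex, ← (((O ⊓ H).subgroupOf O)).card_mul_index,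
      Nat.card_congr (subgroupOfEquivOfLe inf_le_left).toEquiv]
  have heodd : Odd e :=
    (odd_card_core _).of_dvd_nat ⟨_, hee.symm⟩
  have he1 : e ≠ 1 := fun h1 => hne ((relIndex_eq_one.1 h1).trans inf_le_right)
  -- the points fixed by `t` other than the base point
  set o : G ⧸ H := ((1 : G) : G ⧸ H) with ho
  set F : G → Finset (G ⧸ H) := fun u => Finset.univ.filter fun q => q ≠ o ∧ u • q = q with hF
  have hfix : ∀ (u : G) (q : G ⧸ H), u • q = q ↔ (Quotient.out q)⁻¹ * u * Quotient.out q ∈ H := by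
    intro u q
    induction q using QuotientGroup.induction_on with
    | H b =>
      have hb := QuotientGroup.out_eq' (b : G ⧸ H)
      conv_lhs => rw [← hb, MulAction.Quotient.smul_mk, QuotientGroup.eq, smul_eq_mul]
      rw [← inv_mem_iff]
      simp [mul_assoc]
  have hFt : (F t).card + 1 = e := by
    have h1 : insert o (F t) = Finset.univ.filter fun q => t • q = q := by
      ext q
      simp only [Finset.mem_insert, F, Finset.mem_filter, Finset.mem_univ, true_and]
      refine ⟨?_, fun h => or_iff_not_imp_left.2 fun h' => ⟨h', h⟩⟩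
      rintro (rfl | h)
      · rw [ho, MulAction.Quotient.smul_mk, QuotientGroup.eq, smul_eq_mul, mul_one, mul_one]
        exact H.inv_mem (hV S.t_mem)
      · exact h.2
    rw [← Finset.card_insert_of_notMem (a := o) (by simp [F]), h1, he, relIndex, Subgroup.index,
      ← Fintype.card_subtype, ← Nat.card_eq_fintype_card]
    have hmemb : ∀ c ∈ O, t • ((c : G) : G ⧸ H) = ((c : G) : G ⧸ H) := fun c hc => by
      rw [MulAction.Quotient.smul_mk, QuotientGroup.eq, smul_eq_mul, mul_inv_rev, mul_assoc,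
        show t⁻¹ * c = c * t⁻¹ from (commute_of_mem_oddPart hc).inv_left.eq, inv_mul_cancel_left]
      exact H.inv_mem (hV S.t_mem)
    refine (Nat.card_eq_of_bijective (α := O ⧸ (O ⊓ H).subgroupOf O)
      (fun q => ⟨((q.out : G) : G ⧸ H), hmemb _ q.out.2⟩) ⟨fun p q e => ?_, fun q => ?_⟩).symm
    · rw [← QuotientGroup.out_eq' p, ← QuotientGroup.out_eq' q, QuotientGroup.eq]
      exact mem_subgroupOf.2 ⟨((p.out)⁻¹ * q.out).2,
        QuotientGroup.eq.1 (congrArg Subtype.val e)⟩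
    · obtain ⟨q, hq⟩ := q
      rw [hfix] at hq
      obtain ⟨h, hh, hhe⟩ := S.conj_t_of_rot hV hgH hg hq (by
        have := (MulAut.conj (Quotient.out q)⁻¹).orderOf_eq t
        rw [MulAut.conj_apply, inv_inv] at this
        exact this.trans S.t2)
      set c := Quotient.out q
      have hct : Commute t (c * h) := by
        show t * (c * h) = c * h * t
        calc t * (c * h) = c * (c⁻¹ * t * c) * h := by group
          _ = c * (h * t * h⁻¹) * h := by rw [hhe]
          _ = c * h * t := by group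
      obtain ⟨z, hz, v, hv, hzv⟩ := S.exists_oddPart_mul hct
      refine ⟨((⟨z, hz⟩ : O) : O ⧸ (O ⊓ H).subgroupOf O), Subtype.ext ?_⟩
      obtain ⟨⟨⟨k, hkO⟩, hk⟩, hq'⟩ := QuotientGroup.mk_out_eq_mul ((O ⊓ H).subgroupOf O) (⟨z, hz⟩ : O)
      show (((((⟨z, hz⟩ : O) : O ⧸ (O ⊓ H).subgroupOf O).out : O) : G) : G ⧸ H) = q
      rw [hq', ← QuotientGroup.out_eq' q, QuotientGroup.eq]
      push_cast
      rw [mul_inv_rev, show k⁻¹ * z⁻¹ * c = k⁻¹ * (v * h⁻¹) by
        rw [eq_mul_inv_of_mul_eq hzv.symm]; group]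
      exact H.mul_mem (H.inv_mem (mem_subgroupOf.1 hk).2) (H.mul_mem (hV hv) (H.inv_mem hh))
  set Inv := Finset.univ.filter fun u : G => u ∈ H ∧ orderOf u = 2 with hInv
  have hIcard : Inv.card = Nat.card {u : G // u ∈ H ∧ orderOf u = 2} := by
    rw [Nat.card_eq_fintype_card, Fintype.card_subtype]
  have hbase : ∀ h ∈ H, h • o = o := fun h hh => by
    rw [ho, MulAction.Quotient.smul_mk, QuotientGroup.eq, smul_eq_mul, mul_one, mul_one]
    exact H.inv_mem hh
  -- each involution of `H` fixes the same number of points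
  have hFu : ∀ u ∈ Inv, (F u).card = (F t).card := by
    intro u hu
    obtain ⟨hu, hu2⟩ := (Finset.mem_filter.1 hu).2
    obtain ⟨h, hh, rfl⟩ := S.conj_t_of_rot hV hgH hg hu hu2
    refine (Finset.card_equiv (MulAction.toPerm h) fun q => ?_).symm
    simp only [F, Finset.mem_filter, Finset.mem_univ, true_and, MulAction.toPerm_apply]
    refine and_congr (not_congr ?_) ?_
    · exact ⟨fun e => by rw [e]; exact hbase h hh, fun e => smul_left_cancel h (e.trans (hbase h hh).symm)⟩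
    · rw [mul_smul, mul_smul, inv_smul_smul, smul_left_cancel_iff]
  -- two involutions of `H` fix no common further point
  have hdisj : ∀ u ∈ Inv, ∀ v ∈ Inv, u ≠ v → Disjoint (F u) (F v) := by
    intro u hu v hv huv
    obtain ⟨hu, hu2⟩ := (Finset.mem_filter.1 hu).2
    obtain ⟨hv, hv2⟩ := (Finset.mem_filter.1 hv).2
    rw [Finset.disjoint_left]
    intro q hq hq'
    obtain ⟨hqo, hqu⟩ := (Finset.mem_filter.1 hq).2
    obtain ⟨-, hqv⟩ := (Finset.mem_filter.1 hq').2
    obtain ⟨h, hh, rfl⟩ := S.conj_t_of_rot hV hgH hg hu hu2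
    set q' := h⁻¹ • q with hq'd
    have hq'o : q' ≠ o := fun e => hqo (by rw [← smul_inv_smul h q, ← hq'd, e, hbase h hh])
    have hq't : t • q' = q' := by
      rw [mul_smul, mul_smul] at hqu
      rw [hq'd]
      exact smul_left_cancel h (by rw [smul_inv_smul]; exact hqu)
    have hmem : q' ∈ F t := Finset.mem_filter.2 ⟨Finset.mem_univ _, hq'o, hq't⟩
    set c := Quotient.out q'
    rw [hfix] at hq't
    obtain ⟨k, hk, hke⟩ := S.conj_t_of_rot hV hgH hg hq't (by
      have := (MulAut.conj c⁻¹).orderOf_eq t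
      rw [MulAut.conj_apply, inv_inv] at this
      exact this.trans S.t2)
    have hct : Commute t (c * k) := by
      show t * (c * k) = c * k * t
      calc t * (c * k) = c * (c⁻¹ * t * c) * k := by group
        _ = c * (k * t * k⁻¹) * k := by rw [hke]
        _ = c * k * t := by group
    obtain ⟨z, hz, w, hw, hzw⟩ := S.exists_oddPart_mul hct
    have hzH : z ∉ H := fun hzH => hq'o (by
      rw [← QuotientGroup.out_eq' q', ho, QuotientGroup.eq, mul_one]
      refine H.inv_mem ?_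
      show c ∈ H
      rw [eq_mul_inv_of_mul_eq hzw]
      exact H.mul_mem (H.mul_mem hzH (hV hw)) (H.inv_mem hk))
    set v' := h⁻¹ * v * h with hv'
    have hvfix : c⁻¹ * v' * c ∈ H := by
      rw [← hfix, hv', mul_smul, mul_smul, hq'd, smul_inv_smul, hqv]
    have hv'H : v' ∈ H := H.mul_mem (H.mul_mem (H.inv_mem hh) hv) hh
    have hv'2 : orderOf v' = 2 := by
      have := (MulAut.conj h⁻¹).orderOf_eq v
      rw [MulAut.conj_apply, inv_inv] at this
      exact this.trans hv2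
    have := S.eq_of_fixed hV hR hD hx hstab hgH hg hz hzH hv'H hv'2 (by
      have hz' : z = c * k * w⁻¹ := eq_mul_inv_of_mul_eq hzw.symm
      rw [hz', show (c * k * w⁻¹)⁻¹ * v' * (c * k * w⁻¹) = (w * k⁻¹) * (c⁻¹ * v' * c) * (k * w⁻¹) by
        group]
      exact H.mul_mem (H.mul_mem (H.mul_mem (hV hw) (H.inv_mem hk)) hvfix)
        (H.mul_mem hk (H.inv_mem (hV hw))))
    exact huv (by rw [← this, hv']; group)
  have hlt : Inv.card * (e - 1) < Nat.card (G ⧸ H) := by
    rw [Nat.card_eq_fintype_card, ← hFt, Nat.add_sub_cancel, ← smul_eq_mul, ← Finset.sum_const,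
      ← Finset.sum_congr rfl hFu, ← Finset.card_biUnion (fun u hu v hv h => hdisj u hu v hv h),
      ← Finset.card_univ]
    refine Finset.card_lt_card (Finset.ssubset_iff_of_subset (Finset.subset_univ _) |>.2
      ⟨o, Finset.mem_univ _, ?_⟩)
    simp [F]
  have hHcard := S.card_involutions hV hgH hg
  have hOH := Setting.card_split S hR hD
  refine ineq_arith (D := Nat.card ↥(O ⊓ centralizer ({a} : Set G))) Nat.card_pos Nat.card_pos
    (hR.count hT) (by obtain ⟨i, hi⟩ := heodd; omega) (hIcard ▸ hlt) ?_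
  rw [← hee] at hord
  rw [show Nat.card G = Nat.card (G ⧸ H) * Nat.card H from H.card_eq_card_quotient_mul_card_subgroup,
    ← hHcard, hOH] at hord
  refine le_trans (le_of_eq ?_) hord
  ring

end CfsgLib.GWKlein
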