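import Cfsg.Agent.Lib.GWKlein.Statement
import Cfsg.Prelude.Def_Classification2

/-!
# A minimal group is K-proper
-/

set_option autoImplicit false
set_option linter.unusedSectionVars false

universe u

namespace CfsgLib.GWKlein

open Subgroup Cfsg

theorem IsPSLThreeFive.isKnownSimple {X : Type u} [Group X] (h : IsPSLThreeFive X) :
    IsKnownSimple' X := by
  obtain ⟨F, i, j, -, h3, -, e⟩ := h
  exact Or.inr (Or.inr (Or.inl ⟨F, i, j, 2, le_rfl, fun _ => h3, e⟩))

/-- Every proper subgroup of a minimal group is a K-group. -/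
theorem Minimal.isKProper {G : Type u} [Group G] [Finite G] {t a : G} (M : Minimal G t a) :
    IsKProper G := by
  intro H hH K N _ hs hc
  haveI := hs
  have hdvd : Nat.card (↥K ⧸ N) ∣ Nat.card ↥H :=
    N.index_dvd_card.trans K.card_subgroup_dvd_card
  have hlt : Nat.card ↥H < Nat.card G := lt_of_le_of_ne (card_le_card_group H)
    fun e => hH (eq_top_of_card_eq H e)
  refine (M.small _ (lt_of_le_of_lt (Nat.le_of_dvd Nat.card_pos hdvd) hlt) hc fun h8 => ?_).1.isKnownSimple
  exact M.setting.not_eight (h8.trans (hdvd.trans H.card_subgroup_dvd_card))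

end CfsgLib.GWKlein
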