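import Cfsg.Agent.Lib.GWKlein.LinValues

/-!
# Klein four Sylow subgroup: no invariant linear character sees `fixPart`

In a non-abelian simple group with a four-group Sylow subgroup no linear character of `oddPart t`
invariant under `a` is non-trivial on `oddPart t ⊓ C(a)` if the kernel of its restriction is stable
under a rotation.
-/

set_option autoImplicit false
set_option linter.unusedSectionVars false
set_option linter.style.haveILetI false

universe u

namespace CfsgLib.GWKlein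

open Subgroup Cfsg BrauerSuzuki
open scoped Classical ComplexConjugate

variable {G : Type u} [Group G] [Fintype G] {t a : G} {M : Ideal AlgInt}

namespace Setting

variable (S : Setting G t a) (hM : IsPModular 2 M)
include S hM

/-- The weighted sum of the principal character. -/
theorem ratioSum_one_bounds [IsSimpleGroup G] (hnc : ¬ IsMulCommutative G) {g : G}
    (hg : Rot t a g) {d : fixPart t a} (hd : d ≠ 1) :
    ∃ q : ℚ, S.ratioSum 1 = (q : ℂ) ∧ 3 / 4 < q ∧ q < 8 / 3 ∧ q ≠ 8 / 7 := by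
  set φ : oddPart t →* ℂˣ := 1 with hφdef
  set μ : oddPart t → ℂ := fun y => (φ y : ℂ) with hμdef
  have hφ : ∀ y, φ (S.aConj y) = φ y := fun y => rfl
  have htriv : coeff (S.lift μ) (Blocks.trivChar G) = 1 := by
    rw [hμdef, S.coeff_triv, if_pos rfl]
  set T := (Finset.univ.filter fun χ : IrrCharacter G => coeff (S.lift μ) χ ≠ 0).erase
    (Blocks.trivChar G) with hT
  have hmemtriv : Blocks.trivChar G ∈
      Finset.univ.filter fun χ : IrrCharacter G => coeff (S.lift μ) χ ≠ 0 :=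
    Finset.mem_filter.2 ⟨Finset.mem_univ _, by rw [htriv]; norm_num⟩
  have hcard : T.card = 3 := by
    rw [hT, Finset.card_erase_of_mem hmemtriv,
      S.card_constituents (Char.isIrrCharacter_hom φ) fun y => by rw [hφ]]
  obtain ⟨x, y, z, hxy, hxz, hyz, hTe⟩ := Finset.card_eq_three.1 hcard
  have hsum : ∀ f : IrrCharacter G → ℂ, ∑ χ : IrrCharacter G, (coeff (S.lift μ) χ : ℂ) * f χ =
      f (Blocks.trivChar G) + ((coeff (S.lift μ) x : ℂ) * f x + (coeff (S.lift μ) y : ℂ) * f y +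
        (coeff (S.lift μ) z : ℂ) * f z) := by
    intro f
    rw [← Finset.sum_filter_of_ne (p := fun χ => coeff (S.lift μ) χ ≠ 0) (fun χ _ hne h0 => hne (by
        rw [h0, Int.cast_zero, zero_mul])),
      ← Finset.add_sum_erase _ _ hmemtriv, ← hT, hTe, htriv, Int.cast_one, one_mul,
      Finset.sum_insert (by simp [hxy, hxz]), Finset.sum_insert (by simp [hyz]),
      Finset.sum_singleton, add_assoc (_ * f x)]
  have hmem : ∀ w ∈ ({x, y, z} : Finset (IrrCharacter G)),
      coeff (S.lift μ) w ≠ 0 ∧ w ≠ Blocks.trivChar G := fun w hw => by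
    rw [← hTe, hT, Finset.mem_erase, Finset.mem_filter] at hw
    exact ⟨hw.2.2, hw.1⟩
  have hdat : ∀ w ∈ ({x, y, z} : Finset (IrrCharacter G)),
      SignDeg (coeff (S.lift μ) w) (irrDeg w) ∧ (w : G → ℂ) t = (coeff (S.lift μ) w : ℂ) ∧
        ¬ (coeff (S.lift μ) w = -1 ∧ irrDeg w = 3) := by
    intro w hw
    obtain ⟨h1, h2, h3⟩ := S.signDeg_of_coeff hM hnc hg hφ (fun d => rfl) (hmem w hw).1 (hmem w hw).2
    refine ⟨h1, h2, fun ⟨hc, h3'⟩ => hd ?_⟩
    refine S.fixPart_trivial_of_three hM hg (hmem w hw).2 h3' (fun y => ?_) d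
    rw [h3 y]
    change ((coeff (S.lift μ) w : ℤ) : ℂ) * (((1 : oddPart t →* ℂˣ) y : ℂˣ) : ℂ) = -1
    rw [hc]
    simp
  obtain ⟨sx, tx, nx⟩ := hdat x (by simp)
  obtain ⟨sy, ty, ny⟩ := hdat y (by simp)
  obtain ⟨sz, tz, nz⟩ := hdat z (by simp)
  have hdeg : coeff (S.lift μ) x * (irrDeg x : ℤ) + coeff (S.lift μ) y * irrDeg y +
      coeff (S.lift μ) z * irrDeg z = -1 := by
    have h := S.sum_coeff_degree (Char.isCharacter_hom φ)
    rw [hsum, Blocks.trivChar_apply, ← cast_irrDeg, ← cast_irrDeg, ← cast_irrDeg] at h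
    have h' : (((coeff (S.lift μ) x * (irrDeg x : ℤ) + coeff (S.lift μ) y * irrDeg y +
      coeff (S.lift μ) z * irrDeg z : ℤ)) : ℂ) = ((-1 : ℤ) : ℂ) := by
      push_cast
      linear_combination h
    exact_mod_cast h'
  have hsq : ∀ w, coeff (S.lift μ) w ≠ 0 → ((coeff (S.lift μ) w : ℂ)) ^ 2 = 1 := fun w hw => by
    rcases S.coeff_eq_one_or (Char.isIrrCharacter_hom φ) hw with e | e <;> rw [e] <;> norm_num
  have hval : S.ratioSum 1 = (((1 + (coeff (S.lift μ) x : ℚ) / irrDeg x +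
      (coeff (S.lift μ) y : ℚ) / irrDeg y + (coeff (S.lift μ) z : ℚ) / irrDeg z : ℚ)) : ℂ) := by
    have h : S.ratioSum 1 = ∑ χ : IrrCharacter G,
        (coeff (S.lift μ) χ : ℂ) * ((χ : G → ℂ) t ^ 2 / (χ : G → ℂ) 1) :=
      Finset.sum_congr rfl fun χ _ => by rw [mul_div_assoc]
    rw [h, hsum, tx, ty, tz, hsq x (hmem x (by simp)).1, hsq y (hmem y (by simp)).1,
      hsq z (hmem z (by simp)).1, ← cast_irrDeg x, ← cast_irrDeg y, ← cast_irrDeg z,
      Blocks.trivChar_apply, Blocks.trivChar_apply]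
    push_cast
    ring
  exact ⟨_, hval, ratio_principal sx sy sz hdeg nx ny nz⟩

/-- No rotation-fixed invariant linear character is non-trivial on `fixPart`. -/
theorem false_of_fixed [IsSimpleGroup G] (hnc : ¬ IsMulCommutative G) {g : G} (hg : Rot t a g)
    {φ : oddPart t →* ℂˣ} (hφ : ∀ y, φ (S.aConj y) = φ y)
    (hfix : ∀ d : fixPart t a, φ (S.rotAut hg d : oddPart t) = φ (d : oddPart t))
    {d : fixPart t a} (hd : φ (d : oddPart t) ≠ 1) : False := by
  have hd1 : d ≠ 1 := fun e => hd (by simp [e])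
  obtain ⟨q, hq, hq1, -, -⟩ := S.ratioSum_one_bounds hM hnc hg hd1
  have hφ1 : φ ≠ 1 := fun e => hd (by simp [e])
  obtain ⟨θ, hinj, hθ⟩ := S.exists_four (μ := fun y => (φ y : ℂ)) (Char.isIrrCharacter_hom φ)
    fun y => by rw [hφ]
  have hc : ∀ i, coeff (S.lift fun y => (φ y : ℂ)) (θ i) ≠ 0 := fun i => (hθ _).2 ⟨i, rfl⟩
  have hne : ∀ i, θ i ≠ Blocks.trivChar G := fun i e => hc i (by rw [e, S.coeff_triv, if_neg hφ1])
  have hdat := fun i => S.signDeg_of_coeff hM hnc hg hφ hfix (hc i) (hne i)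
  set c : Fin 4 → ℤ := fun i => coeff (S.lift fun y => (φ y : ℂ)) (θ i) with hcdef
  have hdeg : ∑ i, c i * (irrDeg (θ i) : ℤ) = 0 := by
    have h := S.sum_coeff_degree (Char.isCharacter_hom φ)
    rw [S.sum_coeff_four hinj (fun χ h => (hθ χ).1 h)] at h
    have h' : ((∑ i, c i * (irrDeg (θ i) : ℤ) : ℤ) : ℂ) = ((0 : ℤ) : ℂ) := by
      push_cast
      rw [← h]
      exact Finset.sum_congr rfl fun i _ => by rw [hcdef, cast_irrDeg]
    exact_mod_cast h'
  have hS : S.ratioSum φ = ((∑ i, (c i : ℚ) / irrDeg (θ i) : ℚ) : ℂ) := by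
    have h : S.ratioSum φ = ∑ χ : IrrCharacter G,
        (coeff (S.lift fun y => (φ y : ℂ)) χ : ℂ) * ((χ : G → ℂ) t ^ 2 / (χ : G → ℂ) 1) :=
      Finset.sum_congr rfl fun χ _ => by rw [mul_div_assoc]
    rw [h, S.sum_coeff_four hinj (fun χ h => (hθ χ).1 h)]
    push_cast
    refine Finset.sum_congr rfl fun i _ => ?_
    rw [(hdat i).2.1, ← cast_irrDeg]
    rcases S.coeff_eq_one_or (Char.isIrrCharacter_hom φ) (hc i) with e | e <;>
      simp only [hcdef, e] <;> push_cast <;> ring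
  have he : (∑ i, (c i : ℚ) / irrDeg (θ i)) = q := by
    have := hS.symm.trans ((S.ratioSum_eq hg hφ).trans hq)
    exact_mod_cast this
  have := ratio_fixed (fun i => (hdat i).1) hdeg
  linarith

/-- Three invariant linear characters cyclically permuted on `fixPart` do not exist. -/
theorem false_of_three [IsSimpleGroup G] (hnc : ¬ IsMulCommutative G) {g : G} (hg : Rot t a g)
    (φ : Fin 3 → oddPart t →* ℂˣ) (hinj : Function.Injective φ)
    (hinv : ∀ i y, φ i (S.aConj y) = φ i y)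
    (hrot : ∀ i (d : fixPart t a), φ (i + 1) (d : oddPart t) = φ i (S.rotAut hg d : oddPart t))
    {d : fixPart t a} (hd : d ≠ 1) : False := by
  obtain ⟨q, hq, hq1, hq3, hq7⟩ := S.ratioSum_one_bounds hM hnc hg hd
  obtain ⟨θ, hθinj, hθ⟩ := S.exists_four (μ := fun y => (φ 0 y : ℂ))
    (Char.isIrrCharacter_hom (φ 0)) fun y => by rw [hinv]
  set c : Fin 3 → Fin 4 → ℤ := fun j i => coeff (S.lift fun y => (φ j y : ℂ)) (θ i) with hcdef
  have hsupp : ∀ j χ, coeff (S.lift fun y => (φ j y : ℂ)) χ ≠ 0 → ∃ i, θ i = χ := fun j χ h =>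
    (hθ χ).1 ((S.sect_three hM hg φ hinj hinv hrot χ j h).1 0)
  have hall := fun i => S.sect_three hM hg φ hinj hinv hrot (θ i) 0 ((hθ _).2 ⟨i, rfl⟩)
  have hsq : ∀ j i, c j i * c j i = 1 := fun j i => by
    rcases S.coeff_eq_one_or (Char.isIrrCharacter_hom (φ j)) ((hall i).1 j) with e | e <;>
      simp only [hcdef, e] <;> norm_num
  have hdeg : ∀ j, ∑ i, c j i * (irrDeg (θ i) : ℤ) = 0 := by
    intro j
    have h := S.sum_coeff_degree (Char.isCharacter_hom (φ j))
    rw [S.sum_coeff_four hθinj (hsupp j)] at h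
    have h' : ((∑ i, c j i * (irrDeg (θ i) : ℤ) : ℤ) : ℂ) = ((0 : ℤ) : ℂ) := by
      push_cast
      rw [← h]
      exact Finset.sum_congr rfl fun i _ => by rw [hcdef, cast_irrDeg]
    exact_mod_cast h'
  have horth : ∀ j k, j ≠ k → ∑ i, c j i * c k i = 0 := by
    intro j k hjk
    have h := S.sum_coeff_mul (Char.isIrrCharacter_hom (φ j)) (Char.isIrrCharacter_hom (φ k))
    have hne : (fun y => (φ j y : ℂ)) ≠ fun y => (φ k y : ℂ) := fun e =>
      hjk (hinj (Char.coe_hom_injective e))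
    rw [if_neg hne, if_neg (by simpa [hinv] using hne)] at h
    have h' := S.sum_coeff_four (R := ℤ) hθinj (hsupp j) fun χ =>
      coeff (S.lift fun y => (φ k y : ℂ)) χ
    simp only [Int.cast_id] at h'
    rw [h'] at h
    simpa [hcdef] using h
  obtain ⟨ε, hε, hEq⟩ := hadamard_equal (c₀ := c 0) (c₁ := c 1) (c₂ := c 2)
    (x := fun i => irrDeg (θ i)) (hsq 0) (hsq 1) (hsq 2) (horth 0 1 (by decide))
    (horth 0 2 (by decide)) (horth 1 2 (by decide)) (hdeg 0) (hdeg 1) (hdeg 2)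
    fun i => irrDeg_pos _
  set f := irrDeg (θ 0) with hf
  have hf0 : (f : ℤ) ≠ 0 := by exact_mod_cast (irrDeg_pos (θ 0)).ne'
  have hsum0 : ∀ j, ∑ i, c j i = 0 := by
    intro j
    have h := hdeg j
    rw [Finset.sum_congr rfl (g := fun i => c j i * (f : ℤ)) fun i _ => by rw [(hEq i).1],
      ← Finset.sum_mul] at h
    exact (mul_eq_zero.1 h).resolve_right hf0
  have ht : ∀ i, (θ i : G → ℂ) t = ((c 0 i + c 1 i + c 2 i : ℤ) : ℂ) := by
    intro i
    have := (hall i).2 1
    simp only [OneMemClass.coe_one, mul_one, map_one, Units.val_one] at this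
    rw [this, Fin.sum_univ_three]
    push_cast
    rfl
  have hnum : ∑ i, c 0 i * (c 0 i + c 1 i + c 2 i) ^ 2 = 8 * ε := by
    have e : ∀ i, c 0 i * (c 0 i + c 1 i + c 2 i) ^ 2 =
        3 * c 0 i + 2 * c 1 i + 2 * c 2 i + 2 * ε := by
      intro i
      rw [← (hEq i).2]
      linear_combination (c 0 i) * hsq 0 i + (2 * c 1 i + 2 * c 2 i) * hsq 0 i +
        (c 0 i) * hsq 1 i + (c 0 i) * hsq 2 i
    rw [Finset.sum_congr rfl fun i _ => e i]
    simp only [Finset.sum_add_distrib, ← Finset.mul_sum, hsum0, Finset.sum_const, Finset.card_univ,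
      Fintype.card_fin]
    ring
  have hS : S.ratioSum (φ 0) = (((8 * ε : ℤ) : ℚ) / f : ℚ) := by
    have h : S.ratioSum (φ 0) = ∑ χ : IrrCharacter G,
        (coeff (S.lift fun y => (φ 0 y : ℂ)) χ : ℂ) * ((χ : G → ℂ) t ^ 2 / (χ : G → ℂ) 1) :=
      Finset.sum_congr rfl fun χ _ => by rw [mul_div_assoc]
    rw [h, S.sum_coeff_four hθinj (hsupp 0), ← hnum]
    push_cast
    rw [Finset.sum_div]
    refine Finset.sum_congr rfl fun i _ => ?_
    rw [ht, ← cast_irrDeg, (hEq i).1]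
    push_cast
    rw [mul_div_assoc]
  have he : ((8 * ε : ℤ) : ℚ) / f = q := by
    have := hS.symm.trans ((S.ratioSum_eq hg (hinv 0)).trans hq)
    exact_mod_cast this
  have hfq : (0 : ℚ) < f := by exact_mod_cast irrDeg_pos (θ 0)
  rcases hε with rfl | rfl
  · -- all degrees are `f ≡ 3 (mod 4)` and the sum is `8 / f`
    obtain ⟨m, hm, -⟩ := S.deg_mod_four hg (θ 0) (ht 0)
    have hs : c 0 0 + c 1 0 + c 2 0 = 3 ∨ c 0 0 + c 1 0 + c 2 0 = -1 := by
      have h3 := (hEq 0).2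
      rcases mul_self_eq_one_iff.1 (hsq 0 0) with e | e <;>
        rcases mul_self_eq_one_iff.1 (hsq 1 0) with e' | e' <;> rw [e, e'] at h3 ⊢ <;> omega
    have hf3 : f % 4 = 3 := by rw [← hf] at hm; omega
    rcases (by omega : f = 3 ∨ f = 7 ∨ 11 ≤ f) with h | h | h
    · rw [h] at he; norm_num at he; linarith
    · rw [h] at he; norm_num at he; exact hq7 (by linarith)
    · have h11 : (11 : ℚ) ≤ f := by exact_mod_cast h
      rw [div_eq_iff hfq.ne'] at he
      push_cast at he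
      nlinarith
  · rw [div_eq_iff hfq.ne'] at he
    push_cast at he
    nlinarith

end Setting

end CfsgLib.GWKlein
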