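import Cfsg.Agent.Lib.GWKlein.LinValues
import Cfsg.Agent.Lib.DegreeTools.TISum
import Mathlib.LinearAlgebra.Determinant

/-!
# Klein four Sylow subgroup: central elements of a perfect group

In a perfect group with a four-group Sylow subgroup and a rotation, an invariant linear character of
`oddPart t` fixed by the rotation takes no value of order 3 at a central element: the degrees of its
four constituents would be divisible by 3, which makes its weighted sum too small.
-/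

set_option autoImplicit false
set_option linter.unusedSectionVars false
set_option linter.style.haveILetI false

universe u

namespace CfsgLib.GWKlein

open Subgroup Cfsg BrauerSuzuki
open scoped Classical ComplexConjugate

/-- The principal four: a lower bound. -/
theorem ratio_lower {c₁ c₂ c₃ : ℤ} {x y z : ℕ} (h₁ : SignDeg c₁ x) (h₂ : SignDeg c₂ y)
    (h₃ : SignDeg c₃ z) (hsum : c₁ * x + c₂ * y + c₃ * z = -1) :
    (1 / 3 : ℚ) < 1 + c₁ / x + c₂ / y + c₃ / z := by
  have hb : ∀ {c : ℤ} {w : ℕ}, SignDeg c w →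
      (c = 1 ∧ (0 : ℚ) < c / w ∧ 5 ≤ w) ∨ (c = -1 ∧ -(1 / 3 : ℚ) ≤ c / w ∧ 3 ≤ w) := by
    rintro c w (⟨rfl, -, h5⟩ | ⟨rfl, h3⟩)
    · exact Or.inl ⟨rfl, by push_cast; exact div_pos one_pos (by exact_mod_cast (by omega : 0 < w)), h5⟩
    · refine Or.inr ⟨rfl, ?_, by omega⟩
      push_cast
      rw [neg_div]
      exact neg_le_neg (one_div_le_one_div_of_le (by norm_num) (by exact_mod_cast (by omega : 3 ≤ w)))
  rcases hb h₁ with ⟨rfl, u1, w1⟩ | ⟨rfl, u1, w1⟩ <;> rcases hb h₂ with ⟨rfl, u2, w2⟩ | ⟨rfl, u2, w2⟩ <;>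
    rcases hb h₃ with ⟨rfl, u3, w3⟩ | ⟨rfl, u3, w3⟩ <;> first
      | (exfalso; omega)
      | linarith

variable {G : Type u} [Group G] [Fintype G] {t a : G}

/-- The principal character is the only linear one of a perfect group. -/
theorem eq_trivChar_of_perfect (hperf : commutator G = ⊤) {χ : IrrCharacter G} (h : irrDeg χ = 1) :
    χ = Blocks.trivChar G := by
  obtain ⟨φ, hφ⟩ := Char.exists_hom_of_apply_one_eq_one (Char.isCharacter_irr χ)
    (by rw [← cast_irrDeg, h, Nat.cast_one])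
  refine Subtype.ext (funext fun x => ?_)
  have hx : φ x = 1 :=
    MonoidHom.mem_ker.1 (Abelianization.commutator_subset_ker φ (hperf ▸ mem_top x))
  simp [hφ, hx]

namespace Setting

variable (S : Setting G t a)
include S

/-- In a perfect group a value of an invariant linear character at a central element is no
non-trivial cube root of unity. -/
theorem central_eq_one (hperf : commutator G = ⊤) {g : G} (hg : Rot t a g)
    {φ : oddPart t →* ℂˣ} (hφ : ∀ y, φ (S.aConj y) = φ y)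
    (hfix : ∀ d : fixPart t a, φ (S.rotAut hg d : oddPart t) = φ (d : oddPart t))
    {z : oddPart t} (hz : ∀ x : G, Commute (z : G) x) (h3 : φ z ^ 3 = 1) : φ z = 1 := by
  by_contra hne
  obtain ⟨M, hM⟩ := DegreeTools.TISum.exists_pmodular Nat.prime_two
  have hlin : ∀ χ : IrrCharacter G, χ ≠ Blocks.trivChar G → irrDeg χ ≠ 1 := fun χ h e =>
    h (eq_trivChar_of_perfect hperf e)
  have hdat : ∀ {ψ : oddPart t →* ℂˣ} (_ : ∀ y, ψ (S.aConj y) = ψ y)
      (_ : ∀ d : fixPart t a, ψ (S.rotAut hg d : oddPart t) = ψ (d : oddPart t))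
      {χ : IrrCharacter G}, coeff (S.lift fun y => (ψ y : ℂ)) χ ≠ 0 → χ ≠ Blocks.trivChar G →
      SignDeg (coeff (S.lift fun y => (ψ y : ℂ)) χ) (irrDeg χ) ∧
        (χ : G → ℂ) t = (coeff (S.lift fun y => (ψ y : ℂ)) χ : ℂ) ∧
        ∀ y : oddPart t, (χ : G → ℂ) (t * y) =
          (coeff (S.lift fun y => (ψ y : ℂ)) χ : ℂ) * (ψ y : ℂ) :=
    fun {_} h1 h2 {χ} hc hχ => S.signDeg_of_ne_one hM hg h1 h2 hc (hlin χ hχ)
  have hterm : ∀ {ψ : oddPart t →* ℂˣ} {χ : IrrCharacter G} {c : ℤ}, (c = 1 ∨ c = -1) →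
      (χ : G → ℂ) t = (c : ℂ) → coeff (S.lift fun y => (ψ y : ℂ)) χ = c →
      (coeff (S.lift fun y => (ψ y : ℂ)) χ : ℂ) * ((χ : G → ℂ) t ^ 2 / (χ : G → ℂ) 1) =
        (((c : ℚ) / irrDeg χ : ℚ) : ℂ) := by
    intro ψ χ c hc ht he
    rw [he, ht, ← cast_irrDeg]
    rcases hc with rfl | rfl <;> push_cast <;> ring
  -- the four constituents have degrees divisible by 3
  have hφ1 : φ ≠ 1 := fun e => hne (by simp [e])
  obtain ⟨θ, hinj, hθ⟩ := S.exists_four (μ := fun y => (φ y : ℂ)) (Char.isIrrCharacter_hom φ)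
    fun y => by rw [hφ]
  have hc : ∀ i, coeff (S.lift fun y => (φ y : ℂ)) (θ i) ≠ 0 := fun i => (hθ _).2 ⟨i, rfl⟩
  have hnt : ∀ i, θ i ≠ Blocks.trivChar G := fun i e => hc i (by rw [e, S.coeff_triv, if_neg hφ1])
  have h9 : ∀ i, (coeff (S.lift fun y => (φ y : ℂ)) (θ i) : ℚ) / irrDeg (θ i) ≤ 1 / 9 ∧
      (coeff (S.lift fun y => (φ y : ℂ)) (θ i) = -1 →
        (coeff (S.lift fun y => (φ y : ℂ)) (θ i) : ℚ) / irrDeg (θ i) ≤ 0) := by
    intro i
    obtain ⟨hsd, ht, hval⟩ := hdat hφ hfix (hc i) (hnt i)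
    obtain ⟨n, ρ, hρ, he⟩ := (θ i).2
    haveI := hρ
    obtain ⟨ω, hω⟩ := Char.exists_eq_smul_of_commute ρ (ρ z) fun x => by
      rw [← Module.End.mul_eq_comp, ← Module.End.mul_eq_comp, ← map_mul, ← map_mul, (hz x).eq]
    have h1 := hval z
    rw [← he, Representation.character] at h1 ht
    simp only [map_mul, hω] at h1
    rw [show ρ t * (ω • LinearMap.id) = ω • ρ t by
      rw [← Module.End.one_eq_id, mul_smul_comm, mul_one], map_smul, smul_eq_mul, ht] at h1
    have hcne : (coeff (S.lift fun y => (φ y : ℂ)) (θ i) : ℂ) ≠ 0 := by exact_mod_cast hc i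
    have hωφ : ω = (φ z : ℂ) := mul_right_cancel₀ hcne (by rw [h1, mul_comm])
    have hdet : ω ^ n = 1 := by
      have hk : (z : G) ∈ (((LinearMap.det).comp ρ).toHomUnits).ker :=
        Abelianization.commutator_subset_ker _ (hperf ▸ mem_top _)
      have := congrArg Units.val (MonoidHom.mem_ker.1 hk)
      simpa [hω, LinearMap.det_smul] using this
    have hdvd : 3 ∣ n := by
      haveI : Fact (Nat.Prime 3) := ⟨Nat.prime_three⟩
      have ho : orderOf (φ z) = 3 := orderOf_eq_prime h3 hne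
      rw [← ho, orderOf_dvd_iff_pow_eq_one, Units.ext_iff, Units.val_pow_eq_pow_val, ← hωφ, hdet,
        Units.val_one]
    have hn : irrDeg (θ i) = n := by
      have : (irrDeg (θ i) : ℂ) = (n : ℂ) := by
        rw [cast_irrDeg, ← he]; simp
      exact_mod_cast this
    rcases hsd with ⟨e, hx4, hx5⟩ | ⟨e, hx⟩
    · refine ⟨?_, fun e' => absurd (e.symm.trans e') (by norm_num)⟩
      rw [e, Int.cast_one]
      exact one_div_le_one_div_of_le (by norm_num) (by exact_mod_cast (by omega : 9 ≤ irrDeg (θ i)))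
    · have : (coeff (S.lift fun y => (φ y : ℂ)) (θ i) : ℚ) / irrDeg (θ i) ≤ 0 := by
        rw [e]; push_cast
        exact div_nonpos_of_nonpos_of_nonneg (by norm_num) (Nat.cast_nonneg _)
      exact ⟨this.trans (by norm_num), fun _ => this⟩
  have hdeg : ∑ i, coeff (S.lift fun y => (φ y : ℂ)) (θ i) * (irrDeg (θ i) : ℤ) = 0 := by
    have h := S.sum_coeff_degree (Char.isCharacter_hom φ)
    rw [S.sum_coeff_four hinj (fun χ h => (hθ χ).1 h)] at h
    have h' : ((∑ i, coeff (S.lift fun y => (φ y : ℂ)) (θ i) * (irrDeg (θ i) : ℤ) : ℤ) : ℂ) =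
        ((0 : ℤ) : ℂ) := by
      push_cast
      rw [← h]
      exact Finset.sum_congr rfl fun i _ => by rw [cast_irrDeg]
    exact_mod_cast h'
  obtain ⟨i₀, hi₀⟩ : ∃ i, coeff (S.lift fun y => (φ y : ℂ)) (θ i) = -1 := by
    by_contra hall
    push Not at hall
    have hpos : ∀ i ∈ Finset.univ,
        0 < coeff (S.lift fun y => (φ y : ℂ)) (θ i) * (irrDeg (θ i) : ℤ) := fun i _ => by
      rw [(S.coeff_eq_one_or (Char.isIrrCharacter_hom φ) (hc i)).resolve_right (hall i), one_mul]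
      exact_mod_cast irrDeg_pos (θ i)
    have := Finset.sum_pos hpos Finset.univ_nonempty
    omega
  have hle : ∑ i, (coeff (S.lift fun y => (φ y : ℂ)) (θ i) : ℚ) / irrDeg (θ i) ≤ 1 / 3 := by
    rw [← Finset.add_sum_erase _ _ (Finset.mem_univ i₀)]
    have h := Finset.sum_le_card_nsmul (Finset.univ.erase i₀)
      (fun i => (coeff (S.lift fun y => (φ y : ℂ)) (θ i) : ℚ) / irrDeg (θ i)) (1 / 9)
      fun i _ => (h9 i).1
    rw [Finset.card_erase_of_mem (Finset.mem_univ i₀), Finset.card_univ, Fintype.card_fin] at h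
    rw [show (4 - 1 : ℕ) = 3 from rfl, nsmul_eq_mul] at h
    have h0 := (h9 i₀).2 hi₀
    push_cast at h
    linarith
  have hS : S.ratioSum φ =
      ((∑ i, (coeff (S.lift fun y => (φ y : ℂ)) (θ i) : ℚ) / irrDeg (θ i) : ℚ) : ℂ) := by
    have h : S.ratioSum φ = ∑ χ : IrrCharacter G,
        (coeff (S.lift fun y => (φ y : ℂ)) χ : ℂ) * ((χ : G → ℂ) t ^ 2 / (χ : G → ℂ) 1) :=
      Finset.sum_congr rfl fun χ _ => by rw [mul_div_assoc]
    rw [h, S.sum_coeff_four hinj (fun χ h => (hθ χ).1 h), Rat.cast_sum]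
    refine Finset.sum_congr rfl fun i _ => ?_
    exact hterm (S.coeff_eq_one_or (Char.isIrrCharacter_hom φ) (hc i))
      (hdat hφ hfix (hc i) (hnt i)).2.1 rfl
  -- the principal four
  set μ : oddPart t → ℂ := fun y => ((1 : oddPart t →* ℂˣ) y : ℂ) with hμ
  have htriv : coeff (S.lift μ) (Blocks.trivChar G) = 1 := by rw [hμ, S.coeff_triv, if_pos rfl]
  have hmemtriv : Blocks.trivChar G ∈
      Finset.univ.filter fun χ : IrrCharacter G => coeff (S.lift μ) χ ≠ 0 :=
    Finset.mem_filter.2 ⟨Finset.mem_univ _, by rw [htriv]; norm_num⟩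
  set T := (Finset.univ.filter fun χ : IrrCharacter G => coeff (S.lift μ) χ ≠ 0).erase
    (Blocks.trivChar G) with hT
  have hcard : T.card = 3 := by
    rw [hT, Finset.card_erase_of_mem hmemtriv,
      S.card_constituents (Char.isIrrCharacter_hom (1 : oddPart t →* ℂˣ)) fun y => rfl]
  obtain ⟨x, y, w, hxy, hxw, hyw, hTe⟩ := Finset.card_eq_three.1 hcard
  have hsum : ∀ f : IrrCharacter G → ℂ, ∑ χ : IrrCharacter G, (coeff (S.lift μ) χ : ℂ) * f χ =
      f (Blocks.trivChar G) + ((coeff (S.lift μ) x : ℂ) * f x + (coeff (S.lift μ) y : ℂ) * f y +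
        (coeff (S.lift μ) w : ℂ) * f w) := by
    intro f
    rw [← Finset.sum_filter_of_ne (p := fun χ => coeff (S.lift μ) χ ≠ 0) (fun χ _ hne h0 => hne (by
        rw [h0, Int.cast_zero, zero_mul])),
      ← Finset.add_sum_erase _ _ hmemtriv, ← hT, hTe, htriv, Int.cast_one, one_mul,
      Finset.sum_insert (by simp [hxy, hxw]), Finset.sum_insert (by simp [hyw]),
      Finset.sum_singleton, add_assoc (_ * f x)]
  have hd1 : ∀ v ∈ ({x, y, w} : Finset (IrrCharacter G)),
      SignDeg (coeff (S.lift μ) v) (irrDeg v) ∧ (v : G → ℂ) t = (coeff (S.lift μ) v : ℂ) ∧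
        (coeff (S.lift μ) v = 1 ∨ coeff (S.lift μ) v = -1) := by
    intro v hv
    rw [← hTe, hT, Finset.mem_erase, Finset.mem_filter] at hv
    obtain ⟨p, q, -⟩ := hdat (ψ := 1) (fun _ => rfl) (fun _ => rfl) hv.2.2 hv.1
    exact ⟨p, q, S.coeff_eq_one_or (Char.isIrrCharacter_hom (1 : oddPart t →* ℂˣ)) hv.2.2⟩
  obtain ⟨sx, tx, cx⟩ := hd1 x (by simp)
  obtain ⟨sy, ty, cy⟩ := hd1 y (by simp)
  obtain ⟨sw, tw, cw⟩ := hd1 w (by simp)
  have hdeg1 : coeff (S.lift μ) x * (irrDeg x : ℤ) + coeff (S.lift μ) y * irrDeg y +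
      coeff (S.lift μ) w * irrDeg w = -1 := by
    have h := S.sum_coeff_degree (Char.isCharacter_hom (1 : oddPart t →* ℂˣ))
    rw [hsum, Blocks.trivChar_apply, ← cast_irrDeg, ← cast_irrDeg, ← cast_irrDeg] at h
    have h' : (((coeff (S.lift μ) x * (irrDeg x : ℤ) + coeff (S.lift μ) y * irrDeg y +
      coeff (S.lift μ) w * irrDeg w : ℤ)) : ℂ) = ((-1 : ℤ) : ℂ) := by
      push_cast
      linear_combination h
    exact_mod_cast h'
  have hS1 : S.ratioSum 1 = (((1 + (coeff (S.lift μ) x : ℚ) / irrDeg x +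
      (coeff (S.lift μ) y : ℚ) / irrDeg y + (coeff (S.lift μ) w : ℚ) / irrDeg w : ℚ)) : ℂ) := by
    have h : S.ratioSum 1 = ∑ χ : IrrCharacter G,
        (coeff (S.lift μ) χ : ℂ) * ((χ : G → ℂ) t ^ 2 / (χ : G → ℂ) 1) :=
      Finset.sum_congr rfl fun χ _ => by rw [mul_div_assoc]
    rw [h, hsum, hterm cx tx rfl, hterm cy ty rfl, hterm cw tw rfl, Blocks.trivChar_apply,
      Blocks.trivChar_apply]
    push_cast
    ring
  have he := hS.symm.trans ((S.ratioSum_eq hg hφ).trans hS1)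
  have he' : (∑ i, (coeff (S.lift fun y => (φ y : ℂ)) (θ i) : ℚ) / irrDeg (θ i)) =
      1 + (coeff (S.lift μ) x : ℚ) / irrDeg x + (coeff (S.lift μ) y : ℚ) / irrDeg y +
        (coeff (S.lift μ) w : ℚ) / irrDeg w := Rat.cast_injective he
  have := ratio_lower sx sy sw hdeg1
  linarith

end Setting

end CfsgLib.GWKlein
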