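import Cfsg.Agent.Lib.GWKlein.SectionOrbit
import Mathlib.LinearAlgebra.Trace

/-!
# Klein four Sylow subgroup: degrees of the constituents, arithmetic

The averaging idempotent of the four-group gives `χ(1) + χ(t) + χ(a) + χ(t a) = 4 m`; the arithmetic
of the reciprocals of the degrees of the four constituents of a linear character.
-/

set_option autoImplicit false
set_option linter.unusedSectionVars false
set_option linter.style.haveILetI false

universe u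

namespace CfsgLib.GWKlein

open Subgroup Cfsg BrauerSuzuki
open scoped Classical ComplexConjugate

/-! ### Arithmetic -/

/-- `1 / x + 1 / y - 1 / (x + y + 1) = 1 / 7` has no solution `x ≡ y ≡ 1 (mod 4)`. -/
theorem no_seventh {x y : ℕ} (hx : x % 4 = 1) (hx5 : 5 ≤ x) (hy : y % 4 = 1) (hy5 : 5 ≤ y) :
    7 * ((x + y) * (x + y + 1)) ≠ x * y * (x + y + 1) + 7 * (x * y) := by
  wlog hxy : x ≤ y generalizing x y
  · intro e
    refine this hy hy5 hx hx5 (by omega) ?_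
    rw [Nat.add_comm y x, Nat.mul_comm y x]
    exact e
  intro e
  have hx13 : x < 14 := by
    by_contra h
    have h1 : 7 * (x + y) ≤ x * y := by nlinarith
    nlinarith [Nat.mul_le_mul_right (x + y + 1) h1]
  have h : x = 5 ∨ x = 9 ∨ x = 13 := by omega
  rcases h with rfl | rfl | rfl
  · nlinarith
  · have hy16 : y ≤ 16 := by nlinarith
    interval_cases y <;> omega
  · nlinarith

/-- Two positive signs and one negative. -/
theorem ratio_two_pos {x y z : ℕ} (hx : x % 4 = 1) (hx5 : 5 ≤ x) (hy : y % 4 = 1) (hy5 : 5 ≤ y)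
    (hz : z = x + y + 1) :
    (3 / 4 : ℚ) < 1 + 1 / x + 1 / y - 1 / z ∧ (1 + 1 / x + 1 / y - 1 / z : ℚ) < 8 / 3 ∧
      (1 + 1 / x + 1 / y - 1 / z : ℚ) ≠ 8 / 7 := by
  have hxq : (5 : ℚ) ≤ x := by exact_mod_cast hx5
  have hyq : (5 : ℚ) ≤ y := by exact_mod_cast hy5
  have hzq : (z : ℚ) = x + y + 1 := by exact_mod_cast hz
  have h1 : (1 : ℚ) / x ≤ 1 / 5 := one_div_le_one_div_of_le (by norm_num) hxq
  have h2 : (1 : ℚ) / y ≤ 1 / 5 := one_div_le_one_div_of_le (by norm_num) hyq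
  have h3 : (1 : ℚ) / z < 1 / y := one_div_lt_one_div_of_lt (by linarith) (by linarith)
  have h4 : (0 : ℚ) < 1 / x := by positivity
  have h5 : (0 : ℚ) < 1 / z := by rw [hzq]; positivity
  refine ⟨by linarith, by linarith, fun e => no_seventh hx hx5 hy hy5 ?_⟩
  have hx0 : (x : ℚ) ≠ 0 := by linarith
  have hy0 : (y : ℚ) ≠ 0 := by linarith
  have hz0 : (x : ℚ) + y + 1 ≠ 0 := by linarith
  rw [hzq] at e
  field_simp at e
  have e' : (7 : ℚ) * (((x : ℚ) + y) * (x + y + 1)) = (x : ℚ) * y * (x + y + 1) + 7 * (x * y) := by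
    linarith
  exact_mod_cast e'

/-- One positive sign and two negative. -/
theorem ratio_two_neg {x y z : ℕ} (hy : 7 ≤ y) (hz : 7 ≤ z) (hx : x + 1 = y + z) :
    (3 / 4 : ℚ) < 1 + 1 / x - 1 / y - 1 / z ∧ (1 + 1 / x - 1 / y - 1 / z : ℚ) < 1 := by
  have hyq : (7 : ℚ) ≤ y := by exact_mod_cast hy
  have hzq : (7 : ℚ) ≤ z := by exact_mod_cast hz
  have hxq : (x : ℚ) = y + z - 1 := by
    rw [eq_sub_iff_add_eq]; exact_mod_cast hx
  have hx0 : (0 : ℚ) < y + z - 1 := by linarith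
  have h3 : (1 : ℚ) / x < 1 / y := one_div_lt_one_div_of_lt (by linarith) (by linarith)
  have h4 : (0 : ℚ) < 1 / z := by positivity
  refine ⟨?_, by linarith⟩
  have key : (1 : ℚ) / y + 1 / z - 1 / (y + z - 1) < 1 / 4 := by
    rw [div_add_div _ _ (by linarith) (by linarith), div_sub_div _ _ (by positivity) hx0.ne',
      div_lt_div_iff₀ (mul_pos (by positivity) hx0) (by norm_num)]
    nlinarith [mul_nonneg (by linarith : (0 : ℚ) ≤ y - 7) (by linarith : (0 : ℚ) ≤ z - 7)]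
  rw [hxq]
  linarith

/-- The sign and degree of a non-principal constituent. -/
def SignDeg (c : ℤ) (x : ℕ) : Prop := (c = 1 ∧ x % 4 = 1 ∧ 5 ≤ x) ∨ (c = -1 ∧ x % 4 = 3)

/-- The principal four, without degree 3. -/
theorem ratio_principal {c₁ c₂ c₃ : ℤ} {x y z : ℕ} (h₁ : SignDeg c₁ x) (h₂ : SignDeg c₂ y)
    (h₃ : SignDeg c₃ z) (hsum : c₁ * x + c₂ * y + c₃ * z = -1) (n₁ : ¬ (c₁ = -1 ∧ x = 3))
    (n₂ : ¬ (c₂ = -1 ∧ y = 3)) (n₃ : ¬ (c₃ = -1 ∧ z = 3)) :
    (3 / 4 : ℚ) < 1 + c₁ / x + c₂ / y + c₃ / z ∧ (1 + c₁ / x + c₂ / y + c₃ / z : ℚ) < 8 / 3 ∧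
      (1 + c₁ / x + c₂ / y + c₃ / z : ℚ) ≠ 8 / 7 := by
  rcases h₁ with ⟨rfl, hx, hx5⟩ | ⟨rfl, hx⟩ <;> rcases h₂ with ⟨rfl, hy, hy5⟩ | ⟨rfl, hy⟩ <;>
    rcases h₃ with ⟨rfl, hz, hz5⟩ | ⟨rfl, hz⟩
  · omega
  · convert ratio_two_pos hx hx5 hy hy5 (z := z) (by omega) using 3 <;> push_cast <;> ring
  · convert ratio_two_pos hx hx5 hz hz5 (z := y) (by omega) using 3 <;> push_cast <;> ring
  · obtain ⟨a, b⟩ := ratio_two_neg (x := x) (y := y) (z := z) (by omega) (by omega) (by omega)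
    push_cast
    refine ⟨?_, ?_, ?_⟩
    · linear_combination a
    · linear_combination b + (by norm_num : (1 : ℚ) < 8 / 3)
    · intro e
      simp only [neg_div] at e
      linarith
  · convert ratio_two_pos hy hy5 hz hz5 (z := x) (by omega) using 3 <;> push_cast <;> ring
  · obtain ⟨a, b⟩ := ratio_two_neg (x := y) (y := x) (z := z) (by omega) (by omega) (by omega)
    push_cast
    refine ⟨?_, ?_, ?_⟩
    · linear_combination a
    · linear_combination b + (by norm_num : (1 : ℚ) < 8 / 3)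
    · intro e
      simp only [neg_div] at e
      linarith
  · obtain ⟨a, b⟩ := ratio_two_neg (x := z) (y := x) (z := y) (by omega) (by omega) (by omega)
    push_cast
    refine ⟨?_, ?_, ?_⟩
    · linear_combination a
    · linear_combination b + (by norm_num : (1 : ℚ) < 8 / 3)
    · intro e
      simp only [neg_div] at e
      linarith
  · omega

/-- Four non-principal constituents. -/
theorem ratio_fixed {c : Fin 4 → ℤ} {x : Fin 4 → ℕ} (h : ∀ i, SignDeg (c i) (x i))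
    (hsum : ∑ i, c i * x i = 0) : ∑ i, (c i : ℚ) / x i ≤ 3 / 5 := by
  have hb : ∀ i, (c i = 1 ∧ (c i : ℚ) / x i ≤ 1 / 5 ∧ 0 < (c i : ℤ) * x i) ∨
      (c i = -1 ∧ (c i : ℚ) / x i ≤ 0 ∧ (c i : ℤ) * x i < 0) := by
    intro i
    rcases h i with ⟨e, -, h5⟩ | ⟨e, h3⟩
    · refine Or.inl ⟨e, ?_, ?_⟩
      · rw [e, Int.cast_one]
        exact one_div_le_one_div_of_le (by norm_num) (by exact_mod_cast h5)
      · rw [e, one_mul]; exact_mod_cast (by omega : 0 < x i)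
    · refine Or.inr ⟨e, ?_, ?_⟩
      · rw [e]
        push_cast
        exact div_nonpos_of_nonpos_of_nonneg (by norm_num) (Nat.cast_nonneg _)
      · rw [e, neg_one_mul, neg_lt_zero]; exact_mod_cast (by omega : 0 < x i)
  rw [Fin.sum_univ_four] at hsum ⊢
  rcases hb 0 with ⟨-, u0, v0⟩ | ⟨-, u0, v0⟩ <;> rcases hb 1 with ⟨-, u1, v1⟩ | ⟨-, u1, v1⟩ <;>
    rcases hb 2 with ⟨-, u2, v2⟩ | ⟨-, u2, v2⟩ <;> rcases hb 3 with ⟨-, u3, v3⟩ | ⟨-, u3, v3⟩
  all_goals linarith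

/-- Three orthogonal rows of signs orthogonal to positive degrees: the degrees are equal. -/
theorem hadamard_equal {c₀ c₁ c₂ : Fin 4 → ℤ} {x : Fin 4 → ℕ}
    (h₀ : ∀ i, c₀ i * c₀ i = 1) (h₁ : ∀ i, c₁ i * c₁ i = 1) (h₂ : ∀ i, c₂ i * c₂ i = 1)
    (o₀₁ : ∑ i, c₀ i * c₁ i = 0) (o₀₂ : ∑ i, c₀ i * c₂ i = 0) (o₁₂ : ∑ i, c₁ i * c₂ i = 0)
    (d₀ : ∑ i, c₀ i * x i = 0) (d₁ : ∑ i, c₁ i * x i = 0) (d₂ : ∑ i, c₂ i * x i = 0)
    (hx : ∀ i, 0 < x i) :
    ∃ ε : ℤ, (ε = 1 ∨ ε = -1) ∧ ∀ i, x i = x 0 ∧ c₀ i * c₁ i * c₂ i = ε := by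
  set w : Fin 4 → ℤ := fun i => c₀ i * c₁ i * c₂ i with hw
  have hww : ∀ i, w i * w i = 1 := fun i => by
    show c₀ i * c₁ i * c₂ i * (c₀ i * c₁ i * c₂ i) = 1
    linear_combination (c₁ i * c₁ i * (c₂ i * c₂ i)) * h₀ i + (c₂ i * c₂ i) * h₁ i + h₂ i
  set T : Fin 4 → Fin 4 → ℤ := fun i k => c₀ i * c₀ k + c₁ i * c₁ k + c₂ i * c₂ k + w i * w k
    with hT
  have hdiag : ∀ i, T i i = 4 := fun i => by
    show c₀ i * c₀ i + c₁ i * c₁ i + c₂ i * c₂ i + w i * w i = 4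
    rw [h₀, h₁, h₂, hww]; norm_num
  have o0w : ∑ i, c₀ i * w i = 0 := by
    rw [← o₁₂]; exact Finset.sum_congr rfl fun i _ => by
      show c₀ i * (c₀ i * c₁ i * c₂ i) = _
      linear_combination (c₁ i * c₂ i) * h₀ i
  have o1w : ∑ i, c₁ i * w i = 0 := by
    rw [← o₀₂]; exact Finset.sum_congr rfl fun i _ => by
      show c₁ i * (c₀ i * c₁ i * c₂ i) = _
      linear_combination (c₀ i * c₂ i) * h₁ i
  have o2w : ∑ i, c₂ i * w i = 0 := by
    rw [← o₀₁]; exact Finset.sum_congr rfl fun i _ => by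
      show c₂ i * (c₀ i * c₁ i * c₂ i) = _
      linear_combination (c₀ i * c₁ i) * h₂ i
  have hsq : ∀ i, ∑ k, T i k * T i k = 16 := by
    intro i
    have e : ∑ k, T i k * T i k = ∑ k, ((c₀ i * c₀ i) * (c₀ k * c₀ k) +
        (c₁ i * c₁ i) * (c₁ k * c₁ k) + (c₂ i * c₂ i) * (c₂ k * c₂ k) +
        (w i * w i) * (w k * w k) + 2 * (c₀ i * c₁ i) * (c₀ k * c₁ k) +
        2 * (c₀ i * c₂ i) * (c₀ k * c₂ k) + 2 * (c₁ i * c₂ i) * (c₁ k * c₂ k) +
        2 * (c₀ i * w i) * (c₀ k * w k) + 2 * (c₁ i * w i) * (c₁ k * w k) +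
        2 * (c₂ i * w i) * (c₂ k * w k)) :=
      Finset.sum_congr rfl fun k _ => by simp only [hT]; ring
    rw [e]
    simp only [h₀, h₁, h₂, hww, Finset.sum_add_distrib, ← Finset.mul_sum, o₀₁, o₀₂, o₁₂, o0w, o1w,
      o2w]
    simp
  have hoff : ∀ i k, k ≠ i → T i k = 0 := by
    intro i k hk
    by_contra hne
    have h1 := Finset.sum_le_sum_of_subset_of_nonneg (Finset.subset_univ ({i, k} : Finset (Fin 4)))
      (f := fun k => T i k * T i k) (fun _ _ _ => mul_self_nonneg _)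
    rw [Finset.sum_pair hk.symm, hsq, hdiag] at h1
    have := mul_self_pos.2 hne
    omega
  set K : ℤ := ∑ k, w k * x k with hK
  have hx4 : ∀ i, 4 * (x i : ℤ) = w i * K := by
    intro i
    have e : ∑ k, T i k * x k = 4 * (x i : ℤ) := by
      rw [Finset.sum_eq_single i (fun k _ hk => by rw [hoff i k hk, zero_mul])
        (fun h => absurd (Finset.mem_univ _) h), hdiag]
    rw [← e, Finset.sum_congr rfl (g := fun k => c₀ i * (c₀ k * x k) + c₁ i * (c₁ k * x k) +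
      c₂ i * (c₂ k * x k) + w i * (w k * x k)) fun k _ => by simp only [hT]; ring]
    simp only [Finset.sum_add_distrib, ← Finset.mul_sum, d₀, d₁, d₂, ← hK]
    ring
  have hwi : ∀ i, w i = 1 ∨ w i = -1 := fun i => mul_self_eq_one_iff.1 (hww i)
  have hsame : ∀ i, w i = w 0 := by
    intro i
    have := hx4 i
    have := hx4 0
    have := hx i
    have := hx 0
    rcases hwi i with e | e <;> rcases hwi 0 with e' | e' <;> rw [e, e'] <;>
      simp only [e, e'] at * <;> omega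
  refine ⟨w 0, hwi 0, fun i => ⟨?_, hsame i⟩⟩
  have h1 := hx4 i
  rw [hsame i, ← hx4 0] at h1
  omega

end CfsgLib.GWKlein
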