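import Cfsg.Agent.Lib.GWKlein.Lin
import Cfsg.Agent.Lib.GWKlein.Statement
import Cfsg.Agent.Lib.DegreeTools.TISum
import Cfsg.Agent.S0205
import Mathlib.GroupTheory.FiniteAbelian.Duality
import Mathlib.Analysis.Complex.Polynomial.Basic

/-!
# Klein four Sylow subgroup: `oddPart t` is generated by the elements inverted by `a`

The inverted elements generate a normal subgroup `K` of `O = oddPart t` with `O = K * fixPart`.  An
odd group is soluble, so if `K ≠ O` a linear character of `O` trivial on `K` is invariant and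
non-trivial on `fixPart`; the rotation moves it to at most three such characters.
-/

set_option autoImplicit false
set_option linter.unusedSectionVars false
set_option linter.style.haveILetI false

universe u

namespace CfsgLib.GWKlein

open Subgroup Cfsg

variable {G : Type u} [Group G] {t a : G}

/-- The subgroup generated by the elements of `oddPart t` inverted by `a`. -/
def invClosure (t a : G) : Subgroup G := closure {y | y ∈ oddPart t ∧ a * y * a⁻¹ = y⁻¹}

/-- `invClosure` and the derived subgroup of `oddPart t`. -/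
def invDerived (t a : G) : Subgroup G := invClosure t a ⊔ ⁅oddPart t, oddPart t⁆

theorem invClosure_le (t a : G) : invClosure t a ≤ oddPart t := (closure_le _).2 fun _ hy => hy.1

/-- The inverted elements generate `oddPart t` if the rotation keeps `fixPart ⊓ invDerived`. -/
theorem Minimal.inverted_generate_of [Finite G] (M : Minimal G t a) {g : G} (hg : Rot t a g)
    (hker : ∀ d ∈ oddPart t, Commute a d → d ∈ invDerived t a → g * d * g⁻¹ ∈ invDerived t a) :
    oddPart t ≤ invClosure t a := by
  classical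
  letI := Fintype.ofFinite G
  have S := M.setting
  haveI := M.simple
  haveI : Group.IsSolvable ↥(oddPart t) := Cfsg.Agent.S0205.result S.odd_card_oddPart
  set K : Subgroup (oddPart t) := closure {y | S.aConj y = y⁻¹} with hK
  have hKmap : K.map (oddPart t).subtype = invClosure t a := by
    rw [hK, MonoidHom.map_closure, invClosure]
    congr 1
    ext x
    constructor
    · rintro ⟨y, hy, rfl⟩
      exact ⟨y.2, congrArg Subtype.val hy⟩
    · rintro ⟨hx, hxa⟩
      exact ⟨⟨x, hx⟩, Subtype.ext hxa, rfl⟩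
  suffices hKtop : K = ⊤ by
    rw [← hKmap, hKtop, ← MonoidHom.range_eq_map, range_subtype]
  by_contra hKtop
  -- every element is a fixed one times an inverted one
  have hdec : ∀ w : oddPart t, ∃ d ∈ fixPart t a, ∃ k ∈ K, w = d * k := by
    intro w
    set z := S.aConj w⁻¹ * w
    have hzi : S.aConj z = z⁻¹ := by simp [z, S.aConj_aConj]
    obtain ⟨k, hk⟩ := (S.mem_oddPart.1 z.2).1
    rw [Subgroup.orderOf_coe] at hk
    set u := z ^ (k + 1) with hu
    have huu : u * u = z := by
      rw [hu, ← pow_add, show k + 1 + (k + 1) = 2 * k + 1 + 1 by omega, pow_succ, ← hk,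
        pow_orderOf_eq_one, one_mul]
    have hua : S.aConj u = u⁻¹ := by rw [hu, map_pow, hzi, inv_pow]
    refine ⟨w * u⁻¹, S.mem_fixPart.2 ?_, u, subset_closure hua, (inv_mul_cancel_right w u).symm⟩
    have h2 : S.aConj (w * u⁻¹) = w * u⁻¹ := by
      rw [map_mul, map_inv, hua, inv_inv]
      have h3 : S.aConj w = w * z⁻¹ := by simp [z]
      rw [h3, mul_assoc, ← huu, mul_inv_rev, mul_assoc, inv_mul_cancel, mul_one]
    exact congrArg Subtype.val h2
  have hfix : ∀ {d : oddPart t}, d ∈ fixPart t a → S.aConj d = d := fun hd =>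
    Subtype.ext (S.mem_fixPart.1 hd)
  have hgenfix : ∀ d ∈ fixPart t a, ∀ k ∈ K, d * k * d⁻¹ ∈ K := by
    intro d hd k hk
    have h1 : K.map (MulAut.conj d).toMonoidHom ≤ K := by
      rw [hK, MonoidHom.map_closure, closure_le]
      rintro _ ⟨y, hy, rfl⟩
      refine subset_closure ?_
      show S.aConj (d * y * d⁻¹) = (d * y * d⁻¹)⁻¹
      rw [map_mul, map_mul, map_inv, hfix hd, show S.aConj y = y⁻¹ from hy, conj_inv]
    exact h1 ⟨k, hk, rfl⟩
  haveI hKn : K.Normal := ⟨fun k hk w => by
    obtain ⟨d, hd, k', hk', rfl⟩ := hdec w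
    rw [show d * k' * k * (d * k')⁻¹ = d * (k' * k * k'⁻¹) * d⁻¹ by group]
    exact hgenfix d hd _ (mul_mem (mul_mem hk' hk) (inv_mem hk'))⟩
  set N : Subgroup (oddPart t) := K ⊔ commutator (oddPart t) with hN
  have hNtop : N ≠ ⊤ := by
    intro h
    haveI : Nontrivial (oddPart t ⧸ K) := QuotientGroup.nontrivial_iff.2 hKtop
    refine (Group.IsSolvable.commutator_lt_top_of_nontrivial (oddPart t ⧸ K)).ne ?_
    have h1 := congrArg (Subgroup.map (QuotientGroup.mk' K)) h
    rw [hN, Subgroup.map_sup, QuotientGroup.map_mk'_self, bot_sup_eq,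
      map_top_of_surjective _ (QuotientGroup.mk'_surjective K)] at h1
    rwa [commutator_def, map_commutator, map_top_of_surjective _ (QuotientGroup.mk'_surjective K),
      ← commutator_def] at h1
  have hNmap : N.map (oddPart t).subtype = invDerived t a := by
    rw [hN, Subgroup.map_sup, hKmap, map_subtype_commutator, invDerived]
  -- the abelian quotient and a character of it
  haveI : (commutator (oddPart t)).Normal := inferInstance
  have hcomm : ∀ p q : oddPart t ⧸ N, p * q = q * p := by
    intro p q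
    obtain ⟨p, rfl⟩ := QuotientGroup.mk'_surjective N p
    obtain ⟨q, rfl⟩ := QuotientGroup.mk'_surjective N q
    rw [← commutatorElement_eq_one_iff_mul_comm, ← map_commutatorElement]
    exact (QuotientGroup.eq_one_iff _).2
      (mem_sup_right (commutator_mem_commutator (mem_top p) (mem_top q)))
  letI : CommGroup (oddPart t ⧸ N) :=
    { (inferInstance : Group (oddPart t ⧸ N)) with mul_comm := hcomm }
  haveI : Nontrivial (oddPart t ⧸ N) := QuotientGroup.nontrivial_iff.2 hNtop
  obtain ⟨w, hw⟩ := exists_ne (1 : oddPart t ⧸ N)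
  obtain ⟨ψ, hψ⟩ := CommGroup.exists_apply_ne_one_of_hasEnoughRootsOfUnity (oddPart t ⧸ N) ℂ hw
  set φ₀ : oddPart t →* ℂˣ := ψ.comp (QuotientGroup.mk' N) with hφ₀
  set q : fixPart t a →* oddPart t ⧸ N := (QuotientGroup.mk' N).comp (fixPart t a).subtype with hq
  have hqs : Function.Surjective q := by
    intro x
    obtain ⟨x, rfl⟩ := QuotientGroup.mk'_surjective N x
    obtain ⟨d, hd, k, hk, rfl⟩ := hdec x
    refine ⟨⟨d, hd⟩, ?_⟩
    show QuotientGroup.mk' N d = QuotientGroup.mk' N (d * k)
    rw [map_mul, show QuotientGroup.mk' N k = 1 from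
      (QuotientGroup.eq_one_iff k).2 (mem_sup_left hk), mul_one]
  obtain ⟨d₀, hd₀⟩ := hqs w
  have hdne : φ₀ (d₀ : oddPart t) ≠ 1 := by
    show ψ (q d₀) ≠ 1
    rw [hd₀]
    exact hψ
  set r := S.rotAut hg with hr
  have hqr : ∀ d, q d = 1 → q (r d) = 1 := by
    intro d hd
    have h1 : ((d : oddPart t) : G) ∈ invDerived t a :=
      hNmap ▸ ⟨_, (QuotientGroup.eq_one_iff (d : oddPart t)).1 hd, rfl⟩
    have h2 := hker _ (d : oddPart t).2 (S.commute_of_mem_fixPart d.2) h1
    rw [← hNmap] at h2
    obtain ⟨e, he, heq⟩ := h2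
    refine (QuotientGroup.eq_one_iff _).2 ?_
    show (r d : oddPart t) ∈ N
    rwa [show (r d : oddPart t) = e from Subtype.ext heq.symm]
  have hinv0 : ∀ y : oddPart t, QuotientGroup.mk' N (S.aConj y) = QuotientGroup.mk' N y := by
    intro y
    obtain ⟨d, hd, k, hk, rfl⟩ := hdec y
    have hk' : S.aConj k ∈ K := by
      have h1 : K.map S.aConj.toMonoidHom ≤ K := by
        rw [hK, MonoidHom.map_closure, closure_le]
        rintro _ ⟨z, hz, rfl⟩
        refine subset_closure ?_
        show S.aConj (S.aConj z) = (S.aConj z)⁻¹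
        rw [S.aConj_aConj, show S.aConj z = z⁻¹ from hz, inv_inv]
      exact h1 ⟨k, hk, rfl⟩
    rw [map_mul S.aConj, hfix hd, map_mul, map_mul,
      show QuotientGroup.mk' N k = 1 from (QuotientGroup.eq_one_iff k).2 (mem_sup_left hk),
      show QuotientGroup.mk' N (S.aConj k) = 1 from
        (QuotientGroup.eq_one_iff (S.aConj k)).2 (mem_sup_left hk')]
  -- the rotated characters
  set α : (fixPart t a) →* fixPart t a := r.toMonoidHom with hα
  have hker1 : q.ker ≤ ((φ₀.comp (fixPart t a).subtype).comp α).ker := fun d hd => by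
    show ψ (q (r d)) = 1
    rw [hqr d hd, map_one]
  have hker2 : q.ker ≤ (((φ₀.comp (fixPart t a).subtype).comp α).comp α).ker := fun d hd => by
    show ψ (q (r (r d))) = 1
    rw [hqr _ (hqr d hd), map_one]
  set φ₁ : oddPart t →* ℂˣ :=
    (q.liftOfSurjective hqs ⟨_, hker1⟩).comp (QuotientGroup.mk' N) with hφ₁
  set φ₂ : oddPart t →* ℂˣ :=
    (q.liftOfSurjective hqs ⟨_, hker2⟩).comp (QuotientGroup.mk' N) with hφ₂
  have h1 : ∀ d : fixPart t a, φ₁ (d : oddPart t) = φ₀ (r d : oddPart t) := fun d =>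
    MonoidHom.liftOfRightInverse_comp_apply q _ (Function.rightInverse_surjInv hqs) ⟨_, hker1⟩ d
  have h2 : ∀ d : fixPart t a, φ₂ (d : oddPart t) = φ₀ (r (r d) : oddPart t) := fun d =>
    MonoidHom.liftOfRightInverse_comp_apply q _ (Function.rightInverse_surjInv hqs) ⟨_, hker2⟩ d
  have h3 : ∀ d : fixPart t a, φ₀ (r (r (r d)) : oddPart t) = φ₀ (d : oddPart t) := fun d =>
    (isConj_iff_eq.1
      ((φ₀.comp (fixPart t a).subtype).map_isConj (S.rotAut_cube hg d))).symm
  have hinv : ∀ (ψ' : (oddPart t ⧸ N) →* ℂˣ) (y : oddPart t),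
      ψ'.comp (QuotientGroup.mk' N) (S.aConj y) = ψ'.comp (QuotientGroup.mk' N) y := fun ψ' y =>
    congrArg ψ' (hinv0 y)
  have hext : ∀ ψ₁ ψ₂ : (oddPart t ⧸ N) →* ℂˣ, (∀ d : fixPart t a,
      ψ₁.comp (QuotientGroup.mk' N) (d : oddPart t) = ψ₂.comp (QuotientGroup.mk' N) (d : oddPart t))
      → ψ₁.comp (QuotientGroup.mk' N) = ψ₂.comp (QuotientGroup.mk' N) := by
    intro ψ₁ ψ₂ h
    refine MonoidHom.ext fun y => ?_
    obtain ⟨d, hd⟩ := hqs (QuotientGroup.mk' N y)
    show ψ₁ (QuotientGroup.mk' N y) = ψ₂ (QuotientGroup.mk' N y)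
    rw [← hd]
    exact h d
  obtain ⟨Mi, hMi⟩ := DegreeTools.TISum.exists_pmodular Nat.prime_two
  by_cases h01 : φ₀ = φ₁
  · refine S.false_of_fixed hMi M.noncomm hg (hinv ψ) (fun d => ?_) hdne
    rw [← h1 d, ← h01]
  · have hfixr : ∀ e : fixPart t a, (∀ d : fixPart t a, φ₀ (d : oddPart t) = φ₀ (r d : oddPart t)) →
        φ₀ = φ₁ := fun e h => hext _ _ fun d => (h d).trans (h1 d).symm
    have h02 : φ₀ ≠ φ₂ := fun e => h01 (hfixr 1 fun d => by
      have := h2 (r d)
      rw [← e, h3] at this
      exact this.symm)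
    have h12 : φ₁ ≠ φ₂ := fun e => h01 (hfixr 1 fun d => by
      obtain ⟨d', rfl⟩ := r.surjective d
      rw [← h1, e, h2])
    refine S.false_of_three hMi M.noncomm hg ![φ₀, φ₁, φ₂] ?_ ?_ ?_ (d := d₀)
      fun e => hdne (by simp [e])
    · intro i j hij
      fin_cases i <;> fin_cases j <;> first
        | rfl
        | exact absurd hij h01
        | exact absurd hij.symm h01
        | exact absurd hij h02
        | exact absurd hij.symm h02
        | exact absurd hij h12
        | exact absurd hij.symm h12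
    · intro i y
      fin_cases i <;> exact hinv _ y
    · intro i d
      fin_cases i
      · exact h1 d
      · exact (h2 d).trans (h1 (r d)).symm
      · exact ((h2 (r d)).trans (h3 d)).symm

end CfsgLib.GWKlein
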