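import Cfsg.Agent.Lib.GWKlein.LinGenerate
import Cfsg.Agent.Lib.GWKlein.LinCentral
import Cfsg.Agent.Lib.GWKlein.Rotating

/-!
# Klein four Sylow subgroup: the rotation and the abelian quotient of `oddPart t`

The general criterion for the hypothesis of `inverted_generate_of`, and its proof for a rotation
inside `closureIn t a H`, `H` with core centralised by the four-group: the commutators of the
rotation with `oddPart t ⊓ C(a)` are central in `closureIn`, so `central_eq_one` kills them.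
-/

set_option autoImplicit false
set_option linter.unusedSectionVars false
set_option linter.style.haveILetI false

universe u

namespace CfsgLib.GWKlein

open Subgroup
open scoped commutatorElement

variable {G : Type u} [Group G] [Finite G] {t a : G}

namespace Setting

variable (S : Setting G t a)
include S

/-- An element of `oddPart t` is a fixed one times an element of `invClosure`. -/
theorem exists_fixed_mul {y : G} (hy : y ∈ oddPart t) :
    ∃ d ∈ oddPart t, Commute a d ∧ ∃ k ∈ invClosure t a, y = d * k := by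
  set i := a * y⁻¹ * a⁻¹ * y with hi
  have hiO : i ∈ oddPart t := mul_mem (S.a_conj_mem (inv_mem hy)) hy
  have hia : a * i * a⁻¹ = i⁻¹ := by
    rw [hi, show a * (a * y⁻¹ * a⁻¹ * y) * a⁻¹ = (a * a) * y⁻¹ * (a * a)⁻¹ * (a * y * a⁻¹) by group,
      S.a_mul_self]
    group
  obtain ⟨m, hm⟩ := (S.mem_oddPart.1 hiO).1
  set u := i ^ (m + 1) with hu
  have huu : u * u = i := by
    rw [hu, ← pow_add, show m + 1 + (m + 1) = 2 * m + 1 + 1 by omega, pow_succ, ← hm,
      pow_orderOf_eq_one, one_mul]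
  have hua : a * u * a⁻¹ = u⁻¹ := by rw [hu, ← conj_pow, hia, inv_pow]
  have huK : u ∈ invClosure t a := subset_closure ⟨pow_mem hiO _, hua⟩
  refine ⟨y * u⁻¹, mul_mem hy (inv_mem (pow_mem hiO _)), ?_, u, huK, (inv_mul_cancel_right y u).symm⟩
  refine mul_inv_eq_iff_eq_mul.1 ?_
  rw [← conj_mul, ← conj_inv, hua, inv_inv,
    show a * y * a⁻¹ = y * i⁻¹ by rw [hi]; group, mul_assoc, ← huu, mul_inv_rev, mul_assoc,
    inv_mul_cancel, mul_one]

theorem fixed_le_normalizer : oddPart t ⊓ centralizer ({a} : Set G) ≤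
    normalizer (invClosure t a : Set G) := by
  intro d hd
  refine mem_normalizer_iff_map_conj_eq.2 (eq_of_le_of_card_ge ?_
    (card_map_of_injective (MulAut.conj d).injective).ge)
  rw [invClosure, MonoidHom.map_closure, closure_le]
  rintro _ ⟨y, ⟨hy, hya⟩, rfl⟩
  refine subset_closure ⟨mul_mem (mul_mem hd.1 hy) (inv_mem hd.1), ?_⟩
  show a * (d * y * d⁻¹) * a⁻¹ = (d * y * d⁻¹)⁻¹
  have hda : a * d * a⁻¹ = d := mul_inv_eq_iff_eq_mul.2 (mem_centralizer_singleton_iff.1 hd.2).symm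
  rw [← conj_mul, ← conj_mul, ← conj_inv, hya, hda]
  group

theorem le_normalizer_invClosure : oddPart t ≤ normalizer (invClosure t a : Set G) := by
  intro y hy
  obtain ⟨d, hd, hda, k, hk, rfl⟩ := S.exists_fixed_mul hy
  exact mul_mem (S.fixed_le_normalizer ⟨hd, mem_centralizer_singleton_iff.2 hda.symm.eq⟩)
    (Subgroup.le_normalizer hk)

/-- It suffices that the rotation keeps the fixed elements of `invClosure` in `invDerived`. -/
theorem rot_invDerived {g : G} (hg : Rot t a g)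
    (h : ∀ k ∈ invClosure t a, Commute a k → g * k * g⁻¹ ∈ invDerived t a) :
    ∀ d ∈ oddPart t, Commute a d → d ∈ invDerived t a → g * d * g⁻¹ ∈ invDerived t a := by
  intro y hy hya hyN
  set D := oddPart t ⊓ centralizer ({a} : Set G) with hD
  have hDn : ⁅D, D⁆ ≤ normalizer (invClosure t a : Set G) :=
    ((commutator_le.2 fun p hp q hq => by
      rw [commutatorElement_def]
      exact mul_mem (mul_mem (mul_mem hp hq) (inv_mem hp)) (inv_mem hq)) :
        ⁅D, D⁆ ≤ D).trans S.fixed_le_normalizer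
  have hKO := invClosure_le t a
  haveI : ((invClosure t a).subgroupOf (oddPart t)).Normal :=
    (normal_subgroupOf_iff_le_normalizer hKO).2 S.le_normalizer_invClosure
  set π := QuotientGroup.mk' ((invClosure t a).subgroupOf (oddPart t))
  have hle : invDerived t a ≤ ⁅D, D⁆ ⊔ invClosure t a := by
    refine sup_le le_sup_right (commutator_le.2 fun p hp q hq => ?_)
    obtain ⟨d, hd, hda, k, hk, rfl⟩ := S.exists_fixed_mul hp
    obtain ⟨d', hd', hd'a, k', hk', rfl⟩ := S.exists_fixed_mul hq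
    set P : oddPart t := ⟨d, hd⟩
    set Q : oddPart t := ⟨d', hd'⟩
    set K₁ : oddPart t := ⟨k, hKO hk⟩
    set K₂ : oddPart t := ⟨k', hKO hk'⟩
    have h1 : π K₁ = 1 := (QuotientGroup.eq_one_iff _).2 hk
    have h2 : π K₂ = 1 := (QuotientGroup.eq_one_iff _).2 hk'
    have h3 : π (⁅P, Q⁆⁻¹ * ⁅P * K₁, Q * K₂⁆) = 1 := by
      rw [map_mul, map_inv, map_commutatorElement, map_commutatorElement, map_mul, map_mul, h1, h2,
        mul_one, mul_one, inv_mul_cancel]
    have h4' : (⁅P, Q⁆⁻¹ * ⁅P * K₁, Q * K₂⁆ : oddPart t) ∈ (invClosure t a).subgroupOf (oddPart t) :=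
      (QuotientGroup.eq_one_iff _).1 h3
    have h4 : ⁅d, d'⁆⁻¹ * ⁅d * k, d' * k'⁆ ∈ invClosure t a := h4'
    rw [show ⁅d * k, d' * k'⁆ = ⁅d, d'⁆ * (⁅d, d'⁆⁻¹ * ⁅d * k, d' * k'⁆) by group]
    exact mul_mem (mem_sup_left (commutator_mem_commutator
      ⟨hd, mem_centralizer_singleton_iff.2 hda.symm.eq⟩
      ⟨hd', mem_centralizer_singleton_iff.2 hd'a.symm.eq⟩)) (mem_sup_right h4)
  have hy' : y ∈ (↑(⁅D, D⁆ ⊔ invClosure t a) : Set G) := hle hyN
  rw [coe_mul_of_left_le_normalizer_right _ _ hDn] at hy'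
  obtain ⟨e, he, k, hk, rfl⟩ := hy'
  have hea : Commute a e := by
    have : e ∈ D := (commutator_le.2 fun p hp q hq => by
      rw [commutatorElement_def]
      exact mul_mem (mul_mem (mul_mem hp hq) (inv_mem hp)) (inv_mem hq) : ⁅D, D⁆ ≤ D) he
    exact (mem_centralizer_singleton_iff.1 this.2).symm
  have hka : Commute a k := by
    have := hea.inv_right.mul_right hya
    rwa [← mul_assoc, inv_mul_cancel, one_mul] at this
  have hge : g * e * g⁻¹ ∈ ⁅oddPart t, oddPart t⁆ := by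
    have h1 : (⁅D, D⁆).map (MulAut.conj g).toMonoidHom ≤ ⁅oddPart t, oddPart t⁆ := by
      rw [map_commutator]
      refine commutator_mono ?_ ?_ <;>
      · rintro _ ⟨d, hd, rfl⟩
        exact S.rot_conj_mem hg (y := ⟨d, hd.1⟩)
          (S.mem_fixPart.2 (mul_inv_eq_iff_eq_mul.2 (mem_centralizer_singleton_iff.1 hd.2).symm))
    exact h1 ⟨e, he, rfl⟩
  show g * (e * k) * g⁻¹ ∈ invDerived t a
  rw [← conj_mul]
  exact mul_mem (mem_sup_right hge) (h k hk hka)

/-- A linear character trivial on `invDerived` seeing an element outside. -/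
theorem exists_character {w : G} (hwO : w ∈ oddPart t) (hw : w ∉ invDerived t a) :
    ∃ φ : oddPart t →* ℂˣ, φ ⟨w, hwO⟩ ≠ 1 ∧
      ∀ y : oddPart t, (y : G) ∈ invDerived t a → φ y = 1 := by
  set N := (invDerived t a).subgroupOf (oddPart t) with hN
  have hO' : ⁅oddPart t, oddPart t⁆ ≤ invDerived t a := le_sup_right
  have hmemN : ∀ p q : oddPart t, ⁅p, q⁆ ∈ N := fun p q =>
    mem_subgroupOf.2 (hO' (commutator_mem_commutator p.2 q.2))
  haveI : N.Normal := ⟨fun n hn c => by
    rw [show c * n * c⁻¹ = ⁅c, n⁆ * n by group]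
    exact mul_mem (hmemN c n) hn⟩
  have hcomm : ∀ p q : oddPart t ⧸ N, p * q = q * p := by
    intro p q
    obtain ⟨p, rfl⟩ := QuotientGroup.mk'_surjective N p
    obtain ⟨q, rfl⟩ := QuotientGroup.mk'_surjective N q
    rw [← commutatorElement_eq_one_iff_mul_comm, ← map_commutatorElement]
    exact (QuotientGroup.eq_one_iff _).2 (hmemN p q)
  letI : CommGroup (oddPart t ⧸ N) :=
    { (inferInstance : Group (oddPart t ⧸ N)) with mul_comm := hcomm }
  have hw1 : QuotientGroup.mk' N ⟨w, hwO⟩ ≠ 1 := fun e =>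
    hw ((QuotientGroup.eq_one_iff (⟨w, hwO⟩ : oddPart t)).1 e)
  obtain ⟨ψ, hψ⟩ := CommGroup.exists_apply_ne_one_of_hasEnoughRootsOfUnity (oddPart t ⧸ N) ℂ hw1
  exact ⟨ψ.comp (QuotientGroup.mk' N), hψ, fun y hy => by
    show ψ (QuotientGroup.mk' N y) = 1
    rw [show QuotientGroup.mk' N y = 1 from (QuotientGroup.eq_one_iff y).2 hy, map_one]⟩

end Setting

theorem closureIn_conj_le {H : Subgroup G} {h : G} (hh : h ∈ H) :
    (closureIn t a H).map (MulAut.conj h).toMonoidHom ≤ closureIn t a H := by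
  rw [closureIn, MonoidHom.map_closure, closure_le]
  rintro _ ⟨_, ⟨k, hk, v, hv, rfl⟩, rfl⟩
  exact subset_closure ⟨h * k, mul_mem hh hk, v, hv, by
    show h * (k * v * k⁻¹) * h⁻¹ = h * k * v * (h * k)⁻¹
    group⟩

/-- With a rotation `closureIn` is perfect. -/
theorem closureIn_perfect (S : Setting G t a) {H : Subgroup G} {g : G}
    (hgL : g ∈ closureIn t a H) (hg : Rot t a g) :
    commutator ↥(closureIn t a H) = ⊤ := by
  set L := closureIn t a H with hL
  have hvL : ∀ {v : G}, v ∈ four t a → v ∈ L := fun hv =>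
    subset_closure ⟨1, one_mem _, _, hv, by group⟩
  have ht : t ∈ ⁅L, L⁆ := by
    have := commutator_mem_commutator hgL (hvL S.a_mem)
    rwa [commutatorElement_def, hg.2, S.a_inv, mul_assoc, S.a_mul_self, mul_one] at this
  have hta : t * a ∈ ⁅L, L⁆ := by
    have := commutator_mem_commutator hgL (hvL S.t_mem)
    rwa [commutatorElement_def, hg.1, S.t_inv, S.comm.symm.eq] at this
  have ha : a ∈ ⁅L, L⁆ := by
    have := mul_mem ht hta
    rwa [← mul_assoc, S.t_mul_self, one_mul] at this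
  have hle : L ≤ ⁅L, L⁆ := by
    refine (closure_le _).2 ?_
    rintro _ ⟨h, hh, v, hv, rfl⟩
    have h1 : (⁅L, L⁆).map (MulAut.conj h).toMonoidHom ≤ ⁅L, L⁆ := by
      rw [map_commutator]
      exact commutator_mono (closureIn_conj_le hh) (closureIn_conj_le hh)
    refine h1 ⟨v, ?_, rfl⟩
    rcases S.mem_four_iff.1 hv with rfl | rfl | rfl | rfl
    exacts [one_mem _, ht, ha, hta]
  apply map_injective L.subtype_injective
  rw [map_subtype_commutator, ← MonoidHom.range_eq_map, range_subtype]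
  exact le_antisymm (commutator_le.2 fun p hp q hq => by
    rw [commutatorElement_def]
    exact mul_mem (mul_mem (mul_mem hp hq) (inv_mem hp)) (inv_mem hq)) hle

/-- The fixed odd elements of `closureIn` centralise it. -/
theorem Minimal.fixed_closureIn_central (M : Minimal G t a) {H : Subgroup G} (hH : H ≠ ⊤)
    (hV : four t a ≤ H) {g : G} (hgH : g ∈ H) (hg : Rot t a g)
    (hR : core H ≤ centralizer (four t a : Set G)) {w : G} (hwL : w ∈ closureIn t a H)
    (hwO : w ∈ oddPart t) (hwa : Commute a w) {x : G} (hx : x ∈ closureIn t a H) : Commute w x := by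
  have S := M.setting
  have R := M.reduced hH (hV S.t_mem) (hV S.a_mem) hgH hg
  have hle : closureIn t a H ≤
      ((socle (mkCore H ⟨t, hV S.t_mem⟩) (mkCore H ⟨a, hV S.a_mem⟩)).comap (mkCore H)).map
        H.subtype := by
    refine (closure_le _).2 ?_
    rintro _ ⟨h, hh, v, hv, rfl⟩
    refine ⟨⟨h, hh⟩ * ⟨v, hV hv⟩ * ⟨h, hh⟩⁻¹, ?_, rfl⟩
    show mkCore H (⟨h, hh⟩ * ⟨v, hV hv⟩ * (⟨h, hh⟩ : H)⁻¹) ∈
      socle (mkCore H ⟨t, hV S.t_mem⟩) (mkCore H ⟨a, hV S.a_mem⟩)
    rw [map_mul, map_mul, map_inv]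
    refine subset_closure ⟨mkCore H ⟨h, hh⟩, mem_top _, mkCore H ⟨v, hV hv⟩, ?_, rfl⟩
    rcases S.mem_four_iff.1 hv with rfl | rfl | rfl | rfl
    · rw [show (⟨(1 : G), hV hv⟩ : H) = 1 from rfl, map_one]; exact one_mem _
    · exact R.setting.t_mem
    · exact R.setting.a_mem
    · rw [show (⟨t * a, hV hv⟩ : H) = ⟨t, hV S.t_mem⟩ * ⟨a, hV S.a_mem⟩ from rfl, map_mul]
      exact R.setting.ta_mem
  obtain ⟨y, hy, rfl⟩ := hle hwL
  have hodd : Odd (orderOf (mkCore H y)) :=
    Odd.of_dvd_nat (by rw [← Subgroup.orderOf_coe]; exact (S.mem_oddPart.1 hwO).1) (orderOf_map_dvd _ y)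
  have h1 := R.selfCent_socle hy hodd
    (Commute.map (show Commute (⟨t, hV S.t_mem⟩ : H) y from
      Subtype.ext (S.mem_oddPart.1 hwO).2.eq) _)
    (Commute.map (show Commute (⟨a, hV S.a_mem⟩ : H) y from Subtype.ext hwa.eq) _)
  exact (mem_centralizer_iff.1
    (core_le_centralizer_closureIn hR ((mem_core_iff H y).1 h1)) x hx).symm

/-- A rotation in `closureIn` moves no fixed element out of its class modulo `invDerived`. -/
theorem Minimal.rot_mul_inv_mem (M : Minimal G t a) {H : Subgroup G} (hH : H ≠ ⊤)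
    (hV : four t a ≤ H) {g : G} (hgL : g ∈ closureIn t a H) (hg : Rot t a g)
    (hR : core H ≤ centralizer (four t a : Set G)) {d : G} (hd : d ∈ oddPart t) (hda : Commute a d)
    (hdH : d ∈ H) : g * d * g⁻¹ * d⁻¹ ∈ invDerived t a := by
  classical
  have S := M.setting
  set L := closureIn t a H with hL
  have hgH := closureIn_le hV hgL
  set w := g * d * g⁻¹ * d⁻¹ with hw
  have hdfix : (⟨d, hd⟩ : oddPart t) ∈ fixPart t a :=
    S.mem_fixPart.2 (mul_inv_eq_iff_eq_mul.2 hda.eq)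
  have hgd := S.rot_conj_mem hg hdfix
  have hwO : w ∈ oddPart t := mul_mem hgd (inv_mem hd)
  have hwa : Commute a w :=
    (S.commute_of_mem_fixPart (S.rot_conj_fix hg hdfix)).mul_right hda.inv_right
  have hwL : w ∈ L := by
    rw [show w = g * (d * g⁻¹ * d⁻¹) by rw [hw]; group]
    exact mul_mem hgL (closureIn_conj_le hdH ⟨g⁻¹, inv_mem hgL, rfl⟩)
  have hcent := fun x (hx : x ∈ L) => M.fixed_closureIn_central hH hV hgH hg hR hwL hwO hwa hx
  by_contra hwN
  obtain ⟨φ, hφw, hφN⟩ := S.exists_character hwO hwN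
  have htL : t ∈ L := subset_closure ⟨1, one_mem _, t, S.t_mem, by group⟩
  have haL : a ∈ L := subset_closure ⟨1, one_mem _, a, S.a_mem, by group⟩
  have SL := S.restrict htL haL
  letI := Fintype.ofFinite G
  set ι : oddPart (⟨t, htL⟩ : L) →* oddPart t :=
    { toFun := fun y => ⟨((y : L) : G), S.mem_oddPart.2 ⟨by
        rw [Subgroup.orderOf_coe]; exact (SL.mem_oddPart.1 y.2).1,
        congrArg Subtype.val (SL.mem_oddPart.1 y.2).2⟩⟩
      map_one' := rfl
      map_mul' := fun _ _ => rfl } with hι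
  have hgR : Rot (⟨t, htL⟩ : L) ⟨a, haL⟩ ⟨g, hgL⟩ := ⟨Subtype.ext hg.1, Subtype.ext hg.2⟩
  have hinv : ∀ y : oddPart t, φ (S.aConj y) = φ y := by
    intro y
    obtain ⟨e, he, hea, k, hk, hye⟩ := S.exists_fixed_mul y.2
    have hk' : a * k * a⁻¹ ∈ invClosure t a := by
      have h1 : (invClosure t a).map (MulAut.conj a).toMonoidHom ≤ invClosure t a := by
        rw [invClosure, MonoidHom.map_closure, closure_le]
        rintro _ ⟨z, ⟨hz, hza⟩, rfl⟩
        refine subset_closure ⟨S.a_conj_mem hz, ?_⟩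
        show a * (a * z * a⁻¹) * a⁻¹ = (a * z * a⁻¹)⁻¹
        rw [hza, ← conj_inv, hza]
      exact h1 ⟨k, hk, rfl⟩
    have hkO := invClosure_le t a hk
    have e1 : y = (⟨e, he⟩ : oddPart t) * ⟨k, hkO⟩ := Subtype.ext hye
    have e2 : S.aConj y = (⟨e, he⟩ : oddPart t) * ⟨a * k * a⁻¹, S.a_conj_mem hkO⟩ := Subtype.ext (by
      show a * (y : G) * a⁻¹ = e * (a * k * a⁻¹)
      rw [hye, ← conj_mul, hea.eq, mul_inv_cancel_right])
    rw [e1] at e2 ⊢
    rw [e2, map_mul, map_mul, hφN ⟨k, hkO⟩ (mem_sup_left hk),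
      hφN ⟨_, S.a_conj_mem hkO⟩ (mem_sup_left hk')]
  have hfix : ∀ e : fixPart (⟨t, htL⟩ : L) ⟨a, haL⟩,
      (φ.comp ι) (SL.rotAut hgR e : oddPart (⟨t, htL⟩ : L)) = (φ.comp ι) (e : oddPart _) := by
    intro e
    have hc : Commute (((e : oddPart (⟨t, htL⟩ : L)) : L) : G) g :=
      M.fixed_closureIn_central hH hV hgH hg hR ((e : oddPart (⟨t, htL⟩ : L)) : L).2 (ι e).2
        (congrArg Subtype.val (SL.commute_of_mem_fixPart e.2).eq) hgL
    refine congrArg φ (Subtype.ext ?_)
    show g * (((e : oddPart (⟨t, htL⟩ : L)) : L) : G) * g⁻¹ = _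
    rw [← hc.eq, mul_inv_cancel_right]
    rfl
  set z : oddPart (⟨t, htL⟩ : L) := ⟨⟨w, hwL⟩, SL.mem_oddPart.2
    ⟨by rw [← Subgroup.orderOf_coe]; exact (S.mem_oddPart.1 hwO).1,
      Subtype.ext (commute_of_mem_oddPart hwO).eq⟩⟩ with hz
  have hιz : ι z = ⟨w, hwO⟩ := rfl
  -- the cube of the rotation is inner modulo `invDerived`
  have h3 : (φ.comp ι) z ^ 3 = 1 := by
    obtain ⟨v, hv, u, hu, e⟩ := S.exists_fix_of_centralizing (S.rot_cube_commute hg S.t_mem)
      (S.rot_cube_commute hg S.a_mem)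
    have hgw : g * w * g⁻¹ = w := by rw [← (hcent g hgL).eq, mul_inv_cancel_right]
    have e0 : g * d * g⁻¹ = w * d := by rw [hw]; group
    have e1 : g * g * g * d * (g * g * g)⁻¹ = w * w * w * d := by
      have hstep : ∀ x : G, g * (w * x) * g⁻¹ = w * (g * x * g⁻¹) := fun x => by
        rw [← conj_mul, hgw]
      rw [show g * g * g * d * (g * g * g)⁻¹ = g * (g * (g * d * g⁻¹) * g⁻¹) * g⁻¹ by group, e0,
        hstep, e0, hstep, hstep, e0]
      simp only [mul_assoc]
    have hcu := S.commute_four_of_fixPart hv (mul_mem (mul_mem hu hdfix) (inv_mem hu))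
    have e2 : (u : G) * d * (u : G)⁻¹ = w * w * w * d := by
      rw [← e1, e]
      calc (u : G) * d * (u : G)⁻¹ = v * ((u : G) * d * (u : G)⁻¹) * v⁻¹ :=
            (mul_inv_eq_iff_eq_mul.2 hcu.eq).symm
        _ = _ := by group
    have e3 : u * (⟨d, hd⟩ : oddPart t) * u⁻¹ =
        (⟨w, hwO⟩ : oddPart t) * ⟨w, hwO⟩ * ⟨w, hwO⟩ * ⟨d, hd⟩ := Subtype.ext e2
    have e4 := congrArg φ e3
    rw [map_mul φ, map_mul φ, map_mul φ, map_mul φ, map_mul φ, map_inv, mul_comm (φ u),
      mul_inv_cancel_right] at e4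
    show φ (ι z) ^ 3 = 1
    rw [hιz, pow_three, ← mul_assoc]
    exact (mul_eq_right.1 e4.symm)
  refine hφw ?_
  rw [← hιz]
  exact SL.central_eq_one (closureIn_perfect S hgL hg) hgR (φ := φ.comp ι)
    (fun y => by
      show φ (ι (SL.aConj y)) = φ (ι y)
      rw [show ι (SL.aConj y) = S.aConj (ι y) from rfl, hinv]) hfix
    (z := z) (fun x => Subtype.ext (hcent x x.2).eq) h3

end CfsgLib.GWKlein
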