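import Cfsg.Agent.Lib.GWKlein.Finish
import Cfsg.Agent.Lib.SmallGroups.SimpleTools
import Cfsg.Agent.S0205

/-!
# Simple groups with a Klein four Sylow 2-subgroup: the induction
-/

set_option autoImplicit false
set_option linter.unusedSectionVars false
set_option linter.style.haveILetI false

universe u

namespace CfsgLib.GWKlein

open Subgroup

/-- A simple non-abelian group of order not divisible by `8` has a four-group as Sylow 2-subgroup. -/
theorem exists_setting {G : Type u} [Group G] [Finite G] [IsSimpleGroup G]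
    (hG : ¬ IsMulCommutative G) (h8 : ¬ 8 ∣ Nat.card G) : ∃ t a : G, Setting G t a := by
  haveI : Fact (Nat.Prime 2) := ⟨Nat.prime_two⟩
  have heven : 2 ∣ Nat.card G := by
    by_contra h
    haveI := Cfsg.Agent.S0205.result (G := G) (Nat.not_even_iff_odd.1 fun e => h e.two_dvd)
    exact hG ⟨⟨IsSimpleGroup.comm_iff_isSolvable.2 inferInstance⟩⟩
  obtain ⟨P⟩ := (inferInstance : Nonempty (Sylow 2 G))
  have hnc : ¬ IsCyclic ↥(P : Subgroup G) := fun hc =>
    CfsgLib.SmallGroups.SimpleTools.not_normalizer_le hG heven P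
      (hc.normalizer_le_centralizer ((Nat.minFac_eq_two_iff _).2 heven))
  obtain ⟨k, hk⟩ := IsPGroup.iff_card.1 P.2
  have hk2 : k = 2 := by
    have h3 : k < 3 := by
      by_contra h
      exact h8 ((pow_dvd_pow 2 (Nat.not_lt.1 h)).trans (hk ▸ card_subgroup_dvd_card _))
    rcases (show k = 0 ∨ k = 1 ∨ k = 2 by omega) with rfl | rfl | rfl
    · exact absurd (@isCyclic_of_subsingleton _ _ (Nat.card_eq_one_iff_unique.1 (by simpa using hk)).1) hnc
    · exact absurd (isCyclic_of_prime_card (p := 2) (by simpa using hk)) hnc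
    · rfl
  subst hk2
  have hsq : ∀ x : G, x ∈ (P : Subgroup G) → x * x = 1 := fun x hx => by
    have hd : orderOf (⟨x, hx⟩ : ↥(P : Subgroup G)) ∣ 2 ^ 2 := hk ▸ orderOf_dvd_natCard _
    obtain ⟨i, hi, e⟩ := (Nat.dvd_prime_pow Nat.prime_two).1 hd
    rcases (show i ≤ 1 ∨ i = 2 by omega) with h | rfl
    · have : (⟨x, hx⟩ : ↥(P : Subgroup G)) ^ 2 = 1 :=
        orderOf_dvd_iff_pow_eq_one.1 (e ▸ pow_dvd_pow 2 h)
      have := congrArg Subtype.val this
      simpa [pow_two] using this
    · exact absurd (isCyclic_of_orderOf_eq_card _ (e.trans hk.symm)) hnc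
  haveI := IsPGroup.isMulCommutative_of_card_eq_prime_sq hk
  haveI : Nontrivial ↥(P : Subgroup G) := Finite.one_lt_card_iff_nontrivial.1 (by rw [hk]; norm_num)
  obtain ⟨⟨t, ht⟩, ht1⟩ := exists_ne (1 : ↥(P : Subgroup G))
  have ht1' : t ≠ 1 := fun e => ht1 (Subtype.ext e)
  obtain ⟨a, ha, hat⟩ : ∃ a ∈ (P : Subgroup G), a ∉ zpowers t := by
    by_contra hcon
    push Not at hcon
    exact hnc (@isCyclic_of_injective _ _ _ _ inferInstance (inclusion hcon)
      (inclusion_injective hcon))
  have ho : ∀ x ∈ (P : Subgroup G), x ≠ 1 → orderOf x = 2 := fun x hx hx1 =>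
    orderOf_eq_prime (by rw [pow_two]; exact hsq x hx) hx1
  exact ⟨t, a, ho t ht ht1', ho a ha fun e => hat (e ▸ one_mem _),
    fun e => hat (e ▸ mem_zpowers t),
    congrArg Subtype.val (mul_comm' (⟨t, ht⟩ : ↥(P : Subgroup G)) ⟨a, ha⟩), h8⟩

/-- `SimpleKlein` and `Good` follow from the two facts about a minimal group. -/
theorem good_of
    (key : ∀ (G : Type u) [Group G] [Finite G] (t a : G), Minimal G t a → oddPart t ≠ ⊥ →
      IsCoatom (centralizer ({t} : Set G)) ∧ SelfCent t a) :
    ∀ (G : Type u) [Group G] [Finite G] [IsSimpleGroup G], ¬ IsMulCommutative G →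
      ¬ 8 ∣ Nat.card G → IsPSLThreeFive G ∧ ∀ s c : G, Setting G s c → Good G s c := by
  suffices h : ∀ (n : ℕ) (G : Type u) [Group G] [Finite G] [IsSimpleGroup G], Nat.card G = n →
      ¬ IsMulCommutative G → ¬ 8 ∣ Nat.card G →
        IsPSLThreeFive G ∧ ∀ s c : G, Setting G s c → Good G s c from
    fun G _ _ _ hG h8 => h _ G rfl hG h8
  intro n
  induction n using Nat.strong_induction_on with
  | _ n ih =>
    intro G _ _ hs hn hG h8
    obtain ⟨t, a, S⟩ := exists_setting hG h8
    have M : Minimal G t a :=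
      ⟨S, hs, hG, fun X _ _ _ hlt hX hX8 => ih _ (hn ▸ hlt) X rfl hX hX8⟩
    refine M.finish (fun hO => (key G t a M hO).1) ?_
    by_cases hO : oddPart t = ⊥
    · intro y hy hty _
      rw [← Subgroup.mem_bot, ← hO, S.mem_oddPart]
      exact ⟨hy, hty⟩
    · exact (key G t a M hO).2

/-- The classification of simple groups with a Klein four Sylow 2-subgroup, from the two facts. -/
theorem simpleKlein_of
    (key : ∀ (G : Type u) [Group G] [Finite G] (t a : G), Minimal G t a → oddPart t ≠ ⊥ →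
      IsCoatom (centralizer ({t} : Set G)) ∧ SelfCent t a) :
    SimpleKlein.{u} := fun G _ _ _ hG h8 => (good_of key G hG h8).1

end CfsgLib.GWKlein
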