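import Cfsg.Agent.Lib.GWKlein.ModuleBasic

/-!
# Klein four Sylow subgroup: the odd part does not fix the inverted line

If the odd part fixes the line of `y`, it centralises it, `c ↦ c x c⁻¹ x⁻¹` is a homomorphism into
the line with kernel `C(x)`, and `x` has at most `r` conjugates.
-/

set_option autoImplicit false
set_option linter.unusedSectionVars false
set_option linter.style.haveILetI false

universe u

namespace CfsgLib.GWKlein

open Subgroup

variable {G : Type u} [Group G] [Finite G] {t a : G} {r : ℕ} {Y H T : Subgroup G} {x y : G}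

namespace Line

variable (L : Line t a r Y H T x y)
include L

theorem commute_line (hgen : oddPart t ≤ closure {z | z ∈ oddPart t ∧ a * z * a⁻¹ = z⁻¹})
    (hinv : ∀ c ∈ oddPart t, c * y * c⁻¹ ∈ zpowers y) :
    ∀ c ∈ oddPart t, ∀ z ∈ zpowers y, Commute c z := by
  intro c hc z hz
  obtain ⟨i, rfl⟩ := mem_zpowers_iff.1 hz
  refine Commute.zpow_right (commute_of_gen hgen (fun c hc hac => ?_) hc) i
  refine commute_of_mul_self (L.odd_order hc) ?_
  have h1 := (L.of_mem_zpowers (hinv c hc)).2.2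
  have h2 : c⁻¹ * y⁻¹ * c = (c * y * c⁻¹)⁻¹ := by
    rw [← h1]
    calc c⁻¹ * y⁻¹ * c = (a * c * a⁻¹) * (a * y * a⁻¹) * (a * c * a⁻¹)⁻¹ := by
          rw [hac, L.y_inv, inv_inv]
      _ = _ := by group
  have h3 : c⁻¹ * y * c = c * y * c⁻¹ := by
    calc c⁻¹ * y * c = (c⁻¹ * y⁻¹ * c)⁻¹ := by group
      _ = _ := by rw [h2, inv_inv]
  refine mul_inv_eq_iff_eq_mul.1 ?_
  calc c * c * y * (c * c)⁻¹ = c * (c * y * c⁻¹) * c⁻¹ := by group
    _ = y := by rw [← h3]; group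

theorem comm_mem_line (hgen : oddPart t ≤ closure {z | z ∈ oddPart t ∧ a * z * a⁻¹ = z⁻¹})
    (hzc : ∀ c ∈ oddPart t, ∀ z ∈ zpowers y, Commute c z) :
    ∀ c ∈ oddPart t, c * x * c⁻¹ * x⁻¹ ∈ zpowers y := by
  let St : Subgroup G :=
    { carrier := {c | c ∈ oddPart t ∧ c * x * c⁻¹ * x⁻¹ ∈ zpowers y}
      one_mem' := ⟨one_mem _, by rw [show (1 : G) * x * 1⁻¹ * x⁻¹ = 1 by group]; exact one_mem _⟩
      mul_mem' := fun {c d} hc hd => ⟨(oddPart t).mul_mem hc.1 hd.1, by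
        have e : c * d * x * (c * d)⁻¹ * x⁻¹ =
            (d * x * d⁻¹ * x⁻¹) * (c * x * c⁻¹ * x⁻¹) := by
          calc c * d * x * (c * d)⁻¹ * x⁻¹
              = c * (d * x * d⁻¹ * x⁻¹) * (x * c⁻¹ * x⁻¹) := by group
            _ = (d * x * d⁻¹ * x⁻¹) * c * (x * c⁻¹ * x⁻¹) := by rw [(hzc c hc.1 _ hd.2).eq]
            _ = _ := by group
        rw [e]; exact (zpowers y).mul_mem hd.2 hc.2⟩
      inv_mem' := fun {c} hc => ⟨(oddPart t).inv_mem hc.1, by
        have e : c⁻¹ * x * c⁻¹⁻¹ * x⁻¹ = (c * x * c⁻¹ * x⁻¹)⁻¹ := by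
          calc c⁻¹ * x * c⁻¹⁻¹ * x⁻¹
              = c⁻¹ * (c * x * c⁻¹ * x⁻¹)⁻¹ * c := by group
            _ = _ := by rw [((hzc c hc.1 _ hc.2).inv_right.inv_left).eq, inv_mul_cancel_right]
        rw [e]; exact (zpowers y).inv_mem hc.2⟩ }
  have hle : closure {z | z ∈ oddPart t ∧ a * z * a⁻¹ = z⁻¹} ≤ St := by
    refine (closure_le _).2 ?_
    rintro c ⟨hc, hac⟩
    have hsq : c * c ∈ St := by
      obtain ⟨p, hp, q, hq, hap, haq, he⟩ := L.dec _ (L.conj_mem c hc x L.x_mem)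
      have hqy := L.line q hq haq
      have h1 : c⁻¹ * x * c = p * q⁻¹ := by
        calc c⁻¹ * x * c = (a * c * a⁻¹) * (a * x * a⁻¹) * (a * c * a⁻¹)⁻¹ := by
              rw [hac, L.x_fix, inv_inv]
          _ = a * (c * x * c⁻¹) * a⁻¹ := by group
          _ = (a * p * a⁻¹) * (a * q * a⁻¹) := by rw [he]; group
          _ = p * q⁻¹ := by rw [hap, haq]
      have h2 : c * p * c⁻¹ = x * q := by
        calc c * p * c⁻¹ = c * (p * q⁻¹) * c⁻¹ * (c * q * c⁻¹) := by group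
          _ = c * (c⁻¹ * x * c) * c⁻¹ * q := by rw [h1, (hzc c hc q hqy).eq, mul_inv_cancel_right]
          _ = x * q := by group
      refine ⟨(oddPart t).mul_mem hc hc, ?_⟩
      have e : c * c * x * (c * c)⁻¹ = x * (q * q) := by
        calc c * c * x * (c * c)⁻¹ = c * (c * x * c⁻¹) * c⁻¹ := by group
          _ = (c * p * c⁻¹) * (c * q * c⁻¹) := by rw [he]; group
          _ = x * (q * q) := by rw [h2, (hzc c hc q hqy).eq, mul_inv_cancel_right, mul_assoc]
      rw [e, (L.commute x L.x_mem (q * q) (Y.mul_mem hq hq)).eq, mul_inv_cancel_right]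
      exact (zpowers y).mul_mem hqy hqy
    obtain ⟨k, hk⟩ := L.odd_order hc
    have h3 : c = (c * c) ^ (k + 1) := by
      rw [← pow_two, ← pow_mul, show 2 * (k + 1) = (2 * k + 1) + 1 by ring, pow_succ, ← hk,
        pow_orderOf_eq_one, one_mul]
    show c ∈ St
    rw [h3]
    exact St.pow_mem hsq _
  exact fun c hc => (hle (hgen hc)).2

/-- The odd part moves the inverted line. -/
theorem false_of_fixed_line (M : Minimal G t a)
    (hord : Nat.card G * Nat.card ↥(oddPart t ⊓ centralizer {a}) ^ 2 ≤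
      60 * Nat.card ↥(oddPart t) ^ 3)
    (hgen : oddPart t ≤ closure {z | z ∈ oddPart t ∧ a * z * a⁻¹ = z⁻¹})
    (hH : H ≠ ⊤) (hV : four t a ≤ H)
    (hinv : ∀ c ∈ oddPart t, c * y * c⁻¹ ∈ zpowers y) : False := by
  haveI := Fact.mk L.prime
  have hzc := L.commute_line hgen hinv
  have hSt := L.comm_mem_line hgen hzc
  have hne := not_oddPart_le hgen L.rot (L.le_oddPart L.x_mem) L.x_fix L.x_ne
  let f : oddPart t →* zpowers y := MonoidHom.mk'
    (fun c => ⟨(c : G) * x * (c : G)⁻¹ * x⁻¹, hSt c c.2⟩) fun c d => Subtype.ext (by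
      show (c : G) * d * x * ((c : G) * d)⁻¹ * x⁻¹ =
        (c : G) * x * (c : G)⁻¹ * x⁻¹ * ((d : G) * x * (d : G)⁻¹ * x⁻¹)
      calc (c : G) * d * x * ((c : G) * d)⁻¹ * x⁻¹
          = (c : G) * ((d : G) * x * (d : G)⁻¹ * x⁻¹) * (x * (c : G)⁻¹ * x⁻¹) := by group
        _ = ((d : G) * x * (d : G)⁻¹ * x⁻¹) * c * (x * (c : G)⁻¹ * x⁻¹) := by
            rw [(hzc c c.2 _ (hSt d d.2)).eq]
        _ = ((d : G) * x * (d : G)⁻¹ * x⁻¹) * ((c : G) * x * (c : G)⁻¹ * x⁻¹) := by group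
        _ = _ := (L.commute _ (L.of_mem_zpowers (hSt d d.2)).1 _
            (L.of_mem_zpowers (hSt c c.2)).1).eq)
  have hfker : ∀ c : oddPart t, f c = 1 ↔ Commute (c : G) x := fun c => by
    rw [← Subtype.coe_inj]
    show (c : G) * x * (c : G)⁻¹ * x⁻¹ = 1 ↔ _
    rw [mul_inv_eq_one, mul_inv_eq_iff_eq_mul]
    rfl
  have hDx : ∀ d ∈ oddPart t, Commute a d → Commute d x := by
    intro d hd had
    have hz := L.of_mem_zpowers (hSt d hd)
    refine (hfker ⟨d, hd⟩).1 (Subtype.ext (eq_one_of_fix_inv (L.odd_order (L.le_oddPart hz.1))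
      ?_ hz.2.2))
    calc a * (d * x * d⁻¹ * x⁻¹) * a⁻¹
        = (a * d * a⁻¹) * (a * x * a⁻¹) * (a * d * a⁻¹)⁻¹ * (a * x * a⁻¹)⁻¹ := by group
      _ = _ := by rw [had.eq, mul_inv_cancel_right, L.x_fix]; rfl
  have hker : ∀ c ∈ oddPart t, c ∈ H → Commute c x := by
    intro c hc hcH
    refine (hfker ⟨c, hc⟩).1 ?_
    by_contra h1
    refine hne fun d hd => ?_
    obtain ⟨i, hi⟩ : ∃ i : ℤ, f ⟨c, hc⟩ ^ i = f ⟨d, hd⟩ := by
      refine mem_zpowers_iff.1 ?_
      have hcard : Nat.card (zpowers y) = r := by rw [Nat.card_zpowers, L.order_y]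
      rw [zpowers_eq_top_of_prime_card hcard h1]
      exact mem_top _
    have h2 : f (⟨d, hd⟩ * (⟨c, hc⟩ ^ i)⁻¹) = 1 := by
      rw [map_mul, map_inv, map_zpow, hi, mul_inv_cancel]
    have h3 := L.cent_le _ ((hfker _).1 h2)
    push_cast at h3
    exact (H.mul_mem_cancel_right (H.inv_mem (H.zpow_mem hcH i))).1 h3
  refine L.false_of_index M hord hgen hH hV hker hDx
    (fun c hc hcH => ⟨c * x * c⁻¹ * x⁻¹, (L.of_mem_zpowers (hSt c hc)).2.1, fun h => hcH
      (L.cent_le c (mul_inv_eq_iff_eq_mul.1 (mul_inv_eq_one.1 h))), ?_⟩) ?_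
  · exact Subgroup.mul_mem _ (subset_closure (Or.inr rfl))
      (Subgroup.inv_mem _ (subset_closure (Or.inl rfl)))
  · rw [← L.order_y, ← Nat.card_zpowers y, relIndex, Subgroup.index]
    refine Nat.card_le_card_of_injective (fun q => f q.out) fun p q e => ?_
    rw [← QuotientGroup.out_eq' p, ← QuotientGroup.out_eq' q, QuotientGroup.eq]
    refine mem_subgroupOf.2 ⟨((p.out)⁻¹ * q.out).2, L.cent_le _ ((hfker _).1 ?_)⟩
    rw [map_mul, map_inv]
    exact inv_mul_eq_one.2 e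

end Line

end CfsgLib.GWKlein
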