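import Cfsg.Agent.Lib.GWKlein.Statement
import Cfsg.Agent.Lib.GWKlein.Reduction

/-!
# Proper subgroups rotating the four-group, modulo their cores

`Reduced X t a`: `X` has trivial core, a rotation of the four-group, and the simple groups among its
subgroups are `Good`.  The normal closure `socle t a` of the four-group is then either the four-group
or a simple group with a rotation.
-/

set_option autoImplicit false
set_option linter.unusedSectionVars false
set_option linter.style.haveILetI false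

universe u

namespace CfsgLib.GWKlein

open Subgroup

variable {X : Type u} [Group X]

/-- A group with trivial core and a rotation, all whose simple subgroups are classified. -/
structure Reduced (X : Type u) [Group X] (t a : X) : Prop where
  setting : Setting X t a
  core_bot : Cfsg.pPrimeCore 2 X = ⊥
  exists_rot : ∃ g, Rot t a g
  good : ∀ Y : Subgroup X, IsSimpleGroup ↥Y → ¬ IsMulCommutative ↥Y →
    ∀ s c : ↥Y, Setting ↥Y s c → Good ↥Y s c

/-- The normal closure of the four-group. -/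
def socle (t a : X) : Subgroup X := closureIn t a ⊤

namespace Setting

variable {t a : X} (S : Setting X t a)
include S

theorem rot_shift {g : X} (h : Rot t a g) : Rot a (t * a) g := by
  refine ⟨h.2, ?_⟩
  rw [show g * (t * a) * g⁻¹ = g * t * g⁻¹ * (g * a * g⁻¹) by group, h.1, h.2]

theorem rot_map {g : X} (h : Rot t a g) : ∀ v ∈ four t a, g * v * g⁻¹ ∈ four t a := by
  intro v hv
  rcases S.mem_four_iff.1 hv with rfl | rfl | rfl | rfl
  · simp
  · rw [h.1]; exact S.a_mem
  · rw [h.2]; exact S.ta_mem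
  · rw [show g * (t * a) * g⁻¹ = g * t * g⁻¹ * (g * a * g⁻¹) by group, h.1, h.2]
    exact mul_mem S.a_mem S.ta_mem

theorem rot_conj_ta {g : X} (h : Rot t a g) : g * (t * a) * g⁻¹ = t := by
  rw [show g * (t * a) * g⁻¹ = g * t * g⁻¹ * (g * a * g⁻¹) by group, h.1, h.2, S.comm.eq, ← mul_assoc,
    S.a_mul_self, one_mul]

theorem socle_shift : socle a (t * a) = socle t a := by
  unfold socle closureIn; rw [S.four_shift]

theorem socle_normal : (socle t a).Normal := by
  refine ⟨fun x hx y => ?_⟩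
  induction hx using Subgroup.closure_induction with
  | mem z hz =>
    obtain ⟨h, -, v, hv, rfl⟩ := hz
    exact subset_closure ⟨y * h, mem_top _, v, hv, by group⟩
  | one => simp
  | mul z w _ _ hz hw =>
    rw [show y * (z * w) * y⁻¹ = y * z * y⁻¹ * (y * w * y⁻¹) by group]
    exact mul_mem hz hw
  | inv z _ hz =>
    rw [show y * z⁻¹ * y⁻¹ = (y * z * y⁻¹)⁻¹ by group]
    exact inv_mem hz

theorem four_le_socle : four t a ≤ socle t a := fun v hv =>
  subset_closure ⟨1, mem_top _, v, hv, by group⟩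

end Setting

/-- An element of odd order inverted by an involution of a normal subgroup lies in it. -/
theorem mem_of_inverted [Finite X] {N : Subgroup X} (hN : N.Normal) {v y : X} (hv : v ∈ N)
    (hy : Odd (orderOf y)) (hi : v * y * v⁻¹ = y⁻¹) : y ∈ N := by
  haveI := hN
  have h1 : (y : X ⧸ N) = (y⁻¹ : X) := by
    rw [← hi, QuotientGroup.mk_mul, QuotientGroup.mk_mul, (QuotientGroup.eq_one_iff v).2 hv,
      (QuotientGroup.eq_one_iff v⁻¹).2 (inv_mem hv), one_mul, mul_one]
  have h2 : ((y ^ 2 : X) : X ⧸ N) = 1 := by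
    rw [QuotientGroup.mk_pow, pow_two]
    nth_rewrite 2 [h1]
    rw [QuotientGroup.mk_inv, mul_inv_cancel]
  obtain ⟨j, hj⟩ := hy
  have h3 : y = (y ^ 2) ^ (j + 1) := by
    rw [← pow_mul, show 2 * (j + 1) = 2 * j + 1 + 1 by omega, pow_succ, ← hj, pow_orderOf_eq_one, one_mul]
  rw [h3]
  exact pow_mem ((QuotientGroup.eq_one_iff _).1 h2) _

namespace Reduced

variable {t a : X} (R : Reduced X t a)
include R

theorem shift : Reduced X a (t * a) :=
  ⟨R.setting.shift, R.core_bot, R.exists_rot.imp fun _ h => R.setting.rot_shift h, R.good⟩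

variable [Finite X]

theorem eq_bot_of_odd {N : Subgroup X} (hN : N.Normal) (hodd : Odd (Nat.card N)) : N = ⊥ :=
  le_bot_iff.1 (R.core_bot ▸ CfsgLib.Solvable.Cores.le_pPrimeCore (hn := hN) (Nat.coprime_two_right.2 hodd))

theorem core_socle : core (socle t a) = ⊥ :=
  haveI := R.setting.socle_normal
  R.eq_bot_of_odd (normalizer_eq_top_iff.1 (top_le_iff.1
    ((normalizer_eq_top_iff.2 inferInstance).ge.trans (le_normalizer_core _)))) (odd_card_core _)

/-- A normal subgroup of `M` of even order contains the four-group, if `M` contains a rotation. -/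
theorem four_le_of_even {M N : Subgroup X} (hVM : four t a ≤ M) {g : X} (hgM : g ∈ M) (hg : Rot t a g)
    (hNM : N ≤ M) (hn : ∀ x ∈ M, ∀ y ∈ N, x * y * x⁻¹ ∈ N) (h2 : 2 ∣ Nat.card N) : four t a ≤ N := by
  haveI : Fact (Nat.Prime 2) := ⟨Nat.prime_two⟩
  have S := R.setting
  obtain ⟨u, hu⟩ := exists_prime_orderOf_dvd_card' 2 h2
  obtain ⟨P, hP⟩ := S.exists_sylow
  let PM : Sylow 2 M := P.subtype (hP ▸ hVM)
  have hu2 : IsPGroup 2 (zpowers (⟨u, hNM u.2⟩ : M)) := IsPGroup.of_card (n := 1) (by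
    rw [Nat.card_zpowers, Subgroup.orderOf_mk, Subgroup.orderOf_coe, hu, pow_one])
  obtain ⟨Q, hQ⟩ := hu2.exists_le_sylow
  obtain ⟨x, hx⟩ := MulAction.exists_smul_eq M Q PM
  have hv : (x : X) * (u : X) * (x : X)⁻¹ ∈ four t a := by
    have h1 : x * (⟨u, hNM u.2⟩ : M) * x⁻¹ ∈ (PM : Subgroup M) := by
      rw [← hx, Sylow.coe_subgroup_smul]
      exact ⟨_, hQ (mem_zpowers _), rfl⟩
    rw [← hP]; exact h1
  have hvN := hn _ x.2 _ u.2
  have hv1 : (x : X) * (u : X) * (x : X)⁻¹ ≠ 1 := fun e => by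
    rw [conj_eq_one_iff] at e
    rw [← Subgroup.orderOf_coe, e, orderOf_one] at hu
    exact absurd hu (by decide)
  have htN : t ∈ N := by
    rcases S.mem_four_iff.1 hv with e | e | e | e
    · exact absurd e hv1
    · rwa [e] at hvN
    · rw [e] at hvN
      have := hn g hgM _ (hn g hgM _ hvN)
      rwa [hg.2, S.rot_conj_ta hg] at this
    · rw [e] at hvN
      have := hn g hgM _ hvN
      rwa [S.rot_conj_ta hg] at this
  refine (closure_le _).2 ?_
  rintro y (rfl | rfl)
  exacts [htN, hg.1 ▸ hn g hgM t htN]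

/-- Every nontrivial normal subgroup contains the socle. -/
theorem socle_le {N : Subgroup X} (hN : N.Normal) (h : N ≠ ⊥) : socle t a ≤ N := by
  have h2 : 2 ∣ Nat.card N := by
    by_contra h2
    exact h (R.eq_bot_of_odd hN (Nat.not_even_iff_odd.1 fun e => h2 e.two_dvd))
  obtain ⟨g, hg⟩ := R.exists_rot
  have hV := R.four_le_of_even (M := ⊤) le_top (mem_top g) hg le_top (fun x _ y hy => hN.conj_mem y hy x) h2
  refine (closure_le _).2 ?_
  rintro _ ⟨h, -, v, hv, rfl⟩
  exact hN.conj_mem v (hV hv) h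

/-- The socle is simple as soon as it contains a rotation. -/
theorem isSimpleGroup_socle {g : X} (hgK : g ∈ socle t a) (hg : Rot t a g) :
    IsSimpleGroup ↥(socle t a) ∧ ¬ IsMulCommutative ↥(socle t a) := by
  have S := R.setting
  set K := socle t a with hK
  have hVK : four t a ≤ K := S.four_le_socle
  haveI : Fact (Nat.Prime 2) := ⟨Nat.prime_two⟩
  haveI : K.Normal := S.socle_normal
  refine ⟨?_, fun hc => ?_⟩
  · haveI : Nontrivial ↥K := ⟨⟨⟨t, hVK S.t_mem⟩, 1, fun e => S.t_ne_one (congrArg Subtype.val e)⟩⟩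
    refine ⟨fun N' hN' => or_iff_not_imp_left.2 fun hne => ?_⟩
    set N := N'.map K.subtype with hNdef
    have hNK : N ≤ K := map_subtype_le _
    have hn : ∀ x ∈ K, ∀ y ∈ N, x * y * x⁻¹ ∈ N := by
      rintro x hx _ ⟨y, hy, rfl⟩
      exact ⟨_, hN'.conj_mem y hy ⟨x, hx⟩, rfl⟩
    have h2 : 2 ∣ Nat.card N := by
      by_contra h2
      refine hne ((map_eq_bot_iff_of_injective _ K.subtype_injective).1 (le_bot_iff.1 ?_))
      rw [← hNdef, ← R.core_socle, ← hK]
      exact le_core hNK (Nat.not_even_iff_odd.1 fun e => h2 e.two_dvd) fun x hx =>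
        mem_normalizer_iff_map_conj_eq.2 (eq_of_le_of_card_ge
          (by rintro _ ⟨y, hy, rfl⟩; exact hn x hx y hy) (card_map_of_injective (MulAut.conj x).injective).ge)
    have hVN : four t a ≤ N := R.four_le_of_even hVK hgK hg hNK hn h2
    obtain ⟨P, hP⟩ := S.exists_sylow
    have hPK : (P : Subgroup X) ≤ K := hP ▸ hVK
    have htop := Sylow.normalizer_sup_eq_top (P.subtype hPK)
    rw [show ((P.subtype hPK : Subgroup K).map K.subtype) = four t a by
      rw [Sylow.coe_subtype, subgroupOf_map_subtype, inf_eq_left.2 hPK, hP]] at htop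
    have hKN : K ≤ N := by
      rw [hK, socle, closureIn, closure_le]
      rintro _ ⟨h, -, v, hv, rfl⟩
      have hh : h ∈ K ⊔ normalizer (four t a : Set X) := by
        rw [sup_comm, htop]; exact mem_top _
      rw [← SetLike.mem_coe, normal_mul] at hh
      obtain ⟨k, hk, n, hn', rfl⟩ := hh
      rw [show k * n * v * (k * n)⁻¹ = k * (n * v * n⁻¹) * k⁻¹ by group]
      exact hn k hk _ (hVN ((mem_normalizer_iff.1 hn' v).1 hv))
    refine eq_top_iff.2 fun x _ => ?_
    obtain ⟨y, hy, hyx⟩ := hKN x.2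
    exact K.subtype_injective hyx ▸ hy
  · have := mul_comm' (⟨g, hgK⟩ : K) ⟨t, hVK S.t_mem⟩
    exact S.ne ((show g * t * g⁻¹ = t by
      rw [show g * t = t * g from congrArg Subtype.val this, mul_inv_cancel_right]).symm.trans hg.1)

/-- The socle is the four-group or has a rotation. -/
theorem socle_cases : socle t a = four t a ∨ ∃ g ∈ socle t a, Rot t a g := by
  refine (R.setting.type_or_rot R.setting.four_le_socle).imp_left fun h => ?_
  refine le_antisymm (fun x hx => ?_) R.setting.four_le_socle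
  obtain ⟨k, hk, v, hv, rfl⟩ := h.1 x hx
  rw [R.core_socle, mem_bot] at hk
  rwa [hk, one_mul]

/-- The socle is the four-group or is a good simple group. -/
theorem good_socle : socle t a = four t a ∨ ((∃ g ∈ socle t a, Rot t a g) ∧
    Good ↥(socle t a) ⟨t, R.setting.four_le_socle R.setting.t_mem⟩
      ⟨a, R.setting.four_le_socle R.setting.a_mem⟩) := by
  refine R.socle_cases.imp_right fun ⟨g, hgK, hg⟩ => ⟨⟨g, hgK, hg⟩, ?_⟩
  obtain ⟨h1, h2⟩ := R.isSimpleGroup_socle hgK hg
  exact R.good _ h1 h2 _ _ (R.setting.restrict _ _)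

theorem eq_one_of_four {y : X} (hyV : y ∈ four t a) (hy : Odd (orderOf y)) : y = 1 := by
  have h : orderOf y ∣ 2 := orderOf_dvd_of_pow_eq_one (by rw [pow_two]; exact R.setting.four_sq hyV)
  exact orderOf_eq_one_iff.1 (Nat.eq_one_of_dvd_coprimes (Nat.coprime_two_left.2 hy) h dvd_rfl)

/-- The four-group is self-centralising in the socle. -/
theorem selfCent_socle {y : X} (hyK : y ∈ socle t a) (hy : Odd (orderOf y)) (hty : Commute t y)
    (hay : Commute a y) : y = 1 := by
  rcases R.good_socle with e | ⟨-, hG⟩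
  · exact R.eq_one_of_four (e ▸ hyK) hy
  · exact congrArg Subtype.val (hG.selfCent ⟨y, hyK⟩ (by simpa using hy)
      (Subtype.ext hty.eq) (Subtype.ext hay.eq))

theorem mem_oddPart_socle {y : X} (hyK : y ∈ socle t a) (hy : Odd (orderOf y)) (hty : Commute t y) :
    (⟨y, hyK⟩ : socle t a) ∈ oddPart (⟨t, R.setting.four_le_socle R.setting.t_mem⟩ : socle t a) :=
  (R.setting.restrict _ (R.setting.four_le_socle R.setting.a_mem)).mem_oddPart.2
    ⟨by simpa using hy, Subtype.ext hty.eq⟩

/-- `oddPart t ⊓ socle` is cyclic. -/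
theorem isCyclic_part : IsCyclic ↥(oddPart t ⊓ socle t a) := by
  have S := R.setting
  rcases R.good_socle with e | ⟨-, hG⟩
  · have : oddPart t ⊓ socle t a = ⊥ := (eq_bot_iff_forall _).2 fun y hy =>
      R.eq_one_of_four (e ▸ hy.2) (S.mem_oddPart.1 hy.1).1
    rw [this]; exact Bot.isCyclic
  · haveI := hG.cyclic
    exact isCyclic_of_injective
      ({ toFun := fun y => ⟨⟨y, y.2.2⟩, R.mem_oddPart_socle y.2.2 (S.mem_oddPart.1 y.2.1).1 (S.mem_oddPart.1 y.2.1).2⟩
         map_one' := rfl
         map_mul' := fun _ _ => rfl } : ↥(oddPart t ⊓ socle t a) →*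
          ↥(oddPart (⟨t, S.four_le_socle S.t_mem⟩ : socle t a)))
      fun y z e => Subtype.ext (congrArg (fun w : ↥(oddPart _) => ((w : socle t a) : X)) e)

/-- Inside the socle the normaliser of a nontrivial subgroup of `oddPart t` centralises `t`. -/
theorem commute_of_normalizing {y z : X} (hyK : y ∈ socle t a) (hy : Odd (orderOf y)) (hty : Commute t y)
    (hy1 : y ≠ 1) (hzK : z ∈ socle t a) (hzy : Commute z y) : Commute t z := by
  rcases R.good_socle with e | ⟨-, hG⟩
  · exact absurd (R.eq_one_of_four (e ▸ hyK) hy) hy1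
  · have h := hG.norm_le (zpowers ⟨y, hyK⟩) (zpowers_le.2 (R.mem_oddPart_socle hyK hy hty))
      (fun e => hy1 (congrArg Subtype.val (zpowers_eq_bot.1 e)))
      (centralizer_le_normalizer _ (show (⟨z, hzK⟩ : socle t a) ∈ centralizer (zpowers (⟨y, hyK⟩ : socle t a) : Set _) from
        mem_centralizer_iff.2 fun w hw => by
          obtain ⟨i, rfl⟩ := mem_zpowers_iff.1 hw
          exact Commute.zpow_left (Subtype.ext hzy.symm.eq) i))
    exact (congrArg Subtype.val (mem_centralizer_singleton_iff.1 h)).symm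

/-- An element of odd order centralising the four-group and a nontrivial `oddPart t ⊓ socle` is
trivial. -/
theorem eq_one_of_centralizes (hne : oddPart t ⊓ socle t a ≠ ⊥) {d : X} (hd : Odd (orderOf d))
    (htd : Commute t d) (had : Commute a d) (hY : ∀ y ∈ oddPart t ⊓ socle t a, Commute d y) : d = 1 := by
  have S := R.setting
  haveI := S.socle_normal
  rcases R.good_socle with e | ⟨⟨k, hkK, hk⟩, hG⟩
  · refine absurd ((eq_bot_iff_forall (oddPart t ⊓ socle t a)).2 fun y hy => ?_) hne
    exact R.eq_one_of_four (e ▸ hy.2) (S.mem_oddPart.1 hy.1).1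
  have hVK := S.four_le_socle
  -- `d` fixes the coset `k V` pointwise
  have hdk : Commute d k := by
    have hdV : ∀ v ∈ four t a, Commute d v := fun v hv => by
      rcases S.mem_four_iff.1 hv with rfl | rfl | rfl | rfl
      exacts [Commute.one_right d, htd.symm, had.symm, htd.symm.mul_right had.symm]
    set v := k⁻¹ * (d * k * d⁻¹) with hv
    have hvK : v ∈ socle t a := mul_mem (inv_mem hkK) (Subgroup.Normal.conj_mem inferInstance k hkK d)
    have hconj : ∀ w ∈ four t a, Commute v w := fun w hw => by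
      have h1 : d * k * d⁻¹ * w * (d * k * d⁻¹)⁻¹ = k * w * k⁻¹ := by
        rw [show d * k * d⁻¹ * w * (d * k * d⁻¹)⁻¹ = d * (k * (d⁻¹ * w * d) * k⁻¹) * d⁻¹ by group,
          show d⁻¹ * w * d = w by rw [mul_assoc, ← (hdV w hw).eq, inv_mul_cancel_left],
          (hdV _ (S.rot_map hk w hw)).eq, mul_inv_cancel_right]
      refine mul_inv_eq_iff_eq_mul.1 ?_
      rw [hv, show k⁻¹ * (d * k * d⁻¹) * w * (k⁻¹ * (d * k * d⁻¹))⁻¹ =
        k⁻¹ * (d * k * d⁻¹ * w * (d * k * d⁻¹)⁻¹) * k by group, h1]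
      group
    have hvV : v ∈ four t a := by
      have h := (S.restrict (hVK S.t_mem) (hVK S.a_mem)).centralizer_four_le hG.selfCent
        (c := ⟨v, hvK⟩) (Subtype.ext (hconj t S.t_mem).symm.eq) (Subtype.ext (hconj a S.a_mem).symm.eq)
      rcases (S.restrict (hVK S.t_mem) (hVK S.a_mem)).mem_four_iff.1 h with e | e | e | e <;>
        rw [show v = _ from congrArg Subtype.val e]
      exacts [one_mem _, S.t_mem, S.a_mem, S.ta_mem]
    have hit : ∀ i : ℕ, d ^ i * k * (d ^ i)⁻¹ = k * v ^ i := by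
      intro i
      induction i with
      | zero => simp
      | succ i ih =>
        rw [pow_succ', show d * d ^ i * k * (d * d ^ i)⁻¹ = d * (d ^ i * k * (d ^ i)⁻¹) * d⁻¹ by group, ih,
          show d * (k * v ^ i) * d⁻¹ = (d * k * d⁻¹) * (d * v ^ i * d⁻¹) by group,
          ((hdV v hvV).pow_right i).eq, mul_inv_cancel_right, pow_succ', ← mul_assoc]
        congr 1
        rw [hv]; group
    have h1 := hit (orderOf d)
    rw [pow_orderOf_eq_one, one_mul, inv_one, mul_one, left_eq_mul] at h1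
    have hv1 : v = 1 := by
      have h2 : orderOf v ∣ Nat.gcd (orderOf d) 2 := Nat.dvd_gcd (orderOf_dvd_of_pow_eq_one h1)
        (orderOf_dvd_of_pow_eq_one (by rw [pow_two]; exact S.four_sq hvV))
      rw [show Nat.gcd (orderOf d) 2 = 1 from Nat.coprime_two_right.2 hd, Nat.dvd_one, orderOf_eq_one_iff] at h2
      exact h2
    rw [hv, inv_mul_eq_one] at hv1
    exact (mul_inv_eq_iff_eq_mul.1 hv1.symm)
  -- so it centralises the socle
  set K := socle t a with hK
  have htop : (centralizer ({d} : Set X)).subgroupOf K = ⊤ := by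
    refine (hG.coatom ?_).2 _ (lt_of_le_of_ne (fun y hy => ?_) fun e => ?_)
    · intro e
      refine hne ((eq_bot_iff_forall _).2 fun y hy => ?_)
      have := R.mem_oddPart_socle hy.2 (S.mem_oddPart.1 hy.1).1 (S.mem_oddPart.1 hy.1).2
      rw [e, mem_bot] at this
      exact congrArg Subtype.val this
    · have SK := S.restrict (hVK S.t_mem) (hVK S.a_mem)
      rcases SK.type_or_rot (SK.four_le_centralizer SK.t_mem) with h | ⟨g, hg, hgt, -⟩
      · obtain ⟨z, hz, w, hw, rfl⟩ := h.1 y hy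
        refine mul_mem ?_ ?_
        · obtain ⟨hz1, hz2⟩ := SK.mem_oddPart.1 hz
          exact mem_centralizer_singleton_iff.2 (hY z
            ⟨S.mem_oddPart.2 ⟨by simpa using hz1, congrArg Subtype.val hz2⟩, z.2⟩).symm.eq
        · refine mem_centralizer_singleton_iff.2 ?_
          rcases SK.mem_four_iff.1 hw with rfl | rfl | rfl | rfl
          exacts [(Commute.one_left d).eq, htd.eq, had.eq, (htd.mul_left had).eq]
      · rw [show g * _ * g⁻¹ = _ by rw [mem_centralizer_singleton_iff.1 hg, mul_inv_cancel_right]] at hgt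
        exact absurd hgt SK.ne
    · have : (⟨k, hkK⟩ : K) ∈ (centralizer ({d} : Set X)).subgroupOf K :=
        mem_subgroupOf.2 (mem_centralizer_singleton_iff.2 hdk.symm.eq)
      rw [← e] at this
      have h2 := congrArg Subtype.val (mem_centralizer_singleton_iff.1 this)
      exact S.ne ((show k * t * k⁻¹ = t by
        rw [show k * t = t * k from h2, mul_inv_cancel_right]).symm.trans hk.1)
  have hdC : d ∈ centralizer (K : Set X) := mem_centralizer_iff.2 fun y hy => by
    have : (⟨y, hy⟩ : K) ∈ (centralizer ({d} : Set X)).subgroupOf K := htop ▸ mem_top _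
    exact mem_centralizer_singleton_iff.1 (mem_subgroupOf.1 this)
  by_contra hd1
  have hC : centralizer (K : Set X) ≠ ⊥ := fun e => hd1 (mem_bot.1 (e ▸ hdC))
  have hKC := R.socle_le inferInstance hC
  have := mem_centralizer_iff.1 (hKC hkK) t (hVK S.t_mem)
  exact S.ne ((show k * t * k⁻¹ = t by rw [← this, mul_inv_cancel_right]).symm.trans hk.1)

/-- Every invariant `p`-subgroup is centralised by an involution of the four-group. -/
theorem single_top : Single t a ⊤ := by
  intro p P hp hP _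
  have S := R.setting
  haveI := Fact.mk hp
  haveI := S.socle_normal
  set K := socle t a with hK
  have hVK := S.four_le_socle
  have hVP : ∀ v ∈ four t a, ∀ x ∈ P, v * x * v⁻¹ ∈ P := fun v hv x hx =>
    (mem_normalizer_iff.1 (hP.le_norm hv) x).1 hx
  have hcommK : ∀ v ∈ four t a, ∀ x ∈ P, x * v * x⁻¹ * v⁻¹ ∈ P ⊓ K := fun v hv x hx => by
    refine mem_inf.2 ⟨?_, mul_mem (Subgroup.Normal.conj_mem inferInstance v (hVK hv) x) (inv_mem (hVK hv))⟩
    rw [show x * v * x⁻¹ * v⁻¹ = x * (v * x⁻¹ * v⁻¹) by group]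
    exact mul_mem hx (hVP v hv _ (inv_mem hx))
  -- reduce to: some involution `v` centralises `P`
  suffices h : ∃ v ∈ four t a, v ≠ 1 ∧ ∀ x ∈ P, Commute v x by
    obtain ⟨v, hv, hv1, hc⟩ := h
    have key : ∀ w u : X, Setting X w u → v = w → P ≤ core ⊤ ⊔ oddPart w ⊓ ⊤ := fun w u hu e x hx =>
      mem_sup_right ⟨hu.mem_oddPart.2 ⟨odd_orderOf hP.odd hx, e ▸ hc x hx⟩, mem_top _⟩
    rcases S.mem_four_iff.1 hv with e | e | e | e
    · exact absurd e hv1
    · exact Or.inl (key t a S e)
    · exact Or.inr (Or.inl (key a t S.symm e))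
    · exact Or.inr (Or.inr (key (t * a) a S.shift.symm e))
  by_cases hQ : P ⊓ K = ⊥
  · exact ⟨t, S.t_mem, S.t_ne_one, fun x hx => by
      have := hcommK t S.t_mem x hx
      rw [hQ, mem_bot, mul_inv_eq_one] at this
      exact (mul_inv_eq_iff_eq_mul.1 this).symm⟩
  set Q := P ⊓ K with hQdef
  have hQp : IsPGroup p ↥Q := hP.pgroup.to_le inf_le_left
  haveI : Nontrivial ↥Q := (nontrivial_iff_ne_bot Q).2 hQ
  have hQodd : Odd (Nat.card Q) := hP.odd.of_dvd_nat (card_dvd_of_le inf_le_left)
  set Z := (center ↥Q).map Q.subtype with hZ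
  have hZne : Z ≠ ⊥ := fun e => by
    haveI := hQp.center_nontrivial
    exact (nontrivial_iff_ne_bot _).1 inferInstance ((map_eq_bot_iff_of_injective _ Q.subtype_injective).1 e)
  have hVQ : ∀ v ∈ four t a, ∀ x ∈ Q, v * x * v⁻¹ ∈ Q := fun v hv x hx =>
    ⟨hVP v hv x hx.1, Subgroup.Normal.conj_mem inferInstance x hx.2 v⟩
  have hVZ : four t a ≤ normalizer (Z : Set X) := by
    intro v hv
    refine mem_normalizer_iff_map_conj_eq.2 (eq_of_le_of_card_ge ?_
      (card_map_of_injective (MulAut.conj v).injective).ge)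
    rintro _ ⟨_, ⟨z, hz, rfl⟩, rfl⟩
    refine ⟨⟨v * z * v⁻¹, hVQ v hv z z.2⟩, mem_center_iff.2 fun w => Subtype.ext ?_, rfl⟩
    have hw := hVQ v⁻¹ (inv_mem hv) w w.2
    rw [inv_inv] at hw
    have := congrArg Subtype.val (mem_center_iff.1 hz ⟨_, hw⟩)
    show (w : X) * (v * z * v⁻¹) = v * z * v⁻¹ * w
    calc (w : X) * (v * z * v⁻¹) = v * (v⁻¹ * w * v * z) * v⁻¹ := by group
      _ = v * (z * (v⁻¹ * w * v)) * v⁻¹ := by rw [show v⁻¹ * (w : X) * v * z = z * (v⁻¹ * w * v) from this]
      _ = _ := by group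
  obtain ⟨v, hv, hv1, y, hy, hy1, hvy⟩ : ∃ v ∈ four t a, v ≠ 1 ∧ ∃ y ∈ Z, y ≠ 1 ∧ Commute v y := by
    by_contra hcon
    push Not at hcon
    refine hZne (le_bot_iff.1 (S.le_of_centralizers hVZ (hQodd.of_dvd_nat (card_dvd_of_le (map_subtype_le _)))
      fun v hv hv1 y hy hvy => mem_bot.2 ?_))
    by_contra hy1
    exact hcon v hv hv1 y hy hy1 hvy
  obtain ⟨z, hz, rfl⟩ := hy
  have hQv : ∀ x ∈ Q, Commute v x := by
    intro x hx
    have hxz : Commute x (z : X) := congrArg Subtype.val (mem_center_iff.1 hz ⟨x, hx⟩)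
    have hzo : Odd (orderOf (z : X)) := odd_orderOf hQodd z.2
    rcases S.mem_four_iff.1 hv with e | e | e | e
    · exact absurd e hv1
    · exact e ▸ R.commute_of_normalizing z.2.2 hzo (e ▸ hvy) hy1 hx.2 hxz
    · exact e ▸ R.shift.commute_of_normalizing (by rw [S.socle_shift]; exact z.2.2) hzo (e ▸ hvy) hy1
        (by rw [S.socle_shift]; exact hx.2) hxz
    · refine e ▸ R.shift.shift.commute_of_normalizing ?_ hzo (e ▸ hvy) hy1 ?_ hxz
      · rw [S.shift.socle_shift, S.socle_shift]; exact z.2.2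
      · rw [S.shift.socle_shift, S.socle_shift]; exact hx.2
  refine ⟨v, hv, hv1, fun x hx => ?_⟩
  set u := x * v * x⁻¹ * v⁻¹ with hu
  have huQ : u ∈ Q := hcommK v hv x hx
  have h1 : v * u * v⁻¹ = u⁻¹ := by
    have hvv := S.four_sq hv
    rw [hu, inv_eq_of_mul_eq_one_right hvv, show (x * v * x⁻¹ * v)⁻¹ = v⁻¹ * (x * v⁻¹ * x⁻¹) by group,
      inv_eq_of_mul_eq_one_right hvv, show v * (x * v * x⁻¹ * v) * v = v * (x * v * x⁻¹) * (v * v) by group, hvv, mul_one]
  rw [(hQv u huQ).eq, mul_inv_cancel_right] at h1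
  have h2 : orderOf u ∣ 2 := orderOf_dvd_of_pow_eq_one (by
    rw [pow_two]; nth_rewrite 2 [h1]; exact mul_inv_cancel u)
  have h3 : u = 1 := orderOf_eq_one_iff.1
    (Nat.eq_one_of_dvd_coprimes (Nat.coprime_two_left.2 (odd_orderOf hQodd huQ)) h2 dvd_rfl)
  rw [hu, mul_inv_eq_one] at h3
  exact (mul_inv_eq_iff_eq_mul.1 h3).symm

end Reduced

end CfsgLib.GWKlein
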