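import Cfsg.Agent.Lib.GWKlein.Basic
import Cfsg.Agent.Lib.BrauerSuzuki.Basic
import Cfsg.Agent.Lib.Char.Linear

/-!
# Klein four Sylow subgroup: the section of an involution

`O = oddPart t`.  The elements `t * y`, `y ∈ O`, form a trivial intersection set with normaliser
`C(t)`; on the subgroup `sec = O ∪ t O` a character `ν` of `O` gives the virtual character `psi ν`,
`2 ν(y)` at `t * y` and `0` on `O`, and `lift ν` is the induced virtual character of `G`.
`sect χ ν` is the multiplicity of `ν` in the function `y ↦ χ (t * y)` on `O`.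
-/

set_option autoImplicit false
set_option linter.unusedSectionVars false
set_option linter.style.haveILetI false

universe u

namespace CfsgLib.GWKlein

open Subgroup Cfsg
open scoped Classical ComplexConjugate

variable {G : Type u} [Group G] {t a : G}

/-- The multiplicity of a function `ν` on `oddPart t` in the `t`-section of a function on `G`. -/
noncomputable def sect [Fintype G] (t : G) (χ : G → ℂ) (ν : oddPart t → ℂ) : ℂ :=
  classInner (fun y : oddPart t => χ (t * y)) ν

namespace Setting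

variable (S : Setting G t a)
include S

section Elements

variable [Finite G]

theorem conj_mem_oddPart {c y : G} (hc : Commute c t) (hy : y ∈ oddPart t) :
    c * y * c⁻¹ ∈ oddPart t := by
  obtain ⟨ho, hty⟩ := S.mem_oddPart.1 hy
  refine S.mem_oddPart.2 ⟨?_, (hc.symm.mul_right hty).mul_right hc.symm.inv_right⟩
  rwa [show c * y * c⁻¹ = MulAut.conj c y from rfl, MulEquiv.orderOf_eq]

theorem a_conj_mem {y : G} (hy : y ∈ oddPart t) : a * y * a⁻¹ ∈ oddPart t :=
  S.conj_mem_oddPart S.comm.symm hy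

theorem eq_one_of_mem_four {v : G} (hv : v ∈ four t a) (hvO : v ∈ oddPart t) : v = 1 := by
  have h1 := orderOf_dvd_of_pow_eq_one (x := v) (n := 2) (by rw [pow_two]; exact S.four_sq hv)
  rcases (Nat.dvd_prime Nat.prime_two).1 h1 with h | h
  · exact orderOf_eq_one_iff.1 h
  · exact absurd (S.mem_oddPart.1 hvO).1 (by rw [h]; decide)

theorem t_notMem : t ∉ oddPart t := fun h => S.t_ne_one (S.eq_one_of_mem_four S.t_mem h)

theorem tmul_notMem {y : G} (hy : y ∈ oddPart t) : t * y ∉ oddPart t := fun h =>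
  S.t_notMem (by simpa using mul_mem h (inv_mem hy))

/-- An element of `t O` has `t` as an odd power. -/
theorem pow_card_oddPart {y : G} (hy : y ∈ oddPart t) :
    (t * y) ^ Nat.card (oddPart t) = t := by
  rw [(commute_of_mem_oddPart hy).mul_pow]
  have h1 : y ^ Nat.card (oddPart t) = 1 :=
    orderOf_dvd_iff_pow_eq_one.1 (Subgroup.orderOf_dvd_natCard _ hy)
  obtain ⟨k, hk⟩ := odd_card_core (centralizer ({t} : Set G))
  change Nat.card (oddPart t) = 2 * k + 1 at hk
  rw [h1, mul_one, hk, pow_succ, pow_mul, pow_two, S.t_mul_self, one_pow, one_mul]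

/-- The elements of `t O` form a trivial intersection set. -/
theorem sect_ti {c y y' : G} (hy : y ∈ oddPart t) (hy' : y' ∈ oddPart t)
    (h : c * (t * y) * c⁻¹ = t * y') : Commute c t := by
  have h1 := congrArg (fun w => w ^ Nat.card (oddPart t)) h
  simp only [conj_pow, S.pow_card_oddPart hy, S.pow_card_oddPart hy'] at h1
  exact mul_inv_eq_iff_eq_mul.1 h1

theorem exists_four_mul {x : G} (hx : Commute x t) :
    ∃ v ∈ four t a, ∃ y ∈ oddPart t, x = v * y := by
  rcases S.type_or_rot (S.four_le_centralizer S.t_mem) with h | ⟨g, hg, hgt, -⟩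
  · obtain ⟨k, hk, v, hv, rfl⟩ := h.1 x (mem_centralizer_singleton_iff.2 hx.eq)
    have hvt : Commute v⁻¹ t := (S.four_comm hv S.t_mem).inv_left
    refine ⟨v, hv, v⁻¹ * k * v⁻¹⁻¹, S.conj_mem_oddPart hvt hk, by group⟩
  · rw [show g * t * g⁻¹ = t by rw [mem_centralizer_singleton_iff.1 hg, mul_inv_cancel_right]] at hgt
    exact absurd hgt S.ne

theorem four_mul_inj {v w y z : G} (hv : v ∈ four t a) (hw : w ∈ four t a) (hy : y ∈ oddPart t)
    (hz : z ∈ oddPart t) (h : v * y = w * z) : v = w ∧ y = z := by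
  have h1 : w⁻¹ * v = z * y⁻¹ := by
    rw [inv_mul_eq_iff_eq_mul, ← mul_assoc, ← h, mul_inv_cancel_right]
  have h2 : w⁻¹ * v = 1 :=
    S.eq_one_of_mem_four (mul_mem (inv_mem hw) hv) (h1 ▸ mul_mem hz (inv_mem hy))
  have h3 := inv_mul_eq_one.1 h2
  exact ⟨h3.symm, mul_left_cancel (h3 ▸ h)⟩

end Elements

theorem commute_of_tmul_mem {x : G} (h : t * x ∈ oddPart t) : Commute t x := by
  have h1 := (Commute.refl t).mul_right (commute_of_mem_oddPart h)
  rwa [← mul_assoc, S.t_mul_self, one_mul] at h1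

theorem mul_eq_tmul_mul {x : G} (h : t * x ∈ oddPart t) (y : G) : x * y = t * x * (t * y) := by
  rw [(S.commute_of_tmul_mem h).eq, mul_assoc x, ← mul_assoc t t, S.t_mul_self, one_mul]

/-- `oddPart t ∪ t * oddPart t`. -/
def sec : Subgroup G where
  carrier := {x | x ∈ oddPart t ∨ t * x ∈ oddPart t}
  one_mem' := Or.inl (one_mem _)
  inv_mem' := fun {x} hx => hx.imp inv_mem fun h => by
    rw [show t * x⁻¹ = (t * x)⁻¹ by rw [(S.commute_of_tmul_mem h).eq, mul_inv_rev, S.t_inv]]
    exact inv_mem h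
  mul_mem' := fun {x y} hx hy => by
    rcases hx with hx | hx <;> rcases hy with hy | hy
    · exact Or.inl (mul_mem hx hy)
    · refine Or.inr ?_
      rw [← mul_assoc, (commute_of_mem_oddPart hx).eq, mul_assoc]
      exact mul_mem hx hy
    · refine Or.inr ?_
      rw [← mul_assoc]
      exact mul_mem hx hy
    · exact Or.inl ((S.mul_eq_tmul_mul hx y).symm ▸ mul_mem hx hy)

theorem mem_sec {x : G} : x ∈ S.sec ↔ x ∈ oddPart t ∨ t * x ∈ oddPart t := Iff.rfl

theorem oddPart_le_sec : oddPart t ≤ S.sec := fun _ hx => Or.inl hx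

theorem tmul_mem_sec {y : G} (hy : y ∈ oddPart t) : t * y ∈ S.sec :=
  Or.inr (show t * (t * y) ∈ oddPart t by rwa [← mul_assoc, S.t_mul_self, one_mul])

variable [Fintype G]

/-- The projection of `sec` on `oddPart t`. -/
noncomputable def proj : S.sec →* oddPart t where
  toFun x := if h : (x : G) ∈ oddPart t then ⟨x, h⟩
    else ⟨t * x, x.2.resolve_left h⟩
  map_one' := by simp
  map_mul' x y := by
    have hxy := (x * y).2
    apply Subtype.ext
    by_cases hx : (x : G) ∈ oddPart t <;> by_cases hy : (y : G) ∈ oddPart t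
    · simp [hx, hy, mul_mem hx hy]
    · have hn : (x : G) * y ∉ oddPart t := fun h => hy ((Subgroup.mul_mem_cancel_left _ hx).1 h)
      simp only [Subgroup.coe_mul, hn, hx, hy, dif_pos, dif_neg, not_false_eq_true]
      rw [← mul_assoc, (commute_of_mem_oddPart hx).eq, mul_assoc]
    · have hn : (x : G) * y ∉ oddPart t := fun h => hx ((Subgroup.mul_mem_cancel_right _ hy).1 h)
      simp only [Subgroup.coe_mul, hn, hx, hy, dif_pos, dif_neg, not_false_eq_true]
      rw [← mul_assoc]
    · have hx' := x.2.resolve_left hx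
      have hy' := y.2.resolve_left hy
      have e : (x : G) * y = t * x * (t * y) := S.mul_eq_tmul_mul hx' y
      simp only [Subgroup.coe_mul, hx, hy, e ▸ mul_mem hx' hy', dif_pos, dif_neg,
        not_false_eq_true]
      exact e

theorem proj_mem {x : S.sec} (h : (x : G) ∈ oddPart t) : S.proj x = ⟨x, h⟩ := dif_pos h

theorem proj_tmul (y : oddPart t) : S.proj ⟨t * y, S.tmul_mem_sec y.2⟩ = y := by
  refine (dif_neg (S.tmul_notMem y.2)).trans (Subtype.ext ?_)
  simp [← mul_assoc, S.t_mul_self]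

/-- The linear character `1` on `oddPart t`, `-1` on `t * oddPart t`. -/
noncomputable def sgn : S.sec →* ℂˣ where
  toFun x := if (x : G) ∈ oddPart t then 1 else -1
  map_one' := by simp
  map_mul' x y := by
    by_cases hx : (x : G) ∈ oddPart t <;> by_cases hy : (y : G) ∈ oddPart t
    · simp [hx, hy, mul_mem hx hy]
    · simp [hx, hy, Subgroup.mul_mem_cancel_left _ hx]
    · simp [hx, hy, Subgroup.mul_mem_cancel_right _ hy]
    · have hx' := x.2.resolve_left hx
      have hy' := y.2.resolve_left hy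
      have e : (x : G) * y ∈ oddPart t := (S.mul_eq_tmul_mul hx' y).symm ▸ mul_mem hx' hy'
      simp [hx, hy, e]

/-- `2 ν` on `t * oddPart t`, `0` on `oddPart t`. -/
noncomputable def psi (ν : oddPart t → ℂ) : S.sec → ℂ :=
  fun x => if (x : G) ∈ oddPart t then 0 else 2 * ν (S.proj x)

theorem psi_mem (ν : oddPart t → ℂ) {x : S.sec} (h : (x : G) ∈ oddPart t) : S.psi ν x = 0 :=
  if_pos h

theorem psi_tmul (ν : oddPart t → ℂ) (y : oddPart t) :
    S.psi ν ⟨t * y, S.tmul_mem_sec y.2⟩ = 2 * ν y := by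
  rw [psi, if_neg (S.tmul_notMem y.2), S.proj_tmul]

theorem isGeneralizedCharacter_psi {ν : oddPart t → ℂ} (hν : IsCharacter (oddPart t) ν) :
    IsGeneralizedCharacter S.sec (S.psi ν) := by
  refine ⟨_, _, Char.IsCharacter.comp hν S.proj,
    Char.IsCharacter.mul (Char.IsCharacter.comp hν S.proj) (Char.isCharacter_hom S.sgn), ?_⟩
  funext x
  by_cases h : (x : G) ∈ oddPart t
  · simp [psi, sgn, h]
  · simp [psi, sgn, h]
    ring

/-- The virtual character of `G` belonging to `ν`. -/
noncomputable def lift (ν : oddPart t → ℂ) : G → ℂ := indFun S.sec (S.psi ν)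

theorem isGeneralizedCharacter_lift {ν : oddPart t → ℂ} (hν : IsCharacter (oddPart t) ν) :
    IsGeneralizedCharacter G (S.lift ν) :=
  Char.IsGeneralizedCharacter.indFun _ (S.isGeneralizedCharacter_psi hν)

/-- A sum over `sec`. -/
theorem sum_sec {M : Type*} [AddCommMonoid M] (f : S.sec → M) :
    ∑ x, f x = (∑ y : oddPart t, f ⟨y, S.oddPart_le_sec y.2⟩) +
      ∑ y : oddPart t, f ⟨t * y, S.tmul_mem_sec y.2⟩ := by
  refine Eq.trans ?_ (Fintype.sum_sum_type (Sum.elim
    (fun y : oddPart t => f ⟨y, S.oddPart_le_sec y.2⟩)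
    fun y : oddPart t => f ⟨t * y, S.tmul_mem_sec y.2⟩))
  refine (Fintype.sum_bijective
    (Sum.elim (fun y : oddPart t => (⟨y, S.oddPart_le_sec y.2⟩ : S.sec))
      fun y : oddPart t => ⟨t * y, S.tmul_mem_sec y.2⟩) ⟨?_, ?_⟩ _ _ ?_).symm
  · rintro (y | y) (z | z) h <;> have e := congrArg Subtype.val h <;> simp only [Sum.elim_inl,
      Sum.elim_inr] at e
    · exact congrArg Sum.inl (Subtype.ext e)
    · exact absurd (show t * (z : G) ∈ oddPart t from e ▸ y.2) (S.tmul_notMem z.2)
    · exact absurd (show t * (y : G) ∈ oddPart t from e.symm ▸ z.2) (S.tmul_notMem y.2)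
    · exact congrArg Sum.inr (Subtype.ext (mul_left_cancel e))
  · intro x
    rcases x.2 with h | h
    · exact ⟨Sum.inl ⟨x, h⟩, rfl⟩
    · exact ⟨Sum.inr ⟨t * x, h⟩, Subtype.ext (by simp [← mul_assoc, S.t_mul_self])⟩
  · rintro (y | y) <;> rfl

theorem card_sec : Nat.card S.sec = 2 * Nat.card (oddPart t) := by
  have h := S.sum_sec (fun _ : S.sec => 1)
  simp only [Finset.sum_const, Finset.card_univ, smul_eq_mul, mul_one,
    ← Nat.card_eq_fintype_card] at h
  omega

/-- The multiplicity of `ν` in the section is a coefficient of `lift ν`. -/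
theorem classInner_lift {χ : G → ℂ} (hχ : IsClassFunction G χ) (ν : oddPart t → ℂ) :
    classInner χ (S.lift ν) = sect t χ ν := by
  rw [lift, Char.classInner_indFun_right _ _ hχ, sect]
  simp only [classInner, S.sum_sec, S.psi_tmul, S.card_sec]
  rw [Finset.sum_eq_zero fun (y : oddPart t) _ => by
    rw [S.psi_mem ν (x := ⟨y, S.oddPart_le_sec y.2⟩) y.2, map_zero, mul_zero], zero_add]
  push_cast
  rw [Finset.mul_sum, Finset.mul_sum]
  refine Finset.sum_congr rfl fun y _ => ?_
  rw [map_mul, Complex.conj_ofNat]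
  field_simp

theorem exists_sect_eq_intCast {ν : oddPart t → ℂ} (hν : IsCharacter (oddPart t) ν)
    (χ : IrrCharacter G) : ∃ n : ℤ, sect t (χ : G → ℂ) ν = (n : ℂ) := by
  obtain ⟨n, hn⟩ := (Char.isGeneralizedCharacter_iff.1 (S.isGeneralizedCharacter_lift hν)).2 _ χ.2
  refine ⟨n, ?_⟩
  rw [← S.classInner_lift (Char.IsIrrCharacter.isClassFunction χ.2) ν,
    ← Char.classInner_conj_symm, hn, map_intCast]

/-- A sum over the centraliser of `t`. -/
theorem sum_centralizer {M : Type*} [AddCommMonoid M] (f : G → M) :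
    ∑ x with Commute x t, f x = ∑ y : oddPart t,
      (f y + f (t * y) + f (a * y) + f (t * a * y)) := by
  have hinj : Set.InjOn (fun p : four t a × oddPart t => (p.1 : G) * p.2) Set.univ := by
    intro p _ q _ h
    obtain ⟨e1, e2⟩ := S.four_mul_inj p.1.2 q.1.2 p.2.2 q.2.2 h
    exact Prod.ext (Subtype.ext e1) (Subtype.ext e2)
  have himg : (Finset.univ.filter fun x : G => Commute x t) =
      Finset.univ.image fun p : four t a × oddPart t => (p.1 : G) * p.2 := by
    ext x
    simp only [Finset.mem_filter, Finset.mem_univ, true_and, Finset.mem_image, Prod.exists]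
    refine ⟨fun hx => ?_, ?_⟩
    · obtain ⟨v, hv, y, hy, rfl⟩ := S.exists_four_mul hx
      exact ⟨⟨v, hv⟩, ⟨y, hy⟩, rfl⟩
    · rintro ⟨v, y, rfl⟩
      exact (S.four_comm v.2 S.t_mem).mul_left (commute_of_mem_oddPart y.2).symm
  rw [himg, Finset.sum_image (fun p _ q _ h => hinj (Set.mem_univ p) (Set.mem_univ q) h),
    Fintype.sum_prod_type_right]
  refine Finset.sum_congr rfl fun y _ => ?_
  have hfour : (Finset.univ : Finset (four t a)).map ⟨Subtype.val, Subtype.val_injective⟩ =
      {1, t, a, t * a} := by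
    ext x
    simp [S.mem_four_iff]
  have h := Finset.sum_map (Finset.univ : Finset (four t a)) ⟨Subtype.val, Subtype.val_injective⟩
    fun x => f (x * y)
  rw [hfour] at h
  refine h.symm.trans ?_
  have hta : t ≠ t * a := fun e => S.a_ne_one (mul_left_cancel (e.symm.trans (mul_one t).symm))
  have hat : a ≠ t * a := fun e => S.t_ne_one (mul_right_cancel (e.symm.trans (one_mul a).symm))
  rw [Finset.sum_insert (by simp [Ne.symm S.t_ne_one, Ne.symm S.a_ne_one, Ne.symm S.ta_ne_one]),
    Finset.sum_insert (by simp [S.ne, hta]), Finset.sum_insert (by simp [hat]),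
    Finset.sum_singleton, one_mul]
  abel

theorem card_centralizer :
    Nat.card (centralizer ({t} : Set G)) = 4 * Nat.card (oddPart t) := by
  have h := S.sum_centralizer (fun _ => 1)
  simp only [Finset.sum_const, Finset.card_univ, smul_eq_mul,
    ← Nat.card_eq_fintype_card] at h
  rw [Nat.card_eq_fintype_card, Fintype.card_subtype]
  simp only [mem_centralizer_singleton_iff]
  simp only [commute_iff_eq] at h
  omega

/-- Conjugation by `a` on `oddPart t`. -/
noncomputable def aConj : oddPart t ≃* oddPart t where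
  toFun y := ⟨a * y * a⁻¹, S.a_conj_mem y.2⟩
  invFun y := ⟨a * y * a⁻¹, S.a_conj_mem y.2⟩
  left_inv y := Subtype.ext (by
    show a * (a * y * a⁻¹) * a⁻¹ = y
    rw [S.a_inv]
    simp [← mul_assoc, S.a_mul_self]
    rw [mul_assoc, S.a_mul_self, mul_one])
  right_inv y := Subtype.ext (by
    show a * (a * y * a⁻¹) * a⁻¹ = y
    rw [S.a_inv]
    simp [← mul_assoc, S.a_mul_self]
    rw [mul_assoc, S.a_mul_self, mul_one])
  map_mul' y z := Subtype.ext (by
    show a * ((y : G) * z) * a⁻¹ = a * y * a⁻¹ * (a * z * a⁻¹)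
    group)

theorem coe_aConj (y : oddPart t) : (S.aConj y : G) = a * y * a⁻¹ := rfl

theorem aConj_aConj (y : oddPart t) : S.aConj (S.aConj y) = y := S.aConj.left_inv y

/-- The values of `lift ν` on the section. -/
theorem lift_tmul {ν : oddPart t → ℂ} (hν : IsClassFunction (oddPart t) ν) (y : oddPart t) :
    S.lift ν (t * y) = 2 * (ν y + ν (S.aConj y)) := by
  rw [lift, Char.indFun_def, ← Finset.sum_filter_of_ne (p := fun x => Commute x t), S.sum_centralizer]
  · have key : ∀ w : G, (hw : Commute w t) → extendByZero S.sec (S.psi ν) (w⁻¹ * (t * y) * w)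
        = 2 * ν ⟨w⁻¹ * y * w, by simpa using S.conj_mem_oddPart hw.inv_left y.2⟩ := by
      intro w hw
      have hm : w⁻¹ * (y : G) * w ∈ oddPart t := by
        simpa using S.conj_mem_oddPart hw.inv_left y.2
      have e : w⁻¹ * (t * y) * w = t * (w⁻¹ * y * w) := by
        rw [← mul_assoc w⁻¹, hw.inv_left.eq, mul_assoc t, mul_assoc t, mul_assoc w⁻¹]
      rw [e, Char.extendByZero_apply_mem _ _ (S.tmul_mem_sec hm)]
      exact S.psi_tmul ν ⟨_, hm⟩
    have hzt : ∀ z : oddPart t, Commute (z : G) t := fun z => (commute_of_mem_oddPart z.2).symm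
    have h1 : ∀ z : oddPart t,
        extendByZero S.sec (S.psi ν) ((z : G)⁻¹ * (t * y) * z) = 2 * ν y ∧
        extendByZero S.sec (S.psi ν) ((t * z : G)⁻¹ * (t * y) * (t * z)) = 2 * ν y ∧
        extendByZero S.sec (S.psi ν) ((a * z : G)⁻¹ * (t * y) * (a * z)) = 2 * ν (S.aConj y) ∧
        extendByZero S.sec (S.psi ν) ((t * a * z : G)⁻¹ * (t * y) * (t * a * z)) =
          2 * ν (S.aConj y) := by
      intro z
      have hcf : ∀ w : oddPart t, ν (z⁻¹ * w * z⁻¹⁻¹) = ν w := fun w => hν w z⁻¹
      refine ⟨?_, ?_, ?_, ?_⟩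
      · rw [key _ (hzt z), ← hcf y]
        congr 2
        exact Subtype.ext (by simp)
      · rw [key _ ((Commute.refl t).mul_left (hzt z)), ← hcf y]
        congr 2
        apply Subtype.ext
        show (t * (z : G))⁻¹ * y * (t * z) = (z : G)⁻¹ * y * (z : G)⁻¹⁻¹
        rw [mul_inv_rev, inv_inv, S.t_inv, mul_assoc _ t (y : G), (commute_of_mem_oddPart y.2).eq]
        simp [mul_assoc, ← mul_assoc t t, S.t_mul_self]
      · rw [key _ (S.comm.symm.mul_left (hzt z)), ← hcf (S.aConj y)]
        congr 2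
        apply Subtype.ext
        show (a * (z : G))⁻¹ * y * (a * z) = (z : G)⁻¹ * (a * y * a⁻¹) * (z : G)⁻¹⁻¹
        rw [mul_inv_rev, inv_inv, S.a_inv]
        simp [mul_assoc]
      · rw [key _ (((Commute.refl t).mul_left S.comm.symm).mul_left (hzt z)), ← hcf (S.aConj y)]
        congr 2
        apply Subtype.ext
        show (t * a * (z : G))⁻¹ * y * (t * a * z) = (z : G)⁻¹ * (a * y * a⁻¹) * (z : G)⁻¹⁻¹
        rw [S.comm.eq, mul_inv_rev, mul_inv_rev, inv_inv, S.a_inv, S.t_inv, mul_assoc _ _ (y : G),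
          mul_assoc t a (y : G)]
        have hta : Commute t (a * y * a) := by
          have := commute_of_mem_oddPart (S.a_conj_mem y.2)
          rwa [S.a_inv] at this
        calc (z : G)⁻¹ * (t * (a * y)) * (a * t * z)
            = (z : G)⁻¹ * (t * (a * y * a) * t) * z := by simp only [mul_assoc]
          _ = (z : G)⁻¹ * (a * y * a) * z := by
            rw [hta.eq, mul_assoc _ t t, S.t_mul_self, mul_one]
    rw [Finset.sum_congr rfl fun z _ => by
      rw [(h1 z).1, (h1 z).2.1, (h1 z).2.2.1, (h1 z).2.2.2], Finset.sum_const, Finset.card_univ,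
      ← Nat.card_eq_fintype_card, nsmul_eq_mul, S.card_sec]
    have h0 : (Nat.card (oddPart t) : ℂ) ≠ 0 := Nat.cast_ne_zero.2 Nat.card_pos.ne'
    push_cast
    field_simp
    ring
  · intro x _ hne
    by_cases hm : x⁻¹ * (t * (y : G)) * x ∈ S.sec
    · rw [Char.extendByZero_apply_mem _ _ hm] at hne
      rcases (S.mem_sec).1 hm with h | h
      · exact absurd (S.psi_mem ν (x := ⟨_, hm⟩) h) hne
      · have e : x⁻¹ * (t * (y : G)) * x⁻¹⁻¹ = t * (t * (x⁻¹ * (t * (y : G)) * x)) := by
          rw [inv_inv, ← mul_assoc t t, S.t_mul_self, one_mul]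
        exact Commute.inv_left_iff.1 (S.sect_ti y.2 h e)
    · exact absurd (Char.extendByZero_apply_notMem _ _ hm) hne

theorem classInner_lift_lift {ν ν' : oddPart t → ℂ} (hν' : IsClassFunction (oddPart t) ν') :
    classInner (S.lift ν) (S.lift ν') =
      2 * (classInner ν ν' + classInner ν (fun y => ν' (S.aConj y))) := by
  rw [show S.lift ν = indFun S.sec (S.psi ν) from rfl,
    Char.classInner_indFun S.sec _ (χ := S.lift ν') (Char.indFun_isClassFunction S.sec (S.psi ν'))]
  change classInner (S.psi ν) (fun x : S.sec => S.lift ν' x) = _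
  simp only [classInner, S.sum_sec, S.psi_tmul, S.card_sec, S.lift_tmul hν']
  rw [Finset.sum_eq_zero fun (y : oddPart t) _ => by
    rw [S.psi_mem ν (x := ⟨y, S.oddPart_le_sec y.2⟩) y.2, zero_mul], zero_add]
  push_cast
  simp only [Finset.mul_sum, ← Finset.sum_add_distrib, map_mul, map_add, Complex.conj_ofNat]
  refine Finset.sum_congr rfl fun y _ => ?_
  field_simp

theorem lift_one (ν : oddPart t → ℂ) : S.lift ν 1 = 0 := by
  rw [lift, Char.indFun_one, S.psi_mem ν (x := 1) (one_mem _), mul_zero]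

/-- `lift ν` vanishes on the odd elements. -/
theorem lift_eq_zero_of_odd (ν : oddPart t → ℂ) {x : G} (hx : Odd (orderOf x)) :
    S.lift ν x = 0 := by
  rw [lift, Char.indFun_def, Finset.sum_eq_zero, mul_zero]
  intro w _
  by_cases hm : w⁻¹ * x * w ∈ S.sec
  · rw [Char.extendByZero_apply_mem _ _ hm]
    refine S.psi_mem ν (x := ⟨_, hm⟩) ?_
    rcases (S.mem_sec).1 hm with h | h
    · exact h
    · exfalso
      have e := S.pow_card_oddPart h
      rw [← mul_assoc, ← mul_assoc, ← mul_assoc, S.t_mul_self, one_mul] at e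
      have ho : Odd (orderOf ((w⁻¹ * x * w) ^ Nat.card (oddPart t))) := by
        refine Odd.of_dvd_nat ?_ (orderOf_pow_dvd _)
        have := MulEquiv.orderOf_eq (MulAut.conj w⁻¹) x
        rw [MulAut.conj_apply, inv_inv] at this
        rwa [this]
      rw [e, S.t2] at ho
      exact absurd ho (by decide)
  · exact Char.extendByZero_apply_notMem _ _ hm

end Setting

end CfsgLib.GWKlein
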