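import Cfsg.Agent.Lib.GWKlein.Weighted

/-!
# Klein four Sylow subgroup: fusion of the odd elements centralising the involution

An element of `O = oddPart t` whose centraliser has order divisible by 4 is conjugate in `O` into
`fixPart = O ∩ C(a)`; two elements of `fixPart` conjugate in `G` are conjugate in `fixPart` up to the
action of the rotation; two elements of `O` conjugate in `G`, whose centralisers have no four-group,
are conjugate in `C(t)`.
-/

set_option autoImplicit false
set_option linter.unusedSectionVars false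
set_option linter.style.haveILetI false

universe u

namespace CfsgLib.GWKlein

open Subgroup Cfsg
open scoped Classical

variable {G : Type u} [Group G] {t a : G}

/-- The elements of `oddPart t` centralised by `a`. -/
def fixPart (t a : G) : Subgroup (oddPart t) := (centralizer ({a} : Set G)).subgroupOf (oddPart t)

namespace Setting

variable (S : Setting G t a)
include S

theorem mem_fixPart {y : oddPart t} : y ∈ fixPart t a ↔ a * (y : G) * a⁻¹ = (y : G) := by
  rw [fixPart, mem_subgroupOf, mem_centralizer_singleton_iff, mul_inv_eq_iff_eq_mul]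
  exact eq_comm

theorem commute_of_mem_fixPart {y : oddPart t} (hy : y ∈ fixPart t a) : Commute a (y : G) :=
  mul_inv_eq_iff_eq_mul.1 (S.mem_fixPart.1 hy)

theorem commute_four_of_fixPart {v : G} (hv : v ∈ four t a) {y : oddPart t} (hy : y ∈ fixPart t a) :
    Commute v (y : G) := by
  rcases S.mem_four_iff.1 hv with rfl | rfl | rfl | rfl
  exacts [Commute.one_left _, commute_of_mem_oddPart y.2, S.commute_of_mem_fixPart hy,
    (commute_of_mem_oddPart y.2).mul_left (S.commute_of_mem_fixPart hy)]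

theorem rot_mem_four {g : G} (hg : Rot t a g) {v : G} (hv : v ∈ four t a) :
    g * v * g⁻¹ ∈ four t a := by
  rcases S.mem_four_iff.1 hv with rfl | rfl | rfl | rfl
  · rw [mul_one, mul_inv_cancel]; exact one_mem _
  · rw [hg.1]; exact S.a_mem
  · rw [hg.2]; exact S.ta_mem
  · rw [← conj_mul, hg.1, hg.2]; exact mul_mem S.a_mem S.ta_mem

theorem rot_ta {g : G} (hg : Rot t a g) : g * (t * a) * g⁻¹ = t := by
  rw [← conj_mul, hg.1, hg.2, S.comm.eq, ← mul_assoc, S.a_mul_self, one_mul]

section Finite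

variable [Finite G]

/-- An element centralising the four-group and fixing a point is conjugation by a fixed element. -/
theorem exists_fix_of_centralizing {n : G} (hnt : Commute n t) (hna : Commute n a) :
    ∃ v ∈ four t a, ∃ u : oddPart t, u ∈ fixPart t a ∧ n = v * u := by
  obtain ⟨v, hv, u, hu, rfl⟩ := S.exists_four_mul hnt
  refine ⟨v, hv, ⟨u, hu⟩, S.mem_fixPart.2 ?_, rfl⟩
  have h : Commute a (v⁻¹ * (v * u)) := (S.four_comm S.a_mem hv).inv_right.mul_right hna.symm
  rw [inv_mul_cancel_left] at h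
  exact mul_inv_eq_iff_eq_mul.2 h.eq

theorem rot_conj_mem {g : G} (hg : Rot t a g) {y : oddPart t} (hy : y ∈ fixPart t a) :
    g * (y : G) * g⁻¹ ∈ oddPart t := by
  have h1 : Commute a (g * (y : G) * g⁻¹) := by
    have := (commute_of_mem_oddPart y.2).conj g
    rwa [hg.1] at this
  have h2 : Commute (t * a) (g * (y : G) * g⁻¹) := by
    have := (S.commute_of_mem_fixPart hy).conj g
    rwa [hg.2] at this
  refine S.mem_oddPart.2 ⟨?_, ?_⟩
  · rw [BrauerSuzuki.orderOf_conj']; exact (S.mem_oddPart.1 y.2).1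
  · have := h2.mul_left h1
    rwa [mul_assoc, S.a_mul_self, mul_one] at this

theorem rot_conj_fix {g : G} (hg : Rot t a g) {y : oddPart t} (hy : y ∈ fixPart t a) :
    (⟨g * y * g⁻¹, S.rot_conj_mem hg hy⟩ : oddPart t) ∈ fixPart t a := by
  refine S.mem_fixPart.2 (mul_inv_eq_iff_eq_mul.2 ?_)
  have := (commute_of_mem_oddPart y.2).conj g
  rw [hg.1] at this
  exact this.eq

theorem rot_sq {g : G} (hg : Rot t a g) : Rot t (t * a) (g * g) :=
  ⟨by rw [show g * g * t * (g * g)⁻¹ = g * (g * t * g⁻¹) * g⁻¹ by group, hg.1, hg.2],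
   by rw [show g * g * (t * a) * (g * g)⁻¹ = g * (g * (t * a) * g⁻¹) * g⁻¹ by group, S.rot_ta hg,
    hg.1, ← mul_assoc, S.t_mul_self, one_mul]⟩

theorem rot_cube_commute {g : G} (hg : Rot t a g) {v : G} (hv : v ∈ four t a) :
    Commute (g * g * g) v := by
  refine S.commute_of_fixed (fun w hw => ?_) S.t_mem S.t_ne_one ?_ hv
  · rw [show g * g * g * w * (g * g * g)⁻¹ = g * (g * (g * w * g⁻¹) * g⁻¹) * g⁻¹ by group]
    exact S.rot_mem_four hg (S.rot_mem_four hg (S.rot_mem_four hg hw))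
  · refine mul_inv_eq_iff_eq_mul.1 ?_
    rw [show g * g * g * t * (g * g * g)⁻¹ = g * (g * (g * t * g⁻¹) * g⁻¹) * g⁻¹ by group, hg.1,
      hg.2, S.rot_ta hg]

/-- The rotation as an automorphism of `fixPart`. -/
noncomputable def rotAut {g : G} (hg : Rot t a g) : (fixPart t a) ≃* (fixPart t a) :=
  MulEquiv.ofBijective
    ({ toFun := fun y => ⟨⟨g * ((y : oddPart t) : G) * g⁻¹, S.rot_conj_mem hg y.2⟩,
          S.rot_conj_fix hg y.2⟩
       map_one' := Subtype.ext (Subtype.ext (by simp))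
       map_mul' := fun x y => Subtype.ext (Subtype.ext (by
        show g * (((x : oddPart t) : G) * ((y : oddPart t) : G)) * g⁻¹ = _
        exact conj_mul.symm)) } : (fixPart t a) →* (fixPart t a))
    (Finite.injective_iff_bijective.1 fun x y h => Subtype.ext (Subtype.ext
      (mul_left_cancel (mul_right_cancel (congrArg (fun z : (fixPart t a) => ((z : oddPart t) : G)) h)))))

theorem coe_rotAut {g : G} (hg : Rot t a g) (y : (fixPart t a)) :
    ((S.rotAut hg y : oddPart t) : G) = g * ((y : oddPart t) : G) * g⁻¹ := rfl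

theorem isConj_rotAut {g : G} (hg : Rot t a g) (y : (fixPart t a)) :
    IsConj ((y : oddPart t) : G) ((S.rotAut hg y : oddPart t) : G) :=
  isConj_iff.2 ⟨g, rfl⟩

/-- The cube of the rotation is inner on `fixPart`. -/
theorem rotAut_cube {g : G} (hg : Rot t a g) (y : (fixPart t a)) :
    IsConj y (S.rotAut hg (S.rotAut hg (S.rotAut hg y))) := by
  obtain ⟨v, hv, u, hu, e⟩ := S.exists_fix_of_centralizing (S.rot_cube_commute hg S.t_mem)
    (S.rot_cube_commute hg S.a_mem)
  refine isConj_iff.2 ⟨⟨u, hu⟩, Subtype.ext (Subtype.ext ?_)⟩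
  rw [S.coe_rotAut, S.coe_rotAut, S.coe_rotAut]
  show (u : G) * ((y : oddPart t) : G) * (u : G)⁻¹ = _
  have hc := S.commute_four_of_fixPart hv (mul_mem (mul_mem hu y.2) (inv_mem hu))
  calc (u : G) * ((y : oddPart t) : G) * (u : G)⁻¹
      = v * ((u : G) * ((y : oddPart t) : G) * (u : G)⁻¹) * v⁻¹ :=
        (mul_inv_eq_iff_eq_mul.2 hc.eq).symm
    _ = (v * u) * ((y : oddPart t) : G) * (v * u)⁻¹ := by group
    _ = (g * g * g) * ((y : oddPart t) : G) * (g * g * g)⁻¹ := by rw [e]
    _ = _ := by group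

theorem rotAut_isConj {g : G} (hg : Rot t a g) {y z : fixPart t a} (h : IsConj y z) :
    IsConj (S.rotAut hg y) (S.rotAut hg z) :=
  (S.rotAut hg).toMonoidHom.map_isConj h

/-- Elements of `fixPart` conjugate in `G` are conjugate by the normaliser of the four-group. -/
theorem fix_conj {g : G} (hg : Rot t a g) {y z : fixPart t a}
    (h : IsConj ((y : oddPart t) : G) ((z : oddPart t) : G)) :
    IsConj y z ∨ IsConj (S.rotAut hg y) z ∨ IsConj (S.rotAut hg (S.rotAut hg y)) z := by
  haveI : Fact (Nat.Prime 2) := ⟨Nat.prime_two⟩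
  letI := Fintype.ofFinite G
  obtain ⟨x, hx⟩ := isConj_iff.1 h.symm
  obtain ⟨P, hP⟩ := S.exists_sylow
  set yy : G := ((y : oddPart t) : G)
  set zz : G := ((z : oddPart t) : G)
  have hPy : (P : Subgroup G) ≤ centralizer ({yy} : Set G) := fun v hv =>
    mem_centralizer_singleton_iff.2 (S.commute_four_of_fixPart (hP ▸ hv) y.2).eq
  set W : Subgroup G := (four t a).map (MulAut.conj x).toMonoidHom
  have hW : W ≤ centralizer ({yy} : Set G) := by
    rintro _ ⟨v, hv, rfl⟩
    refine mem_centralizer_singleton_iff.2 ?_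
    show MulAut.conj x v * yy = yy * MulAut.conj x v
    rw [MulAut.conj_apply, ← hx, conj_mul, conj_mul, (S.commute_four_of_fixPart hv z.2).eq]
  have hW2 : IsPGroup 2 (W.subgroupOf (centralizer ({yy} : Set G))) :=
    IsPGroup.of_card (n := 2) (by
      rw [Nat.card_congr (subgroupOfEquivOfLe hW).toEquiv,
        card_map_of_injective (MulAut.conj x).injective, S.card_four]; norm_num)
  obtain ⟨c, hc⟩ := Blocks.TIAbelian.exists_conj_mem_sylow_p (P.subtype hPy) hW2
  set n : G := (c : G) * x with hn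
  have hnz : n * zz * n⁻¹ = yy := by
    rw [show n * zz * n⁻¹ = (c : G) * (x * zz * x⁻¹) * (c : G)⁻¹ by rw [hn]; group, hx,
      mem_centralizer_singleton_iff.1 c.2, mul_inv_cancel_right]
  have hnV : ∀ v ∈ four t a, n * v * n⁻¹ ∈ four t a := by
    intro v hv
    have h1 := hc (⟨x * v * x⁻¹, hW ⟨v, hv, rfl⟩⟩ : ↥(centralizer ({yy} : Set G)))
      ⟨v, hv, rfl⟩
    rw [show ((P.subtype hPy : Sylow 2 _) : Subgroup ↥(centralizer ({yy} : Set G))) =
      (P : Subgroup G).subgroupOf (centralizer ({yy} : Set G)) from rfl, mem_subgroupOf, hP] at h1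
    rw [show n * v * n⁻¹ = (c : G) * (x * v * x⁻¹) * (c : G)⁻¹ by rw [hn]; group]
    exact h1
  have hmap : (four t a).map (MulAut.conj n).toMonoidHom = four t a :=
    eq_of_le_of_card_ge (by rintro _ ⟨v, hv, rfl⟩; exact hnV v hv)
      (card_map_of_injective (MulAut.conj n).injective).ge
  obtain ⟨v₀, hv₀, hnv₀⟩ : ∃ v ∈ four t a, n * v * n⁻¹ = t := by
    have ht := S.t_mem
    rw [← hmap] at ht
    obtain ⟨v, hv, e⟩ := ht
    exact ⟨v, hv, e⟩
  have key : ∀ (m : G) (w : fixPart t a), (∀ v ∈ four t a, m * v * m⁻¹ ∈ four t a) →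
      m * t * m⁻¹ = t → m * ((w : oddPart t) : G) * m⁻¹ = yy → IsConj w y := by
    intro m w hm hmt hmw
    have hmt' : Commute m t := mul_inv_eq_iff_eq_mul.1 hmt
    obtain ⟨v, hv, u, hu, rfl⟩ := S.exists_fix_of_centralizing hmt'
      (S.commute_of_fixed hm S.t_mem S.t_ne_one hmt' S.a_mem)
    refine isConj_iff.2 ⟨⟨u, hu⟩, Subtype.ext (Subtype.ext ?_)⟩
    have hcu := S.commute_four_of_fixPart hv (mul_mem (mul_mem hu w.2) (inv_mem hu))
    calc (u : G) * ((w : oddPart t) : G) * (u : G)⁻¹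
        = v * ((u : G) * ((w : oddPart t) : G) * (u : G)⁻¹) * v⁻¹ :=
          (mul_inv_eq_iff_eq_mul.2 hcu.eq).symm
      _ = (v * u) * ((w : oddPart t) : G) * (v * u)⁻¹ := by group
      _ = yy := hmw
  have hstep : ∀ m : G, (∀ v ∈ four t a, m * v * m⁻¹ ∈ four t a) →
      ∀ v ∈ four t a, m * g * v * (m * g)⁻¹ ∈ four t a := by
    intro m hm v hv
    rw [show m * g * v * (m * g)⁻¹ = m * (g * v * g⁻¹) * m⁻¹ by group]
    exact hm _ (S.rot_mem_four hg hv)
  rcases S.mem_four_iff.1 hv₀ with e | e | e | e <;> subst e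
  · rw [mul_one, mul_inv_cancel] at hnv₀
    exact absurd hnv₀.symm S.t_ne_one
  · exact Or.inl (key n z hnV hnv₀ hnz).symm
  · refine Or.inr (Or.inl ?_)
    have h1 : IsConj ((S.rotAut hg).symm z) y := key (n * g) _ (hstep n hnV)
      (by rw [show n * g * t * (n * g)⁻¹ = n * (g * t * g⁻¹) * n⁻¹ by group, hg.1, hnv₀])
      (by rw [show ∀ w : G, n * g * w * (n * g)⁻¹ = n * (g * w * g⁻¹) * n⁻¹ from fun w => by group,
        ← S.coe_rotAut hg, MulEquiv.apply_symm_apply, hnz])
    have h2 := S.rotAut_isConj hg h1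
    rw [MulEquiv.apply_symm_apply] at h2
    exact h2.symm
  · refine Or.inr (Or.inr ?_)
    have h1 : IsConj ((S.rotAut hg).symm ((S.rotAut hg).symm z)) y :=
      key (n * g * g) _ (hstep _ (hstep n hnV))
        (by rw [show n * g * g * t * (n * g * g)⁻¹ = n * (g * (g * t * g⁻¹) * g⁻¹) * n⁻¹ by group,
          hg.1, hg.2, hnv₀])
        (by rw [show ∀ w : G, n * g * g * w * (n * g * g)⁻¹ = n * (g * (g * w * g⁻¹) * g⁻¹) * n⁻¹
          from fun w => by group, ← S.coe_rotAut hg, MulEquiv.apply_symm_apply, ← S.coe_rotAut hg,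
          MulEquiv.apply_symm_apply, hnz])
    have h2 := S.rotAut_isConj hg (S.rotAut_isConj hg h1)
    simp only [MulEquiv.apply_symm_apply] at h2
    exact h2.symm

/-- A centraliser of order divisible by 4 puts an element of `oddPart t` into `fixPart`. -/
theorem exists_fix_conj {y : oddPart t}
    (h4 : 4 ∣ Nat.card (centralizer ({(y : G)} : Set G))) :
    ∃ u : oddPart t, u⁻¹ * y * u ∈ fixPart t a := by
  haveI : Fact (Nat.Prime 2) := ⟨Nat.prime_two⟩
  letI := Fintype.ofFinite G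
  set C := centralizer ({(y : G)} : Set G)
  have htC : t ∈ C := mem_centralizer_singleton_iff.2 (commute_of_mem_oddPart y.2).eq
  have hz : IsPGroup 2 ↥(zpowers (⟨t, htC⟩ : C)) :=
    IsPGroup.of_card (n := 1) (by rw [Nat.card_zpowers, Subgroup.orderOf_mk, S.t2, pow_one])
  obtain ⟨Q, hQ⟩ := hz.exists_le_sylow
  obtain ⟨P, hP⟩ := S.exists_sylow
  set Q' : Subgroup G := (Q : Subgroup C).map C.subtype
  have htQ : t ∈ Q' := ⟨_, hQ (mem_zpowers _), rfl⟩
  have hQ2 : IsPGroup 2 Q' := Q.2.map _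
  have hQ4 : Nat.card Q' = 4 := by
    obtain ⟨k, hk⟩ := IsPGroup.iff_card.1 hQ2
    have h1 : 2 ^ 2 ∣ Nat.card Q' := by
      rw [card_map_of_injective C.subtype_injective, Q.card_eq_multiplicity]
      exact pow_dvd_pow 2 ((Nat.prime_two.pow_dvd_iff_le_factorization Nat.card_pos.ne').1 h4)
    have h2 : ¬ 2 ^ 3 ∣ Nat.card Q' := fun h3 =>
      S.not_eight (h3.trans (card_subgroup_dvd_card _))
    rw [hk] at h1 h2 ⊢
    have e1 : 2 ≤ k := (Nat.pow_dvd_pow_iff_le_right (by norm_num)).1 h1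
    have e2 : ¬ 3 ≤ k := fun h => h2 (pow_dvd_pow 2 h)
    rw [show k = 2 by omega]
    norm_num
  have hQt : Q' ≤ centralizer ({t} : Set G) := fun v hv => by
    have hcomm := (IsPGroup.isMulCommutative_of_card_eq_prime_sq (p := 2) (G := Q') (by
      rw [hQ4]; norm_num))
    exact mem_centralizer_singleton_iff.2
      (congrArg Subtype.val (hcomm.is_comm.comm (⟨v, hv⟩ : Q') ⟨t, htQ⟩))
  have hPt : (P : Subgroup G) ≤ centralizer ({t} : Set G) := hP ▸ S.four_le_centralizer S.t_mem
  have hQ2' : IsPGroup 2 (Q'.subgroupOf (centralizer ({t} : Set G))) :=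
    IsPGroup.of_card (n := 2) (by
      rw [Nat.card_congr (subgroupOfEquivOfLe hQt).toEquiv, hQ4]; norm_num)
  obtain ⟨c, hc⟩ := Blocks.TIAbelian.exists_conj_mem_sylow_p (P.subtype hPt) hQ2'
  -- some element of `Q'` is sent to `a`
  have hmap : Q'.map (MulAut.conj (c : G)).toMonoidHom = four t a := by
    refine eq_of_le_of_card_ge ?_ ?_
    · rintro _ ⟨v, hv, rfl⟩
      have h1 := hc (⟨v, hQt hv⟩ : ↥(centralizer ({t} : Set G))) hv
      rw [show ((P.subtype hPt : Sylow 2 _) : Subgroup ↥(centralizer ({t} : Set G))) =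
        (P : Subgroup G).subgroupOf (centralizer ({t} : Set G)) from rfl, mem_subgroupOf, hP] at h1
      exact h1
    · rw [card_map_of_injective (MulAut.conj (c : G)).injective, hQ4, S.card_four]
  have ha := S.a_mem
  rw [← hmap] at ha
  obtain ⟨v, ⟨⟨v', hv'⟩, -, rfl⟩, hva⟩ := ha
  have h1 : Commute a ((c : G) * y * (c : G)⁻¹) := by
    have := (show Commute v' (y : G) from mem_centralizer_singleton_iff.1 hv').conj (c : G)
    rw [← hva]
    exact this
  obtain ⟨w, hw, u, hu, e⟩ := S.exists_four_mul (x := (c : G)) (mem_centralizer_singleton_iff.1 c.2)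
  refine ⟨⟨u, hu⟩⁻¹, S.mem_fixPart.2 (mul_inv_eq_iff_eq_mul.2 ?_)⟩
  have h2 : Commute a (w⁻¹ * ((c : G) * y * (c : G)⁻¹) * w⁻¹⁻¹) :=
    ((S.four_comm S.a_mem hw).inv_right.mul_right h1).mul_right
      (S.four_comm S.a_mem hw).inv_right.inv_right
  rw [e, show w⁻¹ * (w * u * (y : G) * (w * u)⁻¹) * w⁻¹⁻¹ = u * y * u⁻¹ by group] at h2
  simpa using h2.eq

/-- Two commuting involutions other than equal ones give a divisor 4. -/
theorem four_dvd_of_involutions {y : oddPart t} {s : G} (hs : orderOf s = 2) (hst : s ≠ t)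
    (hc : Commute s t) (hsy : Commute s (y : G)) :
    4 ∣ Nat.card (centralizer ({(y : G)} : Set G)) := by
  set K : Subgroup G := CfsgLib.Involution.TwoGroupLifts.fourGroup t s S.t_mul_self
    (BrauerSuzuki.mul_self_of_orderOf_two hs) hc.symm.eq
  have hK : Nat.card K = 4 := by
    haveI : IsKleinFour ↥K := CfsgLib.Involution.TwoGroupLifts.isKleinFour_of_four S.t_ne_one
      (fun e => by rw [e, orderOf_one] at hs; omega) hst.symm S.t_mul_self
      (BrauerSuzuki.mul_self_of_orderOf_two hs) hc.symm.eq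
      fun _ => CfsgLib.Involution.TwoGroupLifts.mem_fourGroup
    exact IsKleinFour.card_four
  rw [← hK]
  refine card_dvd_of_le fun x hx => mem_centralizer_singleton_iff.2 ?_
  rcases CfsgLib.Involution.TwoGroupLifts.mem_fourGroup.1 hx with rfl | rfl | rfl | rfl
  exacts [(Commute.one_left _).eq, (commute_of_mem_oddPart y.2).eq, hsy.eq,
    ((commute_of_mem_oddPart y.2).mul_left hsy).eq]

/-- Without a four-group in the centraliser, fusion happens in the centraliser of `t`. -/
theorem exists_centralizing_conj {y z : oddPart t}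
    (h4 : ¬ 4 ∣ Nat.card (centralizer ({(y : G)} : Set G))) (h : IsConj (y : G) (z : G)) :
    ∃ c : G, Commute c t ∧ c * (y : G) * c⁻¹ = z := by
  haveI : Fact (Nat.Prime 2) := ⟨Nat.prime_two⟩
  letI := Fintype.ofFinite G
  obtain ⟨x, hx⟩ := isConj_iff.1 h
  set C := centralizer ({(y : G)} : Set G)
  have htC : t ∈ C := mem_centralizer_singleton_iff.2 (commute_of_mem_oddPart y.2).eq
  have hz : IsPGroup 2 ↥(zpowers (⟨t, htC⟩ : C)) :=
    IsPGroup.of_card (n := 1) (by rw [Nat.card_zpowers, Subgroup.orderOf_mk, S.t2, pow_one])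
  obtain ⟨Q, hQ⟩ := hz.exists_le_sylow
  have hQeq : zpowers (⟨t, htC⟩ : C) = (Q : Subgroup C) := by
    refine eq_of_le_of_card_ge hQ ?_
    rw [Nat.card_zpowers, Subgroup.orderOf_mk, S.t2, Q.card_eq_multiplicity]
    by_contra hlt
    refine h4 ((pow_dvd_pow 2 (show 2 ≤ (Nat.card C).factorization 2 from ?_)).trans
      (Nat.ordProj_dvd _ 2))
    by_contra h2
    have := Nat.pow_le_pow_right (n := 2) (by norm_num)
      (show (Nat.card C).factorization 2 ≤ 1 by omega)
    omega
  have hsC : x⁻¹ * t * x ∈ C := by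
    refine mem_centralizer_singleton_iff.2 ?_
    have := (commute_of_mem_oddPart z.2).conj x⁻¹
    rw [inv_inv] at this
    rw [← hx] at this
    simpa [mul_assoc] using this.eq
  obtain ⟨c, hc⟩ := Blocks.TIAbelian.exists_conj_mem_sylow_p Q
    (R := zpowers (⟨x⁻¹ * t * x, hsC⟩ : C))
    (IsPGroup.of_card (n := 1) (by
      rw [Nat.card_zpowers, Subgroup.orderOf_mk, pow_one]
      have := BrauerSuzuki.orderOf_conj' x⁻¹ t
      rw [inv_inv] at this
      rw [this, S.t2]))
  have h1 := hc _ (mem_zpowers _)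
  rw [← hQeq] at h1
  obtain ⟨i, hi⟩ := h1
  have h2 : (c : G) * (x⁻¹ * t * x) * (c : G)⁻¹ = t ^ i := by
    simpa using (congrArg Subtype.val hi).symm
  have h3 : (c : G) * (x⁻¹ * t * x) * (c : G)⁻¹ = t := by
    rcases Int.even_or_odd i with ⟨j, rfl⟩ | ⟨j, rfl⟩
    · exfalso
      rw [zpow_add, ← (Commute.refl t).mul_zpow, S.t_mul_self, one_zpow] at h2
      have e := conj_eq_one_iff.1 h2
      refine S.t_ne_one ?_
      calc t = x * (x⁻¹ * t * x) * x⁻¹ := by group
        _ = 1 := by rw [e]; group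
    · rwa [zpow_add, zpow_one, two_mul, zpow_add, ← (Commute.refl t).mul_zpow, S.t_mul_self,
        one_zpow, one_mul] at h2
  refine ⟨x * (c : G)⁻¹, mul_inv_eq_iff_eq_mul.1 ?_, ?_⟩
  · rw [show x * (c : G)⁻¹ * t * (x * (c : G)⁻¹)⁻¹ = x * ((c : G)⁻¹ * t * (c : G)) * x⁻¹ by group]
    conv_lhs => arg 1; arg 2; arg 1; arg 2; rw [← h3]
    group
  · rw [show x * (c : G)⁻¹ * (y : G) * (x * (c : G)⁻¹)⁻¹ =
      x * ((c : G)⁻¹ * y * (c : G)) * x⁻¹ by group,
      show (c : G)⁻¹ * y * (c : G) = y by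
        rw [mul_assoc, ← mem_centralizer_singleton_iff.1 c.2, inv_mul_cancel_left], hx]

end Finite

end Setting

end CfsgLib.GWKlein
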