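import Cfsg.Agent.Lib.GWKlein.SectionValues
import Cfsg.Agent.Lib.GWKlein.CaseOneChar

/-!
# Klein four Sylow subgroup: three linear characters permuted by the rotation

If the rotation permutes cyclically the restrictions to `fixPart` of three linear characters
invariant under `a`, a character with one of them in its section has all three, and nothing else.
-/

set_option autoImplicit false
set_option linter.unusedSectionVars false
set_option linter.style.haveILetI false

universe u

namespace CfsgLib.GWKlein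

open Subgroup Cfsg BrauerSuzuki
open CfsgLib.Blocks (classInd classInd_isClassFunction)
open scoped Classical ComplexConjugate

variable {G : Type u} [Group G] [Fintype G] {t a : G} {M : Ideal AlgInt}

/-- The conjugation action on the classes of a group. -/
theorem conjClasses_map_mk {H : Type*} [Group H] (e : H ≃* H) (x : H) :
    ConjClasses.map e.toMonoidHom (ConjClasses.mk x) = ConjClasses.mk (e x) := rfl

namespace Setting

variable (S : Setting G t a) (hM : IsPModular 2 M)
include S hM

omit hM in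
theorem odd_card_fixPart : Odd (Nat.card (fixPart t a)) :=
  S.odd_card_oddPart.of_dvd_nat (card_subgroup_dvd_card _)

theorem card_fixPart_congr : MemLocalIdeal M (((Nat.card (fixPart t a) : ℕ) : ℂ) - 1) := by
  obtain ⟨k, hk⟩ := S.odd_card_fixPart
  rw [hk]
  push_cast
  rw [add_sub_cancel_right]
  exact Blocks.LI.mul_right hM (two_LI hM) (Blocks.LR.natCast hM k)

/-- The sum over a class of `G` met with `fixPart` is congruent to the sum over an orbit of the
rotation. -/
theorem orbit_congr {g : G} (hg : Rot t a g) (y : fixPart t a) (f : fixPart t a → ℂ)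
    (hf : IsClassFunction (fixPart t a) f) (hR : ∀ d, MemLocalRing M (f d)) :
    MemLocalIdeal M ((∑ d : fixPart t a,
        classInd ((y : oddPart t) : G) ((d : oddPart t) : G) * f d) -
      (f y + f (S.rotAut hg y) + f (S.rotAut hg (S.rotAut hg y)))) := by
  set r := S.rotAut hg
  set σ : ConjClasses (fixPart t a) → ConjClasses (fixPart t a) := ConjClasses.map r.toMonoidHom
  set q0 := ConjClasses.mk y
  set q1 := ConjClasses.mk (r y)
  set q2 := ConjClasses.mk (r (r y))
  have hq20 : σ q2 = q0 :=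
    (conjClasses_map_mk r _).trans (ConjClasses.mk_eq_mk_iff_isConj.2 (S.rotAut_cube hg y).symm)
  have hmem : ∀ d : fixPart t a, IsConj ((y : oddPart t) : G) ((d : oddPart t) : G) ↔
      ConjClasses.mk d ∈ ({q0, q1, q2} : Finset (ConjClasses (fixPart t a))) := by
    intro d
    have hsub : ∀ {p q : fixPart t a}, IsConj p q →
        IsConj ((p : oddPart t) : G) ((q : oddPart t) : G) := fun {p q} h =>
      ((oddPart t).subtype.comp (fixPart t a).subtype).map_isConj h
    simp only [Finset.mem_insert, Finset.mem_singleton, q0, q1, q2, ConjClasses.mk_eq_mk_iff_isConj]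
    refine ⟨fun h => ?_, ?_⟩
    · rcases S.fix_conj hg h with h' | h' | h'
      exacts [Or.inl h'.symm, Or.inr (Or.inl h'.symm), Or.inr (Or.inr h'.symm)]
    · rintro (h | h | h)
      · exact (hsub h).symm
      · exact (S.isConj_rotAut hg y).trans (hsub h).symm
      · exact ((S.isConj_rotAut hg y).trans (S.isConj_rotAut hg _)).trans (hsub h).symm
  -- the class function on classes
  set fq : ConjClasses (fixPart t a) → ℂ := fun q => f q.out with hfq
  have hfmk : ∀ d, fq (ConjClasses.mk d) = f d := fun d =>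
    Char.IsClassFunction.apply_eq_of_isConj hf
      (ConjClasses.mk_eq_mk_iff_isConj.1 (Quotient.out_eq _))
  have h1 : ∑ d : fixPart t a, classInd ((y : oddPart t) : G) ((d : oddPart t) : G) * f d =
      ∑ q ∈ ({q0, q1, q2} : Finset (ConjClasses (fixPart t a))),
        ((Finset.univ.filter fun d => ConjClasses.mk d = q).card : ℂ) * fq q := by
    have e : ∀ d : fixPart t a, classInd ((y : oddPart t) : G) ((d : oddPart t) : G) * f d =
        if ConjClasses.mk d ∈ ({q0, q1, q2} : Finset (ConjClasses (fixPart t a))) then f d else 0 := by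
      intro d
      unfold Blocks.classInd
      by_cases h : IsConj ((y : oddPart t) : G) ((d : oddPart t) : G)
      · rw [if_pos h, if_pos ((hmem d).1 h), one_mul]
      · rw [if_neg h, if_neg fun h' => h ((hmem d).2 h'), zero_mul]
    rw [Finset.sum_congr rfl fun d _ => e d, ← Finset.sum_filter,
      ← Finset.sum_fiberwise_of_maps_to (g := ConjClasses.mk)
        (t := ({q0, q1, q2} : Finset (ConjClasses (fixPart t a))))
        (fun d hd => (Finset.mem_filter.1 hd).2)]
    refine Finset.sum_congr rfl fun q hq => ?_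
    rw [Finset.sum_congr rfl (g := fun _ => fq q) fun d hd => by
      rw [← (Finset.mem_filter.1 hd).2, hfmk], Finset.sum_const, nsmul_eq_mul, Finset.filter_filter]
    congr 3
    refine Finset.ext fun d => ?_
    simp only [Finset.mem_filter, Finset.mem_univ, true_and]
    exact ⟨fun h => h.2, fun h => ⟨h ▸ hq, h⟩⟩
  have hodd : ∀ q : ConjClasses (fixPart t a),
      MemLocalIdeal M (((Finset.univ.filter fun d => ConjClasses.mk d = q).card : ℂ) - 1) := by
    intro q
    obtain ⟨x, rfl⟩ := ConjClasses.exists_rep q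
    have e : (Finset.univ.filter fun d : fixPart t a => ConjClasses.mk d = ConjClasses.mk x).card =
        (centralizer ({x} : Set (fixPart t a))).index := by
      rw [← Char.card_isConj_eq_index, Nat.card_eq_fintype_card, Fintype.card_subtype]
      simp only [ConjClasses.mk_eq_mk_iff_isConj]
    rw [e]
    obtain ⟨k, hk⟩ := S.odd_card_fixPart.of_dvd_nat (index_dvd_card _)
    rw [hk]
    push_cast
    rw [add_sub_cancel_right]
    exact Blocks.LI.mul_right hM (two_LI hM) (Blocks.LR.natCast hM k)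
  have hfR : ∀ q, MemLocalRing M (fq q) := fun q => hR _
  have h2 : MemLocalIdeal M ((∑ q ∈ ({q0, q1, q2} : Finset (ConjClasses (fixPart t a))),
      ((Finset.univ.filter fun d => ConjClasses.mk d = q).card : ℂ) * fq q) -
      ∑ q ∈ ({q0, q1, q2} : Finset (ConjClasses (fixPart t a))), fq q) := by
    rw [← Finset.sum_sub_distrib]
    refine Blocks.LI.sum hM fun q _ => ?_
    rw [← sub_one_mul]
    exact Blocks.LI.mul_right hM (hodd q) (hfR q)
  rw [h1]
  refine Blocks.LI.trans hM h2 ?_
  rw [← hfmk y, ← hfmk (r y), ← hfmk (r (r y))]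
  have hinj : Function.Injective σ := by
    intro p q h
    obtain ⟨x, rfl⟩ := ConjClasses.exists_rep p
    obtain ⟨z, rfl⟩ := ConjClasses.exists_rep q
    change ConjClasses.mk (r x) = ConjClasses.mk (r z) at h
    rw [ConjClasses.mk_eq_mk_iff_isConj] at h
    rw [ConjClasses.mk_eq_mk_iff_isConj]
    simpa using r.symm.toMonoidHom.map_isConj h
  by_cases h01 : q0 = q1
  · have h12 : q1 = q2 := by
      have := congrArg σ h01
      exact this
    show MemLocalIdeal M (_ - (fq q0 + fq q1 + fq q2))
    rw [← h12, ← h01, Finset.insert_eq_of_mem (Finset.mem_singleton_self q0),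
      Finset.insert_eq_of_mem (Finset.mem_singleton_self q0), Finset.sum_singleton,
      show fq q0 - (fq q0 + fq q0 + fq q0) = 2 * -fq q0 by ring]
    exact Blocks.LI.mul_right hM (two_LI hM) (Blocks.LR.neg (hfR q0))
  · have h12 : q1 ≠ q2 := fun e => h01 (hinj (show σ q0 = σ q1 from e))
    have h02 : q0 ≠ q2 := by
      intro e
      have e1 : q1 = σ q2 := e ▸ (conjClasses_map_mk r y).symm
      exact h01 (hq20.symm.trans e1.symm)
    show MemLocalIdeal M (_ - (fq q0 + fq q1 + fq q2))
    rw [Finset.sum_insert (by simp [h01, h02]), Finset.sum_insert (by simp [h12]),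
      Finset.sum_singleton, ← add_assoc, sub_self]
    exact Blocks.LI.zero hM

/-- The functional equation modulo 2 on `fixPart`. -/
theorem mul_congr_fix {ν : oddPart t → ℂ} (hν : IsIrrCharacter (oddPart t) ν)
    (ha : ∀ y, ν (S.aConj y) = ν y) (x y : fixPart t a) :
    MemLocalIdeal M (ν (x : oddPart t) / ν 1 * (ν (y : oddPart t) / ν 1) -
      ∑ z : fixPart t a, ν ((x * (z * y * z⁻¹) : fixPart t a) : oddPart t) / ν 1) := by
  have hfix : ∀ d : fixPart t a, S.aConj (d : oddPart t) = (d : oddPart t) := fun d =>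
    Subtype.ext (S.mem_fixPart.1 d.2)
  have h := S.sum_congr_fix hM
    (fun z : oddPart t => ν ((x : oddPart t) * (z * (y : oddPart t) * z⁻¹)) / ν 1)
    (fun z => S.ratio_LR hM hν _) (fun z => by
      rw [← ha ((x : oddPart t) * (z * (y : oddPart t) * z⁻¹))]
      simp only [map_mul, map_inv, hfix])
  rw [← Finset.sum_div, Blocks.sum_conj_mul (⟨ν, hν⟩ : IrrCharacter (oddPart t))] at h
  refine Blocks.LI.trans hM (Blocks.LI.sub_comm ?_) h
  have e : (Nat.card (oddPart t) : ℂ) * ν (x : oddPart t) * ν (y : oddPart t) / ν 1 / ν 1 -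
      ν (x : oddPart t) / ν 1 * (ν (y : oddPart t) / ν 1) =
      ((Nat.card (oddPart t) : ℂ) - 1) * (ν (x : oddPart t) / ν 1 * (ν (y : oddPart t) / ν 1)) := by
    field_simp
  rw [e]
  obtain ⟨k, hk⟩ := S.odd_card_oddPart
  rw [hk]
  push_cast
  rw [add_sub_cancel_right]
  exact Blocks.LI.mul_right hM (Blocks.LI.mul_right hM (two_LI hM) (Blocks.LR.natCast hM k))
    (Blocks.LR.mul hM (S.ratio_LR hM hν _) (S.ratio_LR hM hν _))

section Three

variable {g : G} (hg : Rot t a g) (φ : Fin 3 → oddPart t →* ℂˣ) (hinj : Function.Injective φ)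
  (hinv : ∀ i y, φ i (S.aConj y) = φ i y)
  (hrot : ∀ i (d : fixPart t a), φ (i + 1) (d : oddPart t) = φ i (S.rotAut hg d : oddPart t))

omit hM in
theorem linear_LR' (hM : IsPModular 2 M) (i : Fin 3) (y : oddPart t) :
    MemLocalRing M (φ i y : ℂ) :=
  irr_LR hM (Char.isCharacter_hom (φ i)) y

include hg hinj hinv hrot

set_option maxHeartbeats 1000000 in
/-- A constituent next to one of the three is one of the three. -/
theorem sect_mem_three (χ : IrrCharacter G) (i₀ : Fin 3)
    (h0 : sect t (χ : G → ℂ) (fun y => (φ i₀ y : ℂ)) ≠ 0) {ν : oddPart t → ℂ}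
    (hν : IsIrrCharacter (oddPart t) ν) (hc : sect t (χ : G → ℂ) ν ≠ 0) :
    ∃ j, ν = fun y => (φ j y : ℂ) := by
  have hirr : ∀ i, IsIrrCharacter (oddPart t) (fun y => (φ i y : ℂ)) := fun i =>
    Char.isIrrCharacter_hom (φ i)
  have hφa : ∀ i y, (φ i (S.aConj y) : ℂ) = φ i y := fun i y => by rw [hinv]
  have ha := S.invariant_of_sect hM χ (hirr i₀) hν (hφa i₀) h0 hc
  have hφ1 : ∀ i, ((φ i 1 : ℂˣ) : ℂ) = 1 := fun i => by rw [map_one, Units.val_one]
  set δ : Fin 3 → fixPart t a →* ℂˣ := fun i => (φ i).comp (fixPart t a).subtype with hδ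
  -- the sums against the three
  set p : (oddPart t → ℂ) → Fin 3 → ℂ := fun ρ j =>
    ∑ d : fixPart t a, ρ (d : oddPart t) / ρ 1 * conj (δ j d : ℂ) with hp
  have hpR : ∀ {ρ : oddPart t → ℂ}, IsIrrCharacter (oddPart t) ρ → ∀ j, MemLocalRing M (p ρ j) :=
    fun hρ j => Blocks.LR.sum hM fun d _ =>
      Blocks.LR.mul hM (S.ratio_LR hM hρ _) (irr_conj_LR hM (Char.isCharacter_hom (δ j)) d)
  have key : ∀ {ρ : oddPart t → ℂ}, IsIrrCharacter (oddPart t) ρ →
      MemLocalIdeal M ((∑ y : fixPart t a, conj (δ i₀ y : ℂ) * ∑ d : fixPart t a,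
          classInd ((y : oddPart t) : G) ((d : oddPart t) : G) *
            (ρ (d : oddPart t) / ρ 1)) - (p ρ i₀ + p ρ (i₀ + 1) + p ρ (i₀ + 1 + 1))) := by
    intro ρ hρ
    simp only [Finset.mul_sum, hp]
    rw [Finset.sum_comm, ← Finset.sum_add_distrib, ← Finset.sum_add_distrib,
      ← Finset.sum_sub_distrib]
    refine Blocks.LI.sum hM fun d _ => ?_
    have hcl : IsClassFunction (fixPart t a) fun z => conj (δ i₀ z : ℂ) :=
      Char.IsCharacter.isClassFunction (Char.IsCharacter.conj' (Char.isCharacter_hom (δ i₀)))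
    have h := S.orbit_congr hM hg d _ hcl (irr_conj_LR hM (Char.isCharacter_hom (δ i₀)))
    have h' := Blocks.LI.mul_left hM (S.ratio_LR hM hρ (d : oddPart t)) h
    convert h' using 1
    rw [mul_sub, Finset.mul_sum]
    congr 1
    · refine Finset.sum_congr rfl fun y _ => ?_
      rw [classInd_comm ((d : oddPart t) : G)]
      ring
    · simp only [hδ, MonoidHom.comp_apply, Subgroup.coe_subtype, hrot]
      ring
  -- both sides agree
  have hmid : MemLocalIdeal M ((∑ y : fixPart t a, conj (δ i₀ y : ℂ) * ∑ d : fixPart t a,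
        classInd ((y : oddPart t) : G) ((d : oddPart t) : G) * (ν (d : oddPart t) / ν 1)) -
      ∑ y : fixPart t a, conj (δ i₀ y : ℂ) * ∑ d : fixPart t a,
        classInd ((y : oddPart t) : G) ((d : oddPart t) : G) *
          ((φ i₀ (d : oddPart t) : ℂ) / (φ i₀ 1 : ℂ))) := by
    rw [← Finset.sum_sub_distrib]
    refine Blocks.LI.sum hM fun y _ => ?_
    rw [← mul_sub]
    refine Blocks.LI.mul_left hM (irr_conj_LR hM (Char.isCharacter_hom (δ i₀)) y) ?_
    have hy₀ := (S.mem_oddPart.1 (y : oddPart t).2).1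
    exact Blocks.LI.trans hM (Blocks.LI.sub_comm (S.avg_congr_fix hM hν ha _))
      (Blocks.LI.trans hM (Blocks.LI.trans hM (Blocks.LI.sub_comm (S.avg_congr hM χ hν hc hy₀))
        (S.avg_congr hM χ (hirr i₀) h0 hy₀)) (S.avg_congr_fix hM (hirr i₀) (hφa i₀) _))
  have hpi : ∀ j, MemLocalIdeal M (p (fun y => (φ i₀ y : ℂ)) j -
      if (fun y => (φ i₀ y : ℂ)) = (fun y => (φ j y : ℂ)) then 1 else 0) := by
    intro j
    have h := S.orth_fix hM (hirr i₀) (hirr j) (hφa i₀) (hφa j)
    simpa [hp, hδ, hφ1] using h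
  have h1 : MemLocalIdeal M ((p ν i₀ + p ν (i₀ + 1) + p ν (i₀ + 1 + 1)) - 1) := by
    have k1 := Blocks.LI.sub_comm (key hν)
    have k2 := key (hirr i₀)
    beta_reduce at k2
    have k3 := Blocks.LI.trans hM k1 hmid
    have k4 := Blocks.LI.trans hM k3 k2
    refine Blocks.LI.trans hM k4 ?_
    have e0 := hpi i₀
    rw [if_pos rfl] at e0
    have e1 := hpi (i₀ + 1)
    have e2 := hpi (i₀ + 1 + 1)
    have hne : ∀ k, i₀ ≠ k → (fun y => (φ i₀ y : ℂ)) ≠ fun y => (φ k y : ℂ) := fun k hk e =>
      hk (hinj (Char.coe_hom_injective e))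
    have h3 : ∀ i : Fin 3, i ≠ i + 1 ∧ i ≠ i + 1 + 1 := by decide
    rw [if_neg (hne _ (h3 i₀).1)] at e1
    rw [if_neg (hne _ (h3 i₀).2)] at e2
    have := Blocks.LI.add hM (Blocks.LI.add hM e0 e1) e2
    convert this using 1
    ring
  obtain ⟨j, hj⟩ : ∃ j, ¬ MemLocalIdeal M (p ν j) := by
    by_contra hall
    push Not at hall
    exact Blocks.LI.not_one hM (by
      have := Blocks.LI.sub hM (Blocks.LI.add hM (Blocks.LI.add hM (hall i₀) (hall (i₀ + 1)))
        (hall (i₀ + 1 + 1))) h1
      rwa [sub_sub_cancel] at this)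
  refine ⟨j, ?_⟩
  by_contra hne
  have hpt : ∀ x : fixPart t a,
      MemLocalIdeal M (ν (x : oddPart t) / ν 1 - (φ j (x : oddPart t) : ℂ)) := by
    intro x
    have hLR : MemLocalRing M (ν (x : oddPart t) / ν 1 - (φ j (x : oddPart t) : ℂ)) :=
      Blocks.LR.sub hM (S.ratio_LR hM hν _) (S.linear_LR' φ hM j _)
    refine (Blocks.LI.mem_or_mem hM hLR (hpR hν j) ?_).resolve_right hj
    have h := Blocks.LI.sum hM (s := Finset.univ) fun (y : fixPart t a) _ =>
      Blocks.LI.mul_right hM (S.mul_congr_fix hM hν ha x y)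
        (irr_conj_LR hM (Char.isCharacter_hom (δ j)) y)
    simp only [sub_mul, Finset.sum_sub_distrib] at h
    have eB : ∀ z : fixPart t a, ∑ y : fixPart t a,
        ν ((x * (z * y * z⁻¹) : fixPart t a) : oddPart t) / ν 1 * conj (δ j y : ℂ) =
        (φ j (x : oddPart t) : ℂ) * p ν j := by
      intro z
      rw [hp]
      simp only [Finset.mul_sum]
      refine Fintype.sum_equiv ((MulAut.conj z).toEquiv.trans (Equiv.mulLeft x)) _ _ fun y => ?_
      simp only [MulEquiv.toEquiv_eq_coe, Equiv.trans_apply, EquivLike.coe_coe,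
        MulAut.conj_apply, Equiv.coe_mulLeft]
      have e3 : conj (δ j (x * (z * y * z⁻¹)) : ℂ) = conj (δ j x : ℂ) * conj (δ j y : ℂ) := by
        rw [← map_mul, ← Units.val_mul, map_mul (δ j), map_mul (δ j), map_mul (δ j), map_inv,
          mul_comm (δ j z) (δ j y), mul_inv_cancel_right]
      rw [e3]
      have e4 := hom_mul_conj (δ j) x
      have e5 : (δ j x : ℂ) = (φ j (x : oddPart t) : ℂ) := rfl
      rw [← e5]
      linear_combination (-(ν ((x * (z * y * z⁻¹) : fixPart t a) : oddPart t) / ν 1 *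
        conj (δ j y : ℂ))) * e4
    have eA : ∑ y : fixPart t a, ν (x : oddPart t) / ν 1 * (ν (y : oddPart t) / ν 1) *
        conj (δ j y : ℂ) = ν (x : oddPart t) / ν 1 * p ν j := by
      simp only [hp, Finset.mul_sum, mul_assoc]
    have eC : ∑ y : fixPart t a, (∑ z : fixPart t a,
        ν ((x * (z * y * z⁻¹) : fixPart t a) : oddPart t) / ν 1) * conj (δ j y : ℂ) =
        (Nat.card (fixPart t a) : ℂ) * ((φ j (x : oddPart t) : ℂ) * p ν j) := by
      simp only [Finset.sum_mul]
      rw [Finset.sum_comm, Finset.sum_congr rfl fun z _ => eB z, Finset.sum_const,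
        Finset.card_univ, ← Nat.card_eq_fintype_card, nsmul_eq_mul]
    rw [eA, eC] at h
    have h' := Blocks.LI.add hM h (Blocks.LI.mul_right hM (S.card_fixPart_congr hM)
      (Blocks.LR.mul hM (S.linear_LR' φ hM j (x : oddPart t)) (hpR hν j)))
    convert h' using 1
    ring
  -- orthogonality separates `ν` from `φ j`
  have o1 := S.orth_fix hM hν (hirr j) ha (hφa j)
  rw [if_neg hne, sub_zero] at o1
  have h6 : MemLocalIdeal M ((∑ x : fixPart t a, ν (x : oddPart t) / ν 1 *
      conj (φ j (x : oddPart t) : ℂ)) - (Nat.card (fixPart t a) : ℂ)) := by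
    rw [show (Nat.card (fixPart t a) : ℂ) = ∑ x : fixPart t a,
      (φ j (x : oddPart t) : ℂ) * conj (φ j (x : oddPart t) : ℂ) by
        rw [Finset.sum_congr rfl fun (x : fixPart t a) _ => hom_mul_conj (φ j) (x : oddPart t), Finset.sum_const,
          Finset.card_univ, ← Nat.card_eq_fintype_card, nsmul_eq_mul, mul_one],
      ← Finset.sum_sub_distrib]
    refine Blocks.LI.sum hM fun x _ => ?_
    rw [← sub_mul]
    exact Blocks.LI.mul_right hM (hpt x) (irr_conj_LR hM (Char.isCharacter_hom (φ j)) _)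
  have h7 := Blocks.LI.trans hM h6 (S.card_fixPart_congr hM)
  simp only [div_mul_eq_mul_div, ← Finset.sum_div] at h7
  have h8 : MemLocalIdeal M ((∑ x : fixPart t a,
      ν (x : oddPart t) * conj (φ j (x : oddPart t) : ℂ)) / ν 1) :=
    Blocks.LI.mul_right hM o1
      (Blocks.LR.inv hM (irr_LR hM (Char.IsIrrCharacter.isCharacter hν) 1) (S.degree_not_LI hM hν))
  have := Blocks.LI.sub hM h8 h7
  rw [sub_sub_cancel] at this
  exact Blocks.LI.not_one hM this

/-- A character with one of the three in its section has all three, and only them. -/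
theorem sect_three (χ : IrrCharacter G) (i₀ : Fin 3)
    (h0 : coeff (S.lift fun y => (φ i₀ y : ℂ)) χ ≠ 0) :
    (∀ j, coeff (S.lift fun y => (φ j y : ℂ)) χ ≠ 0) ∧
      ∀ y : oddPart t, (χ : G → ℂ) (t * y) =
        ∑ j, (coeff (S.lift fun y => (φ j y : ℂ)) χ : ℂ) * (φ j y : ℂ) := by
  set μ : Fin 3 → IrrCharacter (oddPart t) := fun j =>
    ⟨fun y => (φ j y : ℂ), Char.isIrrCharacter_hom (φ j)⟩ with hμ
  have hμinj : Function.Injective μ := fun i j e =>
    hinj (Char.coe_hom_injective (congrArg Subtype.val e))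
  set c : Fin 3 → ℤ := fun j => coeff (S.lift fun y => (φ j y : ℂ)) χ with hcdef
  have hsect : ∀ j, sect t (χ : G → ℂ) (μ j).1 = (c j : ℂ) := fun j =>
    (S.cast_coeff_lift (Char.isCharacter_hom (φ j)) χ).symm
  have h0' : sect t (χ : G → ℂ) (μ i₀).1 ≠ 0 := by
    rw [hsect]; exact_mod_cast h0
  have hexp : ∀ y : oddPart t, (χ : G → ℂ) (t * y) = ∑ j, (c j : ℂ) * (φ j y : ℂ) := by
    intro y
    have h := congrFun (Char.IsClassFunction.eq_sum_irr (S.isClassFunction_section χ)) y
    simp only [Finset.sum_apply, Pi.smul_apply, smul_eq_mul] at h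
    rw [h, ← Finset.sum_subset (Finset.subset_univ (Finset.univ.image μ)) (fun ν _ hν => by
      refine mul_eq_zero_of_left ?_ _
      by_contra hne
      obtain ⟨j, hj⟩ := S.sect_mem_three hM hg φ hinj hinv hrot χ i₀ h0' ν.2 hne
      exact hν (Finset.mem_image.2 ⟨j, Finset.mem_univ _, Subtype.ext hj.symm⟩)),
      Finset.sum_image fun i _ j _ e => hμinj e]
    refine Finset.sum_congr rfl fun j _ => ?_
    rw [← hsect]
    rfl
  refine ⟨?_, hexp⟩
  have hval : ∀ d : fixPart t a,
      MemLocalIdeal M ((χ : G → ℂ) (t * ((d : oddPart t) : G)) -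
        (χ : G → ℂ) ((d : oddPart t) : G)) := by
    intro d
    obtain ⟨n, ρ, -, he⟩ := χ.2
    rw [← he]
    exact Blocks.character_mul_congr hM ρ (k := 1) (by rw [S.t2, pow_one])
      (commute_of_mem_oddPart (d : oddPart t).2)
  have hstep : ∀ d : fixPart t a, MemLocalIdeal M
      (∑ j, (c j : ℂ) * ((φ (j + 1) (d : oddPart t) : ℂ) - (φ j (d : oddPart t) : ℂ))) := by
    intro d
    have e1 : (χ : G → ℂ) ((S.rotAut hg d : oddPart t) : G) = (χ : G → ℂ) ((d : oddPart t) : G) := by
      rw [S.coe_rotAut, Blocks.irr_conj_apply]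
    have h := Blocks.LI.sub hM (hval (S.rotAut hg d)) (hval d)
    rw [e1, sub_sub_sub_cancel_right, hexp, hexp, ← Finset.sum_sub_distrib] at h
    convert h using 1
    refine Finset.sum_congr rfl fun j _ => ?_
    rw [hrot, mul_sub]
  have hpar : ∀ k : Fin 3, (2 : ℤ) ∣ c (k + 2) - c k := by
    intro k
    refine (Blocks.LI.intCast_iff hM _).1 ?_
    have h := Blocks.LI.sum hM (s := Finset.univ) fun (d : fixPart t a) _ =>
      Blocks.LI.mul_right hM (hstep d) (irr_conj_LR hM (Char.isCharacter_hom (φ k)) (d : oddPart t))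
    simp only [Finset.sum_mul] at h
    rw [Finset.sum_comm] at h
    set δ : Fin 3 → Fin 3 → ℂ := fun i j => if i = j then 1 else 0 with hδ
    have horth : ∀ i, MemLocalIdeal M ((∑ d : fixPart t a,
        (φ i (d : oddPart t) : ℂ) * conj (φ k (d : oddPart t) : ℂ)) - δ i k) := by
      intro i
      have h := S.orth_fix hM (Char.isIrrCharacter_hom (φ i)) (Char.isIrrCharacter_hom (φ k))
        (fun y => by rw [hinv]) (fun y => by rw [hinv])
      convert h using 2
      rw [hδ]
      refine if_congr ⟨fun e => by rw [e], fun e => hinj (Char.coe_hom_injective e)⟩ rfl rfl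
    have h2 : MemLocalIdeal M (∑ j, (c j : ℂ) * (δ (j + 1) k - δ j k)) := by
      have h3 := Blocks.LI.sum hM (s := Finset.univ) fun (j : Fin 3) _ =>
        Blocks.LI.mul_left hM (Blocks.LR.intCast hM (c j))
          (Blocks.LI.sub hM (horth (j + 1)) (horth j))
      have h4 := Blocks.LI.sub hM h h3
      convert h4 using 1
      rw [← Finset.sum_sub_distrib]
      refine Finset.sum_congr rfl fun j _ => ?_
      rw [Finset.sum_congr rfl fun (d : fixPart t a) _ => mul_assoc (c j : ℂ) _ _,
        ← Finset.mul_sum]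
      simp only [sub_mul, Finset.sum_sub_distrib]
      ring
    have hk : ∀ j : Fin 3, j + 1 = k ↔ j = k + 2 := fun j =>
      (by decide : ∀ k j : Fin 3, j + 1 = k ↔ j = k + 2) k j
    simp only [hδ, hk, mul_sub, Finset.sum_sub_distrib, mul_ite, mul_one, mul_zero,
      Finset.sum_ite_eq', Finset.mem_univ, if_true] at h2
    push_cast
    exact h2
  intro j hj
  have h2 : ¬ (2 : ℤ) ∣ c i₀ := by
    rcases S.coeff_eq_one_or (Char.isIrrCharacter_hom (φ i₀)) h0 with e | e <;>
      simp only [hcdef, e] <;> decide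
  have hall : ∀ i k : Fin 3, k = i ∨ k = i + 2 ∨ k = i + 2 + 2 := by decide
  have hjc : c j = 0 := hj
  rcases hall j i₀ with rfl | rfl | rfl
  · exact h2 (hjc ▸ dvd_zero 2)
  · have := hpar j
    rw [hjc, sub_zero] at this
    exact h2 this
  · have h5 := dvd_add (hpar (j + 2)) (hpar j)
    rw [hjc, sub_zero, sub_add_cancel] at h5
    exact h2 h5

end Three

end Setting

end CfsgLib.GWKlein
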