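import Cfsg.Agent.Lib.GWKlein.Overgroup
import Mathlib.GroupTheory.SpecificGroups.Cyclic

/-!
# Gorenstein–Walter, the shape of `O = oddPart t`: cores and central elements

What the local analysis gives about the cores `O_r(O)`: none is centralised by `a`, the centre of
`O` is inverted by `a`, and an abelian subgroup of `O_r(O)` normal in `O` is central and inverted.
`CoreHyp` collects the consequences from which the structure of the cores is derived; it is shared
with dihedral Sylow 2-subgroups, where it holds for both reflections.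
-/

set_option autoImplicit false
set_option linter.unusedSectionVars false
set_option linter.style.haveILetI false

universe u

namespace CfsgLib.GWKlein

open Subgroup CfsgLib.Components.Bender
open CfsgLib.Components (map_subtype_normal_of_characteristic)
open scoped commutatorElement

/-- What the shape of `oddPart t` is derived from. -/
structure ShapeHyp {G : Type u} [Group G] (t a : G) : Prop where
  setting : Setting G t a
  gen : oddPart t ≤ closure {y | y ∈ oddPart t ∧ a * y * a⁻¹ = y⁻¹}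
  overgroup : ∀ r : ℕ, r.Prime → (¬ ∀ y ∈ coreIn r (oddPart t), Commute a y) →
    ∀ x ∈ coreIn r (oddPart t), Commute a x → x ≠ 1 → ∃ H T : Subgroup G, H ≠ ⊤ ∧
      four t a ≤ H ∧ centralizer ({x} : Set G) ≤ H ∧ RotData t a H T
  moduleFree : ∀ r : ℕ, r.Prime → (¬ ∀ y ∈ coreIn r (oddPart t), Commute a y) →
    ∀ Y : Subgroup G, Y ≤ coreIn r (oddPart t) → (∀ y ∈ Y, y ^ r = 1) →
      (∀ y ∈ Y, ∀ z ∈ Y, Commute y z) → oddPart t ≤ normalizer (Y : Set G) →
        ∀ y ∈ Y, Commute a y → y = 1
  centralFixed : ∀ x ∈ oddPart t, x ≠ 1 → Commute a x → oddPart t ≤ centralizer ({x} : Set G) →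
    ∀ y ∈ oddPart t, oddPart t ≤ centralizer ({y} : Set G) → Commute a y

/-- What the structure of the cores of `oddPart t` is derived from. -/
structure CoreHyp {G : Type u} [Group G] (t a : G) : Prop where
  a_mul_self : a * a = 1
  comm : Commute t a
  overgroup : ∀ r : ℕ, r.Prime → (¬ ∀ y ∈ coreIn r (oddPart t), Commute a y) →
    ∀ x ∈ coreIn r (oddPart t), Commute a x → x ≠ 1 → ∃ H T : Subgroup G, H ≠ ⊤ ∧
      four t a ≤ H ∧ centralizer ({x} : Set G) ≤ H ∧ RotData t a H T
  abelian : ∀ r : ℕ, r.Prime → ∀ Y : Subgroup G, Y ≤ coreIn r (oddPart t) →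
    (∀ y ∈ Y, ∀ z ∈ Y, Commute y z) →
      (∀ c ∈ normalizer (coreIn r (oddPart t) : Set G), c ∈ normalizer (Y : Set G)) →
        ∀ y ∈ Y, oddPart t ≤ centralizer ({y} : Set G) ∧ a * y * a⁻¹ = y⁻¹
  center_inverted : ∀ y ∈ oddPart t, oddPart t ≤ centralizer ({y} : Set G) → a * y * a⁻¹ = y⁻¹

variable {G : Type u} [Group G] [Finite G] {t a : G}

/-- An involution commuting with `t` normalises `oddPart t`. -/
theorem conj_mem_oddPart_of_commute (hc : Commute t a) {y : G} (hy : y ∈ oddPart t) :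
    a * y * a⁻¹ ∈ oddPart t :=
  core_conj_mem _ (Subgroup.le_normalizer (mem_centralizer_singleton_iff.2 hc.symm.eq)) hy

/-- `a` fixes `y * (a * y * a⁻¹)` when the factors commute. -/
theorem commute_mul_conj_of_sq (ha : a * a = 1) {y : G} (hc : Commute y (a * y * a⁻¹)) :
    Commute a (y * (a * y * a⁻¹)) := by
  refine mul_inv_eq_iff_eq_mul.1 ?_
  rw [show a * (y * (a * y * a⁻¹)) * a⁻¹ = a * y * a⁻¹ * ((a * a) * y * (a⁻¹ * a⁻¹)) by group,
    ha, ← mul_inv_rev, ha, inv_one, one_mul, mul_one, hc.eq]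

theorem mem_normalizer_of_map_le {Y : Subgroup G} {c : G} (h : ∀ y ∈ Y, c * y * c⁻¹ ∈ Y) :
    c ∈ normalizer (Y : Set G) :=
  mem_normalizer_iff_map_conj_eq.2 (eq_of_le_of_card_ge (by rintro _ ⟨y, hy, rfl⟩; exact h y hy)
    (card_map_of_injective (MulAut.conj c).injective).ge)

/-- `P ∩ C(P)` is normalised by what normalises `P`. -/
theorem mem_normalizer_center {P : Subgroup G} {c : G} (hc : c ∈ normalizer (P : Set G)) :
    c ∈ normalizer ((P ⊓ centralizer (P : Set G) : Subgroup G) : Set G) :=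
  mem_normalizer_of_map_le fun y hy => ⟨(mem_normalizer_iff.1 hc y).1 hy.1,
    mem_centralizer_iff.2 fun p hp => by
      have h1 : c⁻¹ * p * c ∈ P := (mem_normalizer_iff.1 hc _).2 (by simpa [mul_assoc] using hp)
      have h2 := (Commute.conj_iff c).2
        (show Commute (c⁻¹ * p * c) y from mem_centralizer_iff.1 hy.2 _ h1)
      rwa [show c * (c⁻¹ * p * c) * c⁻¹ = p by group] at h2⟩

/-- An element of odd order commutes with what its square commutes with. -/
theorem commute_of_commute_sq {x y : G} (hx : Odd (orderOf x)) (h : Commute (x * x) y) :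
    Commute x y := by
  obtain ⟨m, hm⟩ := hx
  have e : x = (x * x) ^ (m + 1) := by
    rw [← pow_two, ← pow_mul, show 2 * (m + 1) = orderOf x + 1 by omega, pow_succ, pow_orderOf_eq_one,
      one_mul]
  rw [e]
  exact h.pow_left _

namespace ShapeHyp

variable (h : ShapeHyp t a)
include h

theorem odd_mem {y : G} (hy : y ∈ oddPart t) : Odd (orderOf y) :=
  odd_orderOf (odd_card_core _) hy

theorem a_conj {y : G} (hy : y ∈ oddPart t) : a * y * a⁻¹ ∈ oddPart t :=
  conj_mem_oddPart_of_commute h.setting.comm hy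

theorem a_mem_normalizer : a ∈ normalizer (oddPart t : Set G) :=
  mem_normalizer_of_map_le fun _ hy => h.a_conj hy

theorem commute_mul_conj {y : G} (hc : Commute y (a * y * a⁻¹)) :
    Commute a (y * (a * y * a⁻¹)) := commute_mul_conj_of_sq h.setting.a_mul_self hc

/-- `oddPart t` centralises what it normalises and `a` centralises. -/
theorem le_centralizer_of_fixed {Y : Subgroup G} (hn : oddPart t ≤ normalizer (Y : Set G))
    (hfix : ∀ y ∈ Y, Commute a y) : oddPart t ≤ centralizer (Y : Set G) := by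
  refine h.gen.trans ((closure_le _).2 fun i ⟨hi, hai⟩ => mem_centralizer_iff.2 fun y hy => ?_)
  have h1 : i * y * i⁻¹ ∈ Y := (mem_normalizer_iff.1 (hn hi) y).1 hy
  have h2 := mul_inv_eq_iff_eq_mul.2 (hfix _ h1).eq
  rw [show a * (i * y * i⁻¹) * a⁻¹ = a * i * a⁻¹ * (a * y * a⁻¹) * (a * i * a⁻¹)⁻¹ by group, hai,
    mul_inv_eq_iff_eq_mul.2 (hfix y hy).eq, inv_inv] at h2
  refine (commute_of_commute_sq (h.odd_mem hi) ?_).eq.symm
  show i * i * y = y * (i * i)
  calc i * i * y = i * (i * y * i⁻¹) * i := by group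
    _ = i * (i⁻¹ * y * i) * i := by rw [h2]
    _ = y * (i * i) := by group

/-- `oddPart t` centralises what it normalises and `a` inverts. -/
theorem le_centralizer_of_inverted {Y : Subgroup G} (hn : oddPart t ≤ normalizer (Y : Set G))
    (hinv : ∀ y ∈ Y, a * y * a⁻¹ = y⁻¹) : oddPart t ≤ centralizer (Y : Set G) := by
  refine h.gen.trans ((closure_le _).2 fun i ⟨hi, hai⟩ => mem_centralizer_iff.2 fun y hy => ?_)
  have h1 : i * y * i⁻¹ ∈ Y := (mem_normalizer_iff.1 (hn hi) y).1 hy
  have h2 := hinv _ h1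
  rw [show a * (i * y * i⁻¹) * a⁻¹ = a * i * a⁻¹ * (a * y * a⁻¹) * (a * i * a⁻¹)⁻¹ by group, hai,
    hinv y hy, inv_inv, show (i * y * i⁻¹)⁻¹ = i * y⁻¹ * i⁻¹ by group] at h2
  refine (commute_of_commute_sq (h.odd_mem hi) ?_).eq.symm
  refine Commute.inv_right_iff.1 ?_
  show i * i * y⁻¹ = y⁻¹ * (i * i)
  calc i * i * y⁻¹ = i * (i * y⁻¹ * i⁻¹) * i := by group
    _ = i * (i⁻¹ * y⁻¹ * i) * i := by rw [h2]
    _ = y⁻¹ * (i * i) := by group

theorem le_normalizer_core (r : ℕ) : oddPart t ≤ normalizer (coreIn r (oddPart t) : Set G) :=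
  le_normalizer_coreIn r _

theorem a_mem_normalizer_core (r : ℕ) : a ∈ normalizer (coreIn r (oddPart t) : Set G) :=
  map_subtype_normal_of_characteristic h.a_mem_normalizer

/-- An abelian subgroup of a moved core normal in `O` has no fixed element. -/
theorem abelian_free {r : ℕ} (hr : r.Prime) (hmv : ¬ ∀ y ∈ coreIn r (oddPart t), Commute a y)
    {Y : Subgroup G} (hY : Y ≤ coreIn r (oddPart t)) (hab : ∀ y ∈ Y, ∀ z ∈ Y, Commute y z)
    (hn : oddPart t ≤ normalizer (Y : Set G)) {y : G} (hy : y ∈ Y) (hay : Commute a y) : y = 1 := by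
  haveI := Fact.mk hr
  by_contra hy1
  obtain ⟨k, hk⟩ := IsPGroup.iff_orderOf.1 (isPGroup_coreIn r (oddPart t)) ⟨y, hY hy⟩
  rw [Subgroup.orderOf_mk] at hk
  obtain ⟨j, rfl⟩ : ∃ j, k = j + 1 := by
    rcases k with _ | j
    · exact absurd (orderOf_eq_one_iff.1 (hk.trans (pow_zero r))) hy1
    · exact ⟨j, rfl⟩
  let Y₀ : Subgroup G :=
    { carrier := {z | z ∈ Y ∧ z ^ r = 1}
      one_mem' := ⟨one_mem _, one_pow _⟩
      mul_mem' := fun {u v} hu hv => ⟨mul_mem hu.1 hv.1, by
        rw [(hab u hu.1 v hv.1).mul_pow, hu.2, hv.2, one_mul]⟩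
      inv_mem' := fun {u} hu => ⟨inv_mem hu.1, by rw [inv_pow, hu.2, inv_one]⟩ }
  have hy0 : y ^ r ^ j ∈ Y₀ := ⟨pow_mem hy _, by
    rw [← pow_mul, ← pow_succ, ← hk, pow_orderOf_eq_one]⟩
  have h1 := h.moduleFree r hr hmv Y₀ (fun z hz => hY hz.1) (fun z hz => hz.2)
    (fun u hu v hv => hab u hu.1 v hv.1) (fun c hc => mem_normalizer_of_map_le fun z hz =>
      ⟨(mem_normalizer_iff.1 (hn hc) z).1 hz.1, by rw [conj_pow, hz.2, mul_one, mul_inv_cancel]⟩)
    _ hy0 (hay.pow_right _)
  have h2 := orderOf_dvd_of_pow_eq_one h1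
  rw [hk, Nat.pow_dvd_pow_iff_le_right hr.one_lt] at h2
  omega

/-- An abelian subgroup of a moved core normal in `O⟨a⟩` is inverted by `a`. -/
theorem abelian_inverted {r : ℕ} (hr : r.Prime) (hmv : ¬ ∀ y ∈ coreIn r (oddPart t), Commute a y)
    {Y : Subgroup G} (hY : Y ≤ coreIn r (oddPart t)) (hab : ∀ y ∈ Y, ∀ z ∈ Y, Commute y z)
    (hn : oddPart t ≤ normalizer (Y : Set G)) (haY : a ∈ normalizer (Y : Set G)) {y : G}
    (hy : y ∈ Y) : a * y * a⁻¹ = y⁻¹ := by
  have h1 : a * y * a⁻¹ ∈ Y := (mem_normalizer_iff.1 haY y).1 hy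
  exact eq_inv_of_mul_eq_one_right (h.abelian_free hr hmv hY hab hn (mul_mem hy h1)
    (h.commute_mul_conj (hab y hy _ h1)))

/-- A subgroup centralising every core of `O` lies in the Fitting subgroup. -/
theorem mem_fitIn_oddPart {y : G} (hy : y ∈ oddPart t)
    (hc : ∀ q : ℕ, q.Prime → ∀ f ∈ coreIn q (oddPart t), Commute y f) : y ∈ fitIn (oddPart t) :=
  mem_fitIn_of_odd (odd_card_core _) hy hc

theorem exists_core_ne_bot (hO : oddPart t ≠ ⊥) :
    ∃ r : ℕ, r.Prime ∧ coreIn r (oddPart t) ≠ ⊥ := by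
  by_contra hc
  push Not at hc
  refine hO (eq_bot_iff.2 fun y hy => ?_)
  have hyF : y ∈ fitIn (oddPart t) := h.mem_fitIn_oddPart hy fun q hq f hf => by
    rw [hc q hq, mem_bot] at hf
    rw [hf]
    exact Commute.one_right y
  exact le_of_parts (T := (⊥ : Subgroup G)) le_rfl
    (fun q hq _ => inf_le_left.trans (hc q hq).le) hyF

/-- No non-trivial core of `oddPart t` is centralised by `a`. -/
theorem not_centralised {r : ℕ} (hr : r.Prime) (hP : coreIn r (oddPart t) ≠ ⊥) :
    ¬ ∀ y ∈ coreIn r (oddPart t), Commute a y := by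
  intro hfix
  have hPO := coreIn_le r (oddPart t)
  obtain ⟨x, hx, hx1⟩ := (coreIn r (oddPart t)).bot_or_exists_ne_one.resolve_left hP
  have hc := h.le_centralizer_of_fixed (h.le_normalizer_core r) hfix
  have hxc : oddPart t ≤ centralizer ({x} : Set G) := fun c hcO =>
    mem_centralizer_singleton_iff.2 (mem_centralizer_iff.1 (hc hcO) x hx).symm
  have hcen := h.centralFixed x (hPO hx) hx1 (hfix x hx) hxc
  -- every core is centralised
  have hall : ∀ q : ℕ, q.Prime → ∀ y ∈ coreIn q (oddPart t), Commute a y := by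
    intro q hq
    by_contra hmv
    set P := coreIn q (oddPart t) with hPdef
    haveI := Fact.mk hq
    have hPne : P ≠ ⊥ := fun e => hmv fun y hy => by
      rw [e, mem_bot] at hy; rw [hy]; exact Commute.one_right a
    set Y := P ⊓ centralizer (P : Set G) with hY
    have hYn : oddPart t ≤ normalizer (Y : Set G) := fun c hcO =>
      mem_normalizer_center (h.le_normalizer_core q hcO)
    have hYinv : ∀ y ∈ Y, a * y * a⁻¹ = y⁻¹ := fun y hy =>
      h.abelian_inverted hq hmv inf_le_left
        (fun u hu v hv => mem_centralizer_iff.1 hv.2 u hu.1) hYn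
        (mem_normalizer_center (h.a_mem_normalizer_core q)) hy
    haveI : Nontrivial P := P.nontrivial_iff_ne_bot.2 hPne
    haveI := (isPGroup_coreIn q (oddPart t)).center_nontrivial
    obtain ⟨z, hz⟩ := exists_ne (1 : center P)
    have hzY : ((z : P) : G) ∈ Y := ⟨(z : P).2, mem_centralizer_iff.2 fun p hp =>
      congrArg Subtype.val (mem_center_iff.1 z.2 ⟨p, hp⟩)⟩
    have hzO : ((z : P) : G) ∈ oddPart t := coreIn_le q _ hzY.1
    have hza : Commute a ((z : P) : G) := hcen _ hzO fun c hcO =>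
      mem_centralizer_singleton_iff.2
        (mem_centralizer_iff.1 (h.le_centralizer_of_inverted hYn hYinv hcO) _ hzY).symm
    have h1 := hYinv _ hzY
    rw [hza.eq, mul_inv_cancel_right] at h1
    have h2 : orderOf ((z : P) : G) ∣ 2 := orderOf_dvd_of_pow_eq_one (by
      rw [pow_two]; nth_rw 2 [h1]; exact mul_inv_cancel _)
    have h3 : ((z : P) : G) = 1 := orderOf_eq_one_iff.1
      (Nat.eq_one_of_dvd_coprimes (Nat.coprime_two_left.2 (h.odd_mem hzO)) h2 dvd_rfl)
    exact hz (Subtype.ext (Subtype.ext h3))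
  -- so `a` centralises `O = F(O)`
  have hOF : oddPart t ≤ fitIn (oddPart t) := fun y hy =>
    h.mem_fitIn_oddPart hy fun q hq f hf =>
      (mem_centralizer_iff.1 (h.le_centralizer_of_fixed (h.le_normalizer_core q) (hall q hq) hy)
        f hf).symm
  have hOa : oddPart t ≤ centralizer ({a} : Set G) := hOF.trans (le_of_parts le_rfl
    fun q hq _ y hy => mem_centralizer_singleton_iff.2 (hall q hq y hy.1).symm.eq)
  refine hx1 (mem_bot.1 (?_ : x ∈ (⊥ : Subgroup G)))
  refine (h.gen.trans ((closure_le _).2 fun i ⟨hi, hai⟩ => ?_)) (hPO hx)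
  have h1 : Commute a i := (mem_centralizer_singleton_iff.1 (hOa hi)).symm
  exact mem_bot.2 (eq_one_of_inverted (h.odd_mem hi) hai h1)

/-- The centre of `oddPart t` is inverted by `a`. -/
theorem center_inverted {y : G} (hy : y ∈ oddPart t) (hyc : oddPart t ≤ centralizer ({y} : Set G)) :
    a * y * a⁻¹ = y⁻¹ := by
  have hay := h.a_conj hy
  have hayc : oddPart t ≤ centralizer ({a * y * a⁻¹} : Set G) := fun c hc => by
    have h1 : a⁻¹ * c * a ∈ oddPart t :=
      (mem_normalizer_iff.1 h.a_mem_normalizer _).2 (by simpa [mul_assoc] using hc)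
    have h2 := (Commute.conj_iff a).2
      (show Commute (a⁻¹ * c * a) y from mem_centralizer_singleton_iff.1 (hyc h1))
    rw [show a * (a⁻¹ * c * a) * a⁻¹ = c by group] at h2
    exact mem_centralizer_singleton_iff.2 h2.eq
  set z := y * (a * y * a⁻¹) with hz
  have hzc : oddPart t ≤ centralizer ({z} : Set G) := fun c hc =>
    mem_centralizer_singleton_iff.2 (Commute.mul_right (mem_centralizer_singleton_iff.1 (hyc hc))
      (mem_centralizer_singleton_iff.1 (hayc hc))).eq
  have hza : Commute a z := h.commute_mul_conj (mem_centralizer_singleton_iff.1 (hyc hay)).symm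
  refine eq_inv_of_mul_eq_one_right ?_
  by_contra hz1
  have hcen := h.centralFixed z (mul_mem hy hay) hz1 hza hzc
  obtain ⟨r, hr, hP⟩ := h.exists_core_ne_bot fun e =>
    hz1 (mem_bot.1 (e ▸ mul_mem hy hay))
  haveI := Fact.mk hr
  have hmv := h.not_centralised hr hP
  set P := coreIn r (oddPart t) with hPdef
  haveI : Nontrivial P := P.nontrivial_iff_ne_bot.2 hP
  haveI := (isPGroup_coreIn r (oddPart t)).center_nontrivial
  obtain ⟨w, hw⟩ := exists_ne (1 : center P)
  set Y := P ⊓ centralizer (P : Set G) with hY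
  have hwY : ((w : P) : G) ∈ Y := ⟨(w : P).2, mem_centralizer_iff.2 fun p hp =>
    congrArg Subtype.val (mem_center_iff.1 w.2 ⟨p, hp⟩)⟩
  have hYn : oddPart t ≤ normalizer (Y : Set G) := fun c hc =>
    mem_normalizer_center (h.le_normalizer_core r hc)
  have hYinv : ∀ u ∈ Y, a * u * a⁻¹ = u⁻¹ := fun u hu =>
    h.abelian_inverted hr hmv inf_le_left
      (fun u hu v hv => mem_centralizer_iff.1 hv.2 u hu.1) hYn
      (mem_normalizer_center (h.a_mem_normalizer_core r)) hu
  have hwO : ((w : P) : G) ∈ oddPart t := coreIn_le r _ hwY.1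
  have hwa : Commute a ((w : P) : G) := hcen _ hwO fun c hc =>
    mem_centralizer_singleton_iff.2
      (mem_centralizer_iff.1 (h.le_centralizer_of_inverted hYn hYinv hc) _ hwY).symm
  exact hw (Subtype.ext (Subtype.ext (eq_one_of_inverted (h.odd_mem hwO) (hYinv _ hwY) hwa)))

/-- `O_r(O) ∩ C(O_r(O))` is central in `oddPart t` and inverted. -/
theorem core_center {r : ℕ} (hr : r.Prime) {y : G}
    (hy : y ∈ coreIn r (oddPart t) ⊓ centralizer (coreIn r (oddPart t) : Set G)) :
    oddPart t ≤ centralizer ({y} : Set G) ∧ a * y * a⁻¹ = y⁻¹ := by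
  set P := coreIn r (oddPart t) with hP
  by_cases hPne : P = ⊥
  · rw [show y = 1 from mem_bot.1 (hPne ▸ hy.1)]
    exact ⟨fun c _ => mem_centralizer_singleton_iff.2 (by simp), by simp⟩
  have hmv := h.not_centralised hr hPne
  have hYn : oddPart t ≤ normalizer ((P ⊓ centralizer (P : Set G) : Subgroup G) : Set G) :=
    fun c hc => mem_normalizer_center (h.le_normalizer_core r hc)
  have hinv : ∀ u ∈ P ⊓ centralizer (P : Set G), a * u * a⁻¹ = u⁻¹ := fun u hu =>
    h.abelian_inverted hr hmv inf_le_left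
      (fun u hu v hv => mem_centralizer_iff.1 hv.2 u hu.1) hYn
      (mem_normalizer_center (h.a_mem_normalizer_core r)) hu
  exact ⟨fun c hc => mem_centralizer_singleton_iff.2
    (mem_centralizer_iff.1 (h.le_centralizer_of_inverted hYn hinv hc) y hy).symm, hinv y hy⟩

/-- The consequences used for the structure of the cores. -/
theorem coreHyp : CoreHyp t a where
  a_mul_self := h.setting.a_mul_self
  comm := h.setting.comm
  overgroup := h.overgroup
  abelian := fun r hr Y hY hab hn y hy => by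
    have hYn : oddPart t ≤ normalizer (Y : Set G) := fun c hc => hn c (h.le_normalizer_core r hc)
    by_cases hPne : coreIn r (oddPart t) = ⊥
    · rw [show y = 1 from mem_bot.1 (hPne ▸ hY hy)]
      exact ⟨fun c _ => mem_centralizer_singleton_iff.2 (by simp), by simp⟩
    have hinv : ∀ u ∈ Y, a * u * a⁻¹ = u⁻¹ := fun u hu =>
      h.abelian_inverted hr (h.not_centralised hr hPne) hY hab hYn
        (hn a (h.a_mem_normalizer_core r)) hu
    exact ⟨fun c hc => mem_centralizer_singleton_iff.2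
      (mem_centralizer_iff.1 (h.le_centralizer_of_inverted hYn hinv hc) y hy).symm, hinv y hy⟩
  center_inverted := fun _ hy hyc => h.center_inverted hy hyc

end ShapeHyp

namespace CoreHyp

variable (h : CoreHyp t a)
include h

theorem odd_mem {y : G} (hy : y ∈ oddPart t) : Odd (orderOf y) :=
  odd_orderOf (odd_card_core _) hy

theorem a_conj {y : G} (hy : y ∈ oddPart t) : a * y * a⁻¹ ∈ oddPart t :=
  conj_mem_oddPart_of_commute h.comm hy

theorem a_mem_normalizer : a ∈ normalizer (oddPart t : Set G) :=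
  mem_normalizer_of_map_le fun _ hy => h.a_conj hy

theorem commute_mul_conj {y : G} (hc : Commute y (a * y * a⁻¹)) :
    Commute a (y * (a * y * a⁻¹)) := commute_mul_conj_of_sq h.a_mul_self hc

theorem le_normalizer_core (r : ℕ) : oddPart t ≤ normalizer (coreIn r (oddPart t) : Set G) :=
  le_normalizer_coreIn r _

theorem a_mem_normalizer_core (r : ℕ) : a ∈ normalizer (coreIn r (oddPart t) : Set G) :=
  map_subtype_normal_of_characteristic h.a_mem_normalizer

/-- A subgroup centralising every core of `O` lies in the Fitting subgroup. -/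
theorem mem_fitIn_oddPart {y : G} (hy : y ∈ oddPart t)
    (hc : ∀ q : ℕ, q.Prime → ∀ f ∈ coreIn q (oddPart t), Commute y f) : y ∈ fitIn (oddPart t) :=
  mem_fitIn_of_odd (odd_card_core _) hy hc

/-- `O_r(O) ∩ C(O_r(O))` is central in `oddPart t` and inverted. -/
theorem core_center {r : ℕ} (hr : r.Prime) {y : G}
    (hy : y ∈ coreIn r (oddPart t) ⊓ centralizer (coreIn r (oddPart t) : Set G)) :
    oddPart t ≤ centralizer ({y} : Set G) ∧ a * y * a⁻¹ = y⁻¹ :=
  h.abelian r hr _ inf_le_left (fun u hu v hv => mem_centralizer_iff.1 hv.2 u hu.1)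
    (fun _ hc => mem_normalizer_center hc) y hy

/-- No non-trivial core of `oddPart t` is centralised by `a`. -/
theorem not_centralised {r : ℕ} (hr : r.Prime) (hP : coreIn r (oddPart t) ≠ ⊥) :
    ¬ ∀ y ∈ coreIn r (oddPart t), Commute a y := by
  intro hfix
  haveI := Fact.mk hr
  haveI : Nontrivial (coreIn r (oddPart t)) := (nontrivial_iff_ne_bot _).2 hP
  haveI := (isPGroup_coreIn r (oddPart t)).center_nontrivial
  obtain ⟨z, hz⟩ := exists_ne (1 : center (coreIn r (oddPart t)))
  have hzY : ((z : coreIn r (oddPart t)) : G) ∈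
      coreIn r (oddPart t) ⊓ centralizer (coreIn r (oddPart t) : Set G) :=
    ⟨(z : coreIn r (oddPart t)).2, mem_centralizer_iff.2 fun p hp =>
      congrArg Subtype.val (mem_center_iff.1 z.2 ⟨p, hp⟩)⟩
  exact hz (Subtype.ext (Subtype.ext (eq_one_of_inverted (h.odd_mem (coreIn_le r _ hzY.1))
    (h.core_center hr hzY).2 (hfix _ hzY.1))))

/-- An abelian subgroup of a core, invariant with it, has no fixed element. -/
theorem eq_one_of_fixed {r : ℕ} (hr : r.Prime) {Y : Subgroup G}
    (hY : Y ≤ coreIn r (oddPart t)) (hab : ∀ y ∈ Y, ∀ z ∈ Y, Commute y z)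
    (hn : ∀ c ∈ normalizer (coreIn r (oddPart t) : Set G), c ∈ normalizer (Y : Set G)) {y : G}
    (hy : y ∈ Y) (hay : Commute a y) : y = 1 :=
  eq_one_of_inverted (h.odd_mem (coreIn_le r _ (hY hy))) (h.abelian r hr Y hY hab hn y hy).2 hay

end CoreHyp

end CfsgLib.GWKlein
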