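import Cfsg.Agent.Lib.GWKlein.ShapeBasic

/-!
# Gorenstein–Walter, the shape of `O = oddPart t`: the core with a fixed element

Every `O_r(O)` has class at most two with derived group of exponent `r`.  For exactly one prime `r`
does `a` fix an element `ρ ≠ 1` of it; then `O_r(O) = ⟨ρ, u⟩ Z` with `u` inverted of order `r`.
-/

set_option autoImplicit false
set_option linter.unusedSectionVars false
set_option linter.style.haveILetI false

universe u

namespace CfsgLib.GWKlein

open Subgroup CfsgLib.Components.Bender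
open CfsgLib.Components (map_subtype_normal_of_characteristic)
open scoped commutatorElement

variable {G : Type u} [Group G]

theorem commutatorElement_mul_of_commute {x y w : G} (h : Commute x ⁅y, w⁆) :
    ⁅x * y, w⁆ = ⁅y, w⁆ * ⁅x, w⁆ := by
  calc ⁅x * y, w⁆ = x * ⁅y, w⁆ * (w * x⁻¹ * w⁻¹) := by simp only [commutatorElement_def]; group
    _ = ⁅y, w⁆ * x * (w * x⁻¹ * w⁻¹) := by rw [h.eq]
    _ = ⁅y, w⁆ * ⁅x, w⁆ := by simp only [commutatorElement_def]; group

theorem commutatorElement_pow_of_commute {x w : G} (h : Commute x ⁅x, w⁆) (k : ℕ) :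
    ⁅x ^ k, w⁆ = ⁅x, w⁆ ^ k := by
  induction k with
  | zero => simp
  | succ k ih => rw [pow_succ, commutatorElement_mul_of_commute (h.pow_left k), ih, pow_succ']

theorem mul_pow_of_commutator {y w : G} (hy : Commute ⁅w, y⁆ y) (hw : Commute ⁅w, y⁆ w) (k : ℕ) :
    (y * w) ^ k = y ^ k * w ^ k * ⁅w, y⁆ ^ k.choose 2 := by
  set c := ⁅w, y⁆ with hc
  induction k with
  | zero => simp
  | succ k ih =>
    have e1 : ⁅w ^ k, y⁆ = c ^ k := commutatorElement_pow_of_commute hw.symm k
    have e3 : w ^ k * y = c ^ k * (y * w ^ k) := by rw [← e1, commutatorElement_def]; group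
    have hyw : Commute (c ^ k) (y * w ^ k) := (hy.mul_right (hw.pow_right k)).pow_left k
    rw [pow_succ, ih, show y ^ k * w ^ k * c ^ k.choose 2 * (y * w) =
      y ^ k * w ^ k * (c ^ k.choose 2 * (y * w)) by group, ((hy.mul_right hw).pow_left _).eq,
      show y ^ k * w ^ k * (y * w * c ^ k.choose 2) =
        y ^ k * (w ^ k * y) * w * c ^ k.choose 2 by group, e3, hyw.eq,
      show y ^ k * (y * w ^ k * c ^ k) * w * c ^ k.choose 2 =
        y ^ (k + 1) * w ^ k * (c ^ k * w) * c ^ k.choose 2 by group, (hw.pow_left k).eq,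
      show y ^ (k + 1) * w ^ k * (w * c ^ k) * c ^ k.choose 2 =
        y ^ (k + 1) * w ^ (k + 1) * (c ^ k * c ^ k.choose 2) by group, ← pow_add,
      show (k + 1).choose 2 = k + k.choose 2 by rw [Nat.choose_succ_succ, Nat.choose_one_right]]

variable [Finite G]

/-- In a cyclic group the solutions of `x ^ r = 1` are the powers of an element of order `r`. -/
theorem mem_zpowers_of_cyclic {T : Subgroup G} [IsCyclic T] {x z : G} {r : ℕ} (hx : x ∈ T)
    (hz : z ∈ T) (hxr : x ^ r = 1) (hzr : orderOf z = r) : x ∈ zpowers z := by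
  classical
  haveI := Fintype.ofFinite T
  set z' : T := ⟨z, hz⟩ with hz'
  have ho : orderOf z' = r := by rw [← Subgroup.orderOf_coe]; exact hzr
  have hr0 : 0 < r := hzr ▸ orderOf_pos z
  have hsub : (Finset.univ.filter fun b : T => b ∈ zpowers z') ⊆
      Finset.univ.filter fun b : T => b ^ r = 1 := by
    intro b hb
    simp only [Finset.mem_filter, Finset.mem_univ, true_and] at hb ⊢
    obtain ⟨i, rfl⟩ := mem_zpowers_iff.1 hb
    rw [← zpow_natCast, ← zpow_mul, mul_comm, zpow_mul, zpow_natCast, ← ho, pow_orderOf_eq_one,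
      _root_.one_zpow]
  have hcard : (Finset.univ.filter fun b : T => b ∈ zpowers z').card = r := by
    have h1 : (Finset.univ.filter fun b : T => b ∈ zpowers z').card = Nat.card (zpowers z') := by
      rw [← Fintype.card_subtype, ← Nat.card_eq_fintype_card]
    rw [h1, Nat.card_zpowers, ho]
  have heq := Finset.eq_of_subset_of_card_le hsub
    (by rw [hcard]; exact IsCyclic.card_pow_eq_one_le hr0)
  have : (⟨x, hx⟩ : T) ∈ zpowers z' := by
    have h2 : (⟨x, hx⟩ : T) ∈ Finset.univ.filter fun b : T => b ^ r = 1 :=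
      Finset.mem_filter.2 ⟨Finset.mem_univ _, Subtype.ext hxr⟩
    rw [← heq] at h2
    exact (Finset.mem_filter.1 h2).2
  obtain ⟨i, hi⟩ := mem_zpowers_iff.1 this
  exact mem_zpowers_iff.2 ⟨i, congrArg Subtype.val hi⟩

variable {t a : G}

namespace CoreHyp

variable (h : CoreHyp t a)
include h

theorem mem_center_of_core {r : ℕ} {z c : G}
    (hz : z ∈ coreIn r (oddPart t) ⊓ centralizer (coreIn r (oddPart t) : Set G))
    (hc : c ∈ coreIn r (oddPart t)) : Commute z c :=
  (mem_centralizer_iff.1 hz.2 c hc).symm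

/-- The cores have class at most two. -/
theorem commutator_mem_center {r : ℕ} (hr : r.Prime) {y w : G}
    (hy : y ∈ coreIn r (oddPart t)) (hw : w ∈ coreIn r (oddPart t)) :
    ⁅y, w⁆ ∈ coreIn r (oddPart t) ⊓ centralizer (coreIn r (oddPart t) : Set G) := by
  haveI := Fact.mk hr
  set P := coreIn r (oddPart t) with hP
  by_cases hPne : P = ⊥
  · rw [show y = 1 from mem_bot.1 (hPne ▸ hy), commutatorElement_one_left]
    exact one_mem _
  have hmv := h.not_centralised hr hPne
  set X : Subgroup G := ⁅P, P⁆ with hX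
  have hXP : X ≤ P := commutator_le_self P
  suffices hXc : X ≤ centralizer (P : Set G) from
    ⟨hXP (commutator_mem_commutator hy hw), hXc (commutator_mem_commutator hy hw)⟩
  by_contra hne
  obtain ⟨N, hN⟩ := Set.Finite.exists_minimal (Set.toFinite
    {N : Subgroup G | N ≤ X ∧ P ≤ normalizer (N : Set G) ∧ ¬ N ≤ centralizer (P : Set G)})
    ⟨X, le_rfl, normalizer_commutator_ge_left P P, hne⟩
  obtain ⟨⟨hNX, hPN, hNc⟩, hmin⟩ := hN
  have hNne : N ≠ ⊥ := fun e => hNc (e ▸ bot_le)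
  have hlt : ⁅N, P⁆ < N := CfsgLib.Coprime.commutator_lt_of_isPGroup (isPGroup_coreIn r _)
    ((isPGroup_coreIn r _).to_le (hNX.trans hXP)) hPN hNne
  have hNP : (⁅N, P⁆ : Subgroup G) ≤ centralizer (P : Set G) := by
    by_contra hc
    exact hlt.not_ge (hmin ⟨hlt.le.trans hNX, normalizer_commutator_ge_right N P, hc⟩ hlt.le)
  have h1 : ⁅⁅N, P⁆, P⁆ = (⊥ : Subgroup G) := commutator_eq_bot_iff_le_centralizer.2 hNP
  have h2 : ⁅⁅P, N⁆, P⁆ = (⊥ : Subgroup G) := by rw [commutator_comm P N]; exact h1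
  have h3 : ⁅X, N⁆ = (⊥ : Subgroup G) := commutator_commutator_eq_bot_of_rotate h2 h1
  have hXN : N ≤ centralizer (X : Set G) :=
    le_centralizer_iff.1 (commutator_eq_bot_iff_le_centralizer.1 h3)
  have hXn : ∀ c : G, c ∈ normalizer (P : Set G) → c ∈ normalizer (X : Set G) := fun c hc => by
    rw [mem_normalizer_iff_map_conj_eq] at hc ⊢
    rw [hX, map_commutator, hc]
  set Y := X ⊓ centralizer (X : Set G) with hY
  exact hNc fun n hn => mem_centralizer_iff.2 fun p hp =>
    mem_centralizer_singleton_iff.1 ((h.abelian r hr Y (inf_le_left.trans hXP)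
      (fun u hu v hv => mem_centralizer_iff.1 hv.2 u hu.1)
      (fun c hc => mem_normalizer_center (hXn c hc)) n ⟨hNX hn, hXN hn⟩).1 (coreIn_le r _ hp))

theorem commute_commutator {r : ℕ} (hr : r.Prime) {y w c : G} (hy : y ∈ coreIn r (oddPart t))
    (hw : w ∈ coreIn r (oddPart t)) (hc : c ∈ coreIn r (oddPart t)) : Commute ⁅y, w⁆ c :=
  h.mem_center_of_core (h.commutator_mem_center hr hy hw) hc

/-- Commutators in the cores have order dividing `r`. -/
theorem commutator_pow {r : ℕ} (hr : r.Prime) {y w : G} (hy : y ∈ coreIn r (oddPart t))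
    (hw : w ∈ coreIn r (oddPart t)) : ⁅y, w⁆ ^ r = 1 := by
  classical
  haveI := Fact.mk hr
  set P := coreIn r (oddPart t) with hP
  by_cases hPne : P = ⊥
  · rw [show y = 1 from mem_bot.1 (hPne ▸ hy), commutatorElement_one_left, one_pow]
  have hmv := h.not_centralised hr hPne
  have hex : ∃ n, ∀ y ∈ P, ∀ w ∈ P, ⁅y, w⁆ ^ r ^ n = 1 := by
    obtain ⟨n, hn⟩ := IsPGroup.iff_card.1 (isPGroup_coreIn r (oddPart t))
    refine ⟨n, fun y hy w hw => orderOf_dvd_iff_pow_eq_one.1 ?_⟩
    rw [← hn]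
    exact Subgroup.orderOf_dvd_natCard _ (h.commutator_mem_center hr hy hw).1
  have hspec := Nat.find_spec hex
  rcases hn : Nat.find hex with _ | _ | m
  · have := hspec y hy w hw
    rw [hn, pow_zero, pow_one] at this
    rw [this, one_pow]
  · have := hspec y hy w hw
    rwa [hn, zero_add, pow_one] at this
  exfalso
  refine Nat.find_min hex (show m + 1 < Nat.find hex by omega) fun y hy w hw => ?_
  set q := r ^ (m + 1) with hq
  set Y : Subgroup G := closure {z | ∃ p ∈ P, z = p ^ q}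
  have hgenP : ∀ z ∈ {z | ∃ p ∈ P, z = p ^ q}, z ∈ P := by
    rintro _ ⟨p, hp, rfl⟩; exact pow_mem hp _
  have hYP : Y ≤ P := (closure_le _).2 hgenP
  have hgc : ∀ u ∈ P, ∀ v ∈ P, Commute (u ^ q) (v ^ q) := by
    intro u hu v hv
    refine commutatorElement_eq_one_iff_commute.1 ?_
    rw [commutatorElement_pow_of_commute (h.commute_commutator hr hu (pow_mem hv q) hu).symm,
      ← commutatorElement_inv (v ^ q) u,
      commutatorElement_pow_of_commute (h.commute_commutator hr hv hu hv).symm, inv_pow, ← pow_mul]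
    have hdvd : r ^ Nat.find hex ∣ q * q := by
      rw [hn, hq, ← pow_add]; exact pow_dvd_pow r (by omega)
    obtain ⟨e, he⟩ := hdvd
    rw [he, pow_mul, hspec v hv u hu, one_pow, inv_one]
  have hab : ∀ u ∈ Y, ∀ v ∈ Y, Commute u v := by
    have h1 : Y ≤ centralizer (Y : Set G) := by
      refine (closure_le _).2 ?_
      rintro _ ⟨u, hu, rfl⟩
      have h2 : Y ≤ centralizer ({u ^ q} : Set G) := (closure_le _).2 (by
        rintro _ ⟨v, hv, rfl⟩
        exact mem_centralizer_singleton_iff.2 (hgc v hv u hu).eq)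
      exact mem_centralizer_iff.2 fun v hv => mem_centralizer_singleton_iff.1 (h2 hv)
    exact fun u hu v hv => mem_centralizer_iff.1 (h1 hv) u hu
  have hYc : ∀ c : G, c ∈ normalizer (P : Set G) → c ∈ normalizer (Y : Set G) := fun c hc =>
    mem_normalizer_of_map_le fun z hz => by
      induction hz using closure_induction with
      | mem z hz =>
        obtain ⟨p, hp, rfl⟩ := hz
        exact subset_closure ⟨c * p * c⁻¹, (mem_normalizer_iff.1 hc p).1 hp, conj_pow.symm⟩
      | one => simp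
      | mul u v _ _ hu hv => rw [← conj_mul]; exact mul_mem hu hv
      | inv u _ hu => rw [← conj_inv]; exact inv_mem hu
  rw [← commutatorElement_pow_of_commute (h.commute_commutator hr hy hw hy).symm]
  refine commutatorElement_eq_one_iff_commute.2 ?_
  exact (show Commute w (y ^ q) from mem_centralizer_singleton_iff.1
    ((h.abelian r hr Y hYP hab hYc _ (subset_closure ⟨y, hy, rfl⟩)).1 (coreIn_le r _ hw))).symm

/-- `r`-th powers are central in the core. -/
theorem pow_mem_center {r : ℕ} (hr : r.Prime) {y : G} (hy : y ∈ coreIn r (oddPart t)) :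
    y ^ r ∈ coreIn r (oddPart t) ⊓ centralizer (coreIn r (oddPart t) : Set G) :=
  ⟨pow_mem hy r, mem_centralizer_iff.2 fun w hw => by
    refine (show Commute (y ^ r) w from commutatorElement_eq_one_iff_commute.1 ?_).eq.symm
    rw [commutatorElement_pow_of_commute (h.commute_commutator hr hy hw hy).symm,
      h.commutator_pow hr hy hw]⟩

theorem mul_pow_core {r : ℕ} (hr : r.Prime) (hr2 : r ≠ 2) {y w : G}
    (hy : y ∈ coreIn r (oddPart t)) (hw : w ∈ coreIn r (oddPart t)) :
    (y * w) ^ r = y ^ r * w ^ r := by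
  rw [mul_pow_of_commutator (h.commute_commutator hr hw hy hy) (h.commute_commutator hr hw hy hw)]
  obtain ⟨k, hk⟩ := hr.dvd_choose_self two_ne_zero (lt_of_le_of_ne hr.two_le (Ne.symm hr2))
  rw [hk, pow_mul, h.commutator_pow hr hw hy, one_pow, mul_one]

theorem prime_ne_two {r : ℕ} (hr : r.Prime) (hP : coreIn r (oddPart t) ≠ ⊥) : r ≠ 2 := by
  haveI := Fact.mk hr
  rintro rfl
  obtain ⟨x, hx, hx1⟩ := (coreIn 2 (oddPart t)).bot_or_exists_ne_one.resolve_left hP
  obtain ⟨k, hk⟩ := IsPGroup.iff_orderOf.1 (isPGroup_coreIn 2 (oddPart t)) ⟨x, hx⟩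
  rw [Subgroup.orderOf_mk] at hk
  have hk' := hk ▸ h.odd_mem (coreIn_le 2 _ hx)
  rcases k with _ | k
  · exact hx1 (orderOf_eq_one_iff.1 (hk.trans (pow_zero 2)))
  · exact Nat.not_even_iff_odd.2 hk' (Nat.even_pow.2 ⟨even_two, k.succ_ne_zero⟩)

omit [Finite G] in
theorem commutator_conj (c : G) (y w : G) :
    c * ⁅y, w⁆ * c⁻¹ = ⁅c * y * c⁻¹, c * w * c⁻¹⁆ := by
  simp only [commutatorElement_def]; group

theorem eq_one_of_center_fixed {r : ℕ} (hr : r.Prime) {c : G}
    (hc : c ∈ coreIn r (oddPart t) ⊓ centralizer (coreIn r (oddPart t) : Set G))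
    (hac : Commute a c) : c = 1 :=
  eq_one_of_inverted (h.odd_mem (coreIn_le r _ hc.1)) (h.core_center hr hc).2 hac

theorem fixed_commute {r : ℕ} (hr : r.Prime) {y w : G} (hy : y ∈ coreIn r (oddPart t))
    (hw : w ∈ coreIn r (oddPart t)) (hay : Commute a y) (haw : Commute a w) : Commute y w :=
  commutatorElement_eq_one_iff_commute.1 (h.eq_one_of_center_fixed hr
    (h.commutator_mem_center hr hy hw) (by
      refine mul_inv_eq_iff_eq_mul.1 ?_
      rw [h.commutator_conj, hay.eq, mul_inv_cancel_right, haw.eq, mul_inv_cancel_right]))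

theorem inverted_commute {r : ℕ} (hr : r.Prime) {y w : G} (hy : y ∈ coreIn r (oddPart t))
    (hw : w ∈ coreIn r (oddPart t)) (hay : a * y * a⁻¹ = y⁻¹) (haw : a * w * a⁻¹ = w⁻¹) :
    Commute y w := by
  have hc : ∀ {c : G}, c ∈ coreIn r (oddPart t) → Commute ⁅y, w⁆ c :=
    fun hc => h.commute_commutator hr hy hw hc
  have e : ⁅y⁻¹, w⁻¹⁆ = ⁅y, w⁆ := by
    calc ⁅y⁻¹, w⁻¹⁆ = y⁻¹ * w⁻¹ * (⁅y, w⁆ * (w * y)) := by
          simp only [commutatorElement_def]; group
      _ = y⁻¹ * w⁻¹ * (w * y * ⁅y, w⁆) := by rw [((hc hw).mul_right (hc hy)).eq]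
      _ = ⁅y, w⁆ := by group
  refine commutatorElement_eq_one_iff_commute.1 (h.eq_one_of_center_fixed hr
    (h.commutator_mem_center hr hy hw) (mul_inv_eq_iff_eq_mul.1 ?_))
  rw [h.commutator_conj, hay, haw, e]

/-- An element of the core is fixed times inverted. -/
theorem decompose {r : ℕ} {y : G} (hy : y ∈ coreIn r (oddPart t)) :
    ∃ q i : G, q ∈ coreIn r (oddPart t) ∧ Commute a q ∧ i ∈ coreIn r (oddPart t) ∧
      a * i * a⁻¹ = i⁻¹ ∧ y = q * i := by
  set P := coreIn r (oddPart t)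
  set d := y⁻¹ * (a * y * a⁻¹) with hd
  have hdP : d ∈ P :=
    mul_mem (inv_mem hy) ((mem_normalizer_iff.1 (h.a_mem_normalizer_core r) y).1 hy)
  have hai : a * d * a⁻¹ = d⁻¹ := by
    rw [hd, show a * (y⁻¹ * (a * y * a⁻¹)) * a⁻¹ =
      a * y⁻¹ * a⁻¹ * ((a * a) * y * (a⁻¹ * a⁻¹)) by group, h.a_mul_self, ← mul_inv_rev,
      h.a_mul_self, inv_one, one_mul, mul_one]
    group
  obtain ⟨m, hm⟩ := h.odd_mem (coreIn_le r _ hdP)
  set s := d ^ (m + 1) with hs
  have hs2 : s * s = d := by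
    rw [hs, ← pow_add, show m + 1 + (m + 1) = orderOf d + 1 by omega, pow_succ, pow_orderOf_eq_one,
      one_mul]
  have hsi : a * s * a⁻¹ = s⁻¹ := by rw [hs, ← conj_pow, hai, inv_pow]
  refine ⟨y * s, s⁻¹, mul_mem hy (pow_mem hdP _), mul_inv_eq_iff_eq_mul.1 ?_,
    inv_mem (pow_mem hdP _), by rw [← conj_inv, hsi], (mul_inv_cancel_right y s).symm⟩
  calc a * (y * s) * a⁻¹ = y * (y⁻¹ * (a * y * a⁻¹)) * (a * s * a⁻¹) := by group
    _ = y * (s * s) * s⁻¹ := by rw [hs2, hsi]
    _ = y * s := by group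

/-- Inverted elements commuting with a fixed element lie in a cyclic group. -/
theorem exists_cyclic {r : ℕ} (hr : r.Prime) {x : G} (hx : x ∈ coreIn r (oddPart t))
    (hxa : Commute a x) (hx1 : x ≠ 1) : ∃ T : Subgroup G, IsCyclic T ∧
      ∀ y ∈ oddPart t, Commute x y → a * y * a⁻¹ = y⁻¹ → y ∈ T := by
  obtain ⟨H, T, -, -, hxH, hR⟩ := h.overgroup r hr
    (h.not_centralised hr fun e => hx1 (mem_bot.1 (e ▸ hx))) x hx hxa hx1
  exact ⟨T, hR.cyclic, fun y hy hxy hay =>
    hR.mem y ⟨hy, hxH (mem_centralizer_singleton_iff.2 hxy.symm.eq)⟩ hay⟩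

/-- A core with a fixed element has a non-central inverted element of order `r`. -/
theorem exists_inverted {r : ℕ} (hr : r.Prime) {x : G} (hx : x ∈ coreIn r (oddPart t))
    (hxa : Commute a x) (hx1 : x ≠ 1) :
    x ^ r = 1 ∧ ∃ i ∈ coreIn r (oddPart t), a * i * a⁻¹ = i⁻¹ ∧ i ^ r = 1 ∧
      i ∉ centralizer (coreIn r (oddPart t) : Set G) := by
  set P := coreIn r (oddPart t) with hP
  have hPne : P ≠ ⊥ := fun e => hx1 (mem_bot.1 (e ▸ hx))
  have hr2 := h.prime_ne_two hr hPne
  have hmv := h.not_centralised hr hPne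
  have hqr : ∀ q ∈ P, Commute a q → q ^ r = 1 := fun q hq haq =>
    h.eq_one_of_center_fixed hr (h.pow_mem_center hr hq) (haq.pow_right r)
  refine ⟨hqr x hx hxa, ?_⟩
  by_contra hc
  push Not at hc
  let K : Subgroup G :=
    { carrier := {y | y ∈ P ∧ y ^ r = 1}
      one_mem' := ⟨one_mem _, one_pow _⟩
      mul_mem' := fun {u v} hu hv => ⟨mul_mem hu.1 hv.1, by
        rw [h.mul_pow_core hr hr2 hu.1 hv.1, hu.2, hv.2, one_mul]⟩
      inv_mem' := fun {u} hu => ⟨inv_mem hu.1, by rw [inv_pow, hu.2, inv_one]⟩ }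
  have hdec : ∀ y ∈ K, ∃ q i : G, q ∈ P ∧ Commute a q ∧ i ∈ P ∧ i ∈ centralizer (P : Set G) ∧
      y = q * i := by
    rintro y ⟨hy, hyr⟩
    obtain ⟨q, i, hq, haq, hi, hai, rfl⟩ := h.decompose hy
    have hir : i ^ r = 1 := by rwa [h.mul_pow_core hr hr2 hq hi, hqr q hq haq, one_mul] at hyr
    exact ⟨q, i, hq, haq, hi, hc i hi hai hir, rfl⟩
  have hab : ∀ y ∈ K, ∀ w ∈ K, Commute y w := by
    intro y hy w hw
    obtain ⟨q, i, hq, haq, hi, hic, rfl⟩ := hdec y hy
    obtain ⟨q', i', hq', haq', hi', hic', rfl⟩ := hdec w hw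
    have c1 : ∀ {i c : G}, i ∈ centralizer (P : Set G) → c ∈ P → Commute i c :=
      fun hi hc => (mem_centralizer_iff.1 hi _ hc).symm
    exact ((h.fixed_commute hr hq hq' haq haq').mul_right (c1 hic' hq).symm).mul_left
      ((c1 hic hq').mul_right (c1 hic hi'))
  exact hx1 (h.eq_one_of_fixed hr (Y := K) (fun y hy => hy.1) hab
    (fun c hc' => mem_normalizer_of_map_le fun y hy =>
      ⟨(mem_normalizer_iff.1 hc' y).1 hy.1,
        by rw [conj_pow, hy.2, mul_one, mul_inv_cancel]⟩) ⟨hx, hqr x hx hxa⟩ hxa)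

/-- In an inverted-by-cyclic situation the non-central inverted element does not commute with the
fixed one. -/
theorem not_commute {r q : ℕ} (hr : r.Prime) (hq : q.Prime) {x : G}
    (hx : x ∈ coreIn r (oddPart t)) (hxa : Commute a x) (hx1 : x ≠ 1) {i : G}
    (hi : i ∈ coreIn q (oddPart t)) (hai : a * i * a⁻¹ = i⁻¹) (hiq : i ^ q = 1)
    (hic : i ∉ centralizer (coreIn q (oddPart t) : Set G)) : ¬ Commute x i := by
  intro hxi
  haveI := Fact.mk hq
  set P := coreIn q (oddPart t) with hP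
  obtain ⟨T, hT, hTm⟩ := h.exists_cyclic hr hx hxa hx1
  obtain ⟨p, hp, hpi⟩ : ∃ p ∈ P, ¬ Commute i p := by
    by_contra hc
    push Not at hc
    exact hic (mem_centralizer_iff.2 fun p hp => (hc p hp).symm.eq)
  set z := ⁅i, p⁆ with hz
  have hz1 : z ≠ 1 := fun e => hpi (commutatorElement_eq_one_iff_commute.1 e)
  have hzZ := h.commutator_mem_center hq hi hp
  have hzo : orderOf z = q := orderOf_eq_prime (h.commutator_pow hq hi hp) hz1
  have hzO : z ∈ oddPart t := coreIn_le q _ hzZ.1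
  have hzc := h.core_center hq hzZ
  have hzT : z ∈ T := hTm z hzO
    (mem_centralizer_singleton_iff.1 (hzc.1 (coreIn_le r _ hx)) : x * z = z * x) hzc.2
  have hiT : i ∈ T := hTm i (coreIn_le q _ hi) hxi hai
  have := mem_zpowers_of_cyclic hiT hzT hiq hzo
  obtain ⟨k, hk⟩ := mem_zpowers_iff.1 this
  have hzk : z ^ k ∈ centralizer (P : Set G) := zpow_mem (show z ∈ centralizer (P : Set G) from hzZ.2) k
  exact hic (hk ▸ hzk)

end CoreHyp

/-- The structure of the core with a fixed element. -/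
structure ShapeCore (t a : G) (r : ℕ) (ρ u : G) : Prop where
  prime : r.Prime
  ne_two : r ≠ 2
  rho_mem : ρ ∈ coreIn r (oddPart t)
  u_mem : u ∈ coreIn r (oddPart t)
  rho_fixed : Commute a ρ
  u_inverted : a * u * a⁻¹ = u⁻¹
  rho_pow : ρ ^ r = 1
  u_pow : u ^ r = 1
  not_commute : ¬ Commute ρ u
  fixed : ∀ y ∈ coreIn r (oddPart t), Commute a y → y ∈ zpowers ρ
  comm_mem : ∀ y ∈ coreIn r (oddPart t), ∀ w ∈ coreIn r (oddPart t), ⁅y, w⁆ ∈ zpowers ⁅ρ, u⁆
  decomp : ∀ y ∈ coreIn r (oddPart t), ∃ i j : ℤ, ∃ z ∈ coreIn r (oddPart t) ⊓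
    centralizer (coreIn r (oddPart t) : Set G), y = ρ ^ i * u ^ j * z
  others : ∀ q : ℕ, q.Prime → q ≠ r → ∀ y ∈ coreIn q (oddPart t),
    a * y * a⁻¹ = y⁻¹ ∧ oddPart t ≤ centralizer ({y} : Set G)

/-- Exactly one core has a fixed element, and it is `⟨ρ, u⟩` times its centre. -/
theorem CoreHyp.exists_shapeCore (h : CoreHyp t a)
    (hD : ¬ ∀ d ∈ oddPart t, Commute a d → d = 1) :
    ∃ r ρ u, ShapeCore t a r ρ u := by
  have hfree : ∀ q : ℕ, q.Prime → (∀ y ∈ coreIn q (oddPart t), Commute a y → y = 1) →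
      ∀ y ∈ coreIn q (oddPart t),
        a * y * a⁻¹ = y⁻¹ ∧ oddPart t ≤ centralizer ({y} : Set G) := by
    intro q hq hfix y hy
    have hinv : ∀ w ∈ coreIn q (oddPart t), a * w * a⁻¹ = w⁻¹ := fun w hw => by
      obtain ⟨p, i, hp, hap, hi, hai, rfl⟩ := h.decompose hw
      rw [hfix p hp hap, one_mul, hai]
    refine ⟨hinv y hy, (h.abelian q hq _ le_rfl (fun u hu v hv =>
      h.inverted_commute hq hu hv (hinv u hu) (hinv v hv)) (fun _ hc => hc) y hy).1⟩
  obtain ⟨r, hr, ρ, hρ, hρa, hρ1⟩ : ∃ r, r.Prime ∧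
      ∃ x ∈ coreIn r (oddPart t), Commute a x ∧ x ≠ 1 := by
    by_contra hc
    push Not at hc
    refine hD fun d hdO had => ?_
    have hOF : oddPart t ≤ fitIn (oddPart t) := fun c hcO =>
      h.mem_fitIn_oddPart hcO fun q hq f hf =>
        mem_centralizer_singleton_iff.1 ((hfree q hq (hc q hq) f hf).2 hcO)
    have hdc : oddPart t ≤ centralizer ({d} : Set G) := fun c hcO =>
      mem_centralizer_singleton_iff.2 ((mem_centralizer_singleton_iff.1
        ((hOF.trans (le_of_parts (T := centralizer ({c} : Set G)) le_rfl fun q hq _ f hf =>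
          mem_centralizer_singleton_iff.2
            (mem_centralizer_singleton_iff.1 ((hfree q hq (hc q hq) f hf.1).2 hcO)).symm)) hdO)).symm)
    exact eq_one_of_inverted (h.odd_mem hdO) (h.center_inverted d hdO hdc) had
  haveI := Fact.mk hr
  set P := coreIn r (oddPart t) with hP
  have hPne : P ≠ ⊥ := fun e => hρ1 (mem_bot.1 (e ▸ hρ))
  have hr2 := h.prime_ne_two hr hPne
  obtain ⟨hρr, u, hu, hau, hur, huc⟩ := h.exists_inverted hr hρ hρa hρ1
  have hnc : ∀ x ∈ P, Commute a x → x ≠ 1 → ¬ Commute x u := fun x hx hxa hx1 =>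
    h.not_commute hr hr hx hxa hx1 hu hau hur huc
  have hρu := hnc ρ hρ hρa hρ1
  obtain ⟨T, hT, hTm⟩ := h.exists_cyclic hr hρ hρa hρ1
  set z := ⁅ρ, u⁆ with hz
  have hz1 : z ≠ 1 := fun e => hρu (commutatorElement_eq_one_iff_commute.1 e)
  have hzo : orderOf z = r := orderOf_eq_prime (h.commutator_pow hr hρ hu) hz1
  have hZT : ∀ c ∈ P ⊓ centralizer (P : Set G), c ∈ T := fun c hc => by
    have h1 := h.core_center hr hc
    exact hTm c (coreIn_le r _ hc.1) (mem_centralizer_singleton_iff.1 (h1.1 (coreIn_le r _ hρ))) h1.2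
  have hcomm : ∀ y ∈ P, ∀ w ∈ P, ⁅y, w⁆ ∈ zpowers z := fun y hy w hw =>
    mem_zpowers_of_cyclic (hZT _ (h.commutator_mem_center hr hy hw))
      (hZT _ (h.commutator_mem_center hr hρ hu)) (h.commutator_pow hr hy hw) hzo
  have hpowc : ∀ {x w : G}, x ∈ P → w ∈ P → ∀ k : ℤ, ⁅x ^ k, w⁆ = ⁅x, w⁆ ^ k := by
    intro x w hx hw k
    obtain ⟨k, rfl | rfl⟩ := Int.eq_nat_or_neg k
    · rw [zpow_natCast, zpow_natCast,
        commutatorElement_pow_of_commute (h.commute_commutator hr hx hw hx).symm]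
    · rw [zpow_neg, zpow_neg, zpow_natCast, zpow_natCast]
      refine (inv_eq_of_mul_eq_one_right ?_).symm
      rw [← commutatorElement_pow_of_commute (h.commute_commutator hr hx hw hx).symm,
        ← commutatorElement_mul_of_commute
          (h.commute_commutator hr (pow_mem hx k) hw (inv_mem (pow_mem hx k))).symm,
        inv_mul_cancel, commutatorElement_one_left]
  have hfixed : ∀ q ∈ P, Commute a q → q ∈ zpowers ρ := by
    intro q hq haq
    obtain ⟨k, hk⟩ := mem_zpowers_iff.1 (hcomm q hq u hu)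
    refine mem_zpowers_iff.2 ⟨k, ?_⟩
    have hρk : ρ ^ k ∈ P := zpow_mem hρ k
    by_contra hne
    refine hnc ((ρ ^ k)⁻¹ * q) (mul_mem (inv_mem hρk) hq)
      ((hρa.zpow_right k).inv_right.mul_right haq)
      (fun e => hne (inv_mul_eq_one.1 e)) (commutatorElement_eq_one_iff_commute.1 ?_)
    rw [commutatorElement_mul_of_commute (h.commute_commutator hr hq hu (inv_mem hρk)).symm, ← hk,
      ← zpow_neg, hpowc hρ hu, ← hz, ← zpow_add, add_neg_cancel, zpow_zero]
  refine ⟨r, ρ, u, hr, hr2, hρ, hu, hρa, hau, hρr, hur, hρu, hfixed, hcomm, fun y hy => ?_,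
    fun q hq hqr => hfree q hq fun x hx hxa => ?_⟩
  · obtain ⟨q, i, hq, haq, hi, hai, rfl⟩ := h.decompose hy
    obtain ⟨k, hk⟩ := mem_zpowers_iff.1 (hfixed q hq haq)
    obtain ⟨l, hl⟩ := mem_zpowers_iff.1 (hcomm ρ hρ i hi)
    set c := (u ^ l)⁻¹ * i with hc
    have hcP : c ∈ P := mul_mem (inv_mem (zpow_mem hu l)) hi
    have hiu : Commute u i := h.inverted_commute hr hu hi hau hai
    have hρc : ⁅ρ, c⁆ = 1 := by
      rw [← commutatorElement_inv c ρ, hc, commutatorElement_mul_of_commute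
        (h.commute_commutator hr hi hρ (inv_mem (zpow_mem hu l))).symm, ← zpow_neg, hpowc hu hρ,
        ← commutatorElement_inv ρ i, ← commutatorElement_inv ρ u, ← hl, inv_zpow',
        neg_neg, inv_mul_cancel, inv_one]
    have hac : a * c * a⁻¹ = c⁻¹ := by
      rw [hc, show a * ((u ^ l)⁻¹ * i) * a⁻¹ = a * (u ^ l)⁻¹ * a⁻¹ * (a * i * a⁻¹) by group,
        ← conj_inv, ← conj_zpow, hau, hai, inv_zpow, inv_inv, mul_inv_rev, inv_inv]
      exact ((hiu.zpow_left l).inv_right).eq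
    have hcc : c ∈ centralizer (P : Set G) := mem_centralizer_iff.2 fun p hp => by
      obtain ⟨q', i', hq', haq', hi', hai', rfl⟩ := h.decompose hp
      obtain ⟨m, rfl⟩ := mem_zpowers_iff.1 (hfixed q' hq' haq')
      exact ((commutatorElement_eq_one_iff_commute.1 hρc).zpow_left m).mul_left
        (h.inverted_commute hr hi' hcP hai' hac)
    exact ⟨k, l, c, ⟨hcP, hcc⟩, by rw [hk, hc]; group⟩
  · by_contra hx1
    obtain ⟨-, i, hi, hai, hiq, hic⟩ := h.exists_inverted hq hx hxa hx1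
    haveI := Fact.mk hq
    exact h.not_commute hr hq hρ hρa hρ1 hi hai hiq hic
      (mem_centralizer_iff.1 (coreIn_le_centralizer hqr (oddPart t) hi) ρ hρ)

end CfsgLib.GWKlein
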