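import Cfsg.Agent.Lib.GWKlein.ShapeCoord
import Cfsg.Agent.S0205
import Mathlib.FieldTheory.IsAlgClosed.AlgebraicClosure
import Mathlib.FieldTheory.Finite.Basic
import Mathlib.RingTheory.IntegralDomain

/-!
# Gorenstein–Walter, the shape of `O = oddPart t`: the group induced on `P / Z`

The matrices of `oddPart t` form a cyclic group inverted by `a` without fixed points whose order
`e > 1` divides `r - 1` or `r + 1`.  `ShapeCore.exists_shapeQuot_of` assumes only a commutative
non-trivial image inverted by `a`.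
-/

set_option autoImplicit false
set_option linter.unusedSectionVars false
set_option linter.style.haveILetI false

universe u

namespace CfsgLib.GWKlein

open Subgroup CfsgLib.Components.Bender
open scoped commutatorElement Matrix

variable {G : Type u} [Group G] [Finite G] {t a : G} {r : ℕ} {ρ u : G}

/-- The group induced on `O_r(O) / Z`: it is generated by the image of `v`. -/
structure ShapeQuot (t a : G) (r e : ℕ) (v : G) : Prop where
  v_mem : v ∈ oddPart t
  v_inverted : a * v * a⁻¹ = v⁻¹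
  v_coprime : (orderOf v).Coprime r
  zpow_mem : ∀ j : ℤ, v ^ j ∈ coreIn r (oddPart t) ⊔ centralPart t r ↔ (e : ℤ) ∣ j
  gen : ∀ c ∈ oddPart t, ∃ j : ℤ, c * v ^ j ∈ coreIn r (oddPart t) ⊔ centralPart t r
  one_lt : 1 < e
  dvd : e ∣ r - 1 ∨ e ∣ r + 1
  fpf : ∀ c ∈ oddPart t, c ∉ coreIn r (oddPart t) ⊔ centralPart t r →
    ∀ y ∈ coreIn r (oddPart t), Commute c y →
      y ∈ coreIn r (oddPart t) ⊓ centralizer (coreIn r (oddPart t) : Set G)

/-- A product of an element of the core and a central element. -/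
theorem exists_mem_core_mul (h : CoreHyp t a) {x : G}
    (hx : x ∈ coreIn r (oddPart t) ⊔ centralPart t r) :
    ∃ p ∈ coreIn r (oddPart t), ∃ b ∈ centralPart t r, x = p * b := by
  have hn : centralPart t r ≤ normalizer (coreIn r (oddPart t) : Set G) :=
    (centralPart_le t r).trans (h.le_normalizer_core r)
  have h1 : x ∈ (↑(coreIn r (oddPart t) ⊔ centralPart t r) : Set G) := hx
  rw [coe_mul_of_right_le_normalizer_left _ _ hn] at h1
  obtain ⟨p, hp, b, hb, rfl⟩ := h1
  exact ⟨p, hp, b, hb, rfl⟩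

/-- The action of `oddPart t` on the coordinates as a homomorphism. -/
noncomputable def ShapeCore.coordHom (h : CoreHyp t a) (hc : ShapeCore t a r ρ u) :
    ↥(oddPart t) →* Matrix (Fin 2) (Fin 2) (ZMod r) where
  toFun c := coordMat r ρ u c
  map_one' := hc.coordMat_one h
  map_mul' c d := hc.coordMat_mul h c.2 d.2

/-- An element acting with order dividing `r` whose conjugates act as its powers acts trivially. -/
theorem ShapeCore.coordHom_eq_one_of_pow (h : CoreHyp t a) (hc : ShapeCore t a r ρ u)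
    {c : ↥(oddPart t)} (hcr : hc.coordHom h c ^ r = 1)
    (hconj : ∀ g, ∃ j : ℕ, hc.coordHom h (g * c * g⁻¹) = hc.coordHom h c ^ j) :
    hc.coordHom h c = 1 := by
  haveI := Fact.mk hc.prime
  set M := hc.coordHom h with hM
  have hMdef : ∀ c : ↥(oddPart t), M c = coordMat r ρ u c := fun _ => rfl
  set P := coreIn r (oddPart t) with hP
  obtain ⟨k, m, hm, hkm⟩ :=
    Nat.exists_eq_pow_mul_and_not_dvd (orderOf_pos (c : G)).ne' r hc.prime.ne_one
  have hm0 : (m : ZMod r) ≠ 0 := fun e => hm ((ZMod.natCast_eq_zero_iff m r).1 e)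
  set j := m * ((m : ZMod r)⁻¹).val with hj
  have hj1 : (j : ZMod r) = ((1 : ℕ) : ZMod r) := by
    rw [hj, Nat.cast_mul, ZMod.natCast_zmod_val, mul_inv_cancel₀ hm0, Nat.cast_one]
  have hjmod : j % r = 1 := by
    have := (ZMod.natCast_eq_natCast_iff' _ _ _).1 hj1
    rwa [Nat.mod_eq_of_lt hc.prime.one_lt] at this
  have hMj : M (c ^ j) = M c := by
    rw [map_pow, ← Nat.div_add_mod j r, hjmod, pow_succ, pow_mul, hcr, one_pow, one_mul]
  set c1 : G := (c : G) ^ j with hc1
  have hc1r : c1 ^ r ^ k = 1 := by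
    rw [hc1, ← pow_mul]
    refine orderOf_dvd_iff_pow_eq_one.1 (hkm ▸ ⟨((m : ZMod r)⁻¹).val, ?_⟩)
    rw [hj]; ring
  have hc1O : c1 ∈ oddPart t := pow_mem c.2 _
  have hzp : IsPGroup r (zpowers c1) := by
    obtain ⟨i, -, hi⟩ := (Nat.dvd_prime_pow hc.prime).1 (orderOf_dvd_of_pow_eq_one hc1r)
    exact IsPGroup.of_card (n := i) (by rw [Nat.card_zpowers, hi])
  set R : Subgroup G := P ⊔ zpowers c1 with hR
  have hRp : IsPGroup r R := (isPGroup_coreIn r (oddPart t)).to_sup_of_normal_left' hzp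
    (zpowers_le.2 (h.le_normalizer_core r hc1O))
  have hRO : R ≤ oddPart t := sup_le (coreIn_le r _) (zpowers_le.2 hc1O)
  have hRn : oddPart t ≤ normalizer (R : Set G) := fun o ho => by
    refine mem_normalizer_of_map_le fun y hy => ?_
    have hle : R.map (MulAut.conj o).toMonoidHom ≤ R := by
      rw [hR, Subgroup.map_sup, MonoidHom.map_zpowers, sup_le_iff]
      refine ⟨?_, zpowers_le.2 ?_⟩
      · rintro _ ⟨p, hp, rfl⟩
        exact mem_sup_left (hc.conj_mem h ho hp)
      show o * c1 * o⁻¹ ∈ P ⊔ zpowers c1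
      obtain ⟨i, hi⟩ := hconj ⟨o, ho⟩
      set q : ↥(oddPart t) := ⟨o, ho⟩ * c ^ j * ⟨o, ho⟩⁻¹ * (c ^ (j * i))⁻¹ with hq
      have hMq : M q = 1 := by
        rw [hq, map_mul, ← conj_pow, map_pow, hi, ← pow_mul, mul_comm i j, ← map_pow,
          ← map_mul, mul_inv_cancel, map_one]
      have hqN : (q : G) ∈ P ⊔ centralPart t r := hc.mem_of_coordMat_eq_one h q.2 hMq
      obtain ⟨p, hp, b, hb, hpb⟩ := exists_mem_core_mul h hqN
      have e1 : o * c1 * o⁻¹ = p * c1 ^ i * b := by
        rw [show p * c1 ^ i * b = p * b * c1 ^ i by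
          rw [mul_assoc, (commute_centralPart hb (pow_mem hc1O i)).eq, mul_assoc], ← hpb]
        show o * c1 * o⁻¹ = o * (c : G) ^ j * o⁻¹ * ((c : G) ^ (j * i))⁻¹ * c1 ^ i
        rw [hc1, ← pow_mul]; group
      have hpc : p * c1 ^ i ∈ R :=
        mul_mem (mem_sup_left hp) (mem_sup_right (pow_mem (mem_zpowers _) i))
      have hbc : Commute (p * c1 ^ i) b := commute_centralPart hb (hRO hpc)
      obtain ⟨k₁, hk₁⟩ := hRp ⟨_, hpc⟩
      have hk₁' : (p * c1 ^ i) ^ r ^ k₁ = 1 := congrArg Subtype.val hk₁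
      have h1 : b ^ r ^ (k₁ + k) = 1 := by
        have h5 : (o * c1 * o⁻¹) ^ r ^ (k₁ + k) = 1 := by
          rw [conj_pow, add_comm, pow_add, pow_mul, hc1r, one_pow, mul_one, mul_inv_cancel]
        rwa [e1, hbc.mul_pow, pow_add, pow_mul (p * c1 ^ i), hk₁', one_pow, one_mul, ← pow_add] at h5
      have hb1 : b = 1 := orderOf_eq_one_iff.1
        (Nat.eq_one_of_dvd_coprimes (hb.2.2.pow_right _) dvd_rfl (orderOf_dvd_of_pow_eq_one h1))
      rw [e1, hb1, mul_one]
      exact hpc
    exact hle ⟨y, hy, rfl⟩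
  have hc1P : c1 ∈ P := le_coreIn hRO hRp hRn (mem_sup_right (mem_zpowers c1))
  rw [← hMj, hMdef]
  exact hc.coordMat_core h hc1P

/-- A commutative non-trivial induced group inverted by `a` is cyclic and fixed-point-free. -/
theorem ShapeCore.exists_shapeQuot_of (h : CoreHyp t a) (hc : ShapeCore t a r ρ u)
    (hcomm : ∀ c d, hc.coordHom h c * hc.coordHom h d = hc.coordHom h d * hc.coordHom h c)
    (hsym : ∀ c : ↥(oddPart t),
      coordMat r ρ u (a * c * a⁻¹) = coordMat r ρ u ((c : G)⁻¹))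
    (hne : ∃ c ∈ oddPart t, coordMat r ρ u c ≠ 1) :
    ∃ e v, ShapeQuot t a r e v := by
  classical
  haveI := Fact.mk hc.prime
  set P := coreIn r (oddPart t) with hP
  set N := P ⊔ centralPart t r with hN
  have hr2 : ¬ r ∣ 2 := fun hd => hc.ne_two ((Nat.prime_dvd_prime_iff_eq hc.prime Nat.prime_two).1 hd)
  have h2 : (2 : ZMod r) ≠ 0 := fun e => hr2 ((ZMod.natCast_eq_zero_iff 2 r).1 (by exact_mod_cast e))
  have h4 : (4 : ZMod r) ≠ 0 := by
    rw [show (4 : ZMod r) = 2 * 2 by norm_num]; exact mul_ne_zero h2 h2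
  have hrodd : Odd r := hc.prime.odd_of_ne_two hc.ne_two
  let M := hc.coordHom h
  have hMdef : ∀ c : ↥(oddPart t), M c = coordMat r ρ u c := fun _ => rfl
  have hdet : ∀ c, (M c).det = 1 := fun c => hc.coordMat_det h c.2
  let σ : ↥(oddPart t) →* ↥(oddPart t) :=
    MonoidHom.mk' (fun c => ⟨a * c * a⁻¹, h.a_conj c.2⟩) fun c d => Subtype.ext (by
      show a * ((c : G) * d) * a⁻¹ = a * c * a⁻¹ * (a * d * a⁻¹)
      group)
  have hσ : ∀ c, M (σ c) = ModuleMatrix.refl2 * M c * ModuleMatrix.refl2 := fun c => by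
    rw [ModuleMatrix.refl2_conj]
    exact hc.coordMat_a h c.2
  replace hsym : ∀ c, M (σ c) = M c⁻¹ := hsym
  replace hcomm : ∀ c d, M c * M d = M d * M c := hcomm
  have h11 : ∀ c, M c 1 1 = M c 0 0 := fun c => by
    have h1 := hsym c
    rw [hσ, ModuleMatrix.refl2_conj, ModuleMatrix.map_inv_eq_adj M hdet] at h1
    simpa using (congrFun (congrFun h1 0) 0).symm
  have hdet' : ∀ c, M c 0 0 * M c 0 0 - M c 0 1 * M c 1 0 = 1 := fun c => by
    have h1 := hdet c
    rwa [Matrix.det_fin_two, h11] at h1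
  have htriv : ∀ c, M c 0 1 * M c 1 0 = 0 → M c = 1 := by
    intro c hbg
    have h1 := hdet' c
    rw [hbg, sub_zero] at h1
    rcases mul_self_eq_one_iff.1 h1 with h00 | h00
    · refine hc.coordHom_eq_one_of_pow h ?_ fun g => ⟨1, ?_⟩
      swap
      · rw [pow_one, map_mul, map_mul, hcomm g, mul_assoc, ← map_mul, mul_inv_cancel, map_one, mul_one]
      show M c ^ r = 1
      have hk : ∀ k : ℕ, M c ^ k = !![1, (k : ZMod r) * M c 0 1; (k : ZMod r) * M c 1 0, 1] := by
        intro k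
        induction k with
        | zero => ext i j; fin_cases i <;> fin_cases j <;> simp
        | succ k ih =>
          rw [pow_succ, ih]
          ext i j
          rcases mul_eq_zero.1 hbg with e0 | e0 <;> fin_cases i <;> fin_cases j <;>
            simp [Matrix.mul_apply, Fin.sum_univ_two, h11, h00, e0] <;> ring
      rw [hk, ZMod.natCast_self, zero_mul, zero_mul]
      ext i j
      fin_cases i <;> fin_cases j <;> simp
    · refine absurd ?_ (ModuleMatrix.trace_ne_neg_two h4 (odd_card_core (centralizer ({t} : Set G)))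
        (show M c ^ Nat.card ↥(oddPart t) = 1 by rw [← map_pow, pow_card_eq_one', map_one]) (hdet c))
      rw [Matrix.trace_fin_two, h11, h00]
      ring
  have hone : ∀ c, M c 0 0 = 1 → M c = 1 := fun c e => htriv c (by
    have h1 := hdet' c
    rw [e] at h1
    linear_combination -h1)
  have hker : ∀ c, M c = 1 ↔ (c : G) ∈ N := fun c =>
    ⟨hc.mem_of_coordMat_eq_one h c.2, hc.coordMat_eq_one_of_mem h⟩
  have hfpf : ∀ c ∈ oddPart t, c ∉ N → ∀ y ∈ P, Commute c y →
      y ∈ P ⊓ centralizer (P : Set G) := by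
    intro c hcO hcN y hy hcy
    set c' : ↥(oddPart t) := ⟨c, hcO⟩
    obtain ⟨h5, h6⟩ := hc.coord_conj h hcO hy
    rw [show c * y * c⁻¹ = y by rw [hcy.eq, mul_inv_cancel_right]] at h5 h6
    have e1 : coordMat r ρ u c 1 1 = coordMat r ρ u c 0 0 := h11 c'
    rw [e1] at h6
    have hd := hdet' c'
    simp only [hMdef] at hd
    change coordMat r ρ u c 0 0 * coordMat r ρ u c 0 0 -
      coordMat r ρ u c 0 1 * coordMat r ρ u c 1 0 = 1 at hd
    have hne : (2 : ZMod r) * (1 - coordMat r ρ u c 0 0) ≠ 0 := mul_ne_zero h2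
      (sub_ne_zero.2 fun e => hcN ((hker c').1 (hone c' e.symm)))
    refine hc.mem_center_of_coord h hy ?_ ?_
    · refine (mul_eq_zero.1 (?_ : (2 : ZMod r) * (1 - coordMat r ρ u c 0 0) * coordI r ρ u y = 0)).resolve_left hne
      linear_combination coordMat r ρ u c 0 1 * h6 - (coordMat r ρ u c 0 0 - 1) * h5 -
        coordI r ρ u y * hd
    · refine (mul_eq_zero.1 (?_ : (2 : ZMod r) * (1 - coordMat r ρ u c 0 0) * coordJ r ρ u y = 0)).resolve_left hne
      linear_combination coordMat r ρ u c 1 0 * h5 - (coordMat r ρ u c 0 0 - 1) * h6 -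
        coordJ r ρ u y * hd
  -- a non-trivial element
  obtain ⟨c0, hc0⟩ : ∃ c, M c ≠ 1 := by
    obtain ⟨c, hcO, hc1⟩ := hne
    exact ⟨⟨c, hcO⟩, hc1⟩
  have hβ0 : M c0 0 1 ≠ 0 := fun e => hc0 (htriv c0 (by rw [e, zero_mul]))
  have hγ0 : M c0 1 0 ≠ 0 := fun e => hc0 (htriv c0 (by rw [e, mul_zero]))
  set d := M c0 1 0 / M c0 0 1 with hd
  have hd0 : d ≠ 0 := div_ne_zero hγ0 hβ0
  have hratio : ∀ c, M c 1 0 = d * M c 0 1 := fun c => by
    have h1 := congrFun (congrFun (hcomm c0 c) 0) 0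
    simp only [Matrix.mul_apply, Fin.sum_univ_two] at h1
    rw [hd, div_mul_eq_mul_div, eq_div_iff hβ0]
    linear_combination h1
  -- the eigenvalue
  let K := AlgebraicClosure (ZMod r)
  let φ : ZMod r →+* K := algebraMap (ZMod r) K
  haveI : CharP K r := charP_of_injective_algebraMap φ.injective r
  obtain ⟨s, hs⟩ := IsAlgClosed.exists_eq_mul_self (φ d)
  let χ : ↥(oddPart t) →* K :=
    { toFun := fun c => φ (M c 0 0) + s * φ (M c 0 1)
      map_one' := by simp
      map_mul' := fun c c' => by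
        simp only [map_mul, Matrix.mul_apply, Fin.sum_univ_two, h11, hratio, map_add]
        rw [hs]
        ring }
  have hχ : ∀ c, χ c = φ (M c 0 0) + s * φ (M c 0 1) := fun _ => rfl
  have hnorm : ∀ c, χ c * (φ (M c 0 0) - s * φ (M c 0 1)) = 1 := fun c => by
    have h1 := congrArg φ (hdet' c)
    rw [map_sub, map_mul, map_mul, map_one, hratio, map_mul, hs] at h1
    rw [hχ]
    linear_combination h1
  have hχ1 : ∀ c, χ c = 1 ↔ M c = 1 := fun c => ⟨fun e => hone c (by
      have h1 := hnorm c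
      rw [e, one_mul] at h1
      rw [hχ] at e
      have h7 : φ (2 * M c 0 0) = φ 2 := by
        rw [map_mul, map_ofNat]
        linear_combination h1 + e
      exact mul_left_cancel₀ h2 ((φ.injective h7).trans (mul_one 2).symm)),
    fun e => by rw [hχ, e]; simp⟩
  let χu : ↥(oddPart t) →* Kˣ := χ.toHomUnits
  have hχu : ∀ c, χu c = 1 ↔ (c : G) ∈ N := fun c => by
    rw [← hker, ← hχ1, ← Units.val_eq_one]
    rfl
  haveI : Finite χu.range := Finite.of_surjective _ χu.rangeRestrict_surjective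
  haveI : IsCyclic χu.range := inferInstance
  obtain ⟨⟨g0, c, hcg⟩, hg0⟩ := IsCyclic.exists_generator (α := χu.range)
  set e := Nat.card χu.range with he
  have horder : orderOf (χu c) = e := by
    rw [hcg, he, ← orderOf_eq_card_of_forall_mem_zpowers hg0, ← Subgroup.orderOf_coe]
  have heodd : Odd e := (odd_card_core _).of_dvd_nat (card_range_dvd χu)
  -- the Frobenius map is trivial or inverts
  obtain ⟨k, hk⟩ := hrodd
  have hsr : (∀ c, χ c ^ r = χ c) ∨ ∀ c, χ c ^ r = φ (M c 0 0) - s * φ (M c 0 1) := by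
    have hpow : ∀ c, χ c ^ r = φ (M c 0 0) + s ^ r * φ (M c 0 1) := fun c => by
      rw [hχ, add_pow_char, mul_pow, ← map_pow, ← map_pow, ZMod.pow_card, ZMod.pow_card]
    have hs' : s ^ r = s * φ (d ^ k) := by
      rw [show s ^ r = s ^ (2 * k + 1) from congrArg (s ^ ·) hk, pow_succ', pow_mul, map_pow, hs, ← pow_two]
    have hdk : d ^ k * d ^ k = 1 := by
      rw [← pow_add, show k + k = r - 1 by omega]
      exact ZMod.pow_card_sub_one_eq_one hd0
    rcases mul_self_eq_one_iff.1 hdk with e1 | e1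
    · exact Or.inl fun c => by rw [hpow, hs', e1, map_one, mul_one, hχ]
    · exact Or.inr fun c => by rw [hpow, hs', e1, map_neg, map_one]; ring
  have hedvd : e ∣ r - 1 ∨ e ∣ r + 1 := by
    rcases hsr with h7 | h7
    · left
      rw [← horder]
      refine orderOf_dvd_of_pow_eq_one (Units.ext ?_)
      rw [Units.val_pow_eq_pow_val, Units.val_one]
      show χ c ^ (r - 1) = 1
      have hne : χ c ≠ 0 := fun e0 => by
        have := hnorm c
        rw [e0, zero_mul] at this
        exact zero_ne_one this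
      refine mul_right_cancel₀ hne ?_
      rw [← pow_succ, Nat.sub_add_cancel hc.prime.one_le, h7, one_mul]
    · right
      rw [← horder]
      refine orderOf_dvd_of_pow_eq_one (Units.ext ?_)
      rw [Units.val_pow_eq_pow_val, Units.val_one]
      show χ c ^ (r + 1) = 1
      rw [pow_succ, h7, mul_comm, hnorm]
  have her : e.Coprime r := by
    refine ((Nat.Prime.coprime_iff_not_dvd hc.prime).2 fun hd => ?_).symm
    have h3 := hc.prime.two_le
    rcases hedvd with h7 | h7
    · have := Nat.le_of_dvd (by omega) (hd.trans h7); omega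
    · have h1 : r ∣ 1 := (Nat.dvd_add_right dvd_rfl).1 (hd.trans h7)
      rw [Nat.dvd_one] at h1; omega
  -- the generator `v`
  set i : ↥(oddPart t) := c⁻¹ * σ c with hi
  obtain ⟨k', m, hm, hkm⟩ :=
    Nat.exists_eq_pow_mul_and_not_dvd (orderOf_pos (i : G)).ne' r hc.prime.ne_one
  set v : ↥(oddPart t) := i ^ r ^ k' with hv
  have hχi : χu i = (χu c ^ 2)⁻¹ := by
    have e1 : χu (σ c) = χu c⁻¹ := Units.ext (by
      show φ (M (σ c) 0 0) + s * φ (M (σ c) 0 1) = φ (M c⁻¹ 0 0) + s * φ (M c⁻¹ 0 1)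
      rw [hsym])
    rw [hi, map_mul, e1, map_inv, pow_two, mul_inv]
  have hvo : orderOf (χu v) = e := by
    have h2' : (orderOf (χu c)).Coprime 2 := horder ▸ Nat.coprime_two_right.2 heodd
    have ho : orderOf (χu i) = e := by rw [hχi, orderOf_inv, h2'.orderOf_pow, horder]
    have h3 : (orderOf (χu i)).Coprime (r ^ k') := ho ▸ her.pow_right k'
    rw [hv, map_pow, h3.orderOf_pow, ho]
  have hzr : zpowers (χu v) = χu.range := by
    refine eq_of_le_of_card_ge (zpowers_le.2 ⟨v, rfl⟩) ?_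
    rw [Nat.card_zpowers, hvo, he]
  have hai : a * (i : G) * a⁻¹ = (i : G)⁻¹ := by
    show a * ((c : G)⁻¹ * (a * (c : G) * a⁻¹)) * a⁻¹ = ((c : G)⁻¹ * (a * (c : G) * a⁻¹))⁻¹
    rw [show a * ((c : G)⁻¹ * (a * (c : G) * a⁻¹)) * a⁻¹ =
      a * (c : G)⁻¹ * a⁻¹ * ((a * a) * c * (a⁻¹ * a⁻¹)) by group, h.a_mul_self, ← mul_inv_rev,
      h.a_mul_self, inv_one, one_mul, mul_one]
    group
  refine ⟨e, v, v.2, ?_, ?_, fun j => ?_, fun c hcO => ?_, ?_, hedvd, hfpf⟩
  · rw [hv, SubmonoidClass.coe_pow, ← conj_pow, hai, inv_pow]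
  · rw [hv, SubmonoidClass.coe_pow, orderOf_pow_of_dvd (pow_ne_zero _ hc.prime.ne_zero)
      (hkm ▸ dvd_mul_right _ _), hkm, Nat.mul_div_cancel_left _ (pow_pos hc.prime.pos _)]
    exact ((Nat.Prime.coprime_iff_not_dvd hc.prime).2 hm).symm
  · rw [← hvo, orderOf_dvd_iff_zpow_eq_one, ← map_zpow, hχu, SubgroupClass.coe_zpow]
  · obtain ⟨j, hj⟩ := mem_zpowers_iff.1 (hzr.ge ⟨⟨c, hcO⟩, rfl⟩)
    refine ⟨-j, (hχu (⟨c, hcO⟩ * v ^ (-j))).1 ?_⟩
    rw [map_mul, map_zpow, ← hj, ← zpow_add, add_neg_cancel, zpow_zero]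
  · rcases Nat.lt_or_ge 1 e with h8 | h8
    · exact h8
    exfalso
    refine hc0 ((hker c0).2 ((hχu c0).1 ?_))
    have h9 : χu.range = ⊥ :=
      Subgroup.eq_bot_of_card_eq _ (le_antisymm h8 Nat.card_pos)
    exact mem_bot.1 (h9 ▸ ⟨c0, rfl⟩ : χu c0 ∈ (⊥ : Subgroup Kˣ))

/-- The induced group is cyclic, inverted by `a` and fixed-point-free. -/
theorem ShapeCore.exists_shapeQuot (h : ShapeHyp t a) (hc : ShapeCore t a r ρ u) :
    ∃ e v, ShapeQuot t a r e v := by
  haveI := Fact.mk hc.prime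
  have h4 : (4 : ZMod r) ≠ 0 := fun e => hc.ne_two ((Nat.prime_dvd_prime_iff_eq hc.prime Nat.prime_two).1
    (hc.prime.dvd_of_dvd_pow (n := 2) ((ZMod.natCast_eq_zero_iff (2 ^ 2) r).1 (by exact_mod_cast e))))
  haveI : Group.IsSolvable ↥(oddPart t) := Cfsg.Agent.S0205.result (odd_card_core _)
  let M := hc.coordHom h.coreHyp
  have hMdef : ∀ c : ↥(oddPart t), M c = coordMat r ρ u c := fun _ => rfl
  have hdet : ∀ c, (M c).det = 1 := fun c => hc.coordMat_det h.coreHyp c.2
  let σ : ↥(oddPart t) →* ↥(oddPart t) :=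
    MonoidHom.mk' (fun c => ⟨a * c * a⁻¹, h.a_conj c.2⟩) fun c d => Subtype.ext (by
      show a * ((c : G) * d) * a⁻¹ = a * c * a⁻¹ * (a * d * a⁻¹)
      group)
  have hσ : ∀ c, M (σ c) = ModuleMatrix.refl2 * M c * ModuleMatrix.refl2 := fun c => by
    rw [ModuleMatrix.refl2_conj]
    exact hc.coordMat_a h.coreHyp c.2
  have hgen : Subgroup.closure {c | σ c = c⁻¹} = ⊤ := by
    refine (eq_top_iff' _).2 fun c => ?_
    suffices key : ∀ z ∈ closure {y | y ∈ oddPart t ∧ a * y * a⁻¹ = y⁻¹}, ∀ hz : z ∈ oddPart t,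
        (⟨z, hz⟩ : ↥(oddPart t)) ∈ closure {c | σ c = c⁻¹} from key c (h.gen c.2) c.2
    intro z hz
    induction hz using closure_induction with
    | mem z hz => exact fun hzO => subset_closure (Subtype.ext hz.2)
    | one => exact fun _ => one_mem _
    | mul x y hx hy ihx ihy =>
      intro hxy
      have hle : closure {y | y ∈ oddPart t ∧ a * y * a⁻¹ = y⁻¹} ≤ oddPart t :=
        (closure_le _).2 fun _ hz => hz.1
      exact mul_mem (ihx (hle hx)) (ihy (hle hy))
    | inv x _ ih => exact fun hxi => inv_mem (ih (by simpa using inv_mem hxi))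
  have hcomm := ModuleMatrix.image_comm M h4 (odd_card_core _) hdet σ hσ hgen
  -- `a` inverts the image
  have hsym : ∀ c, M (σ c) = M c⁻¹ := by
    let Sy : Subgroup ↥(oddPart t) :=
      { carrier := {c | M (σ c) = M c⁻¹}
        one_mem' := by simp
        mul_mem' := fun {c d} hcS hdS => by
          show M (σ (c * d)) = M (c * d)⁻¹
          rw [map_mul, map_mul, hcS, hdS, mul_inv_rev, map_mul]
          exact hcomm _ _
        inv_mem' := fun {c} hcS => by
          have h1 : M (σ c⁻¹) * M (σ c) = 1 := by rw [← map_mul, ← map_mul, inv_mul_cancel, map_one, map_one]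
          show M (σ c⁻¹) = M c⁻¹⁻¹
          calc M (σ c⁻¹) = M (σ c⁻¹) * (M c⁻¹ * M c) := by
                rw [← map_mul M, inv_mul_cancel, map_one, mul_one]
            _ = M (σ c⁻¹) * M (σ c) * M c := by rw [← mul_assoc, ← show M (σ c) = M c⁻¹ from hcS]
            _ = M c⁻¹⁻¹ := by rw [h1, one_mul, inv_inv] }
    intro c
    have : Subgroup.closure {c | σ c = c⁻¹} ≤ Sy :=
      (closure_le _).2 fun c (hcσ : σ c = c⁻¹) => show M (σ c) = M c⁻¹ by rw [hcσ]
    exact this (hgen ▸ mem_top c)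
  refine hc.exists_shapeQuot_of h.coreHyp hcomm hsym ?_
  by_contra hall
  push Not at hall
  apply hc.not_commute
  refine mem_centralizer_singleton_iff.1 ((h.gen.trans ((closure_le _).2 ?_))
    (coreIn_le r _ hc.rho_mem) : ρ ∈ centralizer ({u} : Set G))
  rintro i ⟨hi, hai⟩
  obtain ⟨p, hp, b, hb, rfl⟩ := exists_mem_core_mul h.coreHyp (hc.mem_of_coordMat_eq_one h.coreHyp hi (hall i hi))
  have hap : a * p * a⁻¹ = p⁻¹ := by
    have hpb : Commute p b := commute_centralPart hb (coreIn_le r _ hp)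
    rw [show a * (p * b) * a⁻¹ = a * p * a⁻¹ * (a * b * a⁻¹) by group,
      h.center_inverted (centralPart_le t r hb) hb.2.1, mul_inv_rev, ← hpb.inv_inv.eq] at hai
    exact mul_right_cancel hai
  exact mem_centralizer_singleton_iff.2 ((h.coreHyp.inverted_commute hc.prime hp hc.u_mem hap
    hc.u_inverted).mul_left (commute_centralPart hb (coreIn_le r _ hc.u_mem)).symm).eq

end CfsgLib.GWKlein
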