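import Cfsg.Agent.Lib.GWKlein.TIImage

/-!
# Klein four Sylow subgroup: maximal invariant `p`-subgroups

If every proper subgroup `H` containing the self-centralising four-group satisfies `Single`, two
maximal invariant `p`-subgroups meet trivially, and a maximal one meeting the odd part of the
centraliser of `t` either lies in it or is normalised by a rotation and contains every invariant
`p`-subgroup.
-/

set_option autoImplicit false
set_option linter.unusedSectionVars false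
set_option linter.style.haveILetI false

namespace CfsgLib.GWKlein

open Subgroup

variable {G : Type*} [Group G]

namespace Setting

variable {t a : G} (S : Setting G t a)
include S

section Finite

variable [Finite G] (hD : SelfCent t a)
include hD

variable (hprop : ∀ I : Subgroup G, I ≠ ⊥ → Odd (Nat.card I) → normalizer (I : Set G) ≠ ⊤)
include hprop

variable (hs : ∀ H : Subgroup G, H ≠ ⊤ → four t a ≤ H → Single t a H)
include hs

/-- Two maximal invariant `p`-subgroups meet trivially. -/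
theorem vmax_inf_eq_bot {p : ℕ} (hp : p.Prime) {S₁ S₂ : Subgroup G} (h1 : VMax p t a S₁)
    (h2 : VMax p t a S₂) (hne : S₁ ≠ S₂) : S₁ ⊓ S₂ = ⊥ := by
  haveI := Fact.mk hp
  by_contra hI0
  obtain ⟨⟨A, B⟩, hAB, hmax⟩ := Set.exists_max_image
    {q : Subgroup G × Subgroup G | VMax p t a q.1 ∧ VMax p t a q.2 ∧ q.1 ≠ q.2 ∧ q.1 ⊓ q.2 ≠ ⊥}
    (fun q => Nat.card ↥(q.1 ⊓ q.2)) (Set.toFinite _) ⟨(S₁, S₂), h1, h2, hne, hI0⟩
  obtain ⟨hA, hB, hAB1, hI1⟩ := hAB
  change A ≠ B at hAB1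
  change A ⊓ B ≠ ⊥ at hI1
  set I := A ⊓ B with hIdef
  have hI : VInv p t a I :=
    ⟨hA.1.pgroup.to_le inf_le_left, hA.1.odd.of_dvd_nat (card_dvd_of_le inf_le_left),
      fun v hv => S.mem_normalizer_of_conj fun x hx =>
        ⟨(mem_normalizer_iff.1 (hA.1.le_norm hv) x).1 hx.1,
          (mem_normalizer_iff.1 (hB.1.le_norm hv) x).1 hx.2⟩⟩
  set H := normalizer (I : Set G) with hH
  have hne' := hprop I hI1 hI.odd
  have hVH : four t a ≤ H := hI.le_norm
  obtain ⟨R, -, hR, hRmax, -⟩ := S.exists_greatest_vinv hD (odd_card_core H)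
    (hVH.trans (Subgroup.le_normalizer.trans (le_normalizer_core H))) p hp
  obtain ⟨T, hRT, hT⟩ := Finite.exists_le_maximal hR
  -- the parts of `A` and `B` normalising `I` lie in `T` and are larger than `I`
  have key : ∀ U, VMax p t a U → I ≤ U → ¬ U ≤ I → T = U := by
    intro U hU hIU hUI
    have hN : VInv p t a (U ⊓ H) :=
      ⟨hU.1.pgroup.to_le inf_le_left, hU.1.odd.of_dvd_nat (card_dvd_of_le inf_le_left),
        fun v hv => S.mem_normalizer_of_conj fun x hx =>
          ⟨(mem_normalizer_iff.1 (hU.1.le_norm hv) x).1 hx.1,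
            H.mul_mem (H.mul_mem (hVH hv) hx.2) (H.inv_mem (hVH hv))⟩⟩
    have hUT : U ⊓ H ≤ T := (hRmax _ hN
      (S.invariant_le_core hD hs hp hI hI1 hne' hN inf_le_right)).trans hRT
    have hlt : I < U ⊓ H := by
      haveI := hU.1.pgroup.isNilpotent
      have h3 := Group.normalizerCondition_of_isNilpotent (I.subgroupOf U)
        (Ne.lt_top fun h => hUI (subgroupOf_eq_top.1 h))
      obtain ⟨g, hgN, hgI⟩ := SetLike.exists_of_lt h3
      refine lt_of_le_not_ge (le_inf hIU Subgroup.le_normalizer) fun hle =>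
        hgI (mem_subgroupOf.2 (hle ⟨g.2, ?_⟩))
      refine S.mem_normalizer_of_conj fun x hx => ?_
      exact mem_subgroupOf.1 ((mem_normalizer_iff.1 hgN ⟨x, hIU hx⟩).1 (mem_subgroupOf.2 hx))
    by_contra hTU
    have hsub : U ⊓ H ≤ T ⊓ U := le_inf hUT inf_le_left
    have hne2 : T ⊓ U ≠ ⊥ := fun e => hI1 (eq_bot_iff.2 (hlt.le.trans (hsub.trans e.le)))
    have hle' := hmax (T, U) ⟨hT, hU, hTU, hne2⟩
    exact (Nat.not_lt.2 hle') (lt_of_lt_of_le
      (Set.ncard_lt_ncard (SetLike.coe_ssubset_coe.2 hlt) (Set.toFinite _))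
      (card_le_of_le hsub) )
  exact hAB1 ((key A hA inf_le_left fun h => hAB1 (hA.eq_of_le hB.1 (h.trans inf_le_right))).symm.trans
    (key B hB inf_le_right fun h => hAB1 (hB.eq_of_le hA.1 (h.trans inf_le_left)).symm))

/-- Over `oddPart v` there is only one maximal invariant `p`-subgroup meeting it. -/
theorem mem_of_meets {p : ℕ} (hp : p.Prime) {T : Subgroup G} (hT : VMax p t a T) {v : G}
    (hv : v ∈ four t a) (hne : T ⊓ oddPart v ≠ ⊥) {P : Subgroup G}
    (hP : VInv p t a P) (hPv : P ≤ oddPart v) : P ≤ T := by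
  have hVK : four t a ≤ normalizer (oddPart v : Set G) :=
    (S.four_le_centralizer hv).trans (Subgroup.le_normalizer.trans (le_normalizer_core _))
  obtain ⟨A, hAv, hA, hAmax, -⟩ := S.exists_greatest_vinv hD (odd_card_core _) hVK p hp
  obtain ⟨U, hAU, hU⟩ := Finite.exists_le_maximal hA
  have hTA : T ⊓ oddPart v ≤ A := hAmax _
    ⟨hT.1.pgroup.to_le inf_le_left, hT.1.odd.of_dvd_nat (card_dvd_of_le inf_le_left),
      fun u hu => S.mem_normalizer_of_conj fun x hx =>
        ⟨(mem_normalizer_iff.1 (hT.1.le_norm hu) x).1 hx.1,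
          (mem_normalizer_iff.1 (hVK hu) x).1 hx.2⟩⟩ inf_le_right
  have hTU : T = U := by
    by_contra hTU
    exact hne (eq_bot_iff.2 ((le_inf inf_le_left (hTA.trans hAU)).trans
      (S.vmax_inf_eq_bot hD hprop hs hp hT hU hTU).le))
  exact hTU ▸ (hAmax P hP hPv).trans hAU

/-- A maximal invariant `p`-subgroup meeting `oddPart t` lies in it or contains all invariant
`p`-subgroups and is normalised by a rotation. -/
theorem type_cases {p : ℕ} (hp : p.Prime) {g : G} (hg : Rot t a g) {T : Subgroup G}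
    (hT : VMax p t a T) (hne : T ⊓ oddPart t ≠ ⊥) :
    T ≤ oddPart t ∨ (g ∈ normalizer (T : Set G) ∧ ∀ P, VInv p t a P → P ≤ T) := by
  -- a part moved by a rotation to a nontrivial part of `T`
  have hmove : ∀ h : G, h ∈ normalizer (four t a : Set G) → h * t * h⁻¹ ∈ four t a →
      T ⊓ oddPart (h * t * h⁻¹) ≠ ⊥ → h ∈ normalizer (T : Set G) := by
    intro h hhV hw hne'
    have hw1 : h * t * h⁻¹ ≠ 1 := fun e => S.t_ne_one (conj_eq_one_iff.1 e)
    obtain ⟨y, hy, hy1⟩ : ∃ y ∈ T ⊓ oddPart t, y ≠ 1 := by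
      by_contra! hall
      exact hne (eq_bot_iff.2 fun y hy => mem_bot.2 (hall y hy))
    set T' := T.map (MulAut.conj h).toMonoidHom with hT'
    have hT'inv : VInv p t a T' := by
      refine ⟨hT.1.pgroup.map _,
        by rw [card_map_of_injective (MulAut.conj h).injective]; exact hT.1.odd, fun v hv => ?_⟩
      refine S.mem_normalizer_of_conj ?_
      rintro _ ⟨x, hx, rfl⟩
      have hv' : h⁻¹ * v * h ∈ four t a := by
        have := (mem_normalizer_iff.1 (inv_mem hhV) v).1 hv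
        rwa [inv_inv] at this
      refine ⟨(h⁻¹ * v * h) * x * (h⁻¹ * v * h)⁻¹,
        (mem_normalizer_iff.1 (hT.1.le_norm hv') x).1 hx, ?_⟩
      show h * ((h⁻¹ * v * h) * x * (h⁻¹ * v * h)⁻¹) * h⁻¹ = v * (h * x * h⁻¹) * v⁻¹
      group
    obtain ⟨U, hT'U, hU⟩ := Finite.exists_le_maximal hT'inv
    have hyU : h * y * h⁻¹ ∈ U := hT'U ⟨y, hy.1, rfl⟩
    have hyw : h * y * h⁻¹ ∈ oddPart (h * t * h⁻¹) := (S.mem_oddPart_four hw hw1).2
      ⟨by rw [show h * y * h⁻¹ = MulAut.conj h y from rfl, MulEquiv.orderOf_eq]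
          exact (S.mem_oddPart.1 hy.2).1,
        (S.mem_oddPart.1 hy.2).2.map (MulAut.conj h).toMonoidHom⟩
    have hyT : h * y * h⁻¹ ∈ T := by
      have hz : VInv p t a (T' ⊓ oddPart (h * t * h⁻¹)) :=
        ⟨hT'inv.pgroup.to_le inf_le_left, hT'inv.odd.of_dvd_nat (card_dvd_of_le inf_le_left),
          fun u hu => S.mem_normalizer_of_conj fun x hx =>
            ⟨(mem_normalizer_iff.1 (hT'inv.le_norm hu) x).1 hx.1,
              core_conj_mem _ (Subgroup.le_normalizer (S.four_le_centralizer hw hu)) hx.2⟩⟩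
      exact S.mem_of_meets hD hprop hs hp hT hw hne' hz inf_le_right ⟨⟨y, hy.1, rfl⟩, hyw⟩
    have hTU : T = U := by
      by_contra hTU
      have := S.vmax_inf_eq_bot hD hprop hs hp hT hU hTU
      have hm : h * y * h⁻¹ ∈ T ⊓ U := ⟨hyT, hyU⟩
      rw [this] at hm
      exact hy1 (conj_eq_one_iff.1 (mem_bot.1 hm))
    exact S.mem_normalizer_of_conj fun x hx => hTU ▸ hT'U ⟨x, hx, rfl⟩
  by_cases hsmall : T ⊓ oddPart a = ⊥ ∧ T ⊓ oddPart (t * a) = ⊥
  · refine Or.inl (S.le_of_centralizers hT.1.le_norm hT.1.odd fun v hv hv1 y hy hvy => ?_)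
    have hyv := (S.mem_oddPart_four hv hv1).2 ⟨odd_orderOf hT.1.odd hy, hvy⟩
    rcases S.mem_four_iff.1 hv with e | e | e | e
    · exact absurd e hv1
    · rwa [e] at hyv
    · rw [e] at hyv
      have hm : y ∈ T ⊓ oddPart a := ⟨hy, hyv⟩
      rw [hsmall.1, mem_bot] at hm
      rw [hm]; exact one_mem _
    · rw [e] at hyv
      have hm : y ∈ T ⊓ oddPart (t * a) := ⟨hy, hyv⟩
      rw [hsmall.2, mem_bot] at hm
      rw [hm]; exact one_mem _
  right
  have h3 : g * (t * a) * g⁻¹ = t := by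
    rw [show g * (t * a) * g⁻¹ = g * t * g⁻¹ * (g * a * g⁻¹) by group, hg.1, hg.2, ← mul_assoc,
      ← S.comm.eq, mul_assoc, S.a_mul_self, mul_one]
  have hgN : g ∈ normalizer (T : Set G) := by
    by_cases ha : T ⊓ oddPart a = ⊥
    · have hb : T ⊓ oddPart (t * a) ≠ ⊥ := fun h => hsmall ⟨ha, h⟩
      have e : g⁻¹ * t * g⁻¹⁻¹ = t * a := by
        conv_lhs => rw [← h3]
        group
      exact inv_mem_iff.1 (hmove g⁻¹ (inv_mem (S.rot_mem_normalizer hg)) (e.symm ▸ S.ta_mem)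
        (by rw [e]; exact hb))
    · exact hmove g (S.rot_mem_normalizer hg) (hg.1.symm ▸ S.a_mem) (by rw [hg.1]; exact ha)
  refine ⟨hgN, fun P hP => ?_⟩
  obtain ⟨y, hy, hy1⟩ : ∃ y ∈ T ⊓ oddPart t, y ≠ 1 := by
    by_contra! hall
    exact hne (eq_bot_iff.2 fun y hy => mem_bot.2 (hall y hy))
  have hmeet : ∀ v ∈ four t a, v ≠ 1 → T ⊓ oddPart v ≠ ⊥ := by
    intro v hv hv1
    by_cases e : v = t
    · subst e; exact hne
    obtain ⟨h, hhN, e'⟩ : ∃ h ∈ normalizer (T : Set G), h * t * h⁻¹ = v := by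
      rcases S.rot_move hg hv S.t_mem hv1 S.t_ne_one e with e' | e'
      exacts [⟨g, hgN, e'⟩, ⟨g⁻¹, inv_mem hgN, e'⟩]
    intro hbot
    have hmem : h * y * h⁻¹ ∈ T ⊓ oddPart v := ⟨(mem_normalizer_iff.1 hhN y).1 hy.1,
      (S.mem_oddPart_four hv hv1).2
        ⟨by rw [show h * y * h⁻¹ = MulAut.conj h y from rfl, MulEquiv.orderOf_eq]
            exact (S.mem_oddPart.1 hy.2).1,
          e' ▸ (S.mem_oddPart.1 hy.2).2.map (MulAut.conj h).toMonoidHom⟩⟩
    rw [hbot, mem_bot] at hmem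
    exact hy1 (conj_eq_one_iff.1 hmem)
  refine S.le_of_centralizers hP.le_norm hP.odd fun v hv hv1 x hx hvx => ?_
  have hxv : x ∈ P ⊓ oddPart v :=
    ⟨hx, (S.mem_oddPart_four hv hv1).2 ⟨odd_orderOf hP.odd hx, hvx⟩⟩
  refine S.mem_of_meets hD hprop hs hp hT hv (hmeet v hv hv1) ?_ inf_le_right hxv
  exact ⟨hP.pgroup.to_le inf_le_left, hP.odd.of_dvd_nat (card_dvd_of_le inf_le_left),
    fun u hu => S.mem_normalizer_of_conj fun z hz =>
      ⟨(mem_normalizer_iff.1 (hP.le_norm hu) z).1 hz.1,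
        core_conj_mem _ (Subgroup.le_normalizer (S.four_le_centralizer hv hu)) hz.2⟩⟩

end Finite

end Setting

end CfsgLib.GWKlein
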