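import Cfsg.Agent.Lib.GWKlein.Basic

/-!
# Klein four Sylow subgroup: invariant `p`-subgroups in the normaliser of an invariant one

For a self-centralising four-group, if every proper subgroup `H` containing it satisfies `Single`,
an invariant `p`-subgroup normalising a nontrivial invariant one `I` lies in the core of `N(I)`.
-/

set_option autoImplicit false
set_option linter.unusedSectionVars false
set_option linter.style.haveILetI false

namespace CfsgLib.GWKlein

open Subgroup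

variable {G : Type*} [Group G]

/-- In an abelian-free form: if `w` maps `x` to `x * y`, some power `z` of `y` makes `x * z` commute
with `w`. -/
theorem exists_fix_mul [Finite G] {w x : G} (hw : w * w = 1)
    (hy : Odd (orderOf (x⁻¹ * (w * x * w)))) :
    ∃ z ∈ zpowers (x⁻¹ * (w * x * w)), Commute w (x * z) := by
  set y := x⁻¹ * (w * x * w) with hy'
  obtain ⟨k, hk⟩ := hy
  have hwinv : w⁻¹ = w := inv_eq_of_mul_eq_one_right hw
  have hinv : w * y * w⁻¹ = y⁻¹ := by
    rw [hwinv, hy', mul_inv_rev, mul_inv_rev, mul_inv_rev, inv_inv, hwinv]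
    calc w * (x⁻¹ * (w * x * w)) * w = w * x⁻¹ * w * x * (w * w) := by group
      _ = w * (x⁻¹ * w) * x := by rw [hw]; group
  set z := y ^ (k + 1) with hz
  have hzz : z * z = y := by
    rw [hz, ← pow_add, show k + 1 + (k + 1) = (2 * k + 1) + 1 by ring, pow_succ, ← hk,
      pow_orderOf_eq_one, one_mul]
  have hwz : w * z * w⁻¹ = z⁻¹ := by rw [hz, ← conj_pow, hinv, inv_pow]
  refine ⟨z, Subgroup.pow_mem _ (mem_zpowers y) _, ?_⟩
  refine mul_inv_eq_iff_eq_mul.1 ?_
  calc w * (x * z) * w⁻¹ = x * (x⁻¹ * (w * x * w⁻¹)) * (w * z * w⁻¹) := by group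
    _ = x * y * z⁻¹ := by rw [hwz, hy', hwinv]
    _ = x * z := by rw [← hzz]; group

namespace Setting

variable {t a : G} (S : Setting G t a)
include S

theorem mem_normalizer_of_conj [Finite G] {g : G} {K : Subgroup G}
    (h : ∀ x ∈ K, g * x * g⁻¹ ∈ K) : g ∈ normalizer (K : Set G) :=
  mem_normalizer_iff_map_conj_eq.2
    (eq_of_le_of_card_ge (by rintro _ ⟨w, hw, rfl⟩; exact h w hw)
      (card_map_of_injective (MulAut.conj g).injective).ge)

theorem four_inv {v : G} (hv : v ∈ four t a) : v⁻¹ = v := inv_eq_of_mul_eq_one_right (S.four_sq hv)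

theorem four_other {v w : G} (hv : v ∈ four t a) (hw : w ∈ four t a) (hv1 : v ≠ 1) (hw1 : w ≠ 1)
    (hvw : v ≠ w) : v * w ∈ four t a ∧ v * w ≠ 1 ∧ v * w ≠ v ∧ v * w ≠ w :=
  ⟨mul_mem hv hw, fun e => hvw ((eq_inv_of_mul_eq_one_left e).trans (S.four_inv hw)),
    fun e => hw1 (mul_eq_left.1 e), fun e => hv1 (mul_eq_right.1 e)⟩

/-- A rotation moves any involution of the four-group to any other, forwards or backwards. -/
theorem rot_move {g v w : G} (hg : Rot t a g) (hv : v ∈ four t a) (hw : w ∈ four t a) (hv1 : v ≠ 1)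
    (hw1 : w ≠ 1) (hvw : v ≠ w) : g * w * g⁻¹ = v ∨ g⁻¹ * w * g⁻¹⁻¹ = v := by
  have h3 : g * (t * a) * g⁻¹ = t := by
    rw [show g * (t * a) * g⁻¹ = g * t * g⁻¹ * (g * a * g⁻¹) by group, hg.1, hg.2, ← mul_assoc,
      ← S.comm.eq, mul_assoc, S.a_mul_self, mul_one]
  have back : ∀ {x y : G}, g * x * g⁻¹ = y → g⁻¹ * y * g⁻¹⁻¹ = x := fun e => by rw [← e]; group
  rcases S.mem_four_iff.1 hv with e | e | e | e <;> rcases S.mem_four_iff.1 hw with e' | e' | e' | e' <;>
    subst e <;> subst e' <;>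
    first
    | exact absurd rfl hv1
    | exact absurd rfl hw1
    | exact absurd rfl hvw
    | exact Or.inl hg.1
    | exact Or.inl hg.2
    | exact Or.inl h3
    | exact Or.inr (back hg.1)
    | exact Or.inr (back hg.2)
    | exact Or.inr (back h3)

/-- A rotation normalises the four-group. -/
theorem rot_normalises {g : G} (hg : Rot t a g) {v : G} (hv : v ∈ four t a) :
    g * v * g⁻¹ ∈ four t a := by
  rcases S.mem_four_iff.1 hv with rfl | rfl | rfl | rfl
  · rw [mul_one, mul_inv_cancel]; exact one_mem _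
  · rw [hg.1]; exact S.a_mem
  · rw [hg.2]; exact S.ta_mem
  · rw [show g * (t * a) * g⁻¹ = g * t * g⁻¹ * (g * a * g⁻¹) by group, hg.1, hg.2]
    exact mul_mem S.a_mem S.ta_mem

section Finite

variable [Finite G]

theorem rot_mem_normalizer {g : G} (hg : Rot t a g) : g ∈ normalizer (four t a : Set G) :=
  S.mem_normalizer_of_conj fun _ hv => S.rot_normalises hg hv

theorem mem_oddPart_four {v y : G} (hv : v ∈ four t a) (hv1 : v ≠ 1) :
    y ∈ oddPart v ↔ Odd (orderOf y) ∧ Commute v y := by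
  rcases S.mem_four_iff.1 hv with e | e | e | e <;> subst e
  exacts [absurd rfl hv1, S.mem_oddPart, S.symm.mem_oddPart, S.shift.shift.mem_oddPart]

variable (hD : SelfCent t a)
include hD

theorem eq_one_of_commute_two {v w y : G} (hv : v ∈ four t a) (hw : w ∈ four t a) (hv1 : v ≠ 1)
    (hw1 : w ≠ 1) (hvw : v ≠ w) (hy : Odd (orderOf y)) (h1 : Commute v y) (h2 : Commute w y) :
    y = 1 := by
  have h3 : Commute (v * w) y := h1.mul_left h2
  have hta : t * (t * a) = a := by rw [← mul_assoc, S.t_mul_self, one_mul]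
  have hta' : a * (t * a) = t := by
    rw [← mul_assoc, ← S.comm.eq, mul_assoc, S.a_mul_self, mul_one]
  refine hD y hy ?_ ?_ <;>
  · rcases S.mem_four_iff.1 hv with e | e | e | e <;>
      rcases S.mem_four_iff.1 hw with e' | e' | e' | e' <;> subst e <;> subst e' <;>
      first
      | exact absurd rfl hv1
      | exact absurd rfl hw1
      | exact absurd rfl hvw
      | exact h1
      | exact h2
      | (rw [hta] at h3; exact h3)
      | (rw [hta'] at h3; exact h3)
      | (have h4 := h2.mul_left h1; rw [hta] at h4; exact h4)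
      | (have h4 := h2.mul_left h1; rw [hta'] at h4; exact h4)

/-- The other involutions invert the odd part of the centraliser of one of them. -/
theorem inverts {v w y : G} (hv : v ∈ four t a) (hw : w ∈ four t a) (hv1 : v ≠ 1) (hw1 : w ≠ 1)
    (hvw : v ≠ w) (hy : y ∈ oddPart v) : w * y * w = y⁻¹ := by
  obtain ⟨hyo, hvy⟩ := (S.mem_oddPart_four hv hv1).1 hy
  have hwy : w * y * w ∈ oddPart v := by
    refine (S.mem_oddPart_four hv hv1).2 ⟨?_, ?_⟩
    · have := (MulAut.conj w).orderOf_eq y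
      rw [MulAut.conj_apply, S.four_inv hw] at this
      exact this.symm ▸ hyo
    · exact ((S.four_comm hv hw).mul_right hvy).mul_right (S.four_comm hv hw)
  have hd : y⁻¹ * (w * y * w) ∈ oddPart v := mul_mem (inv_mem hy) hwy
  obtain ⟨z, hz, hwz⟩ := exists_fix_mul (S.four_sq hw) (odd_orderOf (odd_card_core _) hd)
  have hyz : y * z ∈ oddPart v := mul_mem hy (zpowers_le.2 hd hz)
  obtain ⟨ho, hvc⟩ := (S.mem_oddPart_four hv hv1).1 hyz
  have h1 := S.eq_one_of_commute_two hD hv hw hv1 hw1 hvw ho hvc hwz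
  obtain ⟨i, rfl⟩ := mem_zpowers_iff.1 hz
  set d := y⁻¹ * (w * y * w) with hd'
  have hwinv := S.four_inv hw
  have hwd : w * d * w⁻¹ = d⁻¹ := by
    rw [hwinv, hd', mul_inv_rev, mul_inv_rev, mul_inv_rev, inv_inv, hwinv]
    calc w * (y⁻¹ * (w * y * w)) * w = w * y⁻¹ * w * y * (w * w) := by group
      _ = w * (y⁻¹ * w) * y := by rw [S.four_sq hw]; group
  have hy' : y = (d ^ i)⁻¹ := eq_inv_of_mul_eq_one_left h1
  calc w * y * w = w * (d ^ i)⁻¹ * w⁻¹ := by rw [← hy', hwinv]
    _ = (d ^ i) := by rw [← inv_zpow, ← conj_zpow, ← conj_inv, hwd, inv_inv]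
    _ = y⁻¹ := by rw [hy', inv_inv]

/-- The odd part of the centraliser of an involution of the four-group is abelian. -/
theorem oddPart_comm {v x y : G} (hv : v ∈ four t a) (hv1 : v ≠ 1) (hx : x ∈ oddPart v)
    (hy : y ∈ oddPart v) : Commute x y := by
  obtain ⟨w, hw, hw1, hvw⟩ : ∃ w ∈ four t a, w ≠ 1 ∧ v ≠ w := by
    by_cases e : v = t
    · exact ⟨a, S.a_mem, S.a_ne_one, e ▸ S.ne⟩
    · exact ⟨t, S.t_mem, S.t_ne_one, e⟩
  have h1 := S.inverts hD hv hw hv1 hw1 hvw (mul_mem hx hy)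
  have h2 : w * (x * y) * w = (w * x * w) * (w * y * w) := by
    calc w * (x * y) * w = w * x * (w * w) * y * w := by rw [S.four_sq hw]; group
      _ = _ := by group
  rw [h2, S.inverts hD hv hw hv1 hw1 hvw hx, S.inverts hD hv hw hv1 hw1 hvw hy] at h1
  have h3 := congrArg (·⁻¹) h1
  simp only [mul_inv_rev, inv_inv] at h3
  exact h3.symm

/-- An element of the core times the odd part of `C(u)` centralised by another involution lies in
the core. -/
theorem mem_core_of_commute {H : Subgroup G} (hVH : four t a ≤ H) {u v c : G} (hu : u ∈ four t a)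
    (hv : v ∈ four t a) (hu1 : u ≠ 1) (hv1 : v ≠ 1) (huv : u ≠ v)
    (hc : c ∈ core H ⊔ (oddPart u ⊓ H)) (hodd : Odd (orderOf c)) (hvc : Commute v c) : c ∈ core H := by
  have hN : oddPart u ⊓ H ≤ normalizer (core H : Set G) :=
    inf_le_right.trans (Subgroup.le_normalizer.trans (le_normalizer_core H))
  rw [← SetLike.mem_coe, coe_mul_of_right_le_normalizer_left _ _ hN] at hc
  obtain ⟨r, hr, o, ho, rfl⟩ := hc
  have hvr : v * r * v ∈ core H := by
    have := core_conj_mem H (Subgroup.le_normalizer (hVH hv)) hr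
    rwa [S.four_inv hv] at this
  have hor : o⁻¹ * r * o ∈ core H := by
    have := core_conj_mem H (Subgroup.le_normalizer (inv_mem ho.2)) hr
    rwa [inv_inv] at this
  have hfix : v * (r * o) * v = r * o := by
    rw [hvc.eq, mul_assoc, S.four_sq hv, mul_one]
  have hsq : (r * o) * (r * o) ∈ core H := by
    have e : (r * o) * (r * o) = (v * r * v) * (o⁻¹ * r * o) := by
      calc (r * o) * (r * o) = (v * (r * o) * v) * (r * o) := by rw [hfix]
        _ = (v * r) * (o * v) * r * o := by group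
        _ = (v * r) * ((v * v) * (o * v)) * r * o := by rw [S.four_sq hv, one_mul]
        _ = (v * r) * v * (v * o * v) * r * o := by group
        _ = _ := by rw [S.inverts hD hu hv hu1 hv1 huv ho.1]; group
    rw [e]
    exact mul_mem hvr hor
  obtain ⟨k, hk⟩ := hodd
  have h1 : r * o = ((r * o) * (r * o)) ^ (k + 1) := by
    rw [← pow_two, ← pow_mul, show 2 * (k + 1) = (2 * k + 1) + 1 by ring, pow_succ, ← hk,
      pow_orderOf_eq_one, one_mul]
  show r * o ∈ core H
  rw [h1]
  exact pow_mem hsq _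

variable (hs : ∀ H : Subgroup G, H ≠ ⊤ → four t a ≤ H → Single t a H)
include hs

/-- No invariant `p`-subgroup of the normaliser of an invariant one sticks out of its core. -/
theorem invariant_le_core {p : ℕ} (hp : p.Prime) {I : Subgroup G} (hI : VInv p t a I) (hI1 : I ≠ ⊥)
    (hne : normalizer (I : Set G) ≠ ⊤) {P : Subgroup G} (hP : VInv p t a P)
    (hPI : P ≤ normalizer (I : Set G)) : P ≤ core (normalizer (I : Set G)) := by
  haveI := Fact.mk hp
  set H := normalizer (I : Set G) with hH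
  have hVH : four t a ≤ H := hI.le_norm
  by_contra hPR
  obtain ⟨g, hgH, hg⟩ : ∃ g ∈ H, Rot t a g := by
    rcases S.type_or_rot hVH with h | h
    · exact absurd (fun x hx => h.2 x (hPI hx) (odd_orderOf hP.odd hx)) hPR
    · exact h
  obtain ⟨w, hw, hw1, hPw⟩ :
      ∃ w ∈ four t a, w ≠ 1 ∧ P ≤ core H ⊔ (oddPart w ⊓ H) := by
    rcases hs H hne hVH p P hp hP hPI with h | h | h
    exacts [⟨t, S.t_mem, S.t_ne_one, h⟩, ⟨a, S.a_mem, S.a_ne_one, h⟩, ⟨t * a, S.ta_mem, S.ta_ne_one, h⟩]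
  have hVR : four t a ≤ normalizer (core H : Set G) :=
    hVH.trans (Subgroup.le_normalizer.trans (le_normalizer_core H))
  obtain ⟨Rp, hRpR, hRp, hRpmax, -⟩ := S.exists_greatest_vinv hD (odd_card_core H) hVR p hp
  have hIR : I ≤ Rp := hRpmax I hI (le_core Subgroup.le_normalizer hI.odd le_rfl)
  have hRpH : Rp ≤ H := hRpR.trans (core_le H)
  set L := core H ⊔ (oddPart w ⊓ H) with hL
  have hLH : L ≤ H := sup_le (core_le H) inf_le_right
  have hLodd : Odd (Nat.card L) := by
    have hN : oddPart w ⊓ H ≤ normalizer (core H : Set G) :=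
      inf_le_right.trans (Subgroup.le_normalizer.trans (le_normalizer_core H))
    haveI := (normal_subgroupOf_iff_le_normalizer (le_sup_left : core H ≤ L)).2
      (sup_le Subgroup.le_normalizer hN)
    have hd : (core H).relIndex L ∣ Nat.card ↥(oddPart w ⊓ H) := by
      have e : (oddPart w ⊓ H).subgroupOf L ⊔ (core H).subgroupOf L = ⊤ := by
        rw [← subgroupOf_sup le_sup_right le_sup_left, subgroupOf_eq_top, sup_comm]
      have h2 := relIndex_sup_right (K := (core H).subgroupOf L) (H := (oddPart w ⊓ H).subgroupOf L)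
      rw [e, relIndex_top_right, relIndex_subgroupOf le_sup_right] at h2
      rw [relIndex, h2]
      exact relIndex_dvd_card _ _
    have h1 := card_mul_index ((core H).subgroupOf L)
    rw [Nat.card_congr (subgroupOfEquivOfLe (le_sup_left : core H ≤ L)).toEquiv] at h1
    rw [← h1]
    exact (odd_card_core H).mul (((odd_card_core _).of_dvd_nat (card_dvd_of_le inf_le_left)).of_dvd_nat hd)
  have hVL : four t a ≤ normalizer (L : Set G) := fun v hv => S.mem_normalizer_of_conj fun x hx => by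
    have hmap : L.map (MulAut.conj v).toMonoidHom ≤ L := by
      rw [hL, Subgroup.map_sup]
      refine sup_le_sup ?_ ?_ <;> rintro _ ⟨y, hy, rfl⟩
      · exact core_conj_mem H (Subgroup.le_normalizer (hVH hv)) hy
      · refine ⟨?_, H.mul_mem (H.mul_mem (hVH hv) hy.2) (H.inv_mem (hVH hv))⟩
        have h1 := (S.mem_oddPart_four hw hw1).1 hy.1
        refine (S.mem_oddPart_four hw hw1).2
          ⟨((MulAut.conj v).orderOf_eq y).symm ▸ h1.1, ?_⟩
        exact (((S.four_comm hw hv).mul_right h1.2).mul_right (S.four_comm hw hv).inv_right)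
    exact hmap ⟨x, hx, rfl⟩
  obtain ⟨Q, hQL, hQ, hQmax, -⟩ := S.exists_greatest_vinv hD hLodd hVL p hp
  have hPQ : P ≤ Q := hQmax P hP hPw
  have hRQ : Rp ≤ Q := hQmax Rp hRp (hRpR.trans le_sup_left)
  have hQH : Q ≤ H := hQL.trans hLH
  -- `Q` meets the core in `Rp`
  have hQR : Q ⊓ core H ≤ Rp := hRpmax _
    ⟨hQ.pgroup.to_le inf_le_left, hQ.odd.of_dvd_nat (card_dvd_of_le inf_le_left),
      fun v hv => S.mem_normalizer_of_conj fun x hx =>
        ⟨(mem_normalizer_iff.1 (hQ.le_norm hv) x).1 hx.1, (mem_normalizer_iff.1 (hVR hv) x).1 hx.2⟩⟩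
    inf_le_right
  have hnormRp : Q ≤ normalizer (Rp : Set G) := fun x hx => S.mem_normalizer_of_conj fun r hr =>
    hQR ⟨Q.mul_mem (Q.mul_mem hx (hRQ hr)) (Q.inv_mem hx),
      core_conj_mem H (Subgroup.le_normalizer (hQH hx)) (hRpR hr)⟩
  -- every element of `Q` is an element of `Rp` times one centralised by `w`
  have hdec : ∀ x ∈ Q, ∃ z ∈ Rp, Commute w (x * z) := by
    intro x hx
    have hxL := hQL hx
    rw [hL, ← SetLike.mem_coe, coe_mul_of_right_le_normalizer_left _ _
      (inf_le_right.trans (Subgroup.le_normalizer.trans (le_normalizer_core H)))] at hxL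
    obtain ⟨r, hr, o, ho, rfl⟩ := hxL
    have hwr : w * r * w ∈ core H := by
      have := core_conj_mem H (Subgroup.le_normalizer (hVH hw)) hr
      rwa [S.four_inv hw] at this
    have hwQ : w * (r * o) * w ∈ Q := by
      have := (mem_normalizer_iff.1 (hQ.le_norm hw) (r * o)).1 hx
      rwa [S.four_inv hw] at this
    have hwo : w * o * w = o := by
      rw [((S.mem_oddPart_four hw hw1).1 ho.1).2.eq, mul_assoc, S.four_sq hw, mul_one]
    have hd : (r * o)⁻¹ * (w * (r * o) * w) ∈ Rp := by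
      refine hQR ⟨Q.mul_mem (Q.inv_mem hx) hwQ, ?_⟩
      rw [show (r * o)⁻¹ * (w * (r * o) * w) = o⁻¹ * (r⁻¹ * (w * r * w)) * o⁻¹⁻¹ by
        calc (r * o)⁻¹ * (w * (r * o) * w)
            = o⁻¹ * r⁻¹ * (w * r * (w * w) * o * w) := by rw [S.four_sq hw]; group
          _ = o⁻¹ * r⁻¹ * (w * r * w) * (w * o * w) := by group
          _ = _ := by rw [hwo]; group]
      exact core_conj_mem H (Subgroup.le_normalizer (H.inv_mem ho.2)) (mul_mem (inv_mem hr) hwr)
    obtain ⟨z, hz, hwz⟩ := exists_fix_mul (S.four_sq hw) (odd_orderOf hRp.odd hd)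
    exact ⟨z, zpowers_le.2 hd hz, hwz⟩
  obtain ⟨c, hcQ, hcR, hwc⟩ : ∃ c ∈ Q, c ∉ core H ∧ Commute w c := by
    obtain ⟨x, hx, hxR⟩ := SetLike.not_le_iff_exists.1 hPR
    obtain ⟨z, hz, hwz⟩ := hdec x (hPQ hx)
    exact ⟨x * z, mul_mem (hPQ hx) (hRQ hz),
      fun h => hxR ((Subgroup.mul_mem_cancel_right _ (hRpR hz)).1 h), hwz⟩
  have hconjRp : ∀ h ∈ H, h ∈ normalizer (four t a : Set G) → h ∈ normalizer (Rp : Set G) := by
    intro h hh hhV
    refine S.mem_normalizer_of_conj fun r hr => ?_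
    refine hRpmax (Rp.map (MulAut.conj h).toMonoidHom)
      ⟨hRp.pgroup.map _, by rw [card_map_of_injective (MulAut.conj h).injective]; exact hRp.odd, ?_⟩ ?_
      ⟨r, hr, rfl⟩
    · intro v hv
      refine S.mem_normalizer_of_conj ?_
      rintro _ ⟨x, hx, rfl⟩
      have hv' : h⁻¹ * v * h ∈ four t a := by
        have := (mem_normalizer_iff.1 (inv_mem hhV) v).1 hv
        rwa [inv_inv] at this
      refine ⟨(h⁻¹ * v * h) * x * (h⁻¹ * v * h)⁻¹,
        (mem_normalizer_iff.1 (hRp.le_norm hv') x).1 hx, ?_⟩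
      show h * ((h⁻¹ * v * h) * x * (h⁻¹ * v * h)⁻¹) * h⁻¹ = v * (h * x * h⁻¹) * v⁻¹
      group
    · rintro _ ⟨x, hx, rfl⟩
      exact core_conj_mem H (Subgroup.le_normalizer hh) (hRpR hx)
  have hRp1 : Rp ≠ ⊥ := fun e => hI1 (eq_bot_iff.2 (e ▸ hIR))
  -- elements of the centre of `Rp` inverted by `w`
  set Z := Rp ⊓ centralizer (Rp : Set G) with hZ
  have hZcomm : ∀ x ∈ Z, ∀ y ∈ Z, x * y = y * x := fun x hx y hy =>
    (mem_centralizer_iff.1 hy.2 x hx.1)
  have hZnorm : ∀ h ∈ normalizer (Rp : Set G), ∀ x ∈ Z, h * x * h⁻¹ ∈ Z := fun h hh x hx =>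
    ⟨(mem_normalizer_iff.1 hh x).1 hx.1, mem_centralizer_iff.2 fun r hr => by
      have hr' : h⁻¹ * r * h ∈ Rp := by
        have := (mem_normalizer_iff.1 (inv_mem hh) r).1 hr
        rwa [inv_inv] at this
      calc r * (h * x * h⁻¹) = h * ((h⁻¹ * r * h) * x) * h⁻¹ := by group
        _ = h * (x * (h⁻¹ * r * h)) * h⁻¹ := by rw [mem_centralizer_iff.1 hx.2 _ hr']
        _ = h * x * h⁻¹ * r := by group⟩
  let X : Subgroup G :=
    { carrier := {x | x ∈ Z ∧ w * x * w = x⁻¹}
      one_mem' := ⟨one_mem _, by rw [mul_one, S.four_sq hw, inv_one]⟩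
      mul_mem' := fun {x y} hx hy => ⟨mul_mem hx.1 hy.1, by
        calc w * (x * y) * w = w * x * (w * w) * y * w := by rw [S.four_sq hw]; group
          _ = (w * x * w) * (w * y * w) := by group
          _ = (x * y)⁻¹ := by rw [hx.2, hy.2, hZcomm x hx.1 y hy.1, mul_inv_rev]⟩
      inv_mem' := fun {x} hx => ⟨inv_mem hx.1, by
        have h1 := congrArg (·⁻¹) hx.2
        simp only [mul_inv_rev, inv_inv] at h1
        rw [S.four_inv hw] at h1
        rw [inv_inv, mul_assoc, h1]⟩ }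
  have hXZ : X ≤ Z := fun x hx => hx.1
  have hX1 : ∃ x ∈ X, x ≠ 1 := by
    by_contra! hall
    have hcent : ∀ x ∈ Z, Commute w x := by
      intro x hx
      have hd : x⁻¹ * (w * x * w) ∈ X := by
        have hwx : w * x * w ∈ Z := by
          have := hZnorm w (hRp.le_norm hw) x hx
          rwa [S.four_inv hw] at this
        refine ⟨mul_mem (inv_mem hx) hwx, ?_⟩
        rw [mul_inv_rev, mul_inv_rev, mul_inv_rev, inv_inv, S.four_inv hw]
        calc w * (x⁻¹ * (w * x * w)) * w = w * x⁻¹ * w * x * (w * w) := by group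
          _ = w * (x⁻¹ * w) * x := by rw [S.four_sq hw]; group
      have h1 := inv_mul_eq_one.1 (hall _ hd)
      calc w * x = w * x * (w * w) := by rw [S.four_sq hw, mul_one]
        _ = (w * x * w) * w := by group
        _ = x * w := by rw [← h1]
    obtain ⟨z, hz, hz1⟩ : ∃ z ∈ Z, z ≠ 1 := by
      obtain ⟨r, hr⟩ := (Subgroup.nontrivial_iff_ne_bot _).2 hRp1
      haveI : Nontrivial Rp := ⟨r, hr⟩
      haveI := hRp.pgroup.center_nontrivial
      obtain ⟨⟨z, hz⟩, hz1⟩ := exists_ne (1 : center Rp)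
      refine ⟨z, ⟨z.2, mem_centralizer_iff.2 fun r hr =>
        congrArg Subtype.val (mem_center_iff.1 hz ⟨r, hr⟩)⟩, fun e => hz1 (Subtype.ext (Subtype.ext e))⟩
    obtain ⟨v, hv, hv1, hwv⟩ : ∃ v ∈ four t a, v ≠ 1 ∧ w ≠ v := by
      by_cases e : w = t
      · exact ⟨a, S.a_mem, S.a_ne_one, e ▸ S.ne⟩
      · exact ⟨t, S.t_mem, S.t_ne_one, e⟩
    -- a rotation moves `w` to `v`
    obtain ⟨h, hhH, hhV, hhw⟩ : ∃ h ∈ H, h ∈ normalizer (four t a : Set G) ∧ h * w * h⁻¹ = v := by
      rcases S.rot_move hg hv hw hv1 hw1 hwv.symm with e | e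
      · exact ⟨g, hgH, S.rot_mem_normalizer hg, e⟩
      · exact ⟨g⁻¹, inv_mem hgH, inv_mem (S.rot_mem_normalizer hg), e⟩
    have hvz : Commute v z := by
      have hz' : h⁻¹ * z * h⁻¹⁻¹ ∈ Z := hZnorm _ (inv_mem (hconjRp h hhH hhV)) z hz
      have := (hcent _ hz').map (MulAut.conj h).toMonoidHom
      simp only [MulEquiv.coe_toMonoidHom, MulAut.conj_apply, hhw] at this
      rwa [show h * (h⁻¹ * z * h⁻¹⁻¹) * h⁻¹ = z by group] at this
    exact hz1 (S.eq_one_of_commute_two hD hw hv hw1 hv1 hwv (odd_orderOf hRp.odd hz.1) (hcent z hz) hvz)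
  -- such an element fixed by `Q`
  obtain ⟨y, hyX, hy1, hyQ⟩ : ∃ y ∈ X, y ≠ 1 ∧ ∀ x ∈ Q, Commute x y := by
    have hXinv : ∀ x ∈ Q, ∀ y ∈ X, x * y * x⁻¹ ∈ X := by
      intro x hx y hy
      obtain ⟨z, hz, hwz⟩ := hdec x hx
      have hzy : z⁻¹ * y * z = y := by
        rw [mul_assoc, ← (mem_centralizer_iff.1 hy.1.2 z hz), inv_mul_cancel_left]
      have e : x * y * x⁻¹ = (x * z) * y * (x * z)⁻¹ := by
        conv_lhs => rw [← hzy]
        conv_rhs => rw [← hzy]
        rw [hzy]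
        calc x * y * x⁻¹ = x * (z * (z⁻¹ * y * z) * z⁻¹) * x⁻¹ := by group
          _ = _ := by rw [hzy]; group
      refine ⟨hZnorm x (hnormRp hx) y hy.1, ?_⟩
      rw [e]
      have hcc : ∀ {c : G}, Commute w c → w * c = c * w := fun h => h.eq
      calc w * (x * z * y * (x * z)⁻¹) * w = (w * (x * z)) * y * ((x * z)⁻¹ * w) := by group
        _ = (x * z) * (w * y * w) * (x * z)⁻¹ := by
            rw [hcc hwz, (hwz.inv_right).symm.eq]; group
        _ = _ := by rw [hy.2]; group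
    have hXQ : X ≤ Q := hXZ.trans (inf_le_left.trans hRQ)
    haveI hXn : (X.subgroupOf Q).Normal := ⟨fun y hy x => hXinv x x.2 y hy⟩
    have h1 : (1 : X.subgroupOf Q) ∈ MulAction.fixedPoints (ConjAct Q) (X.subgroupOf Q) :=
      fun g => smul_one g
    have hd : p ∣ Nat.card (X.subgroupOf Q) := by
      obtain ⟨x, hx, hx1⟩ := hX1
      obtain ⟨n, hn⟩ := (hQ.pgroup.to_subgroup (X.subgroupOf Q)).exists_card_eq
      rcases n with _ | n
      · have := Subgroup.eq_bot_of_card_eq _ (hn.trans (pow_zero p))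
        have h2 : (⟨x, hXQ hx⟩ : Q) ∈ X.subgroupOf Q := hx
        rw [this, mem_bot] at h2
        exact absurd (congrArg Subtype.val h2) hx1
      · exact ⟨p ^ n, by rw [hn, pow_succ']⟩
    obtain ⟨⟨⟨y, hyQ⟩, hy⟩, hfix, hne1⟩ :=
      (hQ.pgroup.of_equiv ConjAct.toConjAct).exists_fixed_point_of_prime_dvd_card_of_fixed_point
        (X.subgroupOf Q) hd h1
    refine ⟨y, hy, fun e => hne1 (Subtype.ext (Subtype.ext e.symm)), fun x hx => ?_⟩
    have h2 := congrArg Subtype.val (hfix (ConjAct.toConjAct (⟨x, hx⟩ : Q)))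
    rw [ConjAct.Subgroup.val_conj_smul, ConjAct.toConjAct_smul] at h2
    exact mul_inv_eq_iff_eq_mul.1 (congrArg Subtype.val h2)
  -- one of the other two involutions centralises such an element
  obtain ⟨v, hv, hv1, hwv, y, hyX, hy1, hyQ, hvy⟩ : ∃ v ∈ four t a, v ≠ 1 ∧ w ≠ v ∧
      ∃ y ∈ X, y ≠ 1 ∧ (∀ x ∈ Q, Commute x y) ∧ Commute v y := by
    obtain ⟨u, hu, hu1, hwu⟩ : ∃ u ∈ four t a, u ≠ 1 ∧ w ≠ u := by
      by_cases e : w = t
      · exact ⟨a, S.a_mem, S.a_ne_one, e ▸ S.ne⟩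
      · exact ⟨t, S.t_mem, S.t_ne_one, e⟩
    have huX : u * y * u ∈ X := by
      have hz := hZnorm u (hRp.le_norm hu) y hyX.1
      rw [S.four_inv hu] at hz
      refine ⟨hz, ?_⟩
      calc w * (u * y * u) * w = (w * u) * y * (u * w) := by group
        _ = (u * w) * y * (w * u) := by rw [(S.four_comm hw hu).eq]
        _ = u * (w * y * w) * u := by group
        _ = _ := by rw [hyX.2, mul_inv_rev, mul_inv_rev, S.four_inv hu, mul_assoc]
    by_cases hsum : y * (u * y * u) = 1
    · obtain ⟨hm, hm1, hmw, -⟩ := S.four_other hw hu hw1 hu1 hwu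
      refine ⟨w * u, hm, hm1, hmw.symm, y, hyX, hy1, hyQ, ?_⟩
      have huy : u * y * u = y⁻¹ := eq_inv_of_mul_eq_one_right hsum
      refine mul_inv_eq_iff_eq_mul.1 ?_
      calc w * u * y * (w * u)⁻¹ = w * (u * y * u) * w := by
            rw [mul_inv_rev, S.four_inv hu, S.four_inv hw]; group
        _ = y := by
            rw [huy]
            have h1 := congrArg (·⁻¹) hyX.2
            simp only [mul_inv_rev, inv_inv] at h1
            rw [S.four_inv hw] at h1
            rw [mul_assoc]; exact h1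
    · refine ⟨u, hu, hu1, hwu, y * (u * y * u), mul_mem hyX huX, hsum, fun x hx => ?_, ?_⟩
      · refine (hyQ x hx).mul_right ?_
        have hx' : u * x * u ∈ Q := by
          have := (mem_normalizer_iff.1 (hQ.le_norm hu) x).1 hx
          rwa [S.four_inv hu] at this
        have h1 := (hyQ _ hx').map (MulAut.conj u).toMonoidHom
        simp only [MulEquiv.coe_toMonoidHom, MulAut.conj_apply, S.four_inv hu] at h1
        rwa [show u * (u * x * u) * u = (u * u) * x * (u * u) by group, S.four_sq hu, one_mul,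
          mul_one] at h1
      · refine mul_inv_eq_iff_eq_mul.1 ?_
        rw [S.four_inv hu]
        have hcomm := hZcomm _ hyX.1 _ huX.1
        calc u * (y * (u * y * u)) * u = (u * y * u) * (y * (u * u)) := by group
          _ = (u * y * u) * y := by rw [S.four_sq hu, mul_one]
          _ = y * (u * y * u) := hcomm.symm
  obtain ⟨h, hhH, hhV, hhw⟩ : ∃ h ∈ H, h ∈ normalizer (four t a : Set G) ∧ h * w * h⁻¹ = v := by
    rcases S.rot_move hg hv hw hv1 hw1 hwv.symm with e | e
    · exact ⟨g, hgH, S.rot_mem_normalizer hg, e⟩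
    · exact ⟨g⁻¹, inv_mem hgH, inv_mem (S.rot_mem_normalizer hg), e⟩
  have hhR := hconjRp h hhH hhV
  set c' := h * c * h⁻¹ with hc'
  have hc'v : Commute v c' := by
    have := hwc.map (MulAut.conj h).toMonoidHom
    simpa [hhw] using this
  have hc'R : c' ∉ core H := fun hm => hcR (by
    have := core_conj_mem H (Subgroup.le_normalizer (inv_mem hhH)) hm
    rwa [hc', show h⁻¹ * (h * c * h⁻¹) * h⁻¹⁻¹ = c by group] at this)
  have hodd' : ∀ {x : G}, x ∈ Q → Odd (orderOf (h * x * h⁻¹)) := fun {x} hx => by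
    rw [show h * x * h⁻¹ = MulAut.conj h x from rfl, MulEquiv.orderOf_eq]
    exact odd_orderOf hQ.odd hx
  have hyv : y ∈ oddPart v :=
    (S.mem_oddPart_four hv hv1).2 ⟨odd_orderOf hRp.odd hyX.1.1, hvy⟩
  have hyconj : ∀ x ∈ Q, Commute (h * x * h⁻¹) y := by
    intro x hx
    obtain ⟨z, hz, hwz⟩ := hdec x hx
    have h1 : Commute v (h * (x * z) * h⁻¹) := by
      have := hwz.map (MulAut.conj h).toMonoidHom
      simpa [hhw, mul_assoc] using this
    have h2 : Commute (h * (x * z) * h⁻¹) y := S.oddPart_comm hD hv hv1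
      ((S.mem_oddPart_four hv hv1).2 ⟨hodd' (mul_mem hx (hRQ hz)), h1⟩) hyv
    have h3 : Commute (h * z⁻¹ * h⁻¹) y :=
      mem_centralizer_iff.1 hyX.1.2 _ ((mem_normalizer_iff.1 hhR _).1 (inv_mem hz))
    have := h2.mul_left h3
    rwa [show h * (x * z) * h⁻¹ * (h * z⁻¹ * h⁻¹) = h * x * h⁻¹ by group] at this
  -- the centraliser of `y` has no rotation
  set K := centralizer ({y} : Set G) ⊔ four t a with hK
  have hKy : K ≤ normalizer (zpowers y : Set G) := by
    refine sup_le (fun x hx => S.mem_normalizer_of_conj fun i hi => ?_) fun v' hv' =>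
      S.mem_normalizer_of_conj fun i hi => ?_
    · obtain ⟨n, rfl⟩ := mem_zpowers_iff.1 hi
      rw [← conj_zpow, mem_centralizer_singleton_iff.1 hx, mul_inv_cancel_right]
      exact hi
    · obtain ⟨n, rfl⟩ := mem_zpowers_iff.1 hi
      rw [← conj_zpow]
      refine zpow_mem ?_ n
      by_cases e : v' = 1
      · rw [e, one_mul, inv_one, mul_one]; exact mem_zpowers y
      by_cases e' : v' = v
      · rw [e', hvy.eq, mul_inv_cancel_right]; exact mem_zpowers y
      · rw [S.four_inv hv', S.inverts hD hv hv' hv1 e (Ne.symm e') hyv]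
        exact inv_mem (mem_zpowers y)
  have hKtype : ∀ x ∈ K, Odd (orderOf x) → x ∈ core K := by
    rcases S.type_or_rot (le_sup_right : four t a ≤ K) with h1 | ⟨g', hg'K, hg'⟩
    · exact h1.2
    exfalso
    have hpow : g' * y * g'⁻¹ ∈ zpowers y :=
      (mem_normalizer_iff.1 (hKy hg'K) y).1 (mem_zpowers y)
    obtain ⟨n, hn⟩ := mem_zpowers_iff.1 hpow
    have hv' : g' * v * g'⁻¹ ∈ four t a := S.rot_normalises hg' hv
    have hne' : v ≠ g' * v * g'⁻¹ := by
      intro e
      rcases S.mem_four_iff.1 hv with e1 | e1 | e1 | e1 <;> rw [e1] at e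
      · exact hv1 e1
      · rw [hg'.1] at e; exact S.ne e
      · rw [hg'.2] at e; exact S.t_ne_one (mul_eq_right.1 e.symm)
      · rw [show g' * (t * a) * g'⁻¹ = g' * t * g'⁻¹ * (g' * a * g'⁻¹) by group, hg'.1, hg'.2,
          S.comm.eq, ← mul_assoc, S.a_mul_self, one_mul] at e
        exact S.a_ne_one (mul_eq_left.1 (S.comm.eq.trans e))
    have h1 : Commute (g' * v * g'⁻¹) (g' * y * g'⁻¹) := hvy.map (MulAut.conj g').toMonoidHom
    have h2 : Commute v (g' * y * g'⁻¹) := by rw [← hn]; exact hvy.zpow_right n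
    have := S.eq_one_of_commute_two hD hv hv' hv1 (fun e => hv1 (conj_eq_one_iff.1 e)) hne'
      (by rw [show g' * y * g'⁻¹ = MulAut.conj g' y from rfl, MulEquiv.orderOf_eq]
          exact odd_orderOf hRp.odd hyX.1.1) h2 h1
    exact hy1 (conj_eq_one_iff.1 this)
  obtain ⟨T, -, hT, hTmax, -⟩ := S.exists_greatest_vinv hD (odd_card_core K)
    ((le_sup_right : four t a ≤ K).trans (Subgroup.le_normalizer.trans (le_normalizer_core K))) p hp
  have hcent : ∀ {x : G}, Commute x y → x ∈ K := fun {x} hx =>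
    mem_sup_left (mem_centralizer_singleton_iff.2 hx.eq)
  have hQT : Q ≤ T :=
    hTmax Q hQ fun x hx => hKtype x (hcent (hyQ x hx)) (odd_orderOf hQ.odd hx)
  have hc'T : c' ∈ T := by
    refine hTmax (Q.map (MulAut.conj h).toMonoidHom)
      ⟨hQ.pgroup.map _, by rw [card_map_of_injective (MulAut.conj h).injective]; exact hQ.odd, ?_⟩ ?_
      ⟨c, hcQ, rfl⟩
    · intro v' hv'
      refine S.mem_normalizer_of_conj ?_
      rintro _ ⟨x, hx, rfl⟩
      have hv'' : h⁻¹ * v' * h ∈ four t a := by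
        have := (mem_normalizer_iff.1 (inv_mem hhV) v').1 hv'
        rwa [inv_inv] at this
      refine ⟨(h⁻¹ * v' * h) * x * (h⁻¹ * v' * h)⁻¹,
        (mem_normalizer_iff.1 (hQ.le_norm hv'') x).1 hx, ?_⟩
      show h * ((h⁻¹ * v' * h) * x * (h⁻¹ * v' * h)⁻¹) * h⁻¹ = v' * (h * x * h⁻¹) * v'⁻¹
      group
    · rintro _ ⟨x, hx, rfl⟩
      exact hKtype _ (hcent (hyconj x hx)) (hodd' hx)
  have hTH : VInv p t a (T ⊓ H) :=
    ⟨hT.pgroup.to_le inf_le_left, hT.odd.of_dvd_nat (card_dvd_of_le inf_le_left),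
      fun v' hv' => S.mem_normalizer_of_conj fun x hx =>
        ⟨(mem_normalizer_iff.1 (hT.le_norm hv') x).1 hx.1,
          H.mul_mem (H.mul_mem (hVH hv') hx.2) (H.inv_mem (hVH hv'))⟩⟩
  have hcmem : c ∈ T ⊓ H := ⟨hQT hcQ, hQH hcQ⟩
  have hc'mem : c' ∈ T ⊓ H := ⟨hc'T, H.mul_mem (H.mul_mem hhH (hQH hcQ)) (H.inv_mem hhH)⟩
  have hfin : ∀ u ∈ four t a, u ≠ 1 → T ⊓ H ≤ core H ⊔ (oddPart u ⊓ H) → False := by
    intro u hu hu1 hle
    by_cases e : u = w
    · subst e
      exact hc'R (S.mem_core_of_commute hD hVH hu hv hu1 hv1 hwv (hle hc'mem) (hodd' hcQ) hc'v)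
    · exact hcR (S.mem_core_of_commute hD hVH hu hw hu1 hw1 e (hle hcmem)
        (odd_orderOf hQ.odd hcQ) hwc)
  rcases hs H hne hVH p _ hp hTH inf_le_right with h1 | h1 | h1
  exacts [hfin t S.t_mem S.t_ne_one h1, hfin a S.a_mem S.a_ne_one h1,
    hfin (t * a) S.ta_mem S.ta_ne_one h1]

end Finite

end Setting

end CfsgLib.GWKlein
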