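import Cfsg.Agent.Lib.GWKlein.LinFinal
import Cfsg.Agent.Lib.GWKlein.A.Coatom

/-!
# Gorenstein–Walter, Klein case
-/

set_option autoImplicit false

universe u

namespace CfsgLib.GWKlein

/-- A non-abelian finite simple group of order not divisible by 8 is `PSL(2,q)`, `q ≡ 3, 5 (mod 8)`. -/
theorem simpleKlein : SimpleKlein.{u} :=
  simpleKlein_of_coatom fun _ _ _ _ _ M hO => M.centralizer_coatom hO

end CfsgLib.GWKlein
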