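import Cfsg.Agent.Lib.GWKlein.TypeTwoBasic

/-!
In a simple group with a self-centralising four-group no maximal invariant `p`-subgroup meeting the
centraliser of an involution is normalised by a rotation: all lie in that centraliser.
-/

set_option autoImplicit false
set_option linter.style.haveILetI false
set_option linter.unusedSectionVars false

namespace CfsgLib.GWKlein

open Subgroup
open scoped commutatorElement

universe u

variable {G : Type u} [Group G] [Finite G] {t a g : G}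

/-- The odd part `W` of a maximal subgroup over the centraliser of `Z`. -/
structure LocalCore (t a g : G) (Z W : Subgroup G) : Prop where
  fpf : Four W t a
  le_norm : four t a ≤ normalizer (W : Set G)
  cent : ∀ y : G, Odd (orderOf y) → y ∈ centralizer (Z : Set G) → y ∈ W
  mem : ∀ Y : Subgroup G, Y ≠ ⊥ → Odd (Nat.card Y) → W ≤ normalizer (Y : Set G) →
    four t a ≤ normalizer (Y : Set G) → ∀ y ∈ normalizer (Y : Set G), Odd (orderOf y) → y ∈ W
  not_rot : ∀ Y : Subgroup G, Y ≠ ⊥ → Odd (Nat.card Y) → W ≤ normalizer (Y : Set G) →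
    four t a ≤ normalizer (Y : Set G) → g ∉ normalizer (Y : Set G)

theorem Setting.normalizer_ne_top_of_odd [IsSimpleGroup G] (S : Setting G t a) {Y : Subgroup G}
    (hne : Y ≠ ⊥) (hodd : Odd (Nat.card Y)) : normalizer (Y : Set G) ≠ ⊤ := fun e => by
  rcases (normalizer_eq_top_iff.1 e).eq_bot_or_eq_top with h | h
  · exact hne h
  · have h2 := odd_orderOf hodd (h ▸ mem_top t : t ∈ Y)
    rw [S.t2] at h2
    exact absurd h2 (by decide)

theorem Setting.exists_localCore [IsSimpleGroup G] (S : Setting G t a) (hD : SelfCent t a)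
    (hrot : ∀ H : Subgroup G, H ≠ ⊤ → centralizer ({t} : Set G) ≤ H → ¬ ∃ g ∈ H, Rot t a g)
    (hg : Rot t a g) {Z : Subgroup G} (hne : Z ≠ ⊥) (hZ : Odd (Nat.card Z))
    (htZ : ∀ b ∈ Z, Commute t b) (hVZ : four t a ≤ normalizer (Z : Set G)) :
    ∃ W, LocalCore t a g Z W := by
  obtain ⟨M, hZM, hM, hmax⟩ := Finite.exists_le_maximal (p := fun H : Subgroup G => H ≠ ⊤)
    (a := normalizer (Z : Set G)) (S.normalizer_ne_top_of_odd hne hZ)
  have hVM : four t a ≤ M := hVZ.trans hZM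
  have hcZ : centralizer (Z : Set G) ≤ M := (centralizer_le_normalizer _).trans hZM
  have hCt : centralizer ({t} : Set G) ≤ M := fun y hy => by
    rcases S.type_or_rot (S.four_le_centralizer S.t_mem) with h | ⟨k, hk, hkt, -⟩
    · obtain ⟨x, hx, v, hv, rfl⟩ := h.1 y hy
      refine mul_mem (hcZ (mem_centralizer_iff.2 fun b hb => ?_)) (hVM hv)
      exact (S.commute_of_fixed_t hD (odd_orderOf hZ hb) (S.mem_oddPart.1 hx).1 (htZ b hb)
        (commute_of_mem_oddPart hx)).eq
    · rw [mem_centralizer_singleton_iff.1 hk, mul_inv_cancel_right] at hkt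
      exact absurd hkt S.ne
  rcases S.type_or_rot hVM with ⟨htype, hoddM⟩ | hr
  swap
  · exact absurd hr (hrot M hM hCt)
  have hnW : four t a ≤ normalizer (core M : Set G) :=
    (hVM.trans le_normalizer).trans (le_normalizer_core M)
  have hN : ∀ Y : Subgroup G, Y ≠ ⊥ → Odd (Nat.card Y) → core M ≤ normalizer (Y : Set G) →
      four t a ≤ normalizer (Y : Set G) → normalizer (Y : Set G) ≤ M := fun Y h1 h2 h3 h4 =>
    hmax (S.normalizer_ne_top_of_odd h1 h2) fun y hy => by
      obtain ⟨k, hk, v, hv, rfl⟩ := htype y hy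
      exact mul_mem (h3 hk) (h4 hv)
  exact ⟨core M, S.four_of hD (odd_card_core M) hnW, hnW, fun y hy h => hoddM y (hcZ h) hy,
    fun Y h1 h2 h3 h4 y hy ho => hoddM y (hN Y h1 h2 h3 h4 hy) ho,
    fun Y h1 h2 h3 h4 h => hrot M hM hCt ⟨g, hN Y h1 h2 h3 h4 h, hg⟩⟩

/-- The `r`-core of `W` as a subgroup of `G`. -/
def coreAt (r : ℕ) (W : Subgroup G) : Subgroup G := (Cfsg.pCore r W).map W.subtype

theorem coreAt_le (r : ℕ) (W : Subgroup G) : coreAt r W ≤ W := map_subtype_le _

theorem isPGroup_coreAt (r : ℕ) (W : Subgroup G) : IsPGroup r (coreAt r W) :=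
  (Solvable.Cores.isPGroup_pCore r).map _

theorem le_normalizer_coreAt (r : ℕ) (W : Subgroup G) :
    normalizer (W : Set G) ≤ normalizer (coreAt r W : Set G) := fun h hh =>
  mem_normalizer_of_forall fun k hk => by
    obtain ⟨k, hk, rfl⟩ := hk
    exact ⟨W.normalizerMonoidHom ⟨h, hh⟩ k,
      characteristic_iff_map_le.1 inferInstance _ ⟨k, hk, rfl⟩, rfl⟩

theorem conj_mem_coreAt {r : ℕ} {W : Subgroup G} {h x : G} (hh : h ∈ W) (hx : x ∈ coreAt r W) :
    h * x * h⁻¹ ∈ coreAt r W :=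
  (mem_normalizer_iff.1 (le_normalizer_coreAt r W (le_normalizer hh)) x).1 hx

theorem commute_coreAt {q r : ℕ} [Fact q.Prime] [Fact r.Prime] (hne : q ≠ r) {W : Subgroup G}
    {x y : G} (hx : x ∈ coreAt q W) (hy : y ∈ coreAt r W) : Commute x y := by
  obtain ⟨x, hx, rfl⟩ := hx
  obtain ⟨y, hy, rfl⟩ := hy
  exact (commute_of_normal_of_disjoint _ _ inferInstance inferInstance
    (IsPGroup.disjoint_of_ne q r hne _ _ (Solvable.Cores.isPGroup_pCore q)
      (Solvable.Cores.isPGroup_pCore r)) x y hx hy).map W.subtype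

theorem mem_coreAt {r : ℕ} [Fact r.Prime] {W : Subgroup G} {y : W}
    (hy : y ∈ Cfsg.fittingSubgroup W) (hr : ∃ k, orderOf (y : G) = r ^ k) :
    (y : G) ∈ coreAt r W := by
  haveI := Solvable.Cores.fittingSubgroup_isNilpotent (G := W)
  refine ⟨y, OddOrder.RankTwoGlobal.mem_pCore_of_mem hy ?_, rfl⟩
  obtain ⟨k, hk⟩ := hr
  exact ⟨k, by rw [← Subgroup.orderOf_coe, hk]⟩

/-- Commutators of an `r`-core with central parts of an invariant Sylow subgroup are normal. -/
theorem le_normalizer_commutator_coreAt {p r : ℕ} [Fact p.Prime] [Fact r.Prime] (hne : p ≠ r)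
    {W T A : Subgroup G} (hW : _root_.commutator W ≤ Cfsg.fittingSubgroup W) (hTW : T ≤ W)
    (hT : IsPGroup p T) (hidx : ¬ p ∣ T.relIndex W) (hA : A ≤ T ⊓ centralizer (T : Set G)) :
    W ≤ normalizer ((⁅coreAt r W, A⁆ : Subgroup G) : Set G) := by
  set N0 : Subgroup G := ⁅coreAt r W, A⁆ with hN0
  have hAW : A ≤ W := (hA.trans inf_le_left).trans hTW
  have hN0le : N0 ≤ coreAt r W := le_normalizer_iff_commutator_le_left.1
    (hAW.trans ((le_normalizer (H := W)).trans (le_normalizer_coreAt r W)))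
  set T' : Subgroup W := T.subgroupOf W
  set N : Subgroup W := Cfsg.fittingSubgroup W ⊔ T' with hN
  haveI : N.Normal := ⟨fun n hn w => by
    rw [show w * n * w⁻¹ = ⁅w, n⁆ * n by rw [commutatorElement_def]; group]
    exact mul_mem (mem_sup_left (hW (commutator_mem_commutator (mem_top w) (mem_top n)))) hn⟩
  have hTp : IsPGroup p T' := hT.comap_of_injective W.subtype W.subtype_injective
  have htop := Sylow.normalizer_sup_eq_top' (N := N) (hTp.toSylow (show ¬ p ∣ T'.index from hidx)) (by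
    intro x hx
    exact mem_sup_right ((IsPGroup.mem_toSylow hTp _).1 hx))
  replace htop : normalizer (T' : Set W) ⊔ N = ⊤ := htop
  suffices h : (⊤ : Subgroup W) ≤ (normalizer (N0 : Set G)).comap W.subtype from
    fun w hw => h (mem_top (⟨w, hw⟩ : W))
  have hnT : normalizer (T' : Set W) ≤ (normalizer (N0 : Set G)).comap W.subtype := by
    intro w hw
    set c := MulAut.conj (w : G)
    have hfix : (coreAt r W).map c.toMonoidHom = coreAt r W :=
      mem_normalizer_iff_map_conj_eq.1 (le_normalizer_coreAt r W (le_normalizer w.2))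
    have hle : N0.map c.toMonoidHom ≤ N0 := by
      rw [hN0, map_commutator, hfix]
      refine commutator_le.2 ?_
      rintro x hx _ ⟨b, hb, rfl⟩
      set d : W := ⁅w, ⟨b, hAW hb⟩⁆ with hd
      have hbT : b ∈ T := (hA hb).1
      have hdT : (d : G) ∈ T := by
        have h1 : (w : G) * b * (w : G)⁻¹ ∈ T :=
          (mem_normalizer_iff.1 hw ⟨b, hAW hb⟩).1 hbT
        exact mul_mem h1 (inv_mem hbT)
      have hdc : (d : G) ∈ coreAt p W := mem_coreAt
        (hW (commutator_mem_commutator (mem_top _) (mem_top _)))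
        (by simpa using IsPGroup.iff_orderOf.1 hT ⟨_, hdT⟩)
      have h2 : ⁅x, b⁆ ∈ coreAt r W := by
        rw [commutatorElement_def, mul_assoc x, mul_assoc x]
        exact mul_mem hx (conj_mem_coreAt (hAW hb) (inv_mem hx))
      have c1 : Commute x (d : G) := (commute_coreAt hne hdc hx).symm
      have c2 : Commute ⁅x, b⁆ (d : G) := (commute_coreAt hne hdc h2).symm
      have e : ⁅x, (w : G) * b * (w : G)⁻¹⁆ = ⁅x, b⁆ := by
        rw [show (w : G) * b * (w : G)⁻¹ = (d : G) * b from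
          (show (d : G) * b = (w : G) * b * (w : G)⁻¹ by
            show (w : G) * b * (w : G)⁻¹ * b⁻¹ * b = _
            group).symm]
        calc ⁅x, (d : G) * b⁆ = x * d * (b * x⁻¹ * b⁻¹) * (d : G)⁻¹ := by
              rw [commutatorElement_def]; group
          _ = d * x * (b * x⁻¹ * b⁻¹) * (d : G)⁻¹ := by rw [c1.eq]
          _ = d * ⁅x, b⁆ * (d : G)⁻¹ := by rw [commutatorElement_def]; group
          _ = ⁅x, b⁆ := by rw [← c2.eq, mul_inv_cancel_right]
      show ⁅x, (w : G) * b * (w : G)⁻¹⁆ ∈ ⁅coreAt r W, A⁆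
      rw [e]
      exact commutator_mem_commutator hx hb
    exact mem_normalizer_of_forall fun k hk => hle ⟨k, hk, rfl⟩
  rw [← htop]
  refine sup_le hnT (sup_le ?_ (le_normalizer.trans hnT))
  rw [Solvable.Cores.fittingSubgroup_eq_iSup_pCore]
  refine iSup_le fun q x hx => ?_
  haveI := Fact.mk q.2
  have hxq : (x : G) ∈ coreAt (q : ℕ) W := ⟨x, hx, rfl⟩
  by_cases hq : (q : ℕ) = r
  · exact normalizer_commutator_ge_left _ _ (show (x : G) ∈ coreAt r W from hq ▸ hxq)
  · exact centralizer_le_normalizer _ (mem_centralizer_iff.2 fun k hk =>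
      (commute_coreAt hq hxq (hN0le hk)).symm.eq)

/-- Elements of `U` in commutators with coprime action inside `W` lie in the core. -/
theorem commutator_eq_coreAt {r : ℕ} [Fact r.Prime] {W U A : Subgroup G}
    (hW : _root_.commutator W ≤ Cfsg.fittingSubgroup W) (hU : IsPGroup r U) (hAW : A ≤ W)
    (hAU : A ≤ normalizer (U : Set G)) (hcop : (Nat.card A).Coprime (Nat.card U))
    (hle : coreAt r W ≤ U) (hUA : (⁅U, A⁆ : Subgroup G) ≤ W) :
    (⁅U, A⁆ : Subgroup G) = ⁅coreAt r W, A⁆ := by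
  have hsolv : Group.IsSolvable U := by
    have := hU.isNilpotent
    infer_instance
  have h2 : (⁅⁅U, A⁆, A⁆ : Subgroup G) = ⁅U, A⁆ :=
    Coprime.commutator_commutator_self hAU hcop (.inr hsolv)
  have h3 : (⁅U, A⁆ : Subgroup G) ≤ coreAt r W := fun y hy => by
    have hyU : y ∈ U := le_normalizer_iff_commutator_le_left.1 hAU hy
    have h4 : y ∈ (⁅W, W⁆ : Subgroup G) := commutator_mono hUA hAW (h2.ge hy)
    rw [← map_subtype_commutator] at h4
    obtain ⟨z, hz, rfl⟩ := h4
    exact mem_coreAt (hW hz) (by simpa using IsPGroup.iff_orderOf.1 hU ⟨_, hyU⟩)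
  exact le_antisymm (h2.ge.trans (commutator_mono h3 le_rfl)) (commutator_mono hle le_rfl)

theorem mem_normalizer_zpowers {v z : G} (h : v * z * v⁻¹ ∈ zpowers z) :
    v ∈ normalizer (zpowers z : Set G) :=
  mem_normalizer_of_forall fun k hk => by
    obtain ⟨i, rfl⟩ := mem_zpowers_iff.1 hk
    rw [← conj_zpow]
    exact zpow_mem h i

theorem Setting.four_le_normalizer_zpowers (S : Setting G t a) {K : Subgroup G} (F : Four K t a)
    {u z : G} (hu : u ∈ four t a) (hu1 : u ≠ 1) (hz : z ∈ K) (huz : Commute u z) :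
    four t a ≤ normalizer (zpowers z : Set G) := by
  have key : ∀ v : G, v * v = 1 → (v = t ∨ v = a ∨ v = t * a) →
      v ∈ normalizer (zpowers z : Set G) := fun v hv2 hv => mem_normalizer_zpowers (by
    rw [inv_eq_of_mul_eq_one_right hv2]
    by_cases e : u = v
    · subst e
      rw [(cj_eq_iff hv2 z).2 huz]
      exact mem_zpowers z
    · rw [F.inverted_of (S.involutions hu hu1) hv e hz huz]
      exact inv_mem (mem_zpowers z))
  exact S.le_normalizer_of (key t S.t_mul_self (Or.inl rfl))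
    (key a S.a_mul_self (Or.inr (Or.inl rfl)))

namespace Setting

variable [IsSimpleGroup G] (S : Setting G t a) (hD : SelfCent t a) (hg : Rot t a g)
include S hD hg

/-- A prime whose core is moved by `Z(T)`. -/
theorem exists_moved_core {p : ℕ} (hp : p.Prime) {Z W T : Subgroup G}
    (L : LocalCore t a g Z W) (hT : Big p t a g T) (hTW : T ≤ W)
    (hB : T ⊓ centralizer (T : Set G) ≠ ⊥) :
    ∃ r, r.Prime ∧ p ≠ r ∧
      ¬ coreAt r W ≤ centralizer ((T ⊓ centralizer (T : Set G) : Subgroup G) : Set G) := by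
  haveI := Fact.mk hp
  haveI : Group.IsSolvable W := Cfsg.Agent.S0205.result L.fpf.hodd
  set B := T ⊓ centralizer (T : Set G) with hBdef
  by_contra hc
  push Not at hc
  have hpT : coreAt p W ≤ T := hT.greatest _ ⟨isPGroup_coreAt p W,
    L.fpf.hodd.of_dvd_nat (card_dvd_of_le (coreAt_le p W)),
    L.le_norm.trans (le_normalizer_coreAt p W)⟩
  have hall : ∀ q : ℕ, q.Prime → coreAt q W ≤ centralizer (B : Set G) := fun q hq => by
    by_cases e : p = q
    · subst e
      intro x hx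
      exact mem_centralizer_iff.2 fun b hb =>
        (mem_centralizer_iff.1 hb.2 x (hpT hx)).symm
    · exact hc q hq e
  have hBW : B ≤ W := inf_le_left.trans hTW
  have hBc : ∀ b : W, (b : G) ∈ B →
      b ∈ centralizer (Cfsg.fittingSubgroup W : Set W) := fun b hb =>
    OddOrder.RankTwoGlobal.mem_centralizer_fitting fun q hq => mem_centralizer_iff.2 fun x hx =>
      Subtype.ext (mem_centralizer_iff.1 (hall q hq ⟨x, hx, rfl⟩) b hb).symm
  have hWB : W ≤ normalizer (B : Set G) := fun w hw => mem_normalizer_of_forall fun b hb => by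
    set b' : W := ⟨b, hBW hb⟩
    set w' : W := ⟨w, hw⟩
    have hbp : (b : G) ∈ coreAt p W := mem_coreAt (y := b')
      (Solvable.Cores.centralizer_fittingSubgroup_le (hBc b' hb))
      (by simpa [b'] using IsPGroup.iff_orderOf.1 hT.inv.pgroup ⟨b, hb.1⟩)
    refine ⟨hpT (conj_mem_coreAt hw hbp), mem_centralizer_iff.2 fun s hs => ?_⟩
    set d : W := ⁅(⟨s, hTW hs⟩ : W)⁻¹, w'⁻¹⁆ with hd
    have hdF : d ∈ Cfsg.fittingSubgroup W :=
      L.fpf.commutator_le_fitting (commutator_mem_commutator (mem_top _) (mem_top _))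
    have h1 : Commute (d : G) b :=
      (congrArg Subtype.val (mem_centralizer_iff.1 (hBc b' hb) d hdF) :)
    have h2 : Commute (s * d : G) b :=
      Commute.mul_left (mem_centralizer_iff.1 hb.2 s hs) h1
    have e : s * (d : G) = w⁻¹ * s * w := by
      show s * (s⁻¹ * w⁻¹ * (s⁻¹)⁻¹ * (w⁻¹)⁻¹) = _
      group
    rw [e] at h2
    have h3 := (Commute.conj_iff w).2 h2
    rwa [show w * (w⁻¹ * s * w) * w⁻¹ = s by group] at h3
  exact L.not_rot B hB (L.fpf.hodd.of_dvd_nat (card_dvd_of_le hBW)) hWB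
    (fun v hv => mem_normalizer_inf_centralizer (hT.inv.le_norm hv))
    (mem_normalizer_inf_centralizer hT.rot)

/-- The cores of `W` lie in big subgroups. -/
theorem coreAt_le_big
    (hcases : ∀ r : ℕ, r.Prime → ∀ T : Subgroup G, VMax r t a T → T ⊓ oddPart t ≠ ⊥ →
      T ≤ oddPart t ∨ (g ∈ normalizer (T : Set G) ∧ ∀ P, VInv r t a P → P ≤ T))
    {r : ℕ} (hr : r.Prime) {Z W B : Subgroup G} (L : LocalCore t a g Z W) (hBW : B ≤ W)
    (hBv : ∀ v ∈ four t a, v ≠ 1 → ∃ x ∈ B, x ≠ 1 ∧ Commute v x) (hne : coreAt r W ≠ ⊥) :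
    ∃ Tr, Big r t a g Tr ∧ coreAt r W ≤ Tr := by
  haveI := Fact.mk hr
  have hFodd : Odd (Nat.card (coreAt r W)) :=
    L.fpf.hodd.of_dvd_nat (card_dvd_of_le (coreAt_le r W))
  have hF : VInv r t a (coreAt r W) :=
    ⟨isPGroup_coreAt r W, hFodd, L.le_norm.trans (le_normalizer_coreAt r W)⟩
  obtain ⟨T, hFT, hT⟩ := Finite.exists_le_maximal (p := VInv r t a) hF
  rcases S.vmax_cases hg hcases hr hT (fun e => hne (le_bot_iff.1 (e ▸ hFT))) with
    ⟨w, hw, hw1, hwT⟩ | hbig
  swap
  · exact ⟨T, hbig, hFT⟩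
  obtain ⟨u, hu, hu1, huw⟩ := S.exists_other w
  obtain ⟨x, hx, hx1, hux⟩ := hBv u hu hu1
  have hxW := hBW hx
  have hxo : Odd (orderOf x) := odd_orderOf L.fpf.hodd hxW
  have hw2 := S.four_sq hw
  have hxy : ∀ y ∈ coreAt r W, Commute x y := fun y hy => by
    have h1 : w * (x * y * x⁻¹) * w = x * y * x⁻¹ :=
      (cj_eq_iff hw2 _).2 (hwT _ (hFT (conj_mem_coreAt hxW hy)))
    rw [cj_mul hw2, cj_mul hw2, ← cj_inv hw2,
      L.fpf.inverted_of (S.involutions hu hu1) (S.involutions hw hw1) huw hxW hux,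
      (cj_eq_iff hw2 y).2 (hwT _ (hFT hy)), inv_inv] at h1
    refine commute_of_sq hxo ?_
    show x ^ 2 * y = y * x ^ 2
    rw [pow_two]
    calc x * x * y = x * (x * y * x⁻¹) * x := by group
      _ = x * (x⁻¹ * y * x) * x := by rw [h1]
      _ = y * (x * x) := by group
  set H := normalizer (zpowers x : Set G) with hH
  have hcH : ∀ y : G, Commute x y → y ∈ H := fun y h => mem_normalizer_zpowers (by
    rw [show y * x = x * y from h.eq.symm, mul_inv_cancel_right]
    exact mem_zpowers x)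
  have hVH : four t a ≤ H := S.four_le_normalizer_zpowers L.fpf hu hu1 hxW hux
  have hoddH : ∀ y ∈ H, Odd (orderOf y) → y ∈ core H := by
    rcases S.type_or_rot hVH with h | ⟨h, hh, hrot⟩
    · exact h.2
    exfalso
    refine hx1 (S.eq_one_of_two_fixed hD hu hu1
      ((mem_normalizer_iff.1 (S.rot_mem_normalizer_four hrot) u).1 hu)
      (fun e => hu1 (conj_eq_one_iff.1 e)) (S.rot_moves hrot hu hu1).symm hxo hux ?_)
    have h1 : h⁻¹ * x * h ∈ zpowers x := (mem_normalizer_iff.1 hh _).2 (by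
      rw [show h * (h⁻¹ * x * h) * h⁻¹ = x by group]; exact mem_zpowers x)
    obtain ⟨i, hi⟩ := mem_zpowers_iff.1 h1
    have h2 := (Commute.conj_iff h).2 (hux.zpow_right i)
    rwa [hi, show h * (h⁻¹ * x * h) * h⁻¹ = x by group] at h2
  have hVK : four t a ≤ normalizer (core H : Set G) :=
    (hVH.trans le_normalizer).trans (le_normalizer_core H)
  obtain ⟨R, -, hRi, hRmax, -⟩ := S.exists_greatest_vinv hD (odd_card_core H) hVK r hr
  have hFR : coreAt r W ≤ R := hRmax _ hF fun y hy =>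
    hoddH y (hcH y (hxy y hy)) (odd_orderOf hFodd hy)
  obtain ⟨y, hy, hy1⟩ : ∃ y ∈ coreAt r W, y ≠ 1 := by
    by_contra hc
    push Not at hc
    exact hne ((eq_bot_iff_forall _).2 hc)
  -- an element of order a power of `r` fixed by `u`
  obtain ⟨h, -, hh⟩ := S.exists_to_t hg hw hw1
  obtain ⟨h', -, hh'⟩ := S.exists_to_t hg hu hu1
  set k := h'⁻¹ * h with hk
  have hkw : k * w * k⁻¹ = u := by
    rw [hk, show h'⁻¹ * h * w * (h'⁻¹ * h)⁻¹ = h'⁻¹ * (h * w * h⁻¹) * h' by group, hh, ← hh']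
    group
  set z := k * y * k⁻¹ with hz
  have hyo : Odd (orderOf y) := odd_orderOf hFodd hy
  have hzo : Odd (orderOf z) := by rwa [hz, ← MulAut.conj_apply, MulEquiv.orderOf_eq]
  have huz : Commute u z := hkw ▸ (Commute.conj_iff k).2 (hwT y (hFT hy))
  have hxz : Commute x z := S.commute_of_fixed_same hg hD hu hu1 hxo hzo hux huz
  have hzK : z ∈ core H := hoddH z (hcH z hxz) hzo
  have hP : VInv r t a (zpowers z) := by
    refine ⟨?_, by rwa [Nat.card_zpowers],
      S.four_le_normalizer_zpowers (S.four_of hD (odd_card_core H) hVK) hu hu1 hzK huz⟩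
    have h1 : IsPGroup r ((zpowers y).map (MulAut.conj k).toMonoidHom) :=
      (hF.pgroup.to_le (zpowers_le.2 hy)).map _
    rwa [MonoidHom.map_zpowers] at h1
  have hzR : z ∈ R := hRmax _ hP (zpowers_le.2 hzK) (mem_zpowers z)
  obtain ⟨Tr, hTr, hle⟩ := S.exists_big_of_two hg hD hcases hr hRi hw hw1 hu hu1 huw.symm
    (hFR hy) hy1 (hwT y (hFT hy)) hzR (fun e => hy1 (conj_eq_one_iff.1 e)) huz
  exact ⟨Tr, hTr, hFR.trans hle⟩

/-- A big subgroup is trivial. -/
theorem big_eq_bot (hrot : ∀ H : Subgroup G, H ≠ ⊤ → centralizer ({t} : Set G) ≤ H →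
      ¬ ∃ g ∈ H, Rot t a g)
    (hcases : ∀ r : ℕ, r.Prime → ∀ T : Subgroup G, VMax r t a T → T ⊓ oddPart t ≠ ⊥ →
      T ≤ oddPart t ∨ (g ∈ normalizer (T : Set G) ∧ ∀ P, VInv r t a P → P ≤ T))
    {p : ℕ} (hp : p.Prime) {T : Subgroup G} (hT : Big p t a g T) : T = ⊥ := by
  by_contra hTne
  haveI := Fact.mk hp
  set B := T ⊓ centralizer (T : Set G) with hBdef
  have hBne : B ≠ ⊥ := by
    haveI : Nontrivial T := T.nontrivial_iff_ne_bot.2 hTne
    haveI := hT.inv.pgroup.center_nontrivial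
    obtain ⟨z, hz⟩ := exists_ne (1 : center T)
    intro e
    refine hz (Subtype.ext (Subtype.ext (mem_bot.1 (?_ : ((z : T) : G) ∈ (⊥ : Subgroup G)))))
    rw [← e]
    exact ⟨(z : T).2, mem_centralizer_iff.2 fun s hs =>
      congrArg Subtype.val (mem_center_iff.1 z.2 ⟨s, hs⟩)⟩
  have hBodd : Odd (Nat.card B) := hT.inv.odd.of_dvd_nat (card_dvd_of_le inf_le_left)
  have hBp : IsPGroup p B := hT.inv.pgroup.to_le inf_le_left
  have hgB : g ∈ normalizer (B : Set G) := mem_normalizer_inf_centralizer hT.rot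
  have hVB : four t a ≤ normalizer (B : Set G) := fun v hv =>
    mem_normalizer_inf_centralizer (hT.inv.le_norm hv)
  have hBT : B ≤ T := inf_le_left
  have hBcomm : ∀ b ∈ B, ∀ c ∈ B, Commute b c := fun b hb c hc =>
    mem_centralizer_iff.1 hc.2 b hb.1
  have hfixed : ∀ {h v : G}, h ∈ normalizer (B : Set G) → h * v * h⁻¹ = v →
      h ∈ normalizer ((B ⊓ centralizer ({v} : Set G) : Subgroup G) : Set G) := fun {h v} hh e =>
    mem_normalizer_iff_map_conj_eq.2 ((map_inf_centralizer hh v).trans (by rw [e]))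
  have hVfix : ∀ v ∈ four t a, four t a ≤
      normalizer ((B ⊓ centralizer ({v} : Set G) : Subgroup G) : Set G) := fun v hv h hh =>
    hfixed (hVB hh) (by rw [(S.four_comm hh hv).eq, mul_inv_cancel_right])
  -- every involution fixes a non-trivial element of `B`
  have hBv : ∀ v ∈ four t a, v ≠ 1 → ∃ x ∈ B, x ≠ 1 ∧ Commute v x := by
    obtain ⟨v₀, hv₀, hv₀1, x, hx, hvx, hx1⟩ :
        ∃ v ∈ four t a, v ≠ 1 ∧ ∃ x ∈ B, Commute v x ∧ x ≠ 1 := by
      by_contra hc
      push Not at hc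
      exact hBne (le_bot_iff.1 (S.le_of_centralizers hVB hBodd fun v hv hv1 y hy hvy =>
        mem_bot.2 (hc v hv hv1 y hy hvy)))
    intro v hv hv1
    obtain ⟨h, hh, e⟩ := S.exists_to_t hg hv₀ hv₀1
    obtain ⟨h', hh', e'⟩ := S.exists_to_t hg hv hv1
    refine ⟨h'⁻¹ * h * x * (h'⁻¹ * h)⁻¹, ?_, fun e1 => hx1 (conj_eq_one_iff.1 e1), ?_⟩
    · exact (mem_normalizer_iff.1 (mul_mem (inv_mem (zpowers_le.2 hgB hh')) (zpowers_le.2 hgB hh))
        x).1 hx
    · have h1 := (Commute.conj_iff (h'⁻¹ * h)).2 hvx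
      rwa [show h'⁻¹ * h * v₀ * (h'⁻¹ * h)⁻¹ = h'⁻¹ * (h * v₀ * h⁻¹) * h' by group, e, ← e',
        show h'⁻¹ * (h' * v * h'⁻¹) * h' = v by group] at h1
  set Z := B ⊓ centralizer ({t} : Set G) with hZ
  have hZne : Z ≠ ⊥ := fun e => by
    obtain ⟨x, hx, hx1, hxc⟩ := hBv t S.t_mem S.t_ne_one
    exact hx1 (mem_bot.1 (e ▸ (⟨hx, mem_centralizer_singleton_iff.2 hxc.symm.eq⟩ : x ∈ Z)))
  obtain ⟨W, L⟩ := S.exists_localCore hD hrot hg hZne
    (hBodd.of_dvd_nat (card_dvd_of_le inf_le_left))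
    (fun b hb => (mem_centralizer_singleton_iff.1 hb.2 : b * t = t * b).symm) (hVfix t S.t_mem)
  have hTW : T ≤ W := fun x hx => L.cent x (odd_orderOf hT.inv.odd hx)
    (mem_centralizer_iff.2 fun b hb => (mem_centralizer_iff.1 hb.1.2 x hx).symm)
  have hBW : B ≤ W := hBT.trans hTW
  have hidx : ¬ p ∣ T.relIndex W := by
    obtain ⟨R, -, hR, hRmax, hRidx⟩ := S.exists_greatest_vinv hD L.fpf.hodd L.le_norm p hp
    rwa [le_antisymm (hRmax T hT.inv hTW) (hT.greatest R hR)]
  have hW := L.fpf.commutator_le_fitting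
  obtain ⟨r, hr, hpr, hmoved⟩ := S.exists_moved_core hD hg hp L hT hTW hBne
  haveI := Fact.mk hr
  obtain ⟨Tr, hTr, hFTr⟩ := S.coreAt_le_big hD hg hcases hr L hBW hBv fun e =>
    hmoved (e ▸ bot_le)
  -- the largest subgroup of `Tr` invariant under `B`
  set U : Subgroup G := ⨅ b : B, Tr.map (MulAut.conj (b : G)).toMonoidHom with hU
  have hUmem : ∀ x : G, x ∈ U ↔ ∀ b ∈ B, b⁻¹ * x * b ∈ Tr := fun x => by
    rw [hU, mem_iInf]
    refine ⟨fun h b hb => ?_, fun h b => ⟨_, h b b.2, by simp [mul_assoc]⟩⟩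
    obtain ⟨y, hy, e⟩ := h ⟨b, hb⟩
    rw [← e]
    simpa [mul_assoc] using hy
  have hUTr : U ≤ Tr := fun x hx => by simpa using (hUmem x).1 hx 1 (one_mem B)
  have hFU : coreAt r W ≤ U := fun x hx => (hUmem x).2 fun b hb => hFTr (by
    simpa using conj_mem_coreAt (inv_mem (hBW hb)) hx)
  have hUnorm : ∀ h : G, h ∈ normalizer (B : Set G) → h ∈ normalizer (Tr : Set G) →
      h ∈ normalizer (U : Set G) := fun h hhB hhT => mem_normalizer_of_forall fun x hx =>
    (hUmem _).2 fun b hb => by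
      have hb' : h⁻¹ * b * h ∈ B :=
        (mem_normalizer_iff.1 hhB _).2 (by simpa [mul_assoc] using hb)
      have h1 := (mem_normalizer_iff.1 hhT _).1 ((hUmem x).1 hx _ hb')
      rwa [show h * ((h⁻¹ * b * h)⁻¹ * x * (h⁻¹ * b * h)) * h⁻¹ = b⁻¹ * (h * x * h⁻¹) * b by
        group] at h1
  have hgU : g ∈ normalizer (U : Set G) := hUnorm g hgB hTr.rot
  have hVU : four t a ≤ normalizer (U : Set G) := fun v hv =>
    hUnorm v (hVB hv) (hTr.inv.le_norm hv)
  have hBU : B ≤ normalizer (U : Set G) := fun b₀ hb₀ => mem_normalizer_of_forall fun x hx =>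
    (hUmem _).2 fun b hb => by
      have h1 := (hUmem x).1 hx _ (mul_mem (inv_mem hb₀) hb)
      rwa [show (b₀⁻¹ * b)⁻¹ * x * (b₀⁻¹ * b) = b⁻¹ * (b₀ * x * b₀⁻¹) * b by group] at h1
  have hUp : IsPGroup r U := hTr.inv.pgroup.to_le hUTr
  have hUodd : Odd (Nat.card U) := hTr.inv.odd.of_dvd_nat (card_dvd_of_le hUTr)
  have hcop : ∀ A : Subgroup G, A ≤ B → (Nat.card A).Coprime (Nat.card U) := fun A hA =>
    IsPGroup.coprime_card_of_ne p r hpr _ _ (hBp.to_le hA) hUp
  set Y : G → Subgroup G := fun v => ⁅U, B ⊓ centralizer ({v} : Set G)⁆ with hY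
  have hYU : ∀ v, Y v ≤ U := fun v =>
    le_normalizer_iff_commutator_le_left.1 (inf_le_left.trans hBU)
  have hYg : ∀ v, (Y v).map (MulAut.conj g).toMonoidHom = Y (g * v * g⁻¹) := fun v => by
    simp only [hY]
    have e : U.map (MulAut.conj g).toMonoidHom = U := mem_normalizer_iff_map_conj_eq.1 hgU
    rw [map_commutator, map_inf_centralizer hgB, e]
  -- inverted elements of `B` centralise `Y t`
  have hkey : ∀ b ∈ B, t * b * t = b⁻¹ → b ∈ centralizer (Y t : Set G) := fun b hb hbt => by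
    have hA : B ⊓ centralizer ({t} : Set G) ≤ normalizer (U : Set G) := inf_le_left.trans hBU
    have hUs : Group.IsSolvable U := by
      have := hUp.isNilpotent
      infer_instance
    refine S.inverted_centralizes hD (hUp.to_le (hYU t))
      (hUodd.of_dvd_nat (card_dvd_of_le (hYU t))) (normalizer_commutator_ge_right _ _)
      (mem_normalizer_commutator (hVU S.t_mem) (hVfix t S.t_mem S.t_mem))
      (Coprime.commutator_commutator_self hA (hcop _ inf_le_left) (.inr hUs))
      (hBodd.of_dvd_nat (card_dvd_of_le inf_le_left))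
      (fun s hs => (mem_centralizer_singleton_iff.1 hs.2 : s * t = t * s).symm)
      (mem_normalizer_commutator (hBU hb) (centralizer_le_normalizer _
        (mem_centralizer_iff.2 fun c hc => (hBcomm c hc.1 b hb).eq)))
      (odd_orderOf hBodd hb) ?_ hbt
    obtain ⟨k, hk⟩ := IsPGroup.iff_orderOf.1 hBp ⟨b, hb⟩
    rw [Subgroup.orderOf_mk] at hk
    rw [hk]
    exact ((Nat.coprime_primes hp hr).2 hpr).pow_left k
  have hYaW : Y a ≤ W := fun y hy => by
    refine L.cent y (odd_orderOf hUodd (hYU a hy)) (mem_centralizer_iff.2 fun s hs => ?_)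
    rw [← hg.1, ← hYg] at hy
    obtain ⟨y, hy, rfl⟩ := hy
    have hs' : g⁻¹ * s * g ∈ B := (mem_normalizer_iff.1 hgB _).2
      (by simpa [mul_assoc] using hs.1)
    have hsb : Commute (t * a) (g⁻¹ * s * g) := (Commute.conj_iff g).1 (by
      rw [S.rot_conj_ta_two hg, show g * (g⁻¹ * s * g) * g⁻¹ = s by group]
      exact (mem_centralizer_singleton_iff.1 hs.2 : s * t = t * s).symm)
    have hinv : t * (g⁻¹ * s * g) * t = (g⁻¹ * s * g)⁻¹ :=
      L.fpf.inverted_of (Or.inr (Or.inr rfl)) (Or.inl rfl)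
        (fun e => S.a_ne_one (mul_eq_left.1 e)) (hBW hs') hsb
    have h1 : Commute y (g⁻¹ * s * g) := mem_centralizer_iff.1 (hkey _ hs' hinv) y hy
    have h2 := ((Commute.conj_iff g).2 h1).symm
    rwa [show g * (g⁻¹ * s * g) * g⁻¹ = s by group] at h2
  have hYne : Y a ≠ ⊥ := fun e => by
    have e2 : Y (t * a) = ⊥ := by rw [← hg.2, ← hYg, e, Subgroup.map_bot]
    have e3 : Y t = ⊥ := by rw [← S.rot_conj_ta_two hg, ← hYg, e2, Subgroup.map_bot]
    refine hmoved (le_centralizer_iff.1 (S.le_of_centralizers hVB hBodd ?_))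
    intro v hv hv1 b hb hvb
    have hYv : Y v = ⊥ := by rcases S.involutions hv hv1 with rfl | rfl | rfl <;> assumption
    have h1 : B ⊓ centralizer ({v} : Set G) ≤ centralizer (U : Set G) :=
      le_centralizer_iff.1 (commutator_eq_bot_iff_le_centralizer.1 hYv)
    exact centralizer_le hFU (h1 ⟨hb, mem_centralizer_singleton_iff.2 hvb.symm.eq⟩)
  have hAB : B ⊓ centralizer ({a} : Set G) ≤ T ⊓ centralizer (T : Set G) := inf_le_left
  have hnormYa : W ≤ normalizer (Y a : Set G) := by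
    simp only [hY]
    rw [commutator_eq_coreAt hW hUp (inf_le_left.trans hBW) (inf_le_left.trans hBU)
      (hcop _ inf_le_left) hFU hYaW]
    exact le_normalizer_commutator_coreAt hpr hW hTW hT.inv.pgroup hidx hAB
  have hUW : U ≤ W := fun x hx => L.mem (Y a) hYne (hUodd.of_dvd_nat (card_dvd_of_le (hYU a)))
    hnormYa (fun v hv => mem_normalizer_commutator (hVU hv) (hVfix a S.a_mem hv)) x
    (normalizer_commutator_ge_left _ _ hx) (odd_orderOf hUodd hx)
  have hUB : (⁅U, B⁆ : Subgroup G) ≤ U := le_normalizer_iff_commutator_le_left.1 hBU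
  refine L.not_rot ⁅U, B⁆
    (fun e => hYne (le_bot_iff.1 (e ▸ commutator_mono le_rfl inf_le_left)))
    (hUodd.of_dvd_nat (card_dvd_of_le hUB)) ?_
    (fun v hv => mem_normalizer_commutator (hVU hv) (hVB hv)) (mem_normalizer_commutator hgU hgB)
  rw [commutator_eq_coreAt hW hUp hBW hBU (hcop _ le_rfl) hFU (hUB.trans hUW)]
  exact le_normalizer_commutator_coreAt hpr hW hTW hT.inv.pgroup hidx le_rfl

end Setting

/-- Maximal invariant `p`-subgroups meeting `oddPart t` lie in it. -/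
theorem Setting.vmax_le_oddPart [IsSimpleGroup G] (S : Setting G t a) (hD : SelfCent t a)
    (hrot : ∀ H : Subgroup G, H ≠ ⊤ → centralizer ({t} : Set G) ≤ H → ¬ ∃ g ∈ H, Rot t a g)
    (hg : Rot t a g)
    (hcases : ∀ r : ℕ, r.Prime → ∀ T : Subgroup G, VMax r t a T → T ⊓ oddPart t ≠ ⊥ →
      T ≤ oddPart t ∨ (g ∈ normalizer (T : Set G) ∧ ∀ P, VInv r t a P → P ≤ T))
    {p : ℕ} (hp : p.Prime) {T : Subgroup G} (hT : VMax p t a T) (hne : T ⊓ oddPart t ≠ ⊥) :
    T ≤ oddPart t := by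
  refine (hcases p hp T hT hne).resolve_right fun ⟨hgT, hmax⟩ => hne ?_
  rw [S.big_eq_bot hD hg hrot hcases hp ⟨hT.1, hgT, hmax⟩]
  exact bot_inf_eq _

end CfsgLib.GWKlein
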