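import Cfsg.Agent.Lib.GWKlein.Basic
import Cfsg.Agent.Lib.GWKlein.FourAbelian
import Cfsg.Agent.Lib.PGroup.Kulakoff

/-!
A four-group and an element `g` rotating its involutions: invariant `p`-subgroups that are
normalised by `g` and contain all the others.
-/

set_option autoImplicit false
set_option linter.style.haveILetI false
set_option linter.unusedSectionVars false

namespace CfsgLib.GWKlein

open Subgroup
open scoped commutatorElement

universe u

variable {G : Type u} [Group G] [Finite G] {t a g : G}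

/-- An invariant `r`-subgroup normalised by `g` and containing every invariant `r`-subgroup. -/
structure Big (r : ℕ) (t a g : G) (T : Subgroup G) : Prop where
  inv : VInv r t a T
  rot : g ∈ normalizer (T : Set G)
  greatest : ∀ P, VInv r t a P → P ≤ T

theorem mem_normalizer_commutator {h : G} {A B : Subgroup G} (hA : h ∈ normalizer (A : Set G))
    (hB : h ∈ normalizer (B : Set G)) : h ∈ normalizer ((⁅A, B⁆ : Subgroup G) : Set G) := by
  rw [mem_normalizer_iff_map_conj_eq] at hA hB ⊢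
  rw [map_commutator, hA, hB]

theorem mem_normalizer_inf_centralizer {T : Subgroup G} {h : G}
    (hh : h ∈ normalizer (T : Set G)) :
    h ∈ normalizer ((T ⊓ centralizer (T : Set G) : Subgroup G) : Set G) :=
  mem_normalizer_of_forall fun k hk => ⟨(mem_normalizer_iff.1 hh k).1 hk.1,
    mem_centralizer_iff.2 fun s hs => by
      have h1 : h⁻¹ * s * h ∈ T := (mem_normalizer_iff.1 hh _).2 (by simpa [mul_assoc] using hs)
      have h2 : Commute (h⁻¹ * s * h) k := mem_centralizer_iff.1 hk.2 _ h1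
      have h3 := (Commute.conj_iff h).2 h2
      rwa [show h * (h⁻¹ * s * h) * h⁻¹ = s by group] at h3⟩

theorem map_inf_centralizer {B : Subgroup G} {h : G} (hh : h ∈ normalizer (B : Set G)) (v : G) :
    (B ⊓ centralizer ({v} : Set G)).map (MulAut.conj h).toMonoidHom =
      B ⊓ centralizer ({h * v * h⁻¹} : Set G) := by
  refine le_antisymm ?_ fun x hx => ⟨h⁻¹ * x * h, ⟨?_, ?_⟩, by simp [mul_assoc]⟩
  · rintro _ ⟨x, hx, rfl⟩
    exact ⟨(mem_normalizer_iff.1 hh x).1 hx.1, mem_centralizer_singleton_iff.2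
      ((Commute.conj_iff h).2 (mem_centralizer_singleton_iff.1 hx.2 : x * v = v * x))⟩
  · exact (mem_normalizer_iff.1 hh _).2 (by simpa [mul_assoc] using hx.1)
  · refine mem_centralizer_singleton_iff.2 ?_
    show Commute (h⁻¹ * x * h) v
    refine (Commute.conj_iff h).1 ?_
    rw [show h * (h⁻¹ * x * h) * h⁻¹ = x by group]
    exact mem_centralizer_singleton_iff.1 hx.2

namespace Four

variable {W : Subgroup G}

/-- An element fixed by one of the three involutions is inverted by the others. -/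
theorem inverted_of (F : Four W t a) {u w x : G} (hu : u = t ∨ u = a ∨ u = t * a)
    (hw : w = t ∨ w = a ∨ w = t * a) (hne : u ≠ w) (hx : x ∈ W) (hux : Commute u x) :
    w * x * w = x⁻¹ := by
  rcases hu with rfl | rfl | rfl <;> rcases hw with rfl | rfl | rfl
  exacts [absurd rfl hne, F.inverted hx hux, F.rot'.inverted hx hux, F.swap.inverted hx hux,
    absurd rfl hne, F.rot.inverted hx hux, F.rot'.swap.inverted hx hux, F.rot.swap.inverted hx hux,
    absurd rfl hne]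

end Four

theorem VInv.conj {r : ℕ} {P : Subgroup G} (hP : VInv r t a P) {h : G}
    (hh : h ∈ normalizer (four t a : Set G)) :
    VInv r t a (P.map (MulAut.conj h).toMonoidHom) := by
  refine ⟨hP.pgroup.map _, ?_, ?_⟩
  · rw [card_map_of_injective (MulAut.conj h).injective]
    exact hP.odd
  · exact (mem_normalizer_iff_map_conj_eq.1 hh).ge.trans
      ((map_mono hP.le_norm).trans (le_normalizer_map _))

namespace Setting

variable (S : Setting G t a)
include S

theorem involutions {v : G} (hv : v ∈ four t a) (hv1 : v ≠ 1) :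
    v = t ∨ v = a ∨ v = t * a :=
  (S.mem_four_iff.1 hv).resolve_left hv1

theorem exists_other (w : G) :
    ∃ u ∈ four t a, u ≠ 1 ∧ u ≠ w := by
  by_cases h : w = t
  · exact ⟨a, S.a_mem, S.a_ne_one, fun e => S.ne (h ▸ e.symm)⟩
  · exact ⟨t, S.t_mem, S.t_ne_one, Ne.symm h⟩

/-- Nothing else of odd order is centralised by two involutions. -/
theorem eq_one_of_two_fixed (hD : SelfCent t a) {u w y : G} (hu : u ∈ four t a) (hu1 : u ≠ 1)
    (hw : w ∈ four t a) (hw1 : w ≠ 1) (hne : u ≠ w) (hy : Odd (orderOf y)) (huy : Commute u y)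
    (hwy : Commute w y) : y = 1 := by
  set C := centralizer ({y} : Set G)
  have mem : ∀ {z : G}, Commute z y → z ∈ C := fun h => mem_centralizer_singleton_iff.2 h.eq
  suffices h : t ∈ C ∧ a ∈ C from
    hD y hy (mem_centralizer_singleton_iff.1 h.1) (mem_centralizer_singleton_iff.1 h.2)
  have e1 : t * (t * a) = a := by rw [← mul_assoc, S.t_mul_self, one_mul]
  have e2 : t * a * a = t := by rw [mul_assoc, S.a_mul_self, mul_one]
  rcases S.involutions hu hu1 with rfl | rfl | rfl <;>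
    rcases S.involutions hw hw1 with rfl | rfl | rfl
  exacts [absurd rfl hne, ⟨mem huy, mem hwy⟩, ⟨mem huy, e1 ▸ mul_mem (mem huy) (mem hwy)⟩,
    ⟨mem hwy, mem huy⟩, absurd rfl hne, ⟨e2 ▸ mul_mem (mem hwy) (mem huy), mem huy⟩,
    ⟨mem hwy, e1 ▸ mul_mem (mem hwy) (mem huy)⟩, ⟨e2 ▸ mul_mem (mem huy) (mem hwy), mem hwy⟩,
    absurd rfl hne]

theorem four_of (hD : SelfCent t a) {K : Subgroup G} (hK : Odd (Nat.card K))
    (hVK : four t a ≤ normalizer (K : Set G)) : Four K t a :=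
  ⟨hK, S.t_mul_self, S.a_mul_self, S.comm, fun _ hw => cj_mem S.t_mul_self (hVK S.t_mem) hw,
    fun _ hw => cj_mem S.a_mul_self (hVK S.a_mem) hw,
    fun w hw h1 h2 => hD w (odd_orderOf hK hw) h1 h2⟩

theorem four_oddPart (hD : SelfCent t a) : Four (oddPart t) t a :=
  S.four_of hD (odd_card_core _)
    (((S.four_le_centralizer S.t_mem).trans le_normalizer).trans (le_normalizer_core _))

/-- The elements of odd order fixed by `t` commute. -/
theorem commute_of_fixed_t (hD : SelfCent t a) {x y : G} (hx : Odd (orderOf x))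
    (hy : Odd (orderOf y)) (htx : Commute t x) (hty : Commute t y) : Commute x y :=
  (S.four_oddPart hD).commute_same (S.mem_oddPart.2 ⟨hx, htx⟩) (S.mem_oddPart.2 ⟨hy, hty⟩) htx hty

variable (hg : Rot t a g)
include hg

theorem rot_conj_ta_two : g * (t * a) * g⁻¹ = t := by
  rw [show g * (t * a) * g⁻¹ = g * t * g⁻¹ * (g * a * g⁻¹) by group, hg.1, hg.2, ← mul_assoc,
    S.comm.symm.eq, mul_assoc, S.a_mul_self, mul_one]

theorem rot_mem_normalizer_four : g ∈ normalizer (four t a : Set G) :=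
  mem_normalizer_of_forall fun v hv => by
    rcases S.mem_four_iff.1 hv with rfl | rfl | rfl | rfl
    · simp
    · rw [hg.1]; exact S.a_mem
    · rw [hg.2]; exact S.ta_mem
    · rw [S.rot_conj_ta_two hg]; exact S.t_mem

theorem exists_to_t {v : G} (hv : v ∈ four t a) (hv1 : v ≠ 1) :
    ∃ h ∈ zpowers g, h * v * h⁻¹ = t := by
  rcases S.involutions hv hv1 with rfl | rfl | rfl
  · exact ⟨1, one_mem _, by group⟩
  · exact ⟨g⁻¹, inv_mem (mem_zpowers g), by rw [← hg.1]; group⟩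
  · exact ⟨g, mem_zpowers g, S.rot_conj_ta_two hg⟩

theorem rot_moves {v : G} (hv : v ∈ four t a) (hv1 : v ≠ 1) : g * v * g⁻¹ ≠ v := by
  rcases S.involutions hv hv1 with rfl | rfl | rfl
  · rw [hg.1]; exact S.ne.symm
  · rw [hg.2]; exact fun e => S.t_ne_one (mul_eq_right.1 e)
  · rw [S.rot_conj_ta_two hg]; exact fun e => S.a_ne_one (mul_eq_left.1 e.symm)

/-- Elements of odd order with a common fixed involution commute. -/
theorem commute_of_fixed_same (hD : SelfCent t a) {u x y : G} (hu : u ∈ four t a) (hu1 : u ≠ 1)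
    (hx : Odd (orderOf x)) (hy : Odd (orderOf y)) (hux : Commute u x) (huy : Commute u y) :
    Commute x y := by
  obtain ⟨h, -, ht⟩ := S.exists_to_t hg hu hu1
  have hc : ∀ z : G, Odd (orderOf z) → Odd (orderOf (h * z * h⁻¹)) := fun z hz => by
    rwa [← MulAut.conj_apply, MulEquiv.orderOf_eq]
  exact (Commute.conj_iff h).1 (S.commute_of_fixed_t hD (hc x hx) (hc y hy)
    (ht ▸ (Commute.conj_iff h).2 hux) (ht ▸ (Commute.conj_iff h).2 huy))

/-- A non-trivial maximal invariant subgroup is centralised by an involution or is big. -/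
theorem vmax_cases
    (hcases : ∀ r : ℕ, r.Prime → ∀ T : Subgroup G, VMax r t a T → T ⊓ oddPart t ≠ ⊥ →
      T ≤ oddPart t ∨ (g ∈ normalizer (T : Set G) ∧ ∀ P, VInv r t a P → P ≤ T))
    {r : ℕ} (hr : r.Prime) {T : Subgroup G} (hT : VMax r t a T) (hne : T ≠ ⊥) :
    (∃ v ∈ four t a, v ≠ 1 ∧ ∀ y ∈ T, Commute v y) ∨ Big r t a g T := by
  have hTi : VInv r t a T := hT.1
  obtain ⟨v, hv, hv1, y, hy, hvy, hy1⟩ :
      ∃ v ∈ four t a, v ≠ 1 ∧ ∃ y ∈ T, Commute v y ∧ y ≠ 1 := by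
    by_contra hc
    push Not at hc
    exact hne (le_bot_iff.1 (S.le_of_centralizers hTi.le_norm hTi.odd fun v hv hv1 y hy hvy =>
      mem_bot.2 (hc v hv hv1 y hy hvy)))
  obtain ⟨h, hh, ht⟩ := S.exists_to_t hg hv hv1
  have hhV : h ∈ normalizer (four t a : Set G) := zpowers_le.2 (S.rot_mem_normalizer_four hg) hh
  set T' := T.map (MulAut.conj h).toMonoidHom with hT'
  have hT'i : VInv r t a T' := hTi.conj hhV
  have hback : ∀ Q : Subgroup G, T' ≤ Q →
      T ≤ Q.map (MulAut.conj h⁻¹).toMonoidHom := fun Q hQ x hx =>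
    ⟨h * x * h⁻¹, hQ ⟨x, hx, rfl⟩, by simp [mul_assoc]⟩
  have hT'm : VMax r t a T' := ⟨hT'i, fun Q hQ hle q hq => by
    have h1 : h⁻¹ * q * h ∈ T := hT.2 (hQ.conj (inv_mem hhV)) (hback Q hle)
      ⟨q, hq, by simp [mul_assoc]⟩
    exact ⟨_, h1, by simp [mul_assoc]⟩⟩
  have hmeet : T' ⊓ oddPart t ≠ ⊥ := fun e => by
    have h1 : h * y * h⁻¹ ∈ T' ⊓ oddPart t := ⟨⟨y, hy, rfl⟩, S.mem_oddPart.2
      ⟨by rw [← MulAut.conj_apply, MulEquiv.orderOf_eq]; exact odd_orderOf hTi.odd hy,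
        ht ▸ (Commute.conj_iff h).2 hvy⟩⟩
    exact hy1 (conj_eq_one_iff.1 (mem_bot.1 (e ▸ h1)))
  rcases hcases r hr T' hT'm hmeet with hle | ⟨hgT, hmax⟩
  · exact Or.inl ⟨v, hv, hv1, fun z hz => (Commute.conj_iff h).1
      (ht.symm ▸ commute_of_mem_oddPart (hle ⟨z, hz, rfl⟩))⟩
  · have he : T = T' := le_antisymm (hmax T hTi) (hT.2 hT'i (hmax T hTi))
    rw [← he] at hgT hmax
    exact Or.inr ⟨hTi, hgT, hmax⟩

/-- An invariant subgroup meeting two centralisers lies in a big one. -/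
theorem exists_big_of_two (hD : SelfCent t a)
    (hcases : ∀ r : ℕ, r.Prime → ∀ T : Subgroup G, VMax r t a T → T ⊓ oddPart t ≠ ⊥ →
      T ≤ oddPart t ∨ (g ∈ normalizer (T : Set G) ∧ ∀ P, VInv r t a P → P ≤ T))
    {r : ℕ} (hr : r.Prime) {R : Subgroup G} (hR : VInv r t a R) {u w x y : G}
    (hu : u ∈ four t a) (hu1 : u ≠ 1) (hw : w ∈ four t a) (hw1 : w ≠ 1) (hne : u ≠ w)
    (hx : x ∈ R) (hx1 : x ≠ 1) (hux : Commute u x) (hy : y ∈ R) (hy1 : y ≠ 1)
    (hwy : Commute w y) : ∃ T, Big r t a g T ∧ R ≤ T := by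
  obtain ⟨T, hRT, hT⟩ := Finite.exists_le_maximal (p := VInv r t a) hR
  refine ⟨T, (S.vmax_cases hg hcases hr hT fun e => hx1 (mem_bot.1 (e ▸ hRT hx))).resolve_left ?_,
    hRT⟩
  rintro ⟨v, hv, hv1, hvT⟩
  have hodd := fun {z : G} (hz : z ∈ R) => odd_orderOf hR.odd hz
  by_cases e : v = u
  · subst e
    exact hy1 (S.eq_one_of_two_fixed hD hv hv1 hw hw1 hne (hodd hy) (hvT y (hRT hy)) hwy)
  · exact hx1 (S.eq_one_of_two_fixed hD hv hv1 hu hu1 e (hodd hx) (hvT x (hRT hx)) hux)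

end Setting

/-- If `Y = [Y, A]` for fixed elements `A` of the involution `t`, then the elements of coprime
order inverted by `t` centralise `Y`. -/
theorem Setting.inverted_centralizes (S : Setting G t a) (hD : SelfCent t a) {Y A : Subgroup G}
    {r : ℕ} [Fact r.Prime] (hY : IsPGroup r Y) (hYodd : Odd (Nat.card Y))
    (hAY : A ≤ normalizer (Y : Set G)) (htY : t ∈ normalizer (Y : Set G)) (heq : ⁅Y, A⁆ = Y)
    (hAodd : Odd (Nat.card A)) (hAt : ∀ s ∈ A, Commute t s) {b : G}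
    (hb : b ∈ normalizer (Y : Set G)) (hbodd : Odd (orderOf b)) (hcop : (orderOf b).Coprime r)
    (hbt : t * b * t = b⁻¹) : b ∈ centralizer (Y : Set G) := by
  set Φ : Subgroup G := (frattini Y).map Y.subtype with hΦ
  have hΦY : Φ ≤ Y := map_subtype_le _
  set L : Subgroup G := normalizer (Y : Set G) with hL
  have hYL : Y ≤ L := le_normalizer
  have hLΦ : L ≤ normalizer (Φ : Set G) := fun h hh => mem_normalizer_of_forall fun k hk => by
    obtain ⟨k, hk, rfl⟩ := hk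
    exact ⟨Y.normalizerMonoidHom ⟨h, hh⟩ k,
      characteristic_iff_map_le.1 frattini_characteristic _ ⟨k, hk, rfl⟩, rfl⟩
  haveI : (Φ.subgroupOf L).Normal := (normal_subgroupOf_iff_le_normalizer (hΦY.trans hYL)).2 hLΦ
  let f : L →* L ⧸ Φ.subgroupOf L := QuotientGroup.mk' _
  have hf : ∀ z : L, (z : G) ∈ Φ → f z = 1 := fun z hz => (QuotientGroup.eq_one_iff z).2 hz
  have hcomm : ∀ y z : L, (y : G) ∈ Y → (z : G) ∈ Y → Commute (f y) (f z) := fun y z hy hz => by
    refine commutatorElement_eq_one_iff_commute.1 ?_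
    rw [← map_commutatorElement]
    exact hf _ ⟨⁅(⟨y, hy⟩ : Y), ⟨z, hz⟩⁆, PGroup.Kulakoff.commutator_le_frattini hY
      (commutator_mem_commutator (mem_top _) (mem_top _)), rfl⟩
  set τ : L := ⟨t, htY⟩ with hτ
  have hτ2 : τ * τ = 1 := Subtype.ext S.t_mul_self
  have hτY : ∀ y : L, (y : G) ∈ Y → ((τ * y * τ : L) : G) ∈ Y := fun y hy =>
    cj_mem S.t_mul_self htY hy
  -- what `t` fixes modulo `Φ`, the group `A` fixes modulo `Φ`
  have hfix : ∀ y : L, (y : G) ∈ Y → f (τ * y * τ) = f y → ∀ s : L, (s : G) ∈ A →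
      Commute (f s) (f y) := by
    intro y hy hfy s hs
    have hd : (y : G)⁻¹ * (t * y * t) ∈ Φ :=
      (QuotientGroup.eq_one_iff (y⁻¹ * (τ * y * τ))).1 (by
        show f (y⁻¹ * (τ * y * τ)) = 1
        rw [map_mul, hfy, map_inv, inv_mul_cancel])
    obtain ⟨z, hz, hc, -⟩ := exists_fix S.t_mul_self (odd_orderOf hYodd (hΦY hd))
    have hzΦ : z ∈ Φ := zpowers_le.2 hd hz
    have h1 : Commute (s : G) (y * z) :=
      S.commute_of_fixed_t hD (odd_orderOf hAodd hs)
        (odd_orderOf hYodd (mul_mem hy (hΦY hzΦ))) (hAt s hs) hc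
    have e : f (y * ⟨z, hYL (hΦY hzΦ)⟩) = f y := by rw [map_mul, hf ⟨z, _⟩ hzΦ, mul_one]
    rw [← e]
    exact Commute.map (show Commute s (y * ⟨z, hYL (hΦY hzΦ)⟩) from Subtype.ext h1) f
  let E : Subgroup L :=
    { carrier := {y | (y : G) ∈ Y ∧ f (τ * y * τ) = (f y)⁻¹}
      one_mem' := ⟨one_mem Y, by simp [hτ2]⟩
      mul_mem' := fun {y z} hy hz => ⟨mul_mem hy.1 hz.1, by
        rw [cj_mul hτ2, map_mul, hy.2, hz.2, map_mul, mul_inv_rev,
          ((hcomm y z hy.1 hz.1).inv_inv).eq]⟩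
      inv_mem' := fun {y} hy => ⟨inv_mem hy.1, by rw [← cj_inv hτ2, map_inv, hy.2, map_inv]⟩ }
  have hE : Y ≤ E.map L.subtype := by
    rw [← heq]
    refine commutator_le.2 fun y hy s hs => ⟨⁅(⟨y, hYL hy⟩ : L), ⟨s, hAY hs⟩⁆, ?_, rfl⟩
    set y' : L := ⟨y, hYL hy⟩ with hy'
    set s' : L := ⟨s, hAY hs⟩ with hs'
    have hsy : ((⁅y', s'⁆ : L) : G) ∈ Y := by
      have h0 := commutator_mem_commutator hy hs
      rw [heq] at h0
      exact h0
    have hm : ((y' * (τ * y' * τ) : L) : G) ∈ Y := mul_mem hy (hτY y' hy)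
    have hmfix : f (τ * (y' * (τ * y' * τ)) * τ) = f (y' * (τ * y' * τ)) := by
      rw [cj_mul hτ2, cj_cj hτ2, map_mul f (τ * y' * τ) y', map_mul f y' (τ * y' * τ),
        (hcomm y' (τ * y' * τ) hy (hτY y' hy)).eq]
    have hsm := hfix _ hm hmfix s' hs
    have hτs : τ * s' * τ = s' := Subtype.ext ((cj_eq_iff S.t_mul_self s).2 (hAt s hs))
    refine ⟨hsy, eq_inv_of_mul_eq_one_left ?_⟩
    have e1 : τ * ⁅y', s'⁆ * τ = ⁅τ * y' * τ, s'⁆ := by
      simp only [commutatorElement_def, cj_mul hτ2, ← cj_inv hτ2, hτs]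
    set m := f (y' * (τ * y' * τ)) with hmdef
    set p := f y' with hp
    set q := f s' with hq
    have e2 : f (τ * y' * τ) = p⁻¹ * m := by
      rw [hmdef, hp, map_mul f y' (τ * y' * τ), inv_mul_cancel_left]
    have hqm : q * m⁻¹ = m⁻¹ * q := hsm.inv_right.eq
    have hc : Commute (q * p⁻¹ * q⁻¹) p⁻¹ := by
      have h1 : ((s' * y'⁻¹ * s'⁻¹ : L) : G) ∈ Y :=
        (mem_normalizer_iff.1 (hAY hs) _).1 (inv_mem hy)
      have h2 := hcomm (s' * y'⁻¹ * s'⁻¹) y'⁻¹ h1 (inv_mem hy)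
      rwa [map_mul, map_mul, map_inv, map_inv] at h2
    rw [e1, map_commutatorElement, map_commutatorElement, e2, commutatorElement_def,
      commutatorElement_def, mul_inv_rev, inv_inv]
    calc p⁻¹ * m * q * (m⁻¹ * p) * q⁻¹ * (p * q * p⁻¹ * q⁻¹)
        = p⁻¹ * m * (q * m⁻¹) * (p * q⁻¹) * (p * (q * p⁻¹ * q⁻¹)) := by group
      _ = p⁻¹ * q * p * q⁻¹ * (p * (q * p⁻¹ * q⁻¹)) := by rw [hqm]; group
      _ = p⁻¹ * (q * p⁻¹ * q⁻¹)⁻¹ * (p * (q * p⁻¹ * q⁻¹)) := by group
      _ = (q * p⁻¹ * q⁻¹)⁻¹ * p⁻¹ * (p * (q * p⁻¹ * q⁻¹)) := by rw [hc.inv_left.eq]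
      _ = 1 := by group
  refine Coprime.le_centralizer_of_frattini (A := zpowers b) (zpowers_le.2 hb) ?_ ?_
    (mem_zpowers b)
  · obtain ⟨k, hk⟩ := hY.exists_card_eq
    rw [Nat.card_zpowers]
    exact (hcop.pow_right k).coprime_dvd_right (hk ▸ card_subgroup_dvd_card _)
  intro c hc k hk
  set β : L := ⟨b, hb⟩ with hβ
  set k' : L := ⟨k, hYL hk⟩ with hk'
  have hinv : ∀ y : L, (y : G) ∈ Y → f (τ * y * τ) = (f y)⁻¹ := fun y hy => by
    obtain ⟨z, hz, e⟩ := hE hy
    rw [show y = z from Subtype.ext e.symm]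
    exact hz.2
  have h1 : ((β * k' * β⁻¹ : L) : G) ∈ Y := (mem_normalizer_iff.1 hb k).1 hk
  have h2 := hinv _ h1
  have hτβ : τ * β * τ = β⁻¹ := Subtype.ext hbt
  rw [cj_mul hτ2, cj_mul hτ2, ← cj_inv hτ2, hτβ, inv_inv, map_mul, map_mul, hinv k' hk, map_mul,
    map_mul, map_inv, mul_inv_rev, mul_inv_rev, inv_inv] at h2
  have h3 : Commute (f β ^ 2) (f k')⁻¹ := by
    show f β ^ 2 * (f k')⁻¹ = (f k')⁻¹ * f β ^ 2
    rw [pow_two]
    calc f β * f β * (f k')⁻¹ = f β * (f β * ((f k')⁻¹ * (f β)⁻¹)) * f β := by group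
      _ = f β * ((f β)⁻¹ * (f k')⁻¹ * f β) * f β := by rw [h2]
      _ = (f k')⁻¹ * (f β * f β) := by group
  have hbo : Odd (orderOf (f β)) := by
    refine Odd.of_dvd_nat ?_ (orderOf_map_dvd f β)
    rwa [← Subgroup.orderOf_coe]
  have h4 : Commute (f β) (f k') := by
    have := (commute_of_sq hbo h3).inv_right
    rwa [inv_inv] at this
  obtain ⟨i, rfl⟩ := mem_zpowers_iff.1 hc
  have h5 : f ⁅β ^ i, k'⁆ = 1 := by
    rw [map_commutatorElement, map_zpow]
    exact commutatorElement_eq_one_iff_commute.2 (h4.zpow_left i)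
  exact (QuotientGroup.eq_one_iff ⁅β ^ i, k'⁆).1 h5

end CfsgLib.GWKlein
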